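import Cfsg.Agent.Base

/-!
The group of pairs `(a, b)` with `b + bar b = a * bar a` and `(a,b)(c,d) = (a+c, b+d+a * bar c)`:
a model of the Sylow 2-subgroup of `PSU 3 F q`, `q = 2 ^ n`.
-/

set_option autoImplicit false

namespace CL.U3

open scoped commutatorElement

/-- The pairs `(a, b)` with `b + bar b = a * bar a`. -/
structure U (F : Type*) [Field F] (bar : F →+* F) where
  a : F
  b : F
  h : b + bar b = a * bar a

variable {F : Type*} [Field F] {bar : F →+* F}

theorem U.ext' {x y : U F bar} (ha : x.a = y.a) (hb : x.b = y.b) : x = y := by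
  cases x; cases y; cases ha; cases hb; rfl

theorem U.ext_iff' {x y : U F bar} : x = y ↔ x.a = y.a ∧ x.b = y.b :=
  ⟨fun h => h ▸ ⟨rfl, rfl⟩, fun h => U.ext' h.1 h.2⟩

instance instFiniteU [Finite F] : Finite (U F bar) :=
  Finite.of_injective (fun x : U F bar => (x.a, x.b)) (fun _ _ h =>
    U.ext' (congrArg Prod.fst h) (congrArg Prod.snd h))

variable [hb : Fact (∀ x, bar (bar x) = x)]

instance instGroupU : Group (U F bar) where
  mul x y := ⟨x.a + y.a, x.b + y.b + x.a * bar y.a, by
    have h1 := x.h; have h2 := y.h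
    simp only [map_add, map_mul, hb.out]
    linear_combination h1 + h2⟩
  one := ⟨0, 0, by simp⟩
  inv x := ⟨-x.a, bar x.b, by
    have h1 := x.h
    simp only [map_neg, hb.out]
    linear_combination h1⟩
  mul_assoc x y z := U.ext' (add_assoc _ _ _) (by
    change x.b + y.b + x.a * bar y.a + z.b + (x.a + y.a) * bar z.a =
      x.b + (y.b + z.b + y.a * bar z.a) + x.a * bar (y.a + z.a)
    rw [map_add]; ring)
  one_mul x := U.ext' (zero_add _) (by
    change 0 + x.b + 0 * bar x.a = x.b
    ring)
  mul_one x := U.ext' (add_zero _) (by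
    change x.b + 0 + x.a * bar 0 = x.b
    rw [map_zero]; ring)
  inv_mul_cancel x := U.ext' (neg_add_cancel _) (by
    have h1 := x.h
    change bar x.b + x.b + (-x.a) * bar x.a = 0
    linear_combination h1)

theorem mul_a (x y : U F bar) : (x * y).a = x.a + y.a := rfl
theorem mul_b (x y : U F bar) : (x * y).b = x.b + y.b + x.a * bar y.a := rfl
theorem one_a : (1 : U F bar).a = 0 := rfl
theorem one_b : (1 : U F bar).b = 0 := rfl
theorem inv_a (x : U F bar) : (x⁻¹).a = -x.a := rfl
theorem inv_b (x : U F bar) : (x⁻¹).b = bar x.b := rfl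

/-- The diagonal automorphism attached to a unit `l`. -/
def diagAut (l : Fˣ) : MulAut (U F bar) where
  toFun x := ⟨l * x.a, l * bar l * x.b, by
    have h1 := x.h
    simp only [map_mul, hb.out]
    linear_combination (l * bar l : F) * h1⟩
  invFun x := ⟨(l⁻¹ : Fˣ) * x.a, (l⁻¹ : Fˣ) * bar (l⁻¹ : Fˣ) * x.b, by
    have h1 := x.h
    simp only [map_mul, hb.out]
    linear_combination ((l⁻¹ : Fˣ) * bar (l⁻¹ : Fˣ) : F) * h1⟩
  left_inv x := U.ext' (by simp) (by
    have hl : (l : F) ≠ 0 := l.ne_zero
    have hl' : bar l ≠ 0 := (map_ne_zero bar).2 hl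
    simp only [Units.val_inv_eq_inv_val, map_inv₀]
    field_simp)
  right_inv x := U.ext' (by simp) (by
    have hl : (l : F) ≠ 0 := l.ne_zero
    have hl' : bar l ≠ 0 := (map_ne_zero bar).2 hl
    simp only [Units.val_inv_eq_inv_val, map_inv₀]
    field_simp)
  map_mul' x y := U.ext' (by simp only [mul_a]; ring) (by simp only [mul_b, map_mul]; ring)

theorem diagAut_a (l : Fˣ) (x : U F bar) : (diagAut l x).a = l * x.a := rfl
theorem diagAut_b (l : Fˣ) (x : U F bar) : (diagAut l x).b = l * bar l * x.b := rfl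

/-- The diagonal automorphisms as a homomorphism. -/
def diagHom : Fˣ →* MulAut (U F bar) where
  toFun := diagAut
  map_one' := by
    ext x
    exact U.ext' (by simp [diagAut_a]) (by simp [diagAut_b])
  map_mul' l m := by
    ext x
    refine U.ext' ?_ ?_
    · simp only [MulAut.mul_apply, diagAut_a, Units.val_mul]; ring
    · simp only [MulAut.mul_apply, diagAut_b, Units.val_mul, map_mul]; ring

theorem diagHom_apply (l : Fˣ) : (diagHom l : MulAut (U F bar)) = diagAut l := rfl

section char2
variable [CharP F 2]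

theorem two_eq_zero' : (2 : F) = 0 := by exact_mod_cast CharP.cast_eq_zero F 2

theorem sq_a (x : U F bar) : (x * x).a = 0 := by
  rw [mul_a]; linear_combination x.a * (two_eq_zero' (F := F))

theorem sq_b (x : U F bar) : (x * x).b = x.a * bar x.a := by
  rw [mul_b]; linear_combination x.b * (two_eq_zero' (F := F))

theorem mul_self_eq_one_iff (x : U F bar) : x * x = 1 ↔ x.a = 0 := by
  rw [U.ext_iff', sq_a, sq_b, one_a, one_b]
  constructor
  · rintro ⟨-, h⟩
    rcases mul_eq_zero.1 h with h | h
    · exact h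
    · exact (map_eq_zero bar).1 h
  · intro h; simp [h]

theorem pow_four (x : U F bar) : x ^ 4 = 1 := by
  have : x ^ 4 = (x * x) * (x * x) := by simp only [pow_succ, pow_zero, one_mul, mul_assoc]
  rw [this, mul_self_eq_one_iff, sq_a]

theorem isPGroup_two : IsPGroup 2 (U F bar) := fun x => ⟨2, pow_four x⟩

omit [CharP F 2] in
theorem commute_of_a_eq_zero {x : U F bar} (hx : x.a = 0) (y : U F bar) : x * y = y * x :=
  U.ext' (by simp [mul_a, hx]) (by simp only [mul_b, hx, map_zero]; ring)

omit hb in
theorem bar_b_of_a_eq_zero {x : U F bar} (hx : x.a = 0) : bar x.b = x.b := by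
  have h := x.h
  rw [hx] at h
  linear_combination h - x.b * (two_eq_zero' (F := F))

/-- The central element attached to a fixed element of `bar`. -/
def ofFixed (b : F) (h : bar b = b) : U F bar :=
  ⟨0, b, by rw [h]; linear_combination b * (two_eq_zero' (F := F))⟩

omit [CharP F 2] in
theorem comm_a (x y : U F bar) : (x * y * x⁻¹ * y⁻¹).a = 0 := by
  simp only [mul_a, inv_a]; ring

theorem comm_b (x y : U F bar) : (x * y * x⁻¹ * y⁻¹).b = x.a * bar y.a + bar (x.a * bar y.a) := by
  have h1 := x.h; have h2 := y.h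
  simp only [mul_a, mul_b, inv_a, inv_b, map_neg, map_mul, hb.out]
  linear_combination h1 + h2 - (bar x.a * y.a) * (two_eq_zero' (F := F))

end char2

/-! ### Counting -/

section count
variable [Fintype F] [CharP F 2] {q : ℕ}

omit hb [CharP F 2] in
theorem card_fixed_le (hq : 1 < q) (hbar : ∀ x, bar x = x ^ q) :
    Nat.card {x : F // bar x = x} ≤ q := by
  classical
  have hne : (Polynomial.X ^ q - Polynomial.X : Polynomial F) ≠ 0 :=
    FiniteField.X_pow_card_sub_X_ne_zero F hq
  have hdeg : (Polynomial.X ^ q - Polynomial.X : Polynomial F).natDegree = q :=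
    FiniteField.X_pow_card_sub_X_natDegree_eq F hq
  rw [Nat.card_eq_fintype_card, Fintype.card_subtype]
  refine le_trans (Finset.card_le_card (t := (Polynomial.X ^ q - Polynomial.X : Polynomial F).roots.toFinset) ?_) ?_
  · intro x hx
    simp only [Finset.mem_filter, Finset.mem_univ, true_and] at hx
    simp only [Multiset.mem_toFinset, Polynomial.mem_roots hne, Polynomial.IsRoot.def,
      Polynomial.eval_sub, Polynomial.eval_pow, Polynomial.eval_X]
    rw [← hbar, hx, sub_self]
  · exact (Multiset.toFinset_card_le _).trans ((Polynomial.card_roots' _).trans hdeg.le)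

/-- The trace map `b ↦ b + bar b`. -/
def tr (bar : F →+* F) : F →+ F := AddMonoidHom.id F + (bar : F →+ F)

omit [Fintype F] [CharP F 2] hb in
theorem tr_apply (b : F) : tr bar b = b + bar b := rfl

omit [Fintype F] hb in
theorem mem_ker_tr (b : F) : b ∈ (tr bar).ker ↔ bar b = b := by
  rw [AddMonoidHom.mem_ker, tr_apply]
  constructor
  · intro h; linear_combination h - b * (two_eq_zero' (F := F))
  · intro h; rw [h]; linear_combination b * (two_eq_zero' (F := F))

theorem card_ker_range (hq : 1 < q) (hbar : ∀ x, bar x = x ^ q) (hF : Fintype.card F = q ^ 2) :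
    Nat.card (tr bar).ker = q ∧ (tr bar).range = (tr bar).ker := by
  have h1 : Nat.card (tr bar).ker ≤ q := by
    refine le_trans (le_of_eq ?_) (card_fixed_le hq hbar)
    exact Nat.card_congr (Equiv.subtypeEquivRight (fun b => mem_ker_tr b))
  have h2 : (tr bar).range ≤ (tr bar).ker := by
    rintro _ ⟨b, rfl⟩
    rw [mem_ker_tr, tr_apply, map_add, hb.out, add_comm]
  have h3 : Nat.card (tr bar).range ≤ Nat.card (tr bar).ker := AddSubgroup.card_le_of_le h2
  have h4 : Nat.card (tr bar).range * Nat.card (tr bar).ker = q ^ 2 := by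
    rw [← hF, ← Nat.card_eq_fintype_card, ← AddSubgroup.index_ker, AddSubgroup.index_mul_card]
  have h5 : Nat.card (tr bar).ker = q := by
    by_contra h
    have : Nat.card (tr bar).ker < q := lt_of_le_of_ne h1 h
    nlinarith
  refine ⟨h5, AddSubgroup.eq_of_le_of_card_ge h2 ?_⟩
  rw [h5] at h4 ⊢
  nlinarith

theorem card_fixed (hq : 1 < q) (hbar : ∀ x, bar x = x ^ q) (hF : Fintype.card F = q ^ 2) :
    Nat.card {x : F // bar x = x} = q := by
  rw [← (card_ker_range hq hbar hF).1]
  exact (Nat.card_congr (Equiv.subtypeEquivRight (fun b => mem_ker_tr b))).symm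

theorem exists_tr_eq (hq : 1 < q) (hbar : ∀ x, bar x = x ^ q) (hF : Fintype.card F = q ^ 2)
    {c : F} (hc : bar c = c) : ∃ b, b + bar b = c := by
  have : c ∈ (tr bar).range := by
    rw [(card_ker_range hq hbar hF).2, mem_ker_tr]; exact hc
  exact this

theorem exists_a_eq (hq : 1 < q) (hbar : ∀ x, bar x = x ^ q) (hF : Fintype.card F = q ^ 2)
    (a : F) : ∃ x : U F bar, x.a = a := by
  obtain ⟨b, hb'⟩ := exists_tr_eq hq hbar hF (c := a * bar a) (by rw [map_mul, hb.out, mul_comm])
  exact ⟨⟨a, b, hb'⟩, rfl⟩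

theorem exists_not_fixed (hq : 1 < q) (hbar : ∀ x, bar x = x ^ q) (hF : Fintype.card F = q ^ 2) :
    ∃ c : F, bar c ≠ c := by
  by_contra h
  push Not at h
  have h1 := card_fixed hq hbar hF
  have h2 : Nat.card {x : F // bar x = x} = Nat.card F :=
    Nat.card_congr (Equiv.subtypeUnivEquiv h)
  rw [h2, Nat.card_eq_fintype_card, hF] at h1
  nlinarith

theorem mem_center_iff (hq : 1 < q) (hbar : ∀ x, bar x = x ^ q) (hF : Fintype.card F = q ^ 2)
    (x : U F bar) : x ∈ Subgroup.center (U F bar) ↔ x.a = 0 := by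
  rw [Subgroup.mem_center_iff]
  refine ⟨fun h => ?_, fun h y => (commute_of_a_eq_zero h y).symm⟩
  by_contra hx
  obtain ⟨c, hc⟩ := exists_not_fixed hq hbar hF
  obtain ⟨y, hy⟩ := exists_a_eq hq hbar hF (c * x.a)
  have h1 := congrArg U.b (h y)
  simp only [mul_b, hy, map_mul] at h1
  apply hc
  have hx' : bar x.a ≠ 0 := (map_ne_zero bar).2 hx
  have : (bar c - c) * (x.a * bar x.a) = 0 := by linear_combination -h1
  rcases mul_eq_zero.1 this with h2 | h2
  · linear_combination h2
  · exact absurd h2 (mul_ne_zero hx hx')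

/-- The projection to the first coordinate. -/
def projA : U F bar →* Multiplicative F where
  toFun x := Multiplicative.ofAdd x.a
  map_one' := rfl
  map_mul' _ _ := rfl

theorem ker_projA (hq : 1 < q) (hbar : ∀ x, bar x = x ^ q) (hF : Fintype.card F = q ^ 2) :
    (projA : U F bar →* Multiplicative F).ker = Subgroup.center (U F bar) := by
  ext x
  rw [mem_center_iff hq hbar hF, MonoidHom.mem_ker]
  rfl

theorem card_center (hq : 1 < q) (hbar : ∀ x, bar x = x ^ q) (hF : Fintype.card F = q ^ 2) :
    Nat.card (Subgroup.center (U F bar)) = q := by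
  rw [← card_fixed hq hbar hF]
  refine Nat.card_congr ⟨fun x => ⟨x.1.b, bar_b_of_a_eq_zero ((mem_center_iff hq hbar hF _).1 x.2)⟩,
    fun b => ⟨ofFixed b.1 b.2, (mem_center_iff hq hbar hF _).2 rfl⟩, ?_, ?_⟩
  · intro x
    exact Subtype.ext (U.ext' ((mem_center_iff hq hbar hF _).1 x.2).symm rfl)
  · intro b; rfl

theorem index_center (hq : 1 < q) (hbar : ∀ x, bar x = x ^ q) (hF : Fintype.card F = q ^ 2) :
    (Subgroup.center (U F bar)).index = q ^ 2 := by
  rw [← ker_projA hq hbar hF, Subgroup.index_ker]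
  have : (projA : U F bar →* Multiplicative F).range = ⊤ := by
    rw [MonoidHom.range_eq_top]
    intro a
    obtain ⟨x, hx⟩ := exists_a_eq hq hbar hF (Multiplicative.toAdd a)
    exact ⟨x, congrArg Multiplicative.ofAdd hx⟩
  rw [this, Subgroup.card_top, Nat.card_eq_fintype_card, Fintype.card_multiplicative, hF]

theorem card_U (hq : 1 < q) (hbar : ∀ x, bar x = x ^ q) (hF : Fintype.card F = q ^ 2) :
    Nat.card (U F bar) = q ^ 3 := by
  rw [← (Subgroup.center (U F bar)).index_mul_card, index_center hq hbar hF, card_center hq hbar hF]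
  ring

theorem commutator_eq_center (hq : 1 < q) (hbar : ∀ x, bar x = x ^ q) (hF : Fintype.card F = q ^ 2) :
    commutator (U F bar) = Subgroup.center (U F bar) := by
  apply le_antisymm
  · rw [commutator_def, Subgroup.commutator_le]
    intro x _ y _
    rw [mem_center_iff hq hbar hF, commutatorElement_def, comm_a]
  · intro z hz
    rw [mem_center_iff hq hbar hF] at hz
    obtain ⟨a, ha⟩ := exists_tr_eq hq hbar hF (bar_b_of_a_eq_zero hz)
    obtain ⟨x, hx⟩ := exists_a_eq hq hbar hF a
    obtain ⟨y, hy⟩ := exists_a_eq hq hbar hF 1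
    have : z = ⁅x, y⁆ := by
      rw [commutatorElement_def]
      refine U.ext' (by rw [comm_a, hz]) ?_
      rw [comm_b, hx, hy, map_one, mul_one, ha]
    rw [this]
    exact Subgroup.commutator_mem_commutator (Subgroup.mem_top _) (Subgroup.mem_top _)

theorem isSuzukiTwoGroup (hq : 2 < q) (hbar : ∀ x, bar x = x ^ q) (hF : Fintype.card F = q ^ 2) :
    Cfsg.IsSuzukiTwoGroup (U F bar) := by
  classical
  have hq1 : 1 < q := by omega
  refine ⟨inferInstance, isPGroup_two, ?_, ?_, ?_⟩
  · obtain ⟨x, hx⟩ := exists_a_eq hq1 hbar hF 1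
    have : x ∉ Subgroup.center (U F bar) := by
      rw [mem_center_iff hq1 hbar hF, hx]; exact one_ne_zero
    rw [Subgroup.mem_center_iff] at this
    push Not at this
    obtain ⟨y, hy⟩ := this
    exact ⟨y, x, hy⟩
  · have h3 : 2 < Nat.card (Subgroup.center (U F bar)) := by rw [card_center hq1 hbar hF]; exact hq
    have : Fintype (Subgroup.center (U F bar)) := Fintype.ofFinite _
    rw [Nat.card_eq_fintype_card, Fintype.two_lt_card_iff] at h3
    obtain ⟨a, b, c, hab, hac, hbc⟩ := h3
    have key : ∀ z : Subgroup.center (U F bar), z.1 * z.1 = 1 := fun z =>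
      (mul_self_eq_one_iff _).2 ((mem_center_iff hq1 hbar hF _).1 z.2)
    have inj : ∀ {u v : Subgroup.center (U F bar)}, u ≠ v → u.1 ≠ v.1 :=
      fun h h' => h (Subtype.ext h')
    by_cases ha : a = 1
    · exact ⟨b, c, inj hbc, inj (ha ▸ hab.symm), key b, inj (ha ▸ hac.symm), key c⟩
    · by_cases hb1 : b = 1
      · exact ⟨a, c, inj hac, inj ha, key a, inj (hb1 ▸ hbc.symm), key c⟩
      · exact ⟨a, b, inj hab, inj ha, key a, inj hb1, key b⟩
  · let K0 : Subgroup Fˣ :=
      { carrier := {l | bar l = l}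
        mul_mem' := fun {l m} hl hm => by
          simp only [Set.mem_ofPred_eq, Units.val_mul, map_mul] at *
          rw [hl, hm]
        one_mem' := by simp
        inv_mem' := fun {l} hl => by
          simp only [Set.mem_ofPred_eq, Units.val_inv_eq_inv_val, map_inv₀] at *
          rw [hl] }
    refine ⟨K0.map diagHom, isCyclic_of_surjective _ (MonoidHom.subgroupMap_surjective diagHom K0), ?_⟩
    intro x y hx hx2 hy hy2
    rw [mul_self_eq_one_iff] at hx2 hy2
    have hxb : x.b ≠ 0 := fun h => hx (U.ext' hx2 h)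
    have hyb : y.b ≠ 0 := fun h => hy (U.ext' hy2 h)
    have hsq : ∀ s t : F, s * s = t * t → s = t := by
      intro s t h
      have : (s - t) * (s - t) = 0 := by
        linear_combination h + (t * t - s * t) * (two_eq_zero' (F := F))
      exact sub_eq_zero.1 (mul_self_eq_zero.1 this)
    obtain ⟨l, hl⟩ : ∃ l : F, l * l = y.b / x.b :=
      Finite.surjective_of_injective (f := fun s : F => s * s) (fun s t h => hsq s t h) _
    have hl0 : l ≠ 0 := by
      rintro rfl
      exact div_ne_zero hyb hxb (by simpa using hl.symm)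
    have hlb : bar l = l := by
      apply hsq
      rw [← map_mul, hl, map_div₀, bar_b_of_a_eq_zero hx2, bar_b_of_a_eq_zero hy2]
    refine ⟨⟨diagHom (Units.mk0 l hl0), ⟨Units.mk0 l hl0, hlb, rfl⟩⟩, ?_, ?_⟩
    · refine U.ext' ?_ ?_
      · simp [diagHom_apply, diagAut_a, hx2, hy2]
      · simp only [diagHom_apply, diagAut_b, Units.val_mk0, hlb, hl]
        field_simp
    · rintro ⟨_, m, hm, rfl⟩ hk
      have h1 := congrArg U.b hk
      simp only [diagHom_apply, diagAut_b] at h1
      have hm' : bar m = m := hm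
      rw [hm'] at h1
      have : (m : F) = l := by
        apply hsq
        rw [hl, ← h1]; field_simp
      apply Subtype.ext
      change diagHom m = diagHom _
      congr 1
      exact Units.ext this

end count

end CL.U3
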