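import Cfsg.Agent.Base
import Cfsg.Agent.Lin.Card
import Cfsg.Agent.Unitary.Order

/-!
# Sylow 2-subgroups of `GL(2,q)` and `GU(2,q)` for odd `q`

General recognition lemmas (a Sylow 2-subgroup is quasi-dihedral / wreathed as soon as the group
contains the generators and has the right 2-part), and the explicit generators.
-/

set_option autoImplicit false

open Cfsg
open scoped MatrixGroups

namespace CL.TF

section general

variable {A B : Type*} [Group A] [Group B]

theorem isQuasiDihedral_of_equiv (e : A ≃* B) (h : IsQuasiDihedral A) : IsQuasiDihedral B := by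
  obtain ⟨n, hn, hc, x, y, hx, hy, hxy⟩ := h
  refine ⟨n, hn, by rw [← hc]; exact (Nat.card_congr e.toEquiv).symm, e x, e y, ?_, ?_, ?_⟩
  · rw [e.orderOf_eq, hx]
  · rw [e.orderOf_eq, hy]
  · rw [← map_inv, ← map_mul, ← map_mul, hxy, map_pow]

theorem isWreathed_of_equiv (e : A ≃* B) (h : IsWreathed A) : IsWreathed B := by
  obtain ⟨n, hn, hc, x, y, z, hx, hxy, hd, hz, hzx⟩ := h
  refine ⟨n, hn, by rw [← hc]; exact (Nat.card_congr e.toEquiv).symm, e x, e y, e z, ?_, ?_, ?_,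
    ?_, ?_⟩
  · rw [e.orderOf_eq, hx]
  · rw [← map_mul, hxy, map_mul]
  · have h1 := congrArg (Subgroup.map e.toMonoidHom) hd
    rw [Subgroup.map_inf_eq _ _ _ e.injective, MonoidHom.map_zpowers, MonoidHom.map_zpowers,
      Subgroup.map_bot] at h1
    exact h1
  · rw [e.orderOf_eq, hz]
  · rw [← map_inv, ← map_mul, ← map_mul, hzx]

variable {G : Type*} [Group G]

theorem isPGroup_zpowers_of_orderOf {x : G} {n : ℕ} (hx : orderOf x = 2 ^ n) :
    IsPGroup 2 (Subgroup.zpowers x) :=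
  IsPGroup.of_card (by rw [Nat.card_zpowers, hx])

theorem zpowers_le_normalizer_of_conj [Finite G] {K : Subgroup G} {y : G}
    (h : ∀ k ∈ K, y * k * y⁻¹ ∈ K) : Subgroup.zpowers y ≤ Subgroup.normalizer (K : Set G) := by
  rw [Subgroup.zpowers_le]
  exact Subgroup.mem_normalizer_fintype h

/-- Recognising quasi-dihedral Sylow 2-subgroups from generators in the ambient group. -/
theorem isQuasiDihedral_sylow_of_gen [Finite G] {n : ℕ} (hn : 3 ≤ n)
    (hcard : (Nat.card G).factorization 2 = n + 1) {x y : G} (hx : orderOf x = 2 ^ n)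
    (hy : orderOf y = 2) (hxy : y * x * y⁻¹ = x ^ (2 ^ (n - 1) - 1)) (P : Sylow 2 G) :
    IsQuasiDihedral (P : Subgroup G) := by
  have hW : IsPGroup 2 (Subgroup.zpowers y ⊔ Subgroup.zpowers x : Subgroup G) := by
    refine IsPGroup.to_sup_of_normal_right' (isPGroup_zpowers_of_orderOf (n := 1) (by simpa using hy))
      (isPGroup_zpowers_of_orderOf hx) (zpowers_le_normalizer_of_conj ?_)
    rintro _ ⟨i, rfl⟩
    have : y * x ^ i * y⁻¹ = (y * x * y⁻¹) ^ i := by rw [conj_zpow]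
    simp only [this, hxy]
    exact Subgroup.zpow_mem _ (Subgroup.npow_mem_zpowers _ _) _
  obtain ⟨Q, hQ⟩ := hW.exists_le_sylow
  have hxQ : x ∈ (Q : Subgroup G) := hQ (Subgroup.mem_sup_right (Subgroup.mem_zpowers x))
  have hyQ : y ∈ (Q : Subgroup G) := hQ (Subgroup.mem_sup_left (Subgroup.mem_zpowers y))
  refine isQuasiDihedral_of_equiv (Q.equiv P) ⟨n, hn, ?_, ⟨x, hxQ⟩, ⟨y, hyQ⟩, ?_, ?_, ?_⟩
  · rw [Q.card_eq_multiplicity, hcard]
  · rw [Subgroup.orderOf_mk, hx]
  · rw [Subgroup.orderOf_mk, hy]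
  · exact Subtype.ext hxy

/-- Recognising wreathed Sylow 2-subgroups from generators in the ambient group. -/
theorem isWreathed_sylow_of_gen [Finite G] {n : ℕ} (hn : 2 ≤ n)
    (hcard : (Nat.card G).factorization 2 = 2 * n + 1) {x y z : G} (hx : orderOf x = 2 ^ n)
    (hxy : x * y = y * x) (hd : ∀ i j : ℤ, x ^ i = y ^ j → x ^ i = 1)
    (hz : orderOf z = 2) (hzx : z * x * z⁻¹ = y) (P : Sylow 2 G) :
    IsWreathed (P : Subgroup G) := by
  have hy : orderOf y = 2 ^ n := by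
    rw [← hzx, ← hx]
    exact (MulAut.conj z).orderOf_eq x
  have hzz : z * z = 1 := by rw [← sq, ← hz, pow_orderOf_eq_one]
  have hzy : z * y * z⁻¹ = x := by
    rw [← hzx]
    calc z * (z * x * z⁻¹) * z⁻¹ = (z * z) * x * (z * z)⁻¹ := by group
      _ = x := by rw [hzz]; simp
  have hU : IsPGroup 2 (Subgroup.zpowers x ⊔ Subgroup.zpowers y : Subgroup G) := by
    refine IsPGroup.to_sup_of_normal_right' (isPGroup_zpowers_of_orderOf hx)
      (isPGroup_zpowers_of_orderOf hy) (zpowers_le_normalizer_of_conj ?_)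
    rintro _ ⟨i, rfl⟩
    have : x * y ^ i * x⁻¹ = (x * y * x⁻¹) ^ i := by rw [conj_zpow]
    simp only [this, hxy, mul_inv_cancel_right]
    exact Subgroup.zpow_mem _ (Subgroup.mem_zpowers _) _
  have hW : IsPGroup 2 (Subgroup.zpowers z ⊔ (Subgroup.zpowers x ⊔ Subgroup.zpowers y) :
      Subgroup G) := by
    refine IsPGroup.to_sup_of_normal_right' (isPGroup_zpowers_of_orderOf (n := 1) (by simpa using hz))
      hU (zpowers_le_normalizer_of_conj fun k hk => ?_)
    have h1 : (Subgroup.zpowers x ⊔ Subgroup.zpowers y : Subgroup G) ≤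
        (Subgroup.zpowers x ⊔ Subgroup.zpowers y : Subgroup G).comap
          (MulAut.conj z).toMonoidHom := by
      refine sup_le ?_ ?_ <;> rw [Subgroup.zpowers_le, Subgroup.mem_comap]
      · change z * x * z⁻¹ ∈ _
        rw [hzx]; exact Subgroup.mem_sup_right (Subgroup.mem_zpowers y)
      · change z * y * z⁻¹ ∈ _
        rw [hzy]; exact Subgroup.mem_sup_left (Subgroup.mem_zpowers x)
    exact h1 hk
  obtain ⟨Q, hQ⟩ := hW.exists_le_sylow
  have hxQ : x ∈ (Q : Subgroup G) :=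
    hQ (Subgroup.mem_sup_right (Subgroup.mem_sup_left (Subgroup.mem_zpowers x)))
  have hyQ : y ∈ (Q : Subgroup G) :=
    hQ (Subgroup.mem_sup_right (Subgroup.mem_sup_right (Subgroup.mem_zpowers y)))
  have hzQ : z ∈ (Q : Subgroup G) := hQ (Subgroup.mem_sup_left (Subgroup.mem_zpowers z))
  refine isWreathed_of_equiv (Q.equiv P) ⟨n, hn, ?_, ⟨x, hxQ⟩, ⟨y, hyQ⟩, ⟨z, hzQ⟩, ?_, ?_, ?_, ?_,
    ?_⟩
  · rw [Q.card_eq_multiplicity, hcard]
  · rw [Subgroup.orderOf_mk, hx]
  · exact Subtype.ext hxy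
  · rw [eq_bot_iff]
    rintro g ⟨⟨i, rfl⟩, ⟨j, hj⟩⟩
    rw [Subgroup.mem_bot]
    exact Subtype.ext (hd i j (congrArg Subtype.val hj).symm)
  · rw [Subgroup.orderOf_mk, hz]
  · exact Subtype.ext hzx

end general

/-! ### arithmetic -/

theorem factorization_two_pow_mul (a : ℕ) {m : ℕ} (hm : Odd m) :
    (2 ^ a * m).factorization 2 = a := by
  have hm0 : m ≠ 0 := hm.pos.ne'
  rw [Nat.factorization_mul (by positivity) hm0, Finsupp.add_apply, Nat.factorization_pow,
    Finsupp.smul_apply, Nat.prime_two.factorization_self,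
    Nat.factorization_eq_zero_of_not_dvd (by rwa [← even_iff_two_dvd, Nat.not_even_iff_odd])]
  simp

theorem exists_two_pow_mul_of_four_dvd {m : ℕ} (hm : m ≠ 0) (h4 : 4 ∣ m) :
    ∃ n k : ℕ, 2 ≤ n ∧ Odd k ∧ m = 2 ^ n * k := by
  obtain ⟨n, k, hk, rfl⟩ := Nat.exists_eq_two_pow_mul_odd hm
  refine ⟨n, k, ?_, hk, rfl⟩
  by_contra hn
  obtain ⟨l, rfl⟩ := hk
  interval_cases n <;> omega

/-- A finite field has a unit of each order dividing `q - 1`. -/
theorem exists_unit_orderOf {F : Type*} [Field F] [Finite F] {d : ℕ} (hd : d ∣ Nat.card F - 1) :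
    ∃ ζ : Fˣ, orderOf ζ = d := by
  obtain ⟨g, hg⟩ := IsCyclic.exists_ofOrder_eq_natCard (α := Fˣ)
  rw [Nat.card_units] at hg
  have h0 : orderOf g ≠ 0 := (orderOf_pos g).ne'
  refine ⟨g ^ (orderOf g / d), ?_⟩
  rw [← hg] at hd
  exact orderOf_pow_orderOf_div h0 hd

/-- If `x` has order `2^(m+1)` and `k ≡ 2^m - 1` in the form `k + 1 = 2^m * odd`, then
`x^k = x^(2^m - 1)`. -/
theorem pow_eq_pow_of_succ_eq {G : Type*} [Group G] {x : G} {m k l : ℕ}
    (hx : orderOf x = 2 ^ (m + 1)) (hl : Odd l) (hk : k + 1 = 2 ^ m * l) :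
    x ^ k = x ^ (2 ^ m - 1) := by
  obtain ⟨j, rfl⟩ := hl
  have h1 : 1 ≤ 2 ^ m := Nat.one_le_two_pow
  have : k = 2 ^ (m + 1) * j + (2 ^ m - 1) := by
    rw [pow_succ]
    have : 2 ^ m * (2 * j + 1) = 2 ^ m * 2 * j + 2 ^ m := by ring
    omega
  rw [this, pow_add, pow_mul, ← hx, pow_orderOf_eq_one, one_pow, one_mul]

/-! ### diagonal matrices and the swap -/

section matrices

variable {F : Type*} [Field F]

/-- The diagonal matrix `diag(a, b)`. -/
def dg : Fˣ × Fˣ →* GL (Fin 2) F where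
  toFun p := ⟨!![(p.1 : F), 0; 0, p.2], !![((p.1⁻¹ : Fˣ) : F), 0; 0, ((p.2⁻¹ : Fˣ) : F)],
    by ext i j; fin_cases i <;> fin_cases j <;> simp [Matrix.mul_apply, Fin.sum_univ_two],
    by ext i j; fin_cases i <;> fin_cases j <;> simp [Matrix.mul_apply, Fin.sum_univ_two]⟩
  map_one' := by ext i j; fin_cases i <;> fin_cases j <;> simp
  map_mul' p q := by
    ext i j; fin_cases i <;> fin_cases j <;> simp [Matrix.mul_apply, Fin.sum_univ_two]

theorem coe_dg (p : Fˣ × Fˣ) :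
    ((dg p : GL (Fin 2) F) : Matrix (Fin 2) (Fin 2) F) = !![(p.1 : F), 0; 0, p.2] := rfl

theorem dg_injective : Function.Injective (dg : Fˣ × Fˣ →* GL (Fin 2) F) := by
  intro p q h
  have h1 := congrArg (fun g : GL (Fin 2) F => (g : Matrix (Fin 2) (Fin 2) F) 0 0) h
  have h2 := congrArg (fun g : GL (Fin 2) F => (g : Matrix (Fin 2) (Fin 2) F) 1 1) h
  simp only [coe_dg] at h1 h2
  exact Prod.ext (Units.ext (by simpa using h1)) (Units.ext (by simpa using h2))

/-- The permutation matrix of the transposition. -/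
def sw : GL (Fin 2) F := ⟨!![0, 1; 1, 0], !![0, 1; 1, 0],
    by ext i j; fin_cases i <;> fin_cases j <;> simp [Matrix.mul_apply, Fin.sum_univ_two],
    by ext i j; fin_cases i <;> fin_cases j <;> simp [Matrix.mul_apply, Fin.sum_univ_two]⟩

theorem coe_sw : ((sw : GL (Fin 2) F) : Matrix (Fin 2) (Fin 2) F) = !![0, 1; 1, 0] := rfl

theorem sw_mul_dg (a b : Fˣ) : (sw : GL (Fin 2) F) * dg (a, b) = dg (b, a) * sw := by
  ext i j
  simp only [Units.val_mul, coe_dg, coe_sw]
  fin_cases i <;> fin_cases j <;> simp [Matrix.mul_apply, Fin.sum_univ_two]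

theorem sw_conj_dg (a b : Fˣ) : (sw : GL (Fin 2) F) * dg (a, b) * sw⁻¹ = dg (b, a) := by
  rw [sw_mul_dg, mul_inv_cancel_right]

theorem orderOf_sw : orderOf (sw : GL (Fin 2) F) = 2 := by
  refine orderOf_eq_prime ?_ fun h => ?_
  · ext i j
    simp only [sq, Units.val_mul, coe_sw]
    fin_cases i <;> fin_cases j <;> simp [Matrix.mul_apply, Fin.sum_univ_two]
  · have h1 := congrArg (fun g : GL (Fin 2) F => (g : Matrix (Fin 2) (Fin 2) F) 0 0) h
    simp [coe_sw] at h1

theorem orderOf_dg (a b : Fˣ) : orderOf (dg (a, b) : GL (Fin 2) F) = (orderOf a).lcm (orderOf b) := by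
  rw [orderOf_injective dg dg_injective, Prod.orderOf_mk]

theorem dg_disjoint (a : Fˣ) (i j : ℤ) (h : (dg (a, 1) : GL (Fin 2) F) ^ i = dg (1, a) ^ j) :
    (dg (a, 1) : GL (Fin 2) F) ^ i = 1 := by
  rw [← map_zpow, ← map_zpow] at h
  have h1 := congrArg Prod.fst (dg_injective h)
  rw [← map_zpow, ← map_one dg]
  congr 1
  ext <;> simp_all

/-- A subgroup of `GL(2,F)` containing `diag(ζ,1)` and the swap, of the right order, has wreathed
Sylow 2-subgroups. -/
theorem isWreathed_sylow_of_dg [Finite F] (H : Subgroup (GL (Fin 2) F)) {n : ℕ} (hn : 2 ≤ n)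
    (hcard : (Nat.card H).factorization 2 = 2 * n + 1) {ζ : Fˣ} (hζ : orderOf ζ = 2 ^ n)
    (h1 : dg (ζ, 1) ∈ H) (h2 : sw ∈ H) (P : Sylow 2 H) : IsWreathed (P : Subgroup H) := by
  have h3 : dg (1, ζ) ∈ H := by
    rw [← sw_conj_dg]; exact H.mul_mem (H.mul_mem h2 h1) (H.inv_mem h2)
  refine isWreathed_sylow_of_gen hn hcard (x := ⟨_, h1⟩) (y := ⟨_, h3⟩) (z := ⟨_, h2⟩) ?_ ?_ ?_ ?_
    ?_ P
  · rw [Subgroup.orderOf_mk, orderOf_dg, hζ]; simp
  · apply Subtype.ext
    change dg (ζ, 1) * dg (1, ζ) = dg (1, ζ) * dg (ζ, 1)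
    rw [← map_mul, ← map_mul, mul_comm]
  · intro i j h
    exact Subtype.ext (dg_disjoint ζ i j (congrArg Subtype.val h))
  · rw [Subgroup.orderOf_mk, orderOf_sw]
  · exact Subtype.ext (sw_conj_dg ζ 1)

end matrices

/-! ### `GL(2,q)` -/

section GLtwo

variable {F : Type*} [Field F] [Fintype F]

theorem isWreathed_sylow_GL (hq : Fintype.card F % 4 = 1) (P : Sylow 2 (GL (Fin 2) F)) :
    IsWreathed (P : Subgroup (GL (Fin 2) F)) := by
  have h2 : 2 ≤ Fintype.card F := Fintype.one_lt_card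
  obtain ⟨n, k, hn, hk, hnk⟩ := exists_two_pow_mul_of_four_dvd (m := Fintype.card F - 1)
    (by omega) (by omega)
  obtain ⟨ζ, hζ⟩ := exists_unit_orderOf (F := F) (d := 2 ^ n)
    (by rw [Nat.card_eq_fintype_card, hnk]; exact Dvd.intro _ rfl)
  have hcard : (Nat.card (GL (Fin 2) F)).factorization 2 = 2 * n + 1 := by
    obtain ⟨l, hl⟩ : ∃ l, Fintype.card F + 1 = 2 * (2 * l + 1) :=
      ⟨Fintype.card F / 4, by omega⟩
    have ho : Odd (Fintype.card F) := by rw [Nat.odd_iff]; omega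
    rw [CL.Lin.card_GL_two, hnk, hl]
    have : Fintype.card F * (2 ^ n * k) ^ 2 * (2 * (2 * l + 1)) =
        2 ^ (2 * n + 1) * (Fintype.card F * k ^ 2 * (2 * l + 1)) := by ring
    rw [this]
    exact factorization_two_pow_mul _ ((ho.mul hk.pow).mul (odd_two_mul_add_one l))
  refine isWreathed_sylow_of_gen hn hcard (x := dg (ζ, 1)) (y := dg (1, ζ)) (z := sw) ?_ ?_
    (dg_disjoint ζ) orderOf_sw (sw_conj_dg ζ 1) P
  · rw [orderOf_dg, hζ]; simp
  · rw [← map_mul, ← map_mul, mul_comm]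

theorem isQuasiDihedral_sylow_GL (hq : Fintype.card F % 4 = 3) (P : Sylow 2 (GL (Fin 2) F)) :
    IsQuasiDihedral (P : Subgroup (GL (Fin 2) F)) := by
  classical
  obtain ⟨m, k, hm, hk, hmk⟩ := exists_two_pow_mul_of_four_dvd (m := Fintype.card F + 1)
    (by omega) (by omega)
  obtain ⟨l, hl⟩ : ∃ l, Fintype.card F - 1 = 2 * (2 * l + 1) :=
    ⟨Fintype.card F / 4, by omega⟩
  have hcard : (Nat.card (GL (Fin 2) F)).factorization 2 = (m + 1) + 1 := by
    have ho : Odd (Fintype.card F) := by rw [Nat.odd_iff]; omega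
    rw [CL.Lin.card_GL_two, hmk, hl]
    have : Fintype.card F * (2 * (2 * l + 1)) ^ 2 * (2 ^ m * k) =
        2 ^ (m + 1 + 1) * (Fintype.card F * (2 * l + 1) ^ 2 * k) := by ring
    rw [this]
    exact factorization_two_pow_mul _ ((ho.mul (odd_two_mul_add_one l).pow).mul hk)
  obtain ⟨p, hp⟩ := CharP.exists F
  have : Fact p.Prime := ⟨CharP.char_is_prime F p⟩
  let K := FiniteField.Extension F p 2
  have hK : Nat.card K = Fintype.card F ^ 2 := by
    rw [FiniteField.natCard_extension, Nat.card_eq_fintype_card]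
  obtain ⟨ζ, hζ⟩ := exists_unit_orderOf (F := K) (d := 2 ^ (m + 1)) (by
    have : Fintype.card F ^ 2 - 1 = (Fintype.card F + 1) * (Fintype.card F - 1) := by
      simpa using Nat.sq_sub_sq (Fintype.card F) 1
    rw [hK, this, hmk, hl]
    exact Dvd.intro (k * (2 * l + 1)) (by ring))
  let b : Module.Basis (Fin 2) F K :=
    Module.finBasisOfFinrankEq F K (FiniteField.finrank_extension F p 2)
  let φ : Module.End F K →* Matrix (Fin 2) (Fin 2) F := (LinearMap.toMatrixAlgEquiv b).toMonoidHom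
  have hφ : Function.Injective φ := (LinearMap.toMatrixAlgEquiv b).injective
  let L : K →* Module.End F K := (Algebra.lmul F K).toMonoidHom
  have hL : Function.Injective L := Algebra.lmul_injective
  let σ := FiniteField.Extension.frob F p 2
  have hσ : ∀ a : K, σ a = a ^ Fintype.card F := fun a => by
    rw [FiniteField.Extension.frob_apply, Nat.card_eq_fintype_card]
  have hσσ : ∀ a : K, σ (σ a) = a := fun a => by
    have := Fintype.ofFinite K
    rw [hσ, hσ, ← pow_mul, ← sq, ← hK, Nat.card_eq_fintype_card, FiniteField.pow_card]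
  let s : (Module.End F K)ˣ := ⟨σ.toLinearMap, σ.toLinearMap, LinearMap.ext hσσ, LinearMap.ext hσσ⟩
  have hx : orderOf (Units.map φ (Units.map L ζ)) = 2 ^ (m + 1) := by
    rw [orderOf_injective _ (Units.map_injective hφ), orderOf_injective _ (Units.map_injective hL),
      hζ]
  have hconj : s * Units.map L ζ * s⁻¹ = Units.map L ζ ^ Fintype.card F := by
    rw [← map_pow]
    apply Units.ext
    apply LinearMap.ext
    intro a
    change σ ((ζ : K) * σ a) = ((ζ ^ Fintype.card F : Kˣ) : K) * a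
    rw [map_mul, hσσ, hσ, Units.val_pow_eq_pow_val]
  have hxy : Units.map φ s * Units.map φ (Units.map L ζ) * (Units.map φ s)⁻¹ =
      Units.map φ (Units.map L ζ) ^ (2 ^ (m + 1 - 1) - 1) := by
    rw [← map_inv, ← map_mul, ← map_mul, hconj, map_pow]
    exact pow_eq_pow_of_succ_eq hx hk hmk
  refine isQuasiDihedral_sylow_of_gen (by omega) hcard hx ?_ hxy P
  rw [orderOf_injective _ (Units.map_injective hφ)]
  refine orderOf_eq_prime (Units.ext (LinearMap.ext hσσ)) fun h => ?_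
  rw [h, map_one, one_mul, inv_one, mul_one] at hxy
  have h4 : 2 ^ 2 ≤ 2 ^ m := Nat.pow_le_pow_right (by norm_num) hm
  have h3 : Units.map φ (Units.map L ζ) ^ (2 ^ m - 2) = 1 := by
    have : 2 ^ (m + 1 - 1) - 1 = (2 ^ m - 2) + 1 := by
      rw [Nat.add_sub_cancel]; omega
    rw [this, pow_succ] at hxy
    exact (mul_eq_right.1 hxy.symm)
  have h5 := Nat.le_of_dvd (by omega) (orderOf_dvd_of_pow_eq_one h3)
  rw [hx, pow_succ] at h5
  omega

end GLtwo

/-! ### `GU(2,q)` -/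

section GUtwo

open CL.Herm Matrix

variable {F : Type*} [Field F] {σ : F →+* F} {q : ℕ}

theorem hermForm_two (h : Conj σ q) (u v : Fin 2 → F) :
    hermForm 2 F q u v = u 0 * σ (v 0) + u 1 * σ (v 1) := by
  simp [hermForm, h.apply]

theorem card_GU_two (h : Conj σ q) : Nat.card (GU 2 F q) = q * (q + 1) ^ 2 * (q - 1) := by
  have : q ^ 2 - 1 = (q + 1) * (q - 1) := by simpa using Nat.sq_sub_sq q 1
  rw [h.card_GU, guOrder]
  simp only [Finset.prod_range_succ, Finset.prod_range_zero]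
  norm_num
  rw [this]; ring

theorem isWreathed_sylow_GU (h : Conj σ q) (hq : q % 4 = 3) (P : Sylow 2 (GU 2 F q)) :
    IsWreathed (P : Subgroup (GU 2 F q)) := by
  have := h.finite
  obtain ⟨n, k, hn, hk, hnk⟩ := exists_two_pow_mul_of_four_dvd (m := q + 1) (by omega) (by omega)
  obtain ⟨l, hl⟩ : ∃ l, q - 1 = 2 * (2 * l + 1) := ⟨q / 4, by omega⟩
  have ho : Odd q := by rw [Nat.odd_iff]; omega
  obtain ⟨ζ, hζ⟩ := exists_unit_orderOf (F := F) (d := 2 ^ n) (by
    rw [← Nat.card_units, h.card_units, hnk]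
    exact Dvd.intro (k * (q - 1)) (by ring))
  have hζ1 : (ζ : F) * σ ζ = 1 := by
    rw [h.norm_eq, hnk, pow_mul, ← Units.val_pow_eq_pow_val, ← hζ, pow_orderOf_eq_one]
    simp
  refine isWreathed_sylow_of_dg _ hn ?_ hζ ?_ ?_ P
  · rw [card_GU_two h, hnk, hl]
    have : q * (2 ^ n * k) ^ 2 * (2 * (2 * l + 1)) =
        2 ^ (2 * n + 1) * (q * k ^ 2 * (2 * l + 1)) := by ring
    rw [this]
    exact factorization_two_pow_mul _ ((ho.mul hk.pow).mul (odd_two_mul_add_one l))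
  · rw [mem_GU_iff']
    intro u v
    rw [hermForm_two h, hermForm_two h, coe_dg]
    simp only [mulVec, dotProduct, Fin.sum_univ_two]
    simp
    linear_combination (u 0 * σ (v 0)) * hζ1
  · rw [mem_GU_iff']
    intro u v
    rw [hermForm_two h, hermForm_two h, coe_sw]
    simp only [mulVec, dotProduct, Fin.sum_univ_two]
    simp
    ring

/-- The base change to a hyperbolic basis. -/
def hypBase (i : F) (hi : i * i = -1) (h2 : (2 : F) ≠ 0) : GL (Fin 2) F :=
  ⟨!![1, 1; i, -i], !![1 / 2, -i / 2; 1 / 2, i / 2],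
    by
      ext a b
      fin_cases a <;> fin_cases b <;> simp [Matrix.mul_apply, Fin.sum_univ_two] <;> field_simp
      · ring
      · ring
      · linear_combination (-2) * hi,
    by
      ext a b
      fin_cases a <;> fin_cases b <;> simp [Matrix.mul_apply, Fin.sum_univ_two] <;> field_simp
      · linear_combination (-1) * hi
      · linear_combination hi
      · linear_combination hi
      · linear_combination (-1) * hi⟩

theorem conj_mem_GU (h : Conj σ q) {i : F} (hi : i * i = -1) (hσi : σ i = i) (h2 : (2 : F) ≠ 0)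
    (d : GL (Fin 2) F) (hd : ∀ u v : Fin 2 → F,
      ((d : Matrix (Fin 2) (Fin 2) F) *ᵥ u) 0 * σ (((d : Matrix (Fin 2) (Fin 2) F) *ᵥ v) 1) +
      ((d : Matrix (Fin 2) (Fin 2) F) *ᵥ u) 1 * σ (((d : Matrix (Fin 2) (Fin 2) F) *ᵥ v) 0) =
      u 0 * σ (v 1) + u 1 * σ (v 0)) :
    hypBase i hi h2 * d * (hypBase i hi h2)⁻¹ ∈ GU 2 F q := by
  have key : ∀ u v : Fin 2 → F, hermForm 2 F q ((hypBase i hi h2 : Matrix (Fin 2) (Fin 2) F) *ᵥ u)
      ((hypBase i hi h2 : Matrix (Fin 2) (Fin 2) F) *ᵥ v) = 2 * (u 0 * σ (v 1) + u 1 * σ (v 0)) := by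
    intro u v
    rw [hermForm_two h]
    simp only [hypBase, mulVec, dotProduct, Fin.sum_univ_two]
    simp [hσi]
    linear_combination (u 0 - u 1) * (σ (v 0) - σ (v 1)) * hi
  rw [mem_GU_iff']
  intro u v
  rw [Units.val_mul, Units.val_mul, ← mulVec_mulVec, ← mulVec_mulVec, ← mulVec_mulVec,
    ← mulVec_mulVec, key, hd, ← key, mulVec_mulVec, mulVec_mulVec, Units.mul_inv, one_mulVec,
    one_mulVec]

theorem isQuasiDihedral_sylow_GU (h : Conj σ q) (hq : q % 4 = 1) (P : Sylow 2 (GU 2 F q)) :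
    IsQuasiDihedral (P : Subgroup (GU 2 F q)) := by
  have := h.finite
  have h2q := h.two_le
  obtain ⟨m, k, hm, hk, hmk⟩ := exists_two_pow_mul_of_four_dvd (m := q - 1) (by omega) (by omega)
  obtain ⟨l, hl⟩ : ∃ l, q + 1 = 2 * (2 * l + 1) := ⟨q / 4, by omega⟩
  have ho : Odd q := by rw [Nat.odd_iff]; omega
  have hcard : (Nat.card (GU 2 F q)).factorization 2 = (m + 1) + 1 := by
    rw [card_GU_two h, hmk, hl]
    have : q * (2 * (2 * l + 1)) ^ 2 * (2 ^ m * k) =
        2 ^ (m + 1 + 1) * (q * (2 * l + 1) ^ 2 * k) := by ring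
    rw [this]
    exact factorization_two_pow_mul _ ((ho.mul (odd_two_mul_add_one l).pow).mul hk)
  obtain ⟨ζ, hζ⟩ := exists_unit_orderOf (F := F) (d := 2 ^ (m + 1)) (by
    rw [← Nat.card_units, h.card_units, hmk, hl]
    exact Dvd.intro ((2 * l + 1) * k) (by ring))
  obtain ⟨i, hi4⟩ := exists_unit_orderOf (F := F) (d := 4) (by
    rw [← Nat.card_units, h.card_units]
    exact Dvd.dvd.mul_left (by omega) _)
  have hi1 : (i : F) * i ≠ 1 := fun h1 => by
    have h3 : i ^ 2 = 1 := Units.ext (by rw [Units.val_pow_eq_pow_val, sq, h1, Units.val_one])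
    have := Nat.le_of_dvd (by norm_num) (hi4 ▸ orderOf_dvd_of_pow_eq_one h3)
    omega
  have hi : (i : F) * i = -1 := by
    refine (mul_self_eq_one_iff.1 ?_).resolve_left hi1
    have h3 := congrArg Units.val (hi4 ▸ pow_orderOf_eq_one i)
    rw [Units.val_pow_eq_pow_val, Units.val_one] at h3
    rw [← h3]; ring
  have h2 : (2 : F) ≠ 0 := fun h2 => hi1 (by linear_combination hi - h2)
  have hσi : σ i = i := by
    rw [h.apply, ← Units.val_pow_eq_pow_val, ← pow_mod_orderOf, hi4, hq, pow_one]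
  have hqq : ∀ a : Fˣ, (a ^ q) ^ q = a := fun a => by
    ext
    rw [Units.val_pow_eq_pow_val, Units.val_pow_eq_pow_val, ← h.apply, ← h.apply, h.invol]
  have hx : hypBase (i : F) hi h2 * dg (ζ, (ζ ^ q)⁻¹) * (hypBase (i : F) hi h2)⁻¹ ∈ GU 2 F q := by
    refine conj_mem_GU h hi hσi h2 _ fun u v => ?_
    have e1 : σ (ζ : F) ≠ 0 := by simp
    have e2 : ((ζ : F) ^ q) = σ ζ := (h.apply _).symm
    rw [coe_dg]
    simp only [mulVec, dotProduct, Fin.sum_univ_two]
    simp [e2, h.invol]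
    field_simp
  have hy : hypBase (i : F) hi h2 * sw * (hypBase (i : F) hi h2)⁻¹ ∈ GU 2 F q := by
    refine conj_mem_GU h hi hσi h2 _ fun u v => ?_
    rw [coe_sw]
    simp only [mulVec, dotProduct, Fin.sum_univ_two]
    simp
    ring
  have hord : orderOf (dg (ζ, (ζ ^ q)⁻¹) : GL (Fin 2) F) = 2 ^ (m + 1) := by
    rw [orderOf_dg, orderOf_inv, Nat.lcm_eq_left (orderOf_pow_dvd q), hζ]
  have hrel : sw * (dg (ζ, (ζ ^ q)⁻¹) : GL (Fin 2) F) * sw⁻¹ =
      dg (ζ, (ζ ^ q)⁻¹) ^ (2 ^ m - 1) := by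
    apply mul_right_cancel (b := (dg (ζ, (ζ ^ q)⁻¹) : GL (Fin 2) F) ^ q)
    obtain ⟨j, rfl⟩ := hk
    have h1 : 1 ≤ 2 ^ m := Nat.one_le_two_pow
    have e : 2 ^ m - 1 + q = 2 ^ (m + 1) * (j + 1) := by
      have : 2 ^ (m + 1) * (j + 1) = 2 ^ m * (2 * j + 1) + 2 ^ m := by ring
      omega
    rw [← pow_add, e, pow_mul, ← hord, pow_orderOf_eq_one, one_pow, sw_conj_dg, ← map_pow,
      ← map_mul, ← map_one dg]
    congr 1
    ext <;> simp [← Units.val_pow_eq_pow_val, hqq]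
  refine isQuasiDihedral_sylow_of_gen (by omega) hcard (x := ⟨_, hx⟩) (y := ⟨_, hy⟩) ?_ ?_ ?_ P
  · rw [Subgroup.orderOf_mk, ← hord]
    exact (MulAut.conj _).orderOf_eq _
  · rw [Subgroup.orderOf_mk]
    exact ((MulAut.conj _).orderOf_eq _).trans orderOf_sw
  · apply Subtype.ext
    simp only [Subgroup.coe_mul, Subgroup.coe_inv, SubmonoidClass.coe_pow, Nat.add_sub_cancel,
      conj_pow]
    rw [← hrel]
    group

end GUtwo

end CL.TF
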