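import Cfsg.Agent.TwoFus.Three
import Cfsg.Agent.Transfer.Frobenius

/-!
# Small Sylow and `O^p` tools for fusion computations
-/

set_option autoImplicit false

namespace CL.TF

open Subgroup Cfsg CL.Transfer
open scoped Pointwise

variable {G : Type*} [Group G] [Finite G] {p : ℕ} [hp : Fact p.Prime]

theorem exists_conj_mem_sylow (S : Sylow p G) {g : G} {k : ℕ} (hg : orderOf g = p ^ k) :
    ∃ c : G, c * g * c⁻¹ ∈ (S : Subgroup G) := by
  have : IsPGroup p (zpowers g) := IsPGroup.of_card (by rw [Nat.card_zpowers, hg])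
  obtain ⟨c, hc⟩ := exists_conj_le_sylow S this
  exact ⟨c, conj_smul_le_iff.1 hc g (mem_zpowers g)⟩

theorem exists_conj_le_sylow_of_le (S : Sylow p G) {H P : Subgroup G} (hSH : (S : Subgroup G) ≤ H)
    (hP : IsPGroup p P) (hPH : P ≤ H) :
    ∃ c ∈ H, P.map (MulAut.conj c).toMonoidHom ≤ (S : Subgroup G) :=
  (isSylowIn_of_le S hSH).exists_conj_le hP hPH

/-- If `g⁻¹ P g ≤ H` and `H` contains the Sylow subgroup `S`, then `P` is conjugated into `S` by
`c g⁻¹` for some `c ∈ H`. -/
theorem exists_conj_le_sylow_of_conj_le (S : Sylow p G) {H P : Subgroup G}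
    (hSH : (S : Subgroup G) ≤ H) (hP : IsPGroup p P) {g : G} (hPH : ∀ t ∈ P, g⁻¹ * t * g ∈ H) :
    ∃ c ∈ H, P.map (MulAut.conj (c * g⁻¹)).toMonoidHom ≤ (S : Subgroup G) := by
  obtain ⟨c, hc, h⟩ := (isSylowIn_of_le S hSH).exists_conj_le (isPGroup_conj_smul hP g⁻¹)
    (conj_smul_le_iff.2 (by simpa using hPH))
  rw [conj_smul_conj_smul] at h
  exact ⟨c, hc, h⟩

theorem exists_inv_mul_mem_pResidual (S : Sylow p G) (a g : G) :
    ∃ s ∈ (S : Subgroup G), (s * a * s⁻¹)⁻¹ * (g * a * g⁻¹) ∈ pResidual p G := by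
  have hg : g ∈ pResidual p G ⊔ (S : Subgroup G) := by
    rw [sup_comm, sylow_sup_pResidual]; exact mem_top g
  rw [← SetLike.mem_coe, normal_mul] at hg
  obtain ⟨k, hk, s, hs, rfl⟩ := hg
  refine ⟨s, hs, ?_⟩
  have := mul_mem ((inferInstance : (pResidual p G).Normal).conj_mem k hk (s * a * s⁻¹)⁻¹)
    (inv_mem hk)
  convert this using 1
  group

theorem index_pResidual (S : Sylow p G) :
    (pResidual p G).index = ((S : Subgroup G) ⊓ pResidual p G).relIndex S := by
  rw [inf_relIndex_left, ← relIndex_sup_right, sylow_sup_pResidual, relIndex_top_right]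

theorem nonempty_sylow_equiv_inf (S : Sylow p G) (K : Subgroup G) [K.Normal] (P : Sylow p K) :
    Nonempty ((P : Subgroup K) ≃* ((S : Subgroup G) ⊓ K : Subgroup G)) :=
  ⟨(Sylow.equiv P (isSylowIn_inf_normal S K).toSylow).trans
    (subgroupOfEquivOfLe (inf_le_right : (S : Subgroup G) ⊓ K ≤ K))⟩

omit hp in
theorem index_ne_two_of_pResidual_eq_top (h : pResidual 2 G = ⊤) (H : Subgroup G) :
    H.index ≠ 2 := fun hH =>
  pResidual_eq_top_iff.1 h H (normal_of_index_eq_two hH) hH

omit hp in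
theorem pResidual_eq_top_of_index_ne_two (h : ∀ H : Subgroup G, H.index ≠ 2) :
    pResidual 2 G = ⊤ :=
  pResidual_eq_top_iff.2 fun N _ => h N

omit hp in
theorem index_ne_two_pResidual (H : Subgroup (pResidual 2 G)) : H.index ≠ 2 :=
  index_ne_two_of_pResidual_eq_top pResidual_pResidual H

theorem pResidual_eq_top_of_sylow_le (S : Sylow p G) (h : (S : Subgroup G) ≤ pResidual p G) :
    pResidual p G = ⊤ := by
  rw [← sylow_sup_pResidual S, sup_eq_right.2 h]

omit hp in
theorem hasNormalTwoComplement_of_isCyclic (P : Sylow 2 G) (hP : IsCyclic (P : Subgroup G)) :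
    HasNormalPComplement 2 G := by
  by_cases h2 : 2 ∣ Nat.card G
  · have hm : (Nat.card G).minFac = 2 := (Nat.minFac_eq_two_iff _).2 h2
    exact ⟨P, _, inferInstance, IsCyclic.isComplement' hm hP⟩
  · exact hasNormalPComplement_of_not_dvd h2

omit hp in
theorem hasNormalTwoComplement_of_isCyclic_inf (S : Sylow 2 G)
    (h : IsCyclic ((S : Subgroup G) ⊓ pResidual 2 G : Subgroup G)) : HasNormalPComplement 2 G := by
  obtain ⟨P⟩ : Nonempty (Sylow 2 (pResidual 2 G)) := inferInstance
  obtain ⟨e⟩ := nonempty_sylow_equiv_inf S (pResidual 2 G) P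
  exact hasNormalPComplement_of_pResidual_le le_rfl
    (hasNormalTwoComplement_of_isCyclic P (isCyclic_of_surjective e.symm e.symm.surjective))

omit [Finite G] hp in
theorem map_conj_map_conj (H : Subgroup G) (a b : G) :
    (H.map (MulAut.conj a).toMonoidHom).map (MulAut.conj b).toMonoidHom =
      H.map (MulAut.conj (b * a)).toMonoidHom :=
  conj_smul_conj_smul b a H

omit [Finite G] hp in
theorem mem_normalizer_of_map_conj_eq {H : Subgroup G} {g : G}
    (h : H.map (MulAut.conj g).toMonoidHom = H) : g ∈ normalizer (H : Set G) :=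
  conj_smul_eq_iff_mem_normalizer.1 h

omit [Finite G] hp in
theorem isKleinFour_map_conj {T : Subgroup G} (hT : IsKleinFour T) (g : G) :
    IsKleinFour (T.map (MulAut.conj g).toMonoidHom) := by
  obtain ⟨a, b, h⟩ := exists_isFourData hT
  exact (h.map _ (MulAut.conj g).injective).isKleinFour

omit [Finite G] hp in
theorem isPGroup_of_isKleinFour {T : Subgroup G} (hT : IsKleinFour T) : IsPGroup 2 T :=
  IsPGroup.of_card (n := 2) hT.card_four

end CL.TF
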