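import Cfsg.Agent.TwoFus.QDSub
import Cfsg.Agent.TwoFus.SylTools

/-!
# Fusion in groups with quasi-dihedral Sylow 2-subgroups
-/

set_option autoImplicit false

namespace CL

open Subgroup Cfsg CL.Transfer CL.TF

variable {G : Type*} [Group G]

namespace IsQDData

section Inside

variable {S : Subgroup G} {e : ℕ} {x y : G}

theorem exists_conj_four (h : IsQDData S e x y) {T₁ T₂ : Subgroup G} (h₁S : T₁ ≤ S) (h₂S : T₂ ≤ S)
    (h₁ : IsKleinFour T₁) (h₂ : IsKleinFour T₂) :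
    ∃ s ∈ zpowers x, T₁.map (MulAut.conj s).toMonoidHom = T₂ := by
  obtain ⟨i, hi⟩ := h.exists_four_data h₁S h₁
  obtain ⟨j, hj⟩ := h.exists_four_data h₂S h₂
  obtain ⟨s, hsx, hs⟩ := (h.of_even i).exists_conj_even (j - i)
  refine ⟨s, hsx, ?_⟩
  have := hi.map (MulAut.conj s).toMonoidHom (MulAut.conj s).injective
  simp only [MulEquiv.coe_toMonoidHom, MulAut.conj_apply] at this
  rw [h.conj_z (h.zpowers_le hsx), hs,
    show x ^ (2 * (j - i)) * (x ^ (2 * i) * y) = x ^ (2 * j) * y by group] at this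
  exact this.eq_of hj

theorem exists_conj_quat (h : IsQDData S e x y) {Q₁ Q₂ : Subgroup G} (h₁S : Q₁ ≤ S) (h₂S : Q₂ ≤ S)
    {a₁ b₁ a₂ b₂ : G} (h₁ : IsQuatData Q₁ 2 a₁ b₁) (h₂ : IsQuatData Q₂ 2 a₂ b₂) :
    ∃ s ∈ zpowers x, Q₁.map (MulAut.conj s).toMonoidHom = Q₂ := by
  obtain ⟨i, hi⟩ := h.exists_quat_data h₁S h₁
  obtain ⟨j, hj⟩ := h.exists_quat_data h₂S h₂
  obtain ⟨s, hsx, hs⟩ := (h.of_even i).exists_conj_odd (j - i)
  refine ⟨s, hsx, ?_⟩
  obtain ⟨l, rfl⟩ := mem_zpowers_iff.mp hsx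
  have := hi.map (MulAut.conj (x ^ l)).toMonoidHom (MulAut.conj _).injective
  simp only [MulEquiv.coe_toMonoidHom, MulAut.conj_apply] at this
  rw [hs, show x ^ (2 * (j - i) + 1) * (x ^ (2 * i) * y) = x * (x ^ (2 * j) * y) by group,
    show x ^ l * x ^ (2 * (e : ℤ)) * (x ^ l)⁻¹ = x ^ (2 * (e : ℤ)) by group] at this
  rw [this.eq_closure, hj.eq_closure]

theorem map_center_eq (h : IsQDData S e x y) :
    (center S).map S.subtype = zpowers (x ^ (4 * (e : ℤ))) := by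
  apply le_antisymm
  · rintro _ ⟨g, hg, rfl⟩
    rcases (h.mem_center_iff g.2).1
      (fun s hs => congrArg Subtype.val (Subgroup.mem_center_iff.1 hg ⟨s, hs⟩)) with h1 | h1
    · rw [coe_subtype, h1]; exact one_mem _
    · rw [coe_subtype, h1]; exact mem_zpowers _
  · rw [Subgroup.zpowers_le]
    refine ⟨⟨_, h.z_mem⟩, ?_, rfl⟩
    rw [SetLike.mem_coe, Subgroup.mem_center_iff]
    exact fun g => Subtype.ext (h.commute_z g.2)

theorem isConj_y_even (h : IsQDData S e x y) (i : ℤ) : IsConj y (x ^ (2 * i) * y) := by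
  obtain ⟨s, -, hs⟩ := h.exists_conj_even i
  exact isConj_iff.2 ⟨s, hs⟩

theorem isConj_xy_odd (h : IsQDData S e x y) (i : ℤ) : IsConj (x * y) (x ^ (2 * i + 1) * y) := by
  obtain ⟨s, -, hs⟩ := h.exists_conj_odd i
  exact isConj_iff.2 ⟨s, hs⟩

theorem odd_pow_ne_one (h : IsQDData S e x y) (i : ℤ) : (x ^ (2 * i + 1)) ^ (4 * e) ≠ 1 := by
  rw [← zpow_natCast, ← zpow_mul, h.zpow_eq_of (b := 4 * (e : ℤ)) i (by push_cast; ring)]
  exact h.z_ne_one

theorem even_pow_eq_one (h : IsQDData S e x y) (i : ℤ) : (x ^ (2 * i)) ^ (4 * e) = 1 := by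
  rw [← zpow_natCast, ← zpow_mul, h.zpow_eq_one_iff]
  exact ⟨i, by push_cast; ring⟩

theorem pow_eq_one_of_mem_D (h : IsQDData S e x y) {a : G}
    (ha : a ∈ closure ({x ^ 2, y} : Set G)) : a ^ (4 * e) = 1 := by
  obtain ⟨i, rfl | rfl⟩ := (h.mem_D_iff a).1 ha
  · exact h.even_pow_eq_one i
  · rw [← orderOf_dvd_iff_pow_eq_one, h.orderOf_even]; exact ⟨2 * e, by ring⟩

theorem pow_eq_one_of_mem_M (h : IsQDData S e x y) {a : G}
    (ha : a ∈ closure ({x ^ 2, x * y} : Set G)) : a ^ (4 * e) = 1 := by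
  obtain ⟨i, rfl | rfl⟩ := (h.mem_M_iff a).1 ha
  · exact h.even_pow_eq_one i
  · rw [← orderOf_dvd_iff_pow_eq_one, h.orderOf_odd]; exact ⟨e, by ring⟩

theorem mem_D_of_isConj (h : IsQDData S e x y) (hn : ¬ IsConj (x ^ (2 * (e : ℤ))) (x * y))
    {a b : G} (ha : a ∈ closure ({x ^ 2, y} : Set G)) (hb : b ∈ S) (hab : IsConj a b) :
    b ∈ closure ({x ^ 2, y} : Set G) := by
  have ho := orderOf_eq_of_isConj' hab
  obtain ⟨i, rfl | rfl | rfl⟩ := h.mem_cases hb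
  · obtain ⟨j, rfl | rfl⟩ := Int.even_or_odd' i
    · exact (h.mem_D_iff _).2 ⟨j, Or.inl rfl⟩
    · exfalso
      apply h.odd_pow_ne_one j
      rw [← orderOf_dvd_iff_pow_eq_one, ← ho, orderOf_dvd_iff_pow_eq_one]
      exact h.pow_eq_one_of_mem_D ha
  · exact (h.mem_D_iff _).2 ⟨i, Or.inr rfl⟩
  · exfalso
    rw [h.orderOf_odd] at ho
    apply hn
    refine IsConj.trans ?_ (hab.trans (h.isConj_xy_odd i).symm)
    rcases h.order_four_cases (h.D_le ha) ho with rfl | rfl | ⟨j, rfl⟩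
    · exact IsConj.refl _
    · exact isConj_iff.2 ⟨y, h.conj_u⟩
    · exfalso
      apply h.xy_notMem_D
      rw [zpow_add, zpow_one, mul_assoc] at ha
      exact (mul_mem_cancel_left ((h.mem_D_iff _).2 ⟨j, Or.inl rfl⟩)).1 ha

theorem mem_M_of_isConj (h : IsQDData S e x y) (hn : ¬ IsConj (x ^ (4 * (e : ℤ))) y)
    {a b : G} (ha : a ∈ closure ({x ^ 2, x * y} : Set G)) (hb : b ∈ S) (hab : IsConj a b) :
    b ∈ closure ({x ^ 2, x * y} : Set G) := by
  have ho := orderOf_eq_of_isConj' hab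
  obtain ⟨i, rfl | rfl | rfl⟩ := h.mem_cases hb
  · obtain ⟨j, rfl | rfl⟩ := Int.even_or_odd' i
    · exact (h.mem_M_iff _).2 ⟨j, Or.inl rfl⟩
    · exfalso
      apply h.odd_pow_ne_one j
      rw [← orderOf_dvd_iff_pow_eq_one, ← ho, orderOf_dvd_iff_pow_eq_one]
      exact h.pow_eq_one_of_mem_M ha
  · exfalso
    rw [h.orderOf_even] at ho
    apply hn
    refine IsConj.trans ?_ (hab.trans (h.isConj_y_even i).symm)
    rcases h.involution_cases (h.M_le ha) ho with rfl | ⟨j, rfl⟩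
    · exact IsConj.refl _
    · exfalso
      apply h.y_notMem_M
      exact (mul_mem_cancel_left ((h.mem_M_iff _).2 ⟨j, Or.inl rfl⟩)).1 ha
  · exact (h.mem_M_iff _).2 ⟨i, Or.inr rfl⟩

end Inside

theorem _root_.CL.inv_mul_mem_of_relIndex_two {S W : Subgroup G} (hW : W.relIndex S = 2)
    (hf : ∀ a ∈ W, ∀ b ∈ S, IsConj a b → b ∈ W) {a b : G} (ha : a ∈ S) (hb : b ∈ S)
    (hab : IsConj a b) : a⁻¹ * b ∈ W := by
  have := mul_mem_iff_of_index_two (H := W.subgroupOf S) hW (a := ⟨a⁻¹, inv_mem ha⟩) (b := ⟨b, hb⟩)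
  simp only [mem_subgroupOf] at this
  refine this.2 ?_
  rw [inv_mem_iff]
  exact ⟨fun h => hf a h b hb hab, fun h => hf b h a ha hab.symm⟩

variable [Finite G] {S : Sylow 2 G} {e : ℕ} {x y : G}

/-- `|N(T) : C(T)|` is `2` if `z` and `y` are not fused and `6` if they are. -/
theorem four_index (h : IsQDData (S : Subgroup G) e x y) {T : Subgroup G} (hTS : T ≤ S)
    (hT : IsKleinFour T) :
    ((centralizer (T : Set G)).relIndex (normalizer (T : Set G)) = 2 ∧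
        ¬ IsConj (x ^ (4 * (e : ℤ))) y) ∨
      ((centralizer (T : Set G)).relIndex (normalizer (T : Set G)) = 6 ∧
        IsConj (x ^ (4 * (e : ℤ))) y) := by
  obtain ⟨i, hi⟩ := h.exists_four_data hTS hT
  have h' := h.of_even i
  rcases h'.four_relIndex_cases hi with ⟨h1, h2⟩ | ⟨h1, g, -, h2⟩
  · refine Or.inl ⟨h1, fun hc => ?_⟩
    obtain ⟨g, hg⟩ := isConj_iff.1 (hc.trans (h.isConj_y_even i))
    obtain ⟨c, hc, hle⟩ := exists_conj_le_sylow_of_conj_le S
      (H := centralizer {x ^ (4 * (e : ℤ))})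
      (fun s hs => mem_centralizer_singleton_iff.2 (h.commute_z hs))
      (isPGroup_of_isKleinFour hT) (g := g) (by
        intro t ht
        have hcomm := (hi.mem_centralizer_iff.1 ((haveI := hT.isMulCommutative;
          le_centralizer T) ht)).2
        rw [mem_centralizer_singleton_iff]
        rw [← hg] at hcomm
        calc g⁻¹ * t * g * x ^ (4 * (e : ℤ))
            = g⁻¹ * (t * (g * x ^ (4 * (e : ℤ)) * g⁻¹)) * g := by group
          _ = _ := by rw [← hcomm]; group)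
    obtain ⟨s, hs, hsT⟩ := h.exists_conj_four hle hTS (isKleinFour_map_conj hT _) hT
    rw [map_conj_map_conj] at hsT
    have hn := h2 _ (inv_mem (mem_normalizer_of_map_conj_eq hsT))
    apply h'.z_ne_y
    rw [← hg, ← hn]
    have hc' := mem_centralizer_singleton_iff.1 hc
    have hs' := h.commute_z (h.zpowers_le hs)
    calc (s * (c * g⁻¹))⁻¹ * x ^ (4 * (e : ℤ)) * (s * (c * g⁻¹))⁻¹⁻¹
        = g * c⁻¹ * s⁻¹ * (x ^ (4 * (e : ℤ)) * s) * c * g⁻¹ := by group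
      _ = g * c⁻¹ * (x ^ (4 * (e : ℤ)) * c) * g⁻¹ := by rw [← hs']; group
      _ = _ := by rw [← hc', hn]; group
  · exact Or.inr ⟨h1, (isConj_iff.2 ⟨g, h2⟩).trans (h.isConj_y_even i).symm⟩

/-- `|N(Q) : Q C(Q)|` is `2` if `u` and `x y` are not fused and `6` if they are. -/
theorem quat_index (h : IsQDData (S : Subgroup G) e x y) {Q : Subgroup G} (hQS : Q ≤ S)
    {a b : G} (hQ : IsQuatData Q 2 a b) :
    ((Q ⊔ centralizer (Q : Set G)).relIndex (normalizer (Q : Set G)) = 2 ∧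
        ¬ IsConj (x ^ (2 * (e : ℤ))) (x * y)) ∨
      ((Q ⊔ centralizer (Q : Set G)).relIndex (normalizer (Q : Set G)) = 6 ∧
        ∃ g ∈ normalizer (Q : Set G), IsConj (g * x ^ (2 * (e : ℤ)) * g⁻¹) (x * y) ∧
          g * x ^ (2 * (e : ℤ)) * g⁻¹ ∈ Q ∧ g * x ^ (2 * (e : ℤ)) * g⁻¹ ∉ zpowers x) := by
  obtain ⟨i, hi⟩ := h.exists_quat_data hQS hQ
  have h' := h.of_even i
  have hcj : IsConj (x * y) (x * (x ^ (2 * i) * y)) := by
    convert h.isConj_xy_odd i using 1; group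
  rcases h'.quat_relIndex_cases hi with ⟨h1, h2⟩ | ⟨h1, g, hg, h2⟩
  · refine Or.inl ⟨h1, fun hc => ?_⟩
    obtain ⟨g, hg⟩ := isConj_iff.1 (hc.trans hcj)
    have hfin : ∀ c : G, (c * x ^ (2 * (e : ℤ)) * c⁻¹ = x ^ (2 * (e : ℤ)) ∨
        c * x ^ (2 * (e : ℤ)) * c⁻¹ = (x ^ (2 * (e : ℤ)))⁻¹) →
        c ∈ normalizer (zpowers (x ^ (2 * (e : ℤ))) : Set G) := by
      intro c hc
      apply mem_normalizer_fintype
      intro t ht
      obtain ⟨l, rfl⟩ := mem_zpowers_iff.mp ht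
      rw [← conj_zpow]
      refine zpow_mem ?_ l
      rcases hc with h3 | h3 <;> rw [h3]
      · exact mem_zpowers _
      · exact inv_mem (mem_zpowers _)
    obtain ⟨c, hc, hle⟩ := exists_conj_le_sylow_of_conj_le S
      (H := normalizer (zpowers (x ^ (2 * (e : ℤ))) : Set G))
      (fun s hs => hfin s (h.conj_u_cases hs))
      (IsPGroup.of_card (n := 3) hQ.card8) (g := g) (by
        intro t ht
        apply hfin
        have h3 := hi.symm.conj_signs ht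
        rw [← hg] at h3
        rcases h3 with h3 | h3
        · left
          calc _ = g⁻¹ * (t * (g * x ^ (2 * (e : ℤ)) * g⁻¹) * t⁻¹) * g := by group
            _ = _ := by rw [h3]; group
        · right
          calc _ = g⁻¹ * (t * (g * x ^ (2 * (e : ℤ)) * g⁻¹) * t⁻¹) * g := by group
            _ = _ := by rw [h3]; group)
    obtain ⟨s, hs, hsT⟩ := h.exists_conj_quat hle hQS (hQ.map _ (MulAut.conj _).injective) hQ
    rw [map_conj_map_conj] at hsT
    have hn := hfin _ (h2 _ (inv_mem (mem_normalizer_of_map_conj_eq hsT)))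
    have hs' := hfin s (h.conj_u_cases (h.zpowers_le hs))
    have hgN : g ∈ normalizer (zpowers (x ^ (2 * (e : ℤ))) : Set G) := by
      have := mul_mem (mul_mem hn hs') hc
      rwa [show (s * (c * g⁻¹))⁻¹ * s * c = g by group] at this
    have := (mem_normalizer_iff.1 hgN _).1 (mem_zpowers _)
    rw [hg] at this
    exact hi.notMem this
  · exact Or.inr ⟨h1, g, hg, h2 ▸ hcj.symm, h2 ▸ hi.y_mem, h2 ▸ h'.xy_notMem⟩

theorem quat_index' (h : IsQDData (S : Subgroup G) e x y) {Q : Subgroup G} (hQS : Q ≤ S)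
    {a b : G} (hQ : IsQuatData Q 2 a b) :
    ((Q ⊔ centralizer (Q : Set G)).relIndex (normalizer (Q : Set G)) = 2 ∧
        ¬ IsConj (x ^ (2 * (e : ℤ))) (x * y)) ∨
      ((Q ⊔ centralizer (Q : Set G)).relIndex (normalizer (Q : Set G)) = 6 ∧
        IsConj (x ^ (2 * (e : ℤ))) (x * y)) := by
  rcases h.quat_index hQS hQ with h1 | ⟨h1, g, -, h2, -⟩
  · exact Or.inl h1
  · exact Or.inr ⟨h1, (isConj_iff.2 ⟨g, rfl⟩).trans h2⟩

theorem involution_isConj (h : IsQDData (S : Subgroup G) e x y) {g : G} (hg : orderOf g = 2) :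
    IsConj (x ^ (4 * (e : ℤ))) g ∨ IsConj y g := by
  obtain ⟨c, hc⟩ := exists_conj_mem_sylow S (k := 1) (g := g) (by simpa using hg)
  have h1 : IsConj g (c * g * c⁻¹) := isConj_iff.2 ⟨c, rfl⟩
  rcases h.involution_conj hc ((orderOf_eq_of_isConj' h1).symm.trans hg) with h2 | ⟨s, -, h2⟩
  · exact Or.inl (h2 ▸ h1.symm)
  · exact Or.inr ((isConj_iff.2 ⟨s, h2⟩).trans h1.symm)

theorem order_four_isConj (h : IsQDData (S : Subgroup G) e x y) {g : G} (hg : orderOf g = 4) :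
    IsConj (x ^ (2 * (e : ℤ))) g ∨ IsConj (x * y) g := by
  obtain ⟨c, hc⟩ := exists_conj_mem_sylow S (k := 2) (g := g) (by simpa using hg)
  have h1 : IsConj g (c * g * c⁻¹) := isConj_iff.2 ⟨c, rfl⟩
  rcases h.order_four_conj hc ((orderOf_eq_of_isConj' h1).symm.trans hg) with
    ⟨s, -, h2⟩ | ⟨s, -, h2⟩
  · exact Or.inl ((isConj_iff.2 ⟨s, h2⟩).trans h1.symm)
  · exact Or.inr ((isConj_iff.2 ⟨s, h2⟩).trans h1.symm)

theorem card_classes_two_of_isConj (h : IsQDData (S : Subgroup G) e x y)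
    (hc : IsConj (x ^ (4 * (e : ℤ))) y) :
    Nat.card {C : ConjClasses G // ∃ t : G, orderOf t = 2 ∧ ConjClasses.mk t = C} = 1 :=
  card_orderClasses_eq_one h.orderOf_z fun _ hg =>
    (h.involution_isConj hg).elim id fun h1 => hc.trans h1

theorem card_classes_two_of_not_isConj (h : IsQDData (S : Subgroup G) e x y)
    (hc : ¬ IsConj (x ^ (4 * (e : ℤ))) y) :
    Nat.card {C : ConjClasses G // ∃ t : G, orderOf t = 2 ∧ ConjClasses.mk t = C} = 2 :=
  card_orderClasses_eq_two h.orderOf_z h.orderOf_y hc fun _ hg => h.involution_isConj hg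

theorem card_classes_four_of_isConj (h : IsQDData (S : Subgroup G) e x y)
    (hc : IsConj (x ^ (2 * (e : ℤ))) (x * y)) :
    Nat.card {C : ConjClasses G // ∃ t : G, orderOf t = 4 ∧ ConjClasses.mk t = C} = 1 :=
  card_orderClasses_eq_one h.orderOf_u fun _ hg =>
    (h.order_four_isConj hg).elim id fun h1 => hc.trans h1

theorem card_classes_four_of_not_isConj (h : IsQDData (S : Subgroup G) e x y)
    (hc : ¬ IsConj (x ^ (2 * (e : ℤ))) (x * y)) :
    Nat.card {C : ConjClasses G // ∃ t : G, orderOf t = 4 ∧ ConjClasses.mk t = C} = 2 :=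
  card_orderClasses_eq_two h.orderOf_u h.orderOf_xy hc fun _ hg => h.order_four_isConj hg

theorem inf_pResidual_le_D (h : IsQDData (S : Subgroup G) e x y)
    (hn : ¬ IsConj (x ^ (2 * (e : ℤ))) (x * y)) :
    (S : Subgroup G) ⊓ pResidual 2 G ≤ closure ({x ^ 2, y} : Set G) :=
  inf_pResidual_le_of_forall S fun _ ha u _ hu =>
    inv_mul_mem_of_relIndex_two h.relIndex_D (fun _ h1 _ h2 h3 => h.mem_D_of_isConj hn h1 h2 h3)
      ha.1 hu (isConj_iff.2 ⟨u, rfl⟩)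

theorem inf_pResidual_le_M (h : IsQDData (S : Subgroup G) e x y)
    (hn : ¬ IsConj (x ^ (4 * (e : ℤ))) y) :
    (S : Subgroup G) ⊓ pResidual 2 G ≤ closure ({x ^ 2, x * y} : Set G) :=
  inf_pResidual_le_of_forall S fun _ ha u _ hu =>
    inv_mul_mem_of_relIndex_two h.relIndex_M (fun _ h1 _ h2 h3 => h.mem_M_of_isConj hn h1 h2 h3)
      ha.1 hu (isConj_iff.2 ⟨u, rfl⟩)

theorem D_le_pResidual (h : IsQDData (S : Subgroup G) e x y)
    (hc : IsConj (x ^ (4 * (e : ℤ))) y) : closure ({x ^ 2, y} : Set G) ≤ pResidual 2 G := by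
  obtain ⟨g, hg⟩ := isConj_iff.1 hc
  obtain ⟨s, hs, h1⟩ := exists_inv_mul_mem_pResidual S (x ^ (4 * (e : ℤ))) g
  rw [h.conj_z hs, hg, ← zpow_neg] at h1
  have h2 := h.sq_mem_of_normal
    (fun s _ n hn => (inferInstance : (pResidual 2 G).Normal).conj_mem n hn s) h1
  refine h.isDihData_D.le_of_mem h2 ?_
  exact (mul_mem_cancel_left (zpowers_le_of_mem h2
    (mem_zpowers_sq_iff.2 ⟨-(2 * e), by congr 1; ring⟩))).1 h1

theorem M_le_pResidual (h : IsQDData (S : Subgroup G) e x y)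
    (hc : IsConj (x ^ (2 * (e : ℤ))) (x * y)) :
    closure ({x ^ 2, x * y} : Set G) ≤ pResidual 2 G := by
  obtain ⟨g, hg⟩ := isConj_iff.1 hc
  obtain ⟨s, hs, h1⟩ := exists_inv_mul_mem_pResidual S (x ^ (2 * (e : ℤ))) g
  obtain ⟨l, hl⟩ : ∃ l : ℤ, (s * x ^ (2 * (e : ℤ)) * s⁻¹)⁻¹ = x ^ (2 * l) := by
    rcases h.conj_u_cases hs with h2 | h2 <;> rw [h2]
    · exact ⟨-e, by group⟩
    · exact ⟨e, by group⟩
  rw [hl, hg] at h1
  have h2 := h.sq_mem_of_normal (i := 2 * l + 1)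
    (fun s _ n hn => (inferInstance : (pResidual 2 G).Normal).conj_mem n hn s)
    (by convert h1 using 1; group)
  refine h.isQuatData_M.le_of_mem h2 ?_
  exact (mul_mem_cancel_left (zpowers_le_of_mem h2 (mem_zpowers_sq_iff.2 ⟨l, rfl⟩))).1 h1

theorem pResidual_eq_top (h : IsQDData (S : Subgroup G) e x y)
    (h1 : IsConj (x ^ (4 * (e : ℤ))) y) (h2 : IsConj (x ^ (2 * (e : ℤ))) (x * y)) :
    pResidual 2 G = ⊤ := by
  have hy := h.D_le_pResidual h1 h.isDihData_D.y_mem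
  have hxy := h.M_le_pResidual h2 h.isQuatData_M.y_mem
  exact pResidual_eq_top_of_sylow_le S (h.le_of_mem ((mul_mem_cancel_right hy).1 hxy) hy)

theorem inf_pResidual_eq_M (h : IsQDData (S : Subgroup G) e x y)
    (h1 : ¬ IsConj (x ^ (4 * (e : ℤ))) y) (h2 : IsConj (x ^ (2 * (e : ℤ))) (x * y)) :
    (S : Subgroup G) ⊓ pResidual 2 G = closure ({x ^ 2, x * y} : Set G) :=
  le_antisymm (h.inf_pResidual_le_M h1) (le_inf h.M_le (h.M_le_pResidual h2))

theorem inf_pResidual_eq_D (h : IsQDData (S : Subgroup G) e x y)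
    (h1 : IsConj (x ^ (4 * (e : ℤ))) y) (h2 : ¬ IsConj (x ^ (2 * (e : ℤ))) (x * y)) :
    (S : Subgroup G) ⊓ pResidual 2 G = closure ({x ^ 2, y} : Set G) :=
  le_antisymm (h.inf_pResidual_le_D h2) (le_inf h.D_le (h.D_le_pResidual h1))

theorem hasNormalPComplement (h : IsQDData (S : Subgroup G) e x y)
    (h1 : ¬ IsConj (x ^ (4 * (e : ℤ))) y) (h2 : ¬ IsConj (x ^ (2 * (e : ℤ))) (x * y)) :
    HasNormalPComplement 2 G := by
  refine hasNormalTwoComplement_of_isCyclic_inf S (Subgroup.isCyclic_of_le (H' := zpowers x) ?_)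
  intro g hg
  obtain ⟨i, rfl | rfl⟩ := (h.mem_D_iff g).1 (h.inf_pResidual_le_D h2 hg)
  · exact zpow_mem (mem_zpowers x) _
  · exact absurd ((mul_mem_cancel_left ((h.mem_M_iff _).2 ⟨i, Or.inl rfl⟩)).1
      (h.inf_pResidual_le_M h1 hg)) h.y_notMem_M

/-- If `O²(G) = G` then both fusions occur. -/
theorem isConj_of_pResidual_eq_top (h : IsQDData (S : Subgroup G) e x y)
    (ht : pResidual 2 G = ⊤) :
    IsConj (x ^ (4 * (e : ℤ))) y ∧ IsConj (x ^ (2 * (e : ℤ))) (x * y) := by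
  constructor
  · by_contra hn
    exact h.x_notMem_M (h.inf_pResidual_le_M hn ⟨h.x_mem, ht ▸ mem_top x⟩)
  · by_contra hn
    exact h.x_notMem_D (h.inf_pResidual_le_D hn ⟨h.x_mem, ht ▸ mem_top x⟩)

omit [Finite G] in
theorem conj_z_eq_of_not_isConj (h : IsQDData (S : Subgroup G) e x y)
    (hn : ¬ IsConj (x ^ (4 * (e : ℤ))) y) {g : G}
    (hg : g * x ^ (4 * (e : ℤ)) * g⁻¹ ∈ (S : Subgroup G)) :
    g * x ^ (4 * (e : ℤ)) * g⁻¹ = x ^ (4 * (e : ℤ)) := by
  have h1 : IsConj (x ^ (4 * (e : ℤ))) (g * x ^ (4 * (e : ℤ)) * g⁻¹) := isConj_iff.2 ⟨g, rfl⟩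
  rcases h.involution_conj hg ((orderOf_eq_of_isConj' h1).symm.trans h.orderOf_z) with
    h2 | ⟨s, -, h2⟩
  · exact h2
  · exact absurd (h1.trans (isConj_iff.2 ⟨s, h2⟩).symm) hn

omit [Finite G] in
theorem isWeaklyClosed_center (h : IsQDData (S : Subgroup G) e x y)
    (hn : ¬ IsConj (x ^ (4 * (e : ℤ))) y) :
    IsWeaklyClosed ((center (S : Subgroup G)).map (S : Subgroup G).subtype) (S : Subgroup G) := by
  rw [h.map_center_eq]
  refine ⟨zpowers_le_of_mem h.z_mem, fun g hg => ?_⟩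
  rw [MonoidHom.map_zpowers] at hg ⊢
  exact congrArg zpowers (h.conj_z_eq_of_not_isConj hn (hg (mem_zpowers _)))

end IsQDData

end CL
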