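import Cfsg.Agent.Base

/-!
# Counting conjugacy classes of elements with a given property from representatives
-/

set_option autoImplicit false

namespace CL.ClassCount

variable {G : Type*} [Group G]

theorem card_classes_eq_one (P : G → Prop) (a : G) (ha : P a) (h : ∀ t, P t → IsConj t a) :
    Nat.card {C : ConjClasses G // ∃ t : G, P t ∧ ConjClasses.mk t = C} = 1 := by
  have : {C : ConjClasses G | ∃ t : G, P t ∧ ConjClasses.mk t = C} = {ConjClasses.mk a} := by
    ext C
    simp only [Set.mem_ofPred_eq, Set.mem_singleton_iff]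
    constructor
    · rintro ⟨t, ht, rfl⟩
      exact ConjClasses.mk_eq_mk_iff_isConj.2 (h t ht)
    · rintro rfl
      exact ⟨a, ha, rfl⟩
  change Nat.card {C : ConjClasses G | ∃ t : G, P t ∧ ConjClasses.mk t = C} = 1
  rw [this, Nat.card_coe_set_eq, Set.ncard_singleton]

theorem card_classes_eq_two (P : G → Prop) (a b : G) (ha : P a) (hb : P b) (hab : ¬ IsConj a b)
    (h : ∀ t, P t → IsConj t a ∨ IsConj t b) :
    Nat.card {C : ConjClasses G // ∃ t : G, P t ∧ ConjClasses.mk t = C} = 2 := by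
  have : {C : ConjClasses G | ∃ t : G, P t ∧ ConjClasses.mk t = C} =
      {ConjClasses.mk a, ConjClasses.mk b} := by
    ext C
    simp only [Set.mem_ofPred_eq, Set.mem_insert_iff, Set.mem_singleton_iff]
    constructor
    · rintro ⟨t, ht, rfl⟩
      exact (h t ht).imp ConjClasses.mk_eq_mk_iff_isConj.2 ConjClasses.mk_eq_mk_iff_isConj.2
    · rintro (rfl | rfl)
      · exact ⟨a, ha, rfl⟩
      · exact ⟨b, hb, rfl⟩
  change Nat.card {C : ConjClasses G | ∃ t : G, P t ∧ ConjClasses.mk t = C} = 2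
  rw [this, Nat.card_coe_set_eq, Set.ncard_pair]
  exact fun h => hab (ConjClasses.mk_eq_mk_iff_isConj.1 h)

theorem card_classes_eq_three (P : G → Prop) (a b c : G) (ha : P a) (hb : P b) (hc : P c)
    (hab : ¬ IsConj a b) (hac : ¬ IsConj a c) (hbc : ¬ IsConj b c)
    (h : ∀ t, P t → IsConj t a ∨ IsConj t b ∨ IsConj t c) :
    Nat.card {C : ConjClasses G // ∃ t : G, P t ∧ ConjClasses.mk t = C} = 3 := by
  have : {C : ConjClasses G | ∃ t : G, P t ∧ ConjClasses.mk t = C} =
      {ConjClasses.mk a, ConjClasses.mk b, ConjClasses.mk c} := by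
    ext C
    simp only [Set.mem_ofPred_eq, Set.mem_insert_iff, Set.mem_singleton_iff]
    constructor
    · rintro ⟨t, ht, rfl⟩
      exact (h t ht).imp ConjClasses.mk_eq_mk_iff_isConj.2
        (Or.imp ConjClasses.mk_eq_mk_iff_isConj.2 ConjClasses.mk_eq_mk_iff_isConj.2)
    · rintro (rfl | rfl | rfl)
      · exact ⟨a, ha, rfl⟩
      · exact ⟨b, hb, rfl⟩
      · exact ⟨c, hc, rfl⟩
  change Nat.card {C : ConjClasses G | ∃ t : G, P t ∧ ConjClasses.mk t = C} = 3
  rw [this, Nat.card_coe_set_eq, Set.ncard_eq_three]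
  exact ⟨_, _, _, fun h => hab (ConjClasses.mk_eq_mk_iff_isConj.1 h),
    fun h => hac (ConjClasses.mk_eq_mk_iff_isConj.1 h),
    fun h => hbc (ConjClasses.mk_eq_mk_iff_isConj.1 h), rfl⟩

/-- If the number of classes with property `P` is one, any two elements with `P` are conjugate. -/
theorem isConj_of_card_classes_eq_one (P : G → Prop)
    (h : Nat.card {C : ConjClasses G // ∃ t : G, P t ∧ ConjClasses.mk t = C} = 1)
    (a b : G) (ha : P a) (hb : P b) : IsConj a b := by
  have := (Nat.card_eq_one_iff_unique.1 h).1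
  have h1 : (⟨ConjClasses.mk a, a, ha, rfl⟩ :
      {C : ConjClasses G // ∃ t : G, P t ∧ ConjClasses.mk t = C}) = ⟨ConjClasses.mk b, b, hb, rfl⟩ :=
    Subsingleton.elim _ _
  exact ConjClasses.mk_eq_mk_iff_isConj.1 (congrArg Subtype.val h1)

/-- every element of `p`-power order is conjugate into a given Sylow `p`-subgroup -/
theorem exists_conj_mem_sylow [Finite G] {p : ℕ} [Fact p.Prime] (S : Sylow p G) (t : G) (k : ℕ)
    (ht : orderOf t = p ^ k) : ∃ g : G, g * t * g⁻¹ ∈ S := by
  have h1 : IsPGroup p (Subgroup.zpowers t) := IsPGroup.of_card (by rw [Nat.card_zpowers, ht])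
  obtain ⟨Q, hQ⟩ := h1.exists_le_sylow
  obtain ⟨g, hg⟩ := MulAction.exists_smul_eq G Q S
  refine ⟨g, ?_⟩
  rw [← hg]
  exact ⟨t, hQ (Subgroup.mem_zpowers t), rfl⟩

end CL.ClassCount
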