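import Cfsg.Agent.TwoFus.WrLocal
import Cfsg.Agent.TwoFus.ClassCount

/-!
# Fusion in groups with a wreathed Sylow 2-subgroup (Alperin–Brauer–Gorenstein, II.1, Prop. 2)
-/

set_option autoImplicit false

namespace CL.Wr

open CL.Fus CL.Transfer Subgroup
open scoped Pointwise

theorem relIndex_eq_of_card {G : Type*} [Group G] {H K : Subgroup G} (h : H ≤ K) {a b : ℕ}
    (ha : a ≠ 0) (hH : Nat.card H = a) (hK : Nat.card K = a * b) : H.relIndex K = b := by
  have h1 := card_mul_index (H.subgroupOf K)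
  rw [Nat.card_congr (subgroupOfEquivOfLe h).toEquiv, hH, hK] at h1
  exact Nat.eq_of_mul_eq_mul_left (Nat.pos_of_ne_zero ha) h1

namespace Coord

section general

variable {G : Type*} [Group G] {S : Subgroup G} {n : ℕ} (c : Coord S n)

/-- a nontrivial odd automizer of `U` acts without fixed points -/
theorem eq_one_of_conj_eq_of_U {g : G} (hg : g ∈ normalizer (c.U : Set G)) (ho : Odd (orderOf g))
    (hg' : g ∉ centralizer (c.U : Set G)) {x : G} (hx : x ∈ c.U) (h : g * x * g⁻¹ = x) : x = 1 := by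
  have hφ := oddAut_conj hg ho
  have hp : IsPGroup 2 c.U := c.isPGroup.to_le c.U_le
  have hT : ∀ t ∈ c.T, g * t * g⁻¹ = t → t = 1 := by
    intro t ht h
    by_contra ht1
    refine hg' (c.mem_centralizer_U_of_odd hg ho ?_)
    refine hφ.fix_of_chain hp (K := fun x => x = 1 ∨ x = t) (H := (· ∈ c.T))
      (fun _ h => c.T_le_U h) ?_ ?_
      (fun x hx => (mem_normalizer_iff.1 (c.normalizer_U_le_normalizer_T hg) x).1 hx) ?_ c.hh_mem_T
    · rintro _ (rfl | rfl)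
      · exact one_mem _
      · exact c.T_le_U ht
    · rintro _ (rfl | rfl)
      · simp
      · exact h
    · intro x y hx hy hxK hyK
      have h3 := neg_hf c.one_le
      have h4 := hf_add_hf c.one_le
      have hh := hf_ne_zero c.one_le
      rcases c.mem_T_cases ht with rfl | rfl | rfl | rfl <;>
        rcases c.mem_T_cases hx with rfl | rfl | rfl | rfl <;>
        rcases c.mem_T_cases hy with rfl | rfl | rfl | rfl <;>
        simp_all [c.r_inv, c.r_mul_r, c.r_zero]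
  obtain ⟨j, hj⟩ := hp ⟨x, hx⟩
  replace hj : x ^ 2 ^ j = 1 := congrArg Subtype.val hj
  induction j generalizing x with
  | zero => simpa using hj
  | succ j ih =>
    have h1 := ih (c.U.pow_mem hx 2) (by rw [← conj_pow, h]) (by rw [← pow_mul, ← pow_succ', hj])
    exact hT x (c.mem_T.2 ⟨hx, by rw [← sq, h1]⟩) h

theorem exists_eq_inv_mul_conj_of_U {g : G} (hg : g ∈ normalizer (c.U : Set G))
    (ho : Odd (orderOf g)) (hg' : g ∉ centralizer (c.U : Set G)) {u : G} (hu : u ∈ c.U) :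
    ∃ x ∈ c.U, u = x⁻¹ * (g * x * g⁻¹) := by
  have : Finite c.U := Nat.finite_of_card_ne_zero (by rw [c.card_U]; positivity)
  let F : c.U → c.U := fun x =>
    ⟨x⁻¹ * (g * x * g⁻¹), mul_mem (inv_mem x.2) ((mem_normalizer_iff.1 hg x).1 x.2)⟩
  have hF : Function.Injective F := by
    intro x y h
    have h1 : (x : G)⁻¹ * (g * x * g⁻¹) = (y : G)⁻¹ * (g * y * g⁻¹) := congrArg Subtype.val h
    have h2 := c.eq_one_of_conj_eq_of_U hg ho hg' (mul_mem y.2 (inv_mem x.2)) (by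
      calc g * (y * (x : G)⁻¹) * g⁻¹
          = y * ((y : G)⁻¹ * (g * y * g⁻¹)) * ((x : G)⁻¹ * (g * x * g⁻¹))⁻¹ * (x : G)⁻¹ := by group
        _ = y * (x : G)⁻¹ := by rw [h1]; group)
    exact Subtype.ext (mul_inv_eq_one.1 h2).symm
  obtain ⟨x, hx⟩ := Finite.surjective_of_injective hF ⟨u, hu⟩
  exact ⟨x, x.2, (congrArg Subtype.val hx).symm⟩

theorem U_le_of_relIndex_two {g : G} (hg : g ∈ normalizer (c.U : Set G))
    (ho : Odd (orderOf g)) (hg' : g ∉ centralizer (c.U : Set G)) {M K : Subgroup G}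
    (h : M.relIndex K = 2) (hgK : g ∈ K) (hUK : c.U ≤ K) : c.U ≤ M := by
  intro u hu
  obtain ⟨x, hx, rfl⟩ := c.exists_eq_inv_mul_conj_of_U hg ho hg' hu
  exact inv_mul_conj_mem_of_relIndex_two h hgK (hUK hx)

theorem isConj_h0_zh : IsConj (c.r (hf n) 0) (c.r 0 (hf n)) :=
  isConj_iff.2 ⟨c.s 0 0, c.s_conj_r _ _ _ _⟩

theorem isConj_hh_of_not_UTriv (h : ¬ c.UTriv) : IsConj (c.r (hf n) (hf n)) (c.r (hf n) 0) := by
  unfold UTriv at h
  push Not at h
  obtain ⟨g, hg, ho, hg'⟩ := h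
  rcases c.mem_T_cases ((mem_normalizer_iff.1 (c.normalizer_U_le_normalizer_T hg) _).1 c.hh_mem_T)
    with h | h | h | h
  · exact absurd (conj_eq_one_iff.1 h) c.hh_ne_one
  · exact absurd (c.mem_centralizer_U_of_odd hg ho h) hg'
  · exact isConj_iff.2 ⟨g, h⟩
  · exact (isConj_iff.2 ⟨g, h⟩).trans c.isConj_h0_zh.symm

theorem conj_mem_Z_iff_of_mem_normalizer_V {d : ZMod (2 ^ n)} {g x : G}
    (hg : g ∈ normalizer (c.V d : Set G)) : g * x * g⁻¹ ∈ c.Z ↔ x ∈ c.Z :=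
  ⟨fun h => by simpa [mul_assoc] using c.conj_mem_Z_of_mem_normalizer_V (inv_mem hg) h,
    c.conj_mem_Z_of_mem_normalizer_V hg⟩

theorem conj_not_mem_U_of_V {d : ZMod (2 ^ n)} {g : G} (hg : g ∈ normalizer (c.V d : Set G))
    (ho : Odd (orderOf g)) (hg' : g ∉ centralizer (c.V d : Set G)) {x : G}
    (hxU : x ∈ c.U) (hxZ : x ∉ c.Z) : g * x * g⁻¹ ∉ c.U := by
  intro h
  refine hg' (c.mem_centralizer_V_of_odd hg ho fun y hy hyU => ?_)
  obtain ⟨a, b, hab⟩ := c.mem_U.1 h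
  have h1 : a ≠ b := fun h1 =>
    hxZ ((c.conj_mem_Z_iff_of_mem_normalizer_V hg).1 (hab ▸ c.r_mem_Z.2 h1))
  rcases c.cases (c.V_le d ((mem_normalizer_iff.1 hg y).1 hy)) with ⟨e, f, hef⟩ | ⟨e, f, hef⟩
  · rw [hef]; exact c.r_mem_U _ _
  · refine absurd (c.r_comm_s_iff.1 (?_ : c.r a b * c.s e f = c.s e f * c.r a b)) h1
    rw [← hab, ← hef]
    have := c.U_comm hxU hyU
    calc g * x * g⁻¹ * (g * y * g⁻¹) = g * (x * y) * g⁻¹ := by group
      _ = _ := by rw [this]; group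

theorem relIndex_C_V {d e : ZMod (2 ^ n)} (h : c.C e ≤ c.V d) : (c.C e).relIndex (c.V d) = 2 :=
  relIndex_eq_of_card h (by positivity) (c.card_C e) (by rw [c.card_V]; ring)

theorem relIndex_Z_C (e : ZMod (2 ^ n)) : c.Z.relIndex (c.C e) = 2 :=
  relIndex_eq_of_card (fun x hx => by
    obtain ⟨a, rfl⟩ := c.mem_Z.1 hx
    exact c.r_mem_C.2 rfl) (by positivity) c.card_Z (by rw [c.card_C]; ring)

/-- a nontrivial odd automizer of `V d` acts without fixed points on `V d / Z` -/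
theorem inv_mul_conj_not_mem_Z {d : ZMod (2 ^ n)} {g : G} (hg : g ∈ normalizer (c.V d : Set G))
    (ho : Odd (orderOf g)) (hg' : g ∉ centralizer (c.V d : Set G)) {x : G} (hx : x ∈ c.V d)
    (hxZ : x ∉ c.Z) : x⁻¹ * (g * x * g⁻¹) ∉ c.Z := by
  intro h
  have hφ := oddAut_conj hg ho
  have hp : IsPGroup 2 (c.V d) := c.isPGroup.to_le (c.V_le d)
  have hZ : ∀ z ∈ c.Z, g * z * g⁻¹ = z := fun z hz => c.conj_eq_of_odd_of_mem_Z hg ho hz
  have h1 : g * x * g⁻¹ = x := hφ.fix_of_trivial_mod hp hZ hx h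
  rcases c.cases (c.V_le d hx) with ⟨a, b, rfl⟩ | ⟨a, b, rfl⟩
  · exact c.conj_not_mem_U_of_V hg ho hg' (c.r_mem_U _ _) hxZ (h1.symm ▸ c.r_mem_U _ _)
  · have hC : c.C (a - b) ≤ c.V d := c.le_sub (c.C_le _)
      (fun e f h => c.r_mem_V.2 (Or.inl (sub_eq_zero.2 (c.r_mem_C.1 h))))
      (fun e f h => c.s_mem_V.2 (by rw [c.s_mem_C.1 h]; exact c.s_mem_V.1 hx))
    have hZC : c.Z ≤ c.C (a - b) := fun x hx => by
      obtain ⟨a, rfl⟩ := c.mem_Z.1 hx
      exact c.r_mem_C.2 rfl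
    have h2 : ∀ y ∈ c.C (a - b), g * y * g⁻¹ = y := fun y hy =>
      hφ.fix_of_relIndex_two hp hC hZC hZ (fun y hy => by
        refine c.mem_C_of_comm (c.V_le d (hφ.maps y (hC hy))) ?_
        have := c.C_comm hy (c.s_mem_C.2 rfl : c.s a b ∈ c.C (a - b))
        rw [← h1]
        calc g * y * g⁻¹ * (g * c.s a b * g⁻¹) = g * (y * c.s a b) * g⁻¹ := by group
          _ = _ := by rw [this]; group) (c.relIndex_Z_C _) hy
    exact hg' fun y hy => (mul_inv_eq_iff_eq_mul.1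
      (hφ.fix_of_relIndex_two hp le_rfl hC h2 hφ.maps (c.relIndex_C_V hC) hy)).symm

theorem isConj_s_of_add_eq {a b e f : ZMod (2 ^ n)} (h : a + b = e + f) :
    IsConj (c.s a b) (c.s e f) := by
  refine isConj_iff.2 ⟨c.r (e - a) 0, ?_⟩
  rw [c.r_conj_s]
  congr 1
  · ring
  · linear_combination h

theorem h0_not_mem_Z : c.r (hf n) 0 ∉ c.Z := fun h => hf_ne_zero c.one_le (c.r_mem_Z.1 h)

theorem isConj_h0_of_not_VTriv (h : ¬ c.VTriv) : IsConj (c.r (hf n) 0) (c.s 0 0) := by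
  obtain ⟨g, hg, ho, hg'⟩ := c.exists_of_not_VTriv h 0
  have h1 := c.conj_not_mem_U_of_V hg ho hg' (c.r_mem_U _ _) c.h0_not_mem_Z
  have h2 : IsConj (c.r (hf n) 0) (g * c.r (hf n) 0 * g⁻¹) := isConj_iff.2 ⟨g, rfl⟩
  have h3 := orderOf_eq_of_isConj' h2
  rw [c.orderOf_r_eq_two_iff.2 (by simp)] at h3
  rcases c.cases (c.V_le _ ((mem_normalizer_iff.1 hg _).1 (c.r_mem_V.2 (by simp) :
    c.r (hf n) 0 ∈ c.V (0 + 0)))) with ⟨e, f, hef⟩ | ⟨e, f, hef⟩
  · exact absurd (hef ▸ c.r_mem_U _ _) h1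
  · rw [hef] at h2 h3
    exact h2.trans (c.isConj_s_of_add_eq (by rw [c.orderOf_s_eq_two_iff.1 h3.symm]; simp))

theorem qt_not_mem_Z : c.r (qt n) (-qt n) ∉ c.Z := fun h =>
  hf_ne_zero c.one_le (by linear_combination c.r_mem_Z.1 h - qt_add_qt c.two_le)

theorem Q_le_of_mem {k : ZMod (2 ^ n)} {M : Subgroup G} {a b : ZMod (2 ^ n)}
    (hs : c.s a b ∈ c.Q (k + k)) (hsM : c.s a b ∈ M) {x : G} (hx : x ∈ c.Q (k + k))
    (hxU : x ∈ c.U) (hxZ : x ∉ c.Z) (hxM : x ∈ M) : c.Q (k + k) ≤ M := by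
  have h1 := c.one_le
  have hq := qt_add_qt c.two_le
  have h4 := hf_add_hf h1
  have hqM : c.r (qt n) (-qt n) ∈ M := by
    obtain ⟨e, f, rfl⟩ := c.mem_U.1 hxU
    obtain ⟨h2, h3⟩ := c.r_mem_Q.1 hx
    have h5 : e - f = hf n := ((add_self_eq_zero_iff' h1 _).1 h3).resolve_left
      (fun h => hxZ (c.r_mem_Z.2 (sub_eq_zero.1 h)))
    rcases (add_self_eq_add_self_iff h1 e (qt n)).1 (by linear_combination h2 + h5 - hq) with h | h
    · convert hxM using 2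
      · exact h.symm
      · linear_combination h - h2
    · have := M.inv_mem hxM
      rw [c.r_inv] at this
      convert this using 2
      · linear_combination h + hq + h4
      · linear_combination h2 - h - hq - h4
  have hr : ∀ e f, c.r e f ∈ c.Q (k + k) → c.r e f ∈ M := by
    intro e f hef
    obtain ⟨h2, h3⟩ := c.r_mem_Q.1 hef
    obtain ⟨j, hj⟩ := exists_natCast_mul_qt c.two_le (u := e) (by linear_combination h3 + 2 * h2)
    have := M.pow_mem hqM j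
    rw [c.r_pow] at this
    convert this using 2
    linear_combination h2 - hj
  refine c.le_sub (c.Q_le _) hr (fun e f hef => ?_)
  have h5 := mul_mem hef (inv_mem hs)
  rw [← M.mul_mem_cancel_right (inv_mem hsM)]
  rw [c.s_inv, c.s_mul_s] at h5 ⊢
  exact hr _ _ h5

theorem Q_le_of_relIndex_two {k : ZMod (2 ^ n)} {g : G}
    (hg : g ∈ normalizer (c.V (k + k) : Set G)) (ho : Odd (orderOf g))
    (hg' : g ∉ centralizer (c.V (k + k) : Set G)) {M K : Subgroup G}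
    (h : M.relIndex K = 2) (hgK : g ∈ K) (hQK : c.Q (k + k) ≤ K) : c.Q (k + k) ≤ M := by
  have hx := c.qt_mem_Q (k + k)
  have hy := c.conj_mem_Q_of_mem_normalizer_V hg hx
  have hyU := c.conj_not_mem_U_of_V hg ho hg' (c.r_mem_U _ _) c.qt_not_mem_Z
  have hw := mul_mem (inv_mem hx) hy
  have hwM := inv_mul_conj_mem_of_relIndex_two h hgK (hQK hx)
  have hwU : (c.r (qt n) (-qt n))⁻¹ * (g * c.r (qt n) (-qt n) * g⁻¹) ∉ c.U := by
    rwa [c.U.mul_mem_cancel_left (inv_mem (c.r_mem_U _ _))]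
  generalize (c.r (qt n) (-qt n))⁻¹ * (g * c.r (qt n) (-qt n) * g⁻¹) = w at hw hwM hwU
  rcases c.cases (c.Q_le _ hw) with ⟨a, b, rfl⟩ | ⟨a, b, rfl⟩
  · exact absurd (c.r_mem_U _ _) hwU
  have hw' := c.conj_mem_Q_of_mem_normalizer_V hg hw
  have hw'M := (conj_mem_of_relIndex_two h hgK (hQK hw)).2 hwM
  by_cases hU : g * c.s a b * g⁻¹ ∈ c.U
  · exact c.Q_le_of_mem hw hwM hw' hU
      (fun h => c.s_not_mem_Z _ _ ((c.conj_mem_Z_iff_of_mem_normalizer_V hg).1 h)) hw'M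
  · refine c.Q_le_of_mem hw hwM (mul_mem (inv_mem hw) hw') ?_
      (c.inv_mul_conj_not_mem_Z hg ho hg' (c.Q_le_V _ hw) (c.s_not_mem_Z _ _))
      (mul_mem (inv_mem hwM) hw'M)
    exact (mul_mem_iff_of_relIndex_two c.relIndex_U (inv_mem (c.s_mem _ _)) (c.Q_le _ hw')).2
      (iff_of_false (by rw [inv_mem_iff]; exact c.s_not_mem_U _ _) hU)

theorem Y_le_of_Q_le {M : Subgroup G} (h0 : c.Q (0 + 0) ≤ M) (h1 : c.Q (1 + 1) ≤ M) : c.Y ≤ M := by
  have h2 := h0 (c.s_qt_mem_Q 0)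
  have h3 := mul_mem (h1 (c.s_qt_mem_Q 1)) (inv_mem h2)
  rw [c.s_inv, c.s_mul_s] at h3
  have h4 : c.D ≤ M := by
    rw [c.D_eq_zpowers, zpowers_le]
    convert h3 using 2 <;> ring
  refine c.le_sub c.Y_le (fun a b h => h4 (c.r_mem_D.2 (c.r_mem_Y.1 h))) (fun a b h => ?_)
  rw [← M.mul_mem_cancel_right (inv_mem h2), c.s_inv, c.s_mul_s]
  exact h4 (c.r_mem_D.2 (by linear_combination c.s_mem_Y.1 h - qt_add_qt c.two_le))

theorem D_le_Y : c.D ≤ c.Y := c.le_sub c.D_le (fun _ _ h => c.r_mem_Y.2 (c.r_mem_D.1 h))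
  (fun _ _ h => absurd h (c.s_not_mem_D _ _))

theorem relIndex_Y : c.Y.relIndex S = 2 ^ n :=
  relIndex_eq_of_card c.Y_le (by positivity) c.card_Y (by rw [c.card_S]; ring)

theorem le_of_U_le_of_s_mem {M : Subgroup G} (hU : c.U ≤ M) {a b : ZMod (2 ^ n)}
    (hs : c.s a b ∈ M) : S ≤ M := by
  refine c.le_sub le_rfl (fun _ _ _ => hU (c.r_mem_U _ _)) (fun e f _ => ?_)
  rw [← M.mul_mem_cancel_right hs, c.s_mul_s]
  exact hU (c.r_mem_U _ _)

end general

section sylow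

variable {G : Type*} [Group G] [Finite G] {S : Sylow 2 G} {n : ℕ} (c : Coord (S : Subgroup G) n)

theorem involution_conj_cases {t : G} (ht : orderOf t = 2) :
    IsConj t (c.r (hf n) (hf n)) ∨ IsConj t (c.r (hf n) 0) ∨ IsConj t (c.s 0 0) := by
  obtain ⟨g, hg⟩ := ClassCount.exists_conj_mem_sylow S t 1 (by simpa using ht)
  have h1 : IsConj t (g * t * g⁻¹) := isConj_iff.2 ⟨g, rfl⟩
  rw [orderOf_eq_of_isConj' h1] at ht
  generalize g * t * g⁻¹ = u at hg h1 ht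
  rcases c.cases hg with ⟨a, b, rfl⟩ | ⟨a, b, rfl⟩
  · rcases c.orderOf_r_eq_two_iff.1 ht with ⟨rfl, rfl⟩ | ⟨rfl, rfl⟩ | ⟨rfl, rfl⟩
    · exact Or.inr (Or.inl h1)
    · exact Or.inr (Or.inl (h1.trans c.isConj_h0_zh.symm))
    · exact Or.inl h1
  · exact Or.inr (Or.inr (h1.trans (c.isConj_s_of_add_eq
      (by rw [c.orderOf_s_eq_two_iff.1 ht]; simp))))

/-- if `U` has no odd automizer, the elements of `Z` are not fused -/
theorem conj_eq_of_UTriv (hU : c.UTriv) {z g : G} (hz : z ∈ c.Z)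
    (hg : g * z * g⁻¹ ∈ (S : Subgroup G)) : g * z * g⁻¹ = z := by
  have key : ∀ x a : G, x * z * x⁻¹ = z → ((x * a * x⁻¹ = z) = (a = z)) := by
    intro x a h
    apply propext
    nth_rewrite 1 [← h]
    simp
  have := c.fusion_invariant (fun x => x = z)
    (fun s hs a _ => key s a (by rw [← c.Z_comm hz hs]; group))
    (fun g hg ho a _ => key g a (by rw [← hU g hg ho z (c.Z_le_U hz)]; group))
    (fun k g hg ho a _ => key g a (c.conj_eq_of_odd_of_mem_Z hg ho hz)) z g (c.Z_le hz) hg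
  simpa using this

/-- if `V` has no odd automizer, `U` is strongly closed -/
theorem conj_mem_U_iff_of_VTriv (hV : c.VTriv) {a g : G} (ha : a ∈ (S : Subgroup G))
    (hg : g * a * g⁻¹ ∈ (S : Subgroup G)) : g * a * g⁻¹ ∈ c.U ↔ a ∈ c.U := by
  have := c.fusion_invariant (fun x => x ∈ c.U)
    (fun s hs a _ => propext (mem_normalizer_iff.1 (c.le_normalizer_U hs) a).symm)
    (fun g hg _ a _ => propext (mem_normalizer_iff.1 hg a).symm)
    (fun k g hg ho a ha => by rw [← hV k g hg ho a ha]; simp) a g ha hg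
  exact this ▸ Iff.rfl

/-- if `U` has no odd automizer, the focal subgroup lies in `Y` -/
theorem inv_mul_conj_mem_Y_of_UTriv (hU : c.UTriv) {a g : G} (ha : a ∈ (S : Subgroup G))
    (hg : g * a * g⁻¹ ∈ (S : Subgroup G)) : a⁻¹ * (g * a * g⁻¹) ∈ c.Y := by
  refine QuotientGroup.eq.1 (c.fusion_invariant (fun x => (x : G ⧸ c.Y)) (fun s hs a ha => ?_)
    (fun g hg ho a ha => by rw [← hU g hg ho a ha]; simp) (fun k g hg ho a ha => ?_) a g ha hg).symm
  · refine (QuotientGroup.eq.2 (c.D_le_Y ?_)).symm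
    simpa [mul_assoc] using c.commutator_mem_D (inv_mem ha) hs
  · obtain ⟨y, hy, z, hz, rfl⟩ := c.exists_Q_mul_Z k ha
    refine (QuotientGroup.eq.2 ?_).symm
    have h1 := c.conj_eq_of_odd_of_mem_Z hg ho hz
    have h2 := c.conj_mem_Y (inv_mem (c.Z_le hz))
      (mul_mem (inv_mem (c.Q_le_Y _ hy)) (c.Q_le_Y _ (c.conj_mem_Q_of_mem_normalizer_V hg hy)))
    convert h2 using 1
    calc (y * z)⁻¹ * (g * (y * z) * g⁻¹) = z⁻¹ * y⁻¹ * (g * y * g⁻¹) * (g * z * g⁻¹) := by group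
      _ = _ := by rw [h1]; group

theorem index_ne_two_of_not_of_not (hU : ¬ c.UTriv) (hV : ¬ c.VTriv) (H : Subgroup G) :
    H.index ≠ 2 := by
  intro h
  rw [← relIndex_top_right] at h
  unfold UTriv at hU
  push Not at hU
  obtain ⟨g, hg, ho, hg'⟩ := hU
  obtain ⟨x, hx, hxo, hx'⟩ := c.exists_of_not_VTriv hV 0
  have h1 := c.le_of_U_le_of_s_mem (c.U_le_of_relIndex_two hg ho hg' h (mem_top _) le_top)
    (c.Q_le_of_relIndex_two hx hxo hx' h (mem_top _) le_top (c.s_qt_mem_Q 0))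
  rw [relIndex_top_right] at h
  exact S.not_dvd_index (h.symm.dvd.trans (index_dvd_of_le h1))

theorem isConj_of_not_of_not (hU : ¬ c.UTriv) (hV : ¬ c.VTriv) {t : G} (ht : orderOf t = 2) :
    IsConj t (c.r (hf n) (hf n)) := by
  have h1 := c.isConj_hh_of_not_UTriv hU
  have h2 := c.isConj_h0_of_not_VTriv hV
  rcases c.involution_conj_cases ht with h | h | h
  · exact h
  · exact h.trans h1.symm
  · exact h.trans (h1.trans h2).symm

theorem exists_normal_of_UTriv (hU : c.UTriv) :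
    ∃ K : Subgroup G, K.Normal ∧ (S : Subgroup G) ⊓ K = c.Y ∧ K.index = 2 ^ n ∧
      commutator G ≤ K := by
  obtain ⟨K, h1, h2, h3, h4⟩ := exists_normal_inf_eq_of_focal S c.Y c.Y_le
    (fun x hx g hg => c.inv_mul_conj_mem_Y_of_UTriv hU hx hg)
  exact ⟨K, h1, h2, h3.trans c.relIndex_Y, h4⟩

theorem exists_normal_of_VTriv (hV : c.VTriv) :
    ∃ K : Subgroup G, K.Normal ∧ (S : Subgroup G) ⊓ K = c.U ∧ K.index = 2 := by
  obtain ⟨K, h1, h2, h3, -⟩ := exists_normal_inf_eq_of_focal S c.U c.U_le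
    (fun x hx g hg => (mul_mem_iff_of_relIndex_two c.relIndex_U (inv_mem hx) hg).2
      (by rw [inv_mem_iff, c.conj_mem_U_iff_of_VTriv hV hx hg]))
  exact ⟨K, h1, h2, h3.trans c.relIndex_U⟩

theorem exists_Qgroup_of_UTriv (hU : c.UTriv) (hV : ¬ c.VTriv) :
    ∃ K : Subgroup G, K.Normal ∧ (S : Subgroup G) ⊓ K = c.Y ∧ K.index = 2 ^ n ∧
      (∀ P : Sylow 2 K, ∃ m : ℕ, 1 ≤ m ∧ Nonempty ((P : Subgroup K) ≃* QuaternionGroup (2 ^ m))) ∧
      (∀ H : Subgroup K, H.index ≠ 2) := by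
  obtain ⟨K, h1, h2, h3, -⟩ := c.exists_normal_of_UTriv hU
  have hY : IsSylowIn 2 c.Y K := h2 ▸ isSylowIn_inf_normal S K
  refine ⟨K, h1, h2, h3, fun P => ⟨n - 1, by have := c.two_le; omega, ?_⟩,
    index_ne_two_of_sylow_le hY fun M _ hM => ?_⟩
  · obtain ⟨e⟩ := nonempty_sylow_equiv hY P
    obtain ⟨e'⟩ := c.Y_quaternion
    exact ⟨e.trans e'⟩
  · have key : ∀ k, c.Q (k + k) ≤ M := by
      intro k
      obtain ⟨x, hx, hxo, hx'⟩ := c.exists_of_not_VTriv hV k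
      exact c.Q_le_of_relIndex_two hx hxo hx' hM (mem_of_odd_of_index_eq_pow K h3 hxo)
        ((c.Q_le_Y _).trans hY.le)
    exact c.Y_le_of_Q_le (key 0) (key 1)

theorem isWeaklyClosed_of_UTriv (hU : c.UTriv) {Z₀ : Subgroup G} (h : Z₀ ≤ c.Z) :
    Cfsg.IsWeaklyClosed Z₀ (S : Subgroup G) := by
  refine ⟨h.trans c.Z_le, fun g hg => ?_⟩
  refine eq_of_le_of_card_ge ?_ (card_conj_smul g Z₀).ge
  rintro _ ⟨z, hz, rfl⟩
  have := c.conj_eq_of_UTriv hU (h hz) (hg ⟨z, hz, rfl⟩)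
  change g * z * g⁻¹ ∈ Z₀
  rwa [this]

theorem not_isConj_hh_of_UTriv (hU : c.UTriv) {x : G} (hx : x ∈ (S : Subgroup G))
    (hx' : x ≠ c.r (hf n) (hf n)) : ¬ IsConj (c.r (hf n) (hf n)) x := by
  rw [isConj_iff]
  rintro ⟨g, rfl⟩
  exact hx' (c.conj_eq_of_UTriv hU c.hh_mem_Z hx)

theorem not_isConj_r_s_of_VTriv (hV : c.VTriv) (a b e f : ZMod (2 ^ n)) :
    ¬ IsConj (c.r a b) (c.s e f) := by
  rw [isConj_iff]
  rintro ⟨g, hg⟩
  exact c.s_not_mem_U _ _ (hg ▸ (c.conj_mem_U_iff_of_VTriv hV (c.r_mem _ _)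
    (hg ▸ c.s_mem _ _)).2 (c.r_mem_U _ _))

theorem exists_index_two_of_VTriv (hU : ¬ c.UTriv) (hV : c.VTriv) :
    ∃ K : Subgroup G, K.Normal ∧ (S : Subgroup G) ⊓ K = c.U ∧ K.index = 2 ∧
      (∀ H : Subgroup K, H.index ≠ 2) := by
  obtain ⟨K, h1, h2, h3⟩ := c.exists_normal_of_VTriv hV
  have hY : IsSylowIn 2 c.U K := h2 ▸ isSylowIn_inf_normal S K
  refine ⟨K, h1, h2, h3, index_ne_two_of_sylow_le hY fun M _ hM => ?_⟩
  unfold UTriv at hU
  push Not at hU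
  obtain ⟨g, hg, ho, hg'⟩ := hU
  exact c.U_le_of_relIndex_two hg ho hg' hM
    (mem_of_odd_of_index_eq_pow K (k := 1) (by simpa using h3) ho) hY.le

theorem hasNormalPComplement_of_UTriv_of_VTriv (hU : c.UTriv) (hV : c.VTriv) :
    Cfsg.HasNormalPComplement 2 G := by
  refine hasNormalPComplement_of_essential S fun D hD g hg ho => ?_
  have ho' := Nat.coprime_two_right.1 ho
  have h1 : D ≤ S ∧ (S : Subgroup G) ⊓ centralizer (D : Set G) ≤ D := by
    rcases hD with rfl | hD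
    · exact ⟨le_rfl, inf_le_left⟩
    · exact ⟨hD.1.1, hD.inf_centralizer_le⟩
  rcases c.oddAut_cases h1.1 h1.2 (oddAut_conj hg ho') with h | rfl | ⟨k, rfl⟩
  · exact fun x hx => (mul_inv_eq_iff_eq_mul.1 (h x hx)).symm
  · exact hU g hg ho'
  · exact hV k g hg ho'

theorem card_classes_of_not_of_not (hU : ¬ c.UTriv) (hV : ¬ c.VTriv) :
    Nat.card {C : ConjClasses G // ∃ t : G, orderOf t = 2 ∧ ConjClasses.mk t = C} = 1 :=
  ClassCount.card_classes_eq_one (fun t => orderOf t = 2) (c.r (hf n) (hf n))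
    (c.orderOf_r_eq_two_iff.2 (by simp)) (fun _ ht => c.isConj_of_not_of_not hU hV ht)

theorem card_classes_of_UTriv_of_not (hU : c.UTriv) (hV : ¬ c.VTriv) :
    Nat.card {C : ConjClasses G // ∃ t : G, orderOf t = 2 ∧ ConjClasses.mk t = C} = 2 := by
  refine ClassCount.card_classes_eq_two (fun t => orderOf t = 2) (c.r (hf n) (hf n)) (c.s 0 0)
    (c.orderOf_r_eq_two_iff.2 (by simp)) (c.orderOf_s_eq_two_iff.2 (by simp))
    (c.not_isConj_hh_of_UTriv hU (c.s_mem _ _) (c.s_ne_r _ _ _ _)) (fun t ht => ?_)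
  rcases c.involution_conj_cases ht with h | h | h
  · exact Or.inl h
  · exact Or.inr (h.trans (c.isConj_h0_of_not_VTriv hV))
  · exact Or.inr h

theorem card_classes_of_not_of_VTriv (hU : ¬ c.UTriv) (hV : c.VTriv) :
    Nat.card {C : ConjClasses G // ∃ t : G, orderOf t = 2 ∧ ConjClasses.mk t = C} = 2 := by
  refine ClassCount.card_classes_eq_two (fun t => orderOf t = 2) (c.r (hf n) (hf n)) (c.s 0 0)
    (c.orderOf_r_eq_two_iff.2 (by simp)) (c.orderOf_s_eq_two_iff.2 (by simp))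
    (c.not_isConj_r_s_of_VTriv hV _ _ _ _) (fun t ht => ?_)
  rcases c.involution_conj_cases ht with h | h | h
  · exact Or.inl h
  · exact Or.inl (h.trans (c.isConj_hh_of_not_UTriv hU).symm)
  · exact Or.inr h

theorem card_classes_of_UTriv_of_VTriv (hU : c.UTriv) (hV : c.VTriv) :
    Nat.card {C : ConjClasses G // ∃ t : G, orderOf t = 2 ∧ ConjClasses.mk t = C} = 3 :=
  ClassCount.card_classes_eq_three (fun t => orderOf t = 2) (c.r (hf n) (hf n)) (c.r (hf n) 0)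
    (c.s 0 0) (c.orderOf_r_eq_two_iff.2 (by simp)) (c.orderOf_r_eq_two_iff.2 (by simp))
    (c.orderOf_s_eq_two_iff.2 (by simp))
    (c.not_isConj_hh_of_UTriv hU (c.r_mem _ _)
      (fun h => hf_ne_zero c.one_le (c.r_inj.1 h).2.symm))
    (c.not_isConj_r_s_of_VTriv hV _ _ _ _) (c.not_isConj_r_s_of_VTriv hV _ _ _ _)
    (fun _ ht => c.involution_conj_cases ht)

end sylow

end Coord

end CL.Wr
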