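import Cfsg.Agent.TwoFus.DihFus
import Cfsg.Agent.TwoFus.QDFus
import Cfsg.Agent.TwoFus.WrFusion
import Cfsg.Agent.TwoFus.GL2Syl
import Cfsg.Agent.Solv.PiCore
import Cfsg.Agent.Solv.MinNormal

/-!
# Groups with quasi-dihedral or wreathed Sylow 2-subgroups: common features

`QDW S z` collects what the two families share.  We deduce: one class of involutions when there is
no subgroup of index two, the centralizer of an involution is then a `Q`-group, and `G/O(G)` has a
simple normal subgroup of odd index.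
-/

set_option autoImplicit false

open Cfsg Subgroup

namespace CL.Wr.Coord

variable {G : Type*} [Group G] {S : Subgroup G} {n : ℕ} (c : Coord S n)

theorem z_eq_s : c.z = c.s 0 0 := by rw [s, c.r_zero, one_mul]

theorem z_mem : c.z ∈ S := c.z_eq_s ▸ c.s_mem 0 0

/-- Coordinates restrict to an intermediate subgroup. -/
def subgroupOf {H : Subgroup G} (hSH : S ≤ H) : Coord (S.subgroupOf H) n where
  two_le := c.two_le
  r a b := ⟨c.r a b, hSH (c.r_mem a b)⟩
  z := ⟨c.z, hSH c.z_mem⟩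
  r_mul_r' a b e f := Subtype.ext (c.r_mul_r a b e f)
  r_inj' _ _ _ _ h := c.r_inj.1 (congrArg Subtype.val h)
  z_mul_z' := Subtype.ext c.z_mul_z'
  z_mul_r' a b := Subtype.ext (c.z_mul_r' a b)
  mem_iff' g := by
    rw [mem_subgroupOf, c.mem_iff']
    simp only [Subtype.ext_iff, Subgroup.coe_mul]

theorem subgroupOf_r {H : Subgroup G} (hSH : S ≤ H) (a b : ZMod (2 ^ n)) :
    ((c.subgroupOf hSH).r a b : G) = c.r a b := rfl

theorem subgroupOf_s {H : Subgroup G} (hSH : S ≤ H) (a b : ZMod (2 ^ n)) :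
    ((c.subgroupOf hSH).s a b : G) = c.s a b := rfl

theorem subgroupOf_V {H : Subgroup G} (hSH : S ≤ H) (d : ZMod (2 ^ n)) :
    (c.subgroupOf hSH).V d = (c.V d).subgroupOf H := by
  refine (c.subgroupOf hSH).ext_sub ((c.subgroupOf hSH).V_le d) (subgroupOf_mono H (c.V_le d))
    (fun a b => ?_) (fun a b => ?_)
  · rw [r_mem_V, mem_subgroupOf, subgroupOf_r, r_mem_V]
  · rw [s_mem_V, mem_subgroupOf, subgroupOf_s, s_mem_V]

theorem eq_closure : S = closure ({c.r 1 0, c.s 0 0} : Set G) := by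
  apply le_antisymm
  · have h1 : c.r 1 0 ∈ closure ({c.r 1 0, c.s 0 0} : Set G) := subset_closure (by simp)
    have h2 : c.s 0 0 ∈ closure ({c.r 1 0, c.s 0 0} : Set G) := subset_closure (by simp)
    have h3 : c.r 0 1 ∈ closure ({c.r 1 0, c.s 0 0} : Set G) := by
      rw [← c.s_conj_r 0 0 1 0]
      exact mul_mem (mul_mem h2 h1) (inv_mem h2)
    refine c.le_of_U_le_of_s_mem (fun g hg => ?_) h2
    obtain ⟨a, b, rfl⟩ := c.mem_U.1 hg
    have : c.r a b = c.r 1 0 ^ a.val * c.r 0 1 ^ b.val := by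
      rw [c.r_pow, c.r_pow, c.r_mul_r]; simp
    rw [this]
    exact mul_mem (pow_mem h1 _) (pow_mem h3 _)
  · rw [closure_le]
    rintro _ (rfl | rfl)
    · exact c.r_mem _ _
    · exact c.s_mem _ _

theorem UTriv_of_forall (h : ∀ g ∈ normalizer (c.U : Set G),
    g * c.r (hf n) (hf n) * g⁻¹ = c.r (hf n) (hf n)) : c.UTriv :=
  fun g hg ho => c.mem_centralizer_U_of_odd hg ho (h g hg)

/-- A nontrivial odd automizer of `V` lives in the centralizer of the central involution. -/
theorem not_VTriv_subgroupOf (hV : ¬ c.VTriv) {H : Subgroup G} (hSH : S ≤ H)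
    (hH : centralizer ({c.r (hf n) (hf n)} : Set G) ≤ H) : ¬ (c.subgroupOf hSH).VTriv := by
  obtain ⟨g, hg, ho, hg'⟩ := c.exists_of_not_VTriv hV 0
  have hgH : g ∈ H := hH (by
    rw [mem_centralizer_singleton_iff]
    have := c.conj_eq_of_odd_of_mem_Z hg ho c.hh_mem_Z
    rw [← this, inv_mul_cancel_right, this])
  intro h
  have h1 := h 0 ⟨g, hgH⟩ (by
    rw [subgroupOf_V, ← subgroupOf_normalizer_eq ((c.V_le _).trans hSH)]
    exact hg) (by rwa [Subgroup.orderOf_mk])
  rw [subgroupOf_V] at h1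
  exact hg' fun v hv => congrArg Subtype.val (h1 ⟨v, hSH (c.V_le _ hv)⟩ hv)

end CL.Wr.Coord

namespace CL.TF

open CL.Wr CL.Transfer

variable {G : Type*} [Group G]

/-- Common features of quasi-dihedral and wreathed `2`-groups; `z` is the central involution. -/
structure QDW (S : Subgroup G) (z : G) : Prop where
  mem : z ∈ S
  ord : orderOf z = 2
  comm : ∀ s ∈ S, s * z = z * s
  uniq : ∀ w ∈ S, orderOf w = 2 → (∀ t ∈ S, orderOf t = 2 → w * t = t * w) → w = z
  noncomm : ∃ a ∈ S, ∃ b ∈ S, orderOf a = 2 ∧ orderOf b = 2 ∧ a * b ≠ b * a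
  gen : ∃ x ∈ S, ∃ y ∈ S, orderOf y = 2 ∧ S = closure ({x, y} : Set G)

theorem _root_.CL.IsQDData.even_not_comm {S : Subgroup G} {e : ℕ} {x y : G}
    (h : IsQDData S e x y) (i : ℤ) :
    x ^ (2 * i) * y * (x ^ (2 * (i + 1)) * y) ≠ x ^ (2 * (i + 1)) * y * (x ^ (2 * i) * y) := by
  rw [h.mul_mul, h.mul_mul, Ne, h.zpow_eq_iff]
  rintro ⟨k, hk⟩
  have h1 : 4 = 8 * ((e : ℤ) * (1 - k)) := by linear_combination -hk
  omega

theorem _root_.CL.IsQDData.qdw {S : Subgroup G} {e : ℕ} {x y : G} (h : IsQDData S e x y) :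
    QDW S (x ^ (4 * (e : ℤ))) where
  mem := h.zpow_mem' _
  ord := h.orderOf_z
  comm _ hs := h.commute_z hs
  uniq w hw h2 hc := by
    rcases h.involution_cases hw h2 with h1 | ⟨i, rfl⟩
    · exact h1
    · exact absurd (hc _ (h.zpow_mul_mem _) (h.orderOf_even (i + 1))) (h.even_not_comm i)
  noncomm := ⟨_, h.zpow_mul_mem _, _, h.zpow_mul_mem _, h.orderOf_even 0, h.orderOf_even (0 + 1),
    h.even_not_comm 0⟩
  gen := ⟨x, h.x_mem, y, h.y_mem, h.orderOf_y, h.eq_closure⟩

theorem _root_.CL.Wr.Coord.qdw {S : Subgroup G} {n : ℕ} (c : Coord S n) :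
    QDW S (c.r (hf n) (hf n)) where
  mem := c.r_mem _ _
  ord := c.orderOf_r_eq_two_iff.2 (by simp)
  comm _ hs := (c.Z_comm c.hh_mem_Z hs).symm
  uniq w hw h2 hc := by
    have h0 := hf_ne_zero c.one_le
    rcases c.cases hw with ⟨a, b, rfl⟩ | ⟨a, b, rfl⟩
    · have h1 := c.r_comm_s_iff.1 (hc _ (c.s_mem 0 0) (c.orderOf_s_eq_two_iff.2 (by simp)))
      subst h1
      rcases c.orderOf_r_eq_two_iff.1 h2 with ⟨h3, h4⟩ | ⟨h3, h4⟩ | ⟨h3, -⟩
      · exact absurd (h3.symm.trans h4) h0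
      · exact absurd (h4.symm.trans h3) h0
      · rw [h3]
    · exact absurd (c.s_comm_r_iff.1 (hc _ (c.r_mem (hf n) 0)
        (c.orderOf_r_eq_two_iff.2 (by simp)))) h0
  noncomm := ⟨_, c.r_mem (hf n) 0, _, c.s_mem 0 0, c.orderOf_r_eq_two_iff.2 (by simp),
    c.orderOf_s_eq_two_iff.2 (by simp), fun h => hf_ne_zero c.one_le (c.r_comm_s_iff.1 h)⟩
  gen := ⟨_, c.r_mem 1 0, _, c.s_mem 0 0, c.orderOf_s_eq_two_iff.2 (by simp), c.eq_closure⟩

theorem exists_qdw {S : Subgroup G} [Finite S] (hS : IsQuasiDihedral S ∨ IsWreathed S) :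
    ∃ z, QDW S z := by
  rcases hS with hS | hS
  · obtain ⟨k, x, y, h⟩ := exists_isQDData hS
    exact ⟨_, h.qdw⟩
  · obtain ⟨n, ⟨c⟩⟩ := exists_coord S hS
    exact ⟨_, c.qdw⟩

theorem QDW.eq_of_comm {S : Subgroup G} {z w : G} (h : QDW S z) (hw : w ∈ S) (h2 : orderOf w = 2)
    (hc : ∀ s ∈ S, s * w = w * s) : w = z :=
  h.uniq w hw h2 fun t ht _ => (hc t ht).symm

theorem qdw_of_equiv {A B : Type*} [Group A] [Group B] (e : A ≃* B)
    (h : IsQuasiDihedral A ∨ IsWreathed A) : IsQuasiDihedral B ∨ IsWreathed B :=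
  h.imp (isQuasiDihedral_of_equiv e) (isWreathed_of_equiv e)

variable [Finite G]

theorem exists_index_two_of_normal {K : Subgroup G} [K.Normal] {n : ℕ} (hn : 1 ≤ n)
    (hK : K.index = 2 ^ n) : ∃ H : Subgroup G, H.index = 2 := by
  by_contra h
  push Not at h
  have h1 : pResidual 2 G ≤ K := pResidual_le_of_index_eq_pow K hK
  rw [pResidual_eq_top_of_index_ne_two h, top_le_iff] at h1
  rw [h1, index_top] at hK
  have := Nat.one_lt_two_pow (n := n) (by omega)
  omega

theorem _root_.CL.Wr.Coord.not_UTriv_of_index {S : Sylow 2 G} {n : ℕ}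
    (c : Coord (S : Subgroup G) n) (hG : ∀ H : Subgroup G, H.index ≠ 2) : ¬ c.UTriv := fun hU => by
  obtain ⟨K, hK, -, h2, -⟩ := c.exists_normal_of_UTriv hU
  obtain ⟨H, hH⟩ := exists_index_two_of_normal c.one_le h2
  exact hG H hH

theorem _root_.CL.Wr.Coord.not_VTriv_of_index {S : Sylow 2 G} {n : ℕ}
    (c : Coord (S : Subgroup G) n) (hG : ∀ H : Subgroup G, H.index ≠ 2) : ¬ c.VTriv := fun hV => by
  obtain ⟨K, -, -, h2⟩ := c.exists_normal_of_VTriv hV
  exact hG K h2

/-- Without subgroups of index two there is one class of involutions. -/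
theorem isConj_of_qdw (S : Sylow 2 G)
    (hS : IsQuasiDihedral (S : Subgroup G) ∨ IsWreathed (S : Subgroup G))
    (hG : ∀ H : Subgroup G, H.index ≠ 2) {a b : G} (ha : orderOf a = 2) (hb : orderOf b = 2) :
    IsConj a b := by
  rcases hS with hS | hS
  · obtain ⟨k, x, y, h⟩ := exists_isQDData hS
    have h1 := (h.isConj_of_pResidual_eq_top (pResidual_eq_top_of_index_ne_two hG)).1
    have key : ∀ t : G, orderOf t = 2 → IsConj (x ^ (4 * ((2 ^ k : ℕ) : ℤ))) t := fun t ht =>
      (h.involution_isConj ht).elim id fun h2 => h1.trans h2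
    exact (key a ha).symm.trans (key b hb)
  · obtain ⟨n, ⟨c⟩⟩ := exists_coord _ hS
    have key := fun t (ht : orderOf t = 2) =>
      c.isConj_of_not_of_not (c.not_UTriv_of_index hG) (c.not_VTriv_of_index hG) ht
    exact (key a ha).trans (key b hb).symm

/-- If an involution of `S` is conjugate to no other element of `S`, the same holds for all
elements of `Z(S)`. -/
theorem conj_eq_of_qdw (S : Sylow 2 G)
    (hS : IsQuasiDihedral (S : Subgroup G) ∨ IsWreathed (S : Subgroup G)) {z : G}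
    (hzS : z ∈ (S : Subgroup G)) (hz : orderOf z = 2)
    (hiso : ∀ g : G, g * z * g⁻¹ ∈ (S : Subgroup G) → g * z * g⁻¹ = z) {w : G}
    (hw : w ∈ (center (S : Subgroup G)).map (S : Subgroup G).subtype) {g : G}
    (hg : g * w * g⁻¹ ∈ (S : Subgroup G)) : g * w * g⁻¹ = w := by
  have hzc : ∀ s ∈ (S : Subgroup G), s * z = z * s := fun s hs => by
    have := hiso s (mul_mem (mul_mem hs hzS) (inv_mem hs))
    rw [← this, inv_mul_cancel_right, this]
  rcases hS with hS | hS
  · obtain ⟨k, x, y, h⟩ := exists_isQDData hS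
    obtain rfl := h.qdw.eq_of_comm hzS hz hzc
    rw [h.map_center_eq] at hw
    by_cases h1 : w = 1
    · simp [h1]
    · obtain rfl : w = _ := eq_of_mem_zpowers_of_sq hw (mem_zpowers _) (by
        obtain ⟨i, rfl⟩ := hw
        simp only
        rw [← (Commute.refl _).mul_zpow, h.z_mul_z, one_zpow]) h.z_mul_z h1 h.z_ne_one
      exact hiso g hg
  · obtain ⟨n, ⟨c⟩⟩ := exists_coord _ hS
    obtain rfl := c.qdw.eq_of_comm hzS hz hzc
    rw [c.center_map_eq] at hw
    refine c.conj_eq_of_UTriv (c.UTriv_of_forall fun g hg => hiso g (c.U_le ?_)) hw hg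
    exact (mem_normalizer_iff.1 hg _).1 (c.r_mem_U _ _)

/-- The centralizer of a `2`-central involution is a `Q`-group. -/
theorem qgroup_centralizer (S : Sylow 2 G)
    (hS : IsQuasiDihedral (S : Subgroup G) ∨ IsWreathed (S : Subgroup G))
    (hG : ∀ H : Subgroup G, H.index ≠ 2) {z : G} (hz : orderOf z = 2) (hzS : z ∈ (S : Subgroup G))
    (hSC : (S : Subgroup G) ≤ centralizer ({z} : Set G)) :
    (∃ K : Subgroup (centralizer ({z} : Set G)), K.Normal ∧ (∃ a : ℕ, K.index = 2 ^ a) ∧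
      (∀ H : Subgroup K, H.index ≠ 2) ∧ (∀ P : Sylow 2 K, ∃ m : ℕ, 1 ≤ m ∧
        Nonempty ((P : Subgroup K) ≃* QuaternionGroup (2 ^ m)))) := by
  have hzc : ∀ s ∈ (S : Subgroup G), s * z = z * s := fun s hs =>
    mem_centralizer_singleton_iff.1 (hSC hs)
  rcases hS with hS | hS
  · obtain ⟨k, x, y, h⟩ := exists_isQDData hS
    obtain rfl := h.qdw.eq_of_comm hzS hz hzc
    have h' := h.subgroupOf hSC
    obtain ⟨g, hg⟩ := isConj_iff.1
      (h.isConj_of_pResidual_eq_top (pResidual_eq_top_of_index_ne_two hG)).2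
    have hgC : g ∈ centralizer ({x ^ (4 * ((2 ^ k : ℕ) : ℤ))} : Set G) := by
      rw [mem_centralizer_singleton_iff]
      have : g * x ^ (4 * ((2 ^ k : ℕ) : ℤ)) * g⁻¹ = x ^ (4 * ((2 ^ k : ℕ) : ℤ)) := by
        conv_rhs => rw [← h.xy_sq, ← hg]
        rw [← IsQDData.u_mul_u]; group
      rw [← this, inv_mul_cancel_right, this]
    have he := IsQDData.inf_pResidual_eq_M (S := S.subtype hSC) h' (by
      rw [isConj_iff]
      rintro ⟨c, hc⟩
      have h1 := mem_centralizer_singleton_iff.1 c.2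
      have h2 : (c : G) * x ^ (4 * ((2 ^ k : ℕ) : ℤ)) * (c : G)⁻¹ = y := congrArg Subtype.val hc
      rw [h1, mul_inv_cancel_right] at h2
      exact h.notMem (h2 ▸ zpow_mem (mem_zpowers x) _))
      (isConj_iff.2 ⟨⟨g, hgC⟩, Subtype.ext hg⟩)
    refine ⟨pResidual 2 _, inferInstance, ⟨1, ?_⟩, index_ne_two_pResidual,
      fun P => ⟨k + 1, by omega, ?_⟩⟩
    · rw [index_pResidual (S.subtype hSC), he]
      exact h'.relIndex_M
    · obtain ⟨e₁⟩ := nonempty_sylow_equiv_inf (S.subtype hSC) _ P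
      obtain ⟨e₂⟩ := h'.isQuatData_M.nonempty_equiv
      rw [pow_succ']
      exact ⟨e₁.trans ((MulEquiv.subgroupCongr he).trans e₂)⟩
  · obtain ⟨n, ⟨c⟩⟩ := exists_coord _ hS
    obtain rfl := c.qdw.eq_of_comm hzS hz hzc
    obtain ⟨K, h1, -, h2, h3, h4⟩ := Coord.exists_Qgroup_of_UTriv (S := S.subtype hSC)
      (c.subgroupOf hSC) (Coord.UTriv_of_forall _ fun g _ => Subtype.ext (by
        have h1 := mem_centralizer_singleton_iff.1 g.2
        change (g : G) * c.r (hf n) (hf n) * (g : G)⁻¹ = c.r (hf n) (hf n)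
        rw [h1, mul_inv_cancel_right]))
      (c.not_VTriv_subgroupOf (c.not_VTriv_of_index hG) hSC le_rfl)
    exact ⟨K, h1, ⟨n, h2⟩, h4, h3⟩

omit [Finite G] in
/-- Elementwise weak closure gives weak closure of subgroups. -/
theorem isWeaklyClosed_of_forall {S Z : Subgroup G} (hZ : Z ≤ S)
    (h : ∀ w ∈ Z, ∀ g : G, g * w * g⁻¹ ∈ S → g * w * g⁻¹ = w) : IsWeaklyClosed Z S := by
  refine ⟨hZ, fun g hg => ?_⟩
  have key : ∀ w ∈ Z, g * w * g⁻¹ = w := fun w hw => h w hw g (hg ⟨w, hw, rfl⟩)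
  apply le_antisymm
  · rintro _ ⟨w, hw, rfl⟩
    change g * w * g⁻¹ ∈ Z
    rwa [key w hw]
  · intro w hw
    exact ⟨w, hw, key w hw⟩

/-- The image of a Sylow subgroup modulo a normal subgroup of odd order. -/
noncomputable def sylowEquivMap {H : Type*} [Group H] (S : Sylow 2 G) {f : G →* H}
    (hf : Function.Surjective f) (hker : (Nat.card f.ker).Coprime 2) :
    (S : Subgroup G) ≃* (S.mapSurjective hf : Subgroup H) :=
  MulEquiv.ofBijective (f.subgroupMap S) ⟨(injective_iff_map_eq_one _).2 fun s hs => by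
    have h1 : (s : G) ∈ (S : Subgroup G) ⊓ f.ker := ⟨s.2, congrArg Subtype.val hs⟩
    rw [inf_eq_bot_of_isPGroup_of_coprime S.2 hker, mem_bot] at h1
    exact Subtype.ext h1, f.subgroupMap_surjective S⟩

omit [Finite G] in
theorem index_ne_two_of_surjective {H : Type*} [Group H] {f : G →* H}
    (hf : Function.Surjective f) (hG : ∀ K : Subgroup G, K.index ≠ 2) (K : Subgroup H) :
    K.index ≠ 2 := by
  rw [← K.index_comap_of_surjective hf]
  exact hG _

/-- A nontrivial subgroup of `S` normalized by a subgroup `P` containing it and all involutions of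
`S` contains the central involution. -/
theorem QDW.mem_of_normal {S P N : Subgroup G} {z : G} (h : QDW S z) (hS : IsPGroup 2 S)
    (hPS : P ≤ S) (hP : ∀ t ∈ S, orderOf t = 2 → t ∈ P) (hNP : N ≤ P)
    (hN : P ≤ normalizer (N : Set G)) (hne : N ≠ ⊥) : z ∈ N := by
  have hPp : IsPGroup 2 P := hS.to_le hPS
  have := hPp.isNilpotent
  have := normal_subgroupOf_of_le_normalizer hN
  have h1 := inf_center_ne_bot_of_isNilpotent (N.subgroupOf P) (by
    rwa [Ne, subgroupOf_eq_bot, disjoint_iff, inf_eq_left.2 hNP])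
  have h2 : 2 ∣ Nat.card (N.subgroupOf P ⊓ center P : Subgroup P) := by
    rcases (hPp.to_subgroup (N.subgroupOf P ⊓ center P)).card_eq_or_dvd with h3 | h3
    · exact absurd (Subgroup.card_eq_one.1 h3) h1
    · exact h3
  obtain ⟨w, hw⟩ := exists_prime_orderOf_dvd_card' 2 h2
  rw [← Subgroup.orderOf_coe, ← Subgroup.orderOf_coe] at hw
  have h3 := h.uniq _ (hPS w.1.2) hw fun t ht ht2 =>
    (congrArg Subtype.val (mem_center_iff.1 w.2.2 ⟨t, hP t ht ht2⟩)).symm
  exact h3 ▸ w.2.1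

omit [Finite G] in
theorem exists_involution_of_normal (hO : oddCore G = ⊥) {N : Subgroup G} [N.Normal]
    (hN : N ≠ ⊥) : 2 ∣ Nat.card N := by
  by_contra h
  exact hN (le_bot_iff.1 (hO ▸ le_pPrimeCore_of_not_dvd h))

/-- With one class of involutions and `O(G) = 1`, a minimal normal subgroup is simple. -/
theorem QDW.isSimpleGroup {S : Sylow 2 G} {z : G} (h : QDW (S : Subgroup G) z)
    (hO : oddCore G = ⊥) {L : Subgroup G} (hL : IsMinNormal L)
    (hinv : ∀ t : G, orderOf t = 2 → t ∈ L) : IsSimpleGroup L := by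
  have := hL.normal
  have : Nontrivial L := (nontrivial_iff_ne_bot L).2 hL.ne_bot
  have hOL : oddCore L = ⊥ := by
    rw [oddCore, pPrimeCore_eq_subgroupOf, show pPrimeCore 2 G = ⊥ from hO, bot_subgroupOf]
  -- every nontrivial normal subgroup of `L` contains `z`
  have key : ∀ M : Subgroup L, M.Normal → M ≠ ⊥ → z ∈ M.map L.subtype := by
    intro M hM hne
    have h2 := exists_involution_of_normal hOL hne
    have hsyl := isSylowIn_inf_normal S L
    refine (inf_le_right : (S : Subgroup G) ⊓ M.map L.subtype ≤ _)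
      (h.mem_of_normal S.2 (P := (S : Subgroup G) ⊓ L) inf_le_left
        (fun t ht ht2 => ⟨ht, hinv t ht2⟩) (inf_le_inf_left _ (map_subtype_le M)) ?_ ?_)
    · exact (le_inf (inf_le_left.trans le_normalizer)
        (inf_le_right.trans (le_normalizer_map_subtype L M))).trans
        (normalizer_inf_le_normalizer_inf _ _)
    · obtain ⟨t, ht⟩ := exists_prime_orderOf_dvd_card' 2 h2
      obtain ⟨c, hc⟩ := exists_conj_mem_sylow hsyl.toSylow (g := (t : L)) (k := 1)
        (by rw [Subgroup.orderOf_coe, ht, pow_one])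
      intro hbot
      have h3 : ((c * t * c⁻¹ : L) : G) ∈ (S : Subgroup G) ⊓ M.map L.subtype :=
        ⟨(mem_subgroupOf.1 hc).1, mem_map_of_mem _ (hM.conj_mem _ t.2 c)⟩
      rw [hbot, mem_bot, OneMemClass.coe_eq_one, mul_inv_eq_one, mul_eq_left,
        OneMemClass.coe_eq_one] at h3
      rw [h3, orderOf_one] at ht
      omega
  obtain ⟨M, hM⟩ := exists_isMinNormal L
  have hMn := hM.normal
  have hnorm : (M.map L.subtype).Normal := by
    refine ⟨fun m hm g => ?_⟩
    have hM' : (M.map (MulAut.conjNormal g : MulAut L).toMonoidHom).Normal :=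
      hMn.map _ (MulEquiv.surjective _)
    rcases hM.le_or_inf_eq_bot (M.comap (MulAut.conjNormal g : MulAut L).toMonoidHom) with h1 | h1
    · obtain ⟨m, hm, rfl⟩ := hm
      exact ⟨_, h1 hm, rfl⟩
    · exfalso
      obtain ⟨z₁, hz₁, e₁⟩ := key M hMn hM.ne_bot
      obtain ⟨z₂, hz₂, e₂⟩ := key (M.comap (MulAut.conjNormal g : MulAut L).toMonoidHom)
        inferInstance (fun hb => hM.ne_bot (by
          rw [← map_comap_eq_self_of_surjective (f := (MulAut.conjNormal g : MulAut L).toMonoidHom)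
            (MulEquiv.surjective _) M, hb, Subgroup.map_bot]))
      obtain rfl : z₁ = z₂ := Subtype.ext (e₁.trans e₂.symm)
      have h2 : z₁ ∈ M ⊓ M.comap (MulAut.conjNormal g : MulAut L).toMonoidHom := ⟨hz₁, hz₂⟩
      rw [h1, mem_bot] at h2
      have h3 := h.ord
      rw [← e₁, h2, map_one, orderOf_one] at h3
      omega
  have hML : M = ⊤ := by
    have h1 := hL.eq_of_le hnorm (map_subtype_le M)
      (fun hb => hM.ne_bot ((map_eq_bot_iff_of_injective M L.subtype_injective).1 hb))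
    apply map_injective L.subtype_injective
    rw [h1, ← MonoidHom.range_eq_map, range_subtype]
  exact ⟨fun N hN => hML ▸ hM.eq_bot_or_eq N hN (hML ▸ le_top)⟩

/-- A normal subgroup containing all involutions has odd index. -/
theorem QDW.odd_index {S : Sylow 2 G} {z : G} (h : QDW (S : Subgroup G) z)
    (hG : ∀ H : Subgroup G, H.index ≠ 2) {L : Subgroup G} [L.Normal]
    (hinv : ∀ t : G, orderOf t = 2 → t ∈ L) : Odd L.index := by
  obtain ⟨x, -, y, -, hy, hS⟩ := h.gen
  have hsurj := QuotientGroup.mk'_surjective L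
  have hcyc : IsCyclic (S.mapSurjective hsurj : Subgroup (G ⧸ L)) := by
    refine Subgroup.isCyclic_of_le (H' := zpowers (QuotientGroup.mk' L x)) ?_
    rw [Sylow.coe_mapSurjective, hS, MonoidHom.map_closure, closure_le]
    rintro _ ⟨u, rfl | rfl, rfl⟩
    · exact mem_zpowers _
    · have : QuotientGroup.mk' L u = 1 := (QuotientGroup.eq_one_iff u).2 (hinv u hy)
      rw [this]; exact one_mem _
  obtain ⟨P, K, hK, hPK⟩ := hasNormalTwoComplement_of_isCyclic _ hcyc
  obtain ⟨n, hn⟩ := IsPGroup.iff_card.1 P.2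
  have hKi : K.index = 2 ^ n := by rw [hPK.symm.index_eq_card, hn]
  rcases Nat.eq_zero_or_pos n with rfl | hpos
  · have h1 := P.not_dvd_index
    rw [Subgroup.card_eq_one.1 hn, index_bot] at h1
    rwa [← Nat.not_even_iff_odd, even_iff_two_dvd]
  · obtain ⟨H, hH⟩ := exists_index_two_of_normal hpos hKi
    exact absurd hH (index_ne_two_of_surjective hsurj hG H)

/-- `G` with `O(G) = 1` has a non-abelian simple normal subgroup of odd index. -/
theorem exists_simple_normal_of_qdw (S : Sylow 2 G)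
    (hS : IsQuasiDihedral (S : Subgroup G) ∨ IsWreathed (S : Subgroup G))
    (hG : ∀ H : Subgroup G, H.index ≠ 2) (hO : oddCore G = ⊥) :
    ∃ L : Subgroup G, L.Normal ∧ Odd L.index ∧ IsSimpleGroup L ∧ ¬ IsMulCommutative L := by
  obtain ⟨z, h⟩ := exists_qdw hS
  have : Nontrivial G := ⟨⟨z, 1, fun h1 => by have := h.ord; rw [h1, orderOf_one] at this; omega⟩⟩
  obtain ⟨L, hL⟩ := exists_isMinNormal G
  have := hL.normal
  obtain ⟨t, ht⟩ := exists_prime_orderOf_dvd_card' 2 (exists_involution_of_normal hO hL.ne_bot)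
  have hinv : ∀ u : G, orderOf u = 2 → u ∈ L := fun u hu => by
    obtain ⟨g, rfl⟩ := isConj_iff.1 (isConj_of_qdw S hS hG
      ((Subgroup.orderOf_coe t).trans ht) hu)
    exact hL.normal.conj_mem _ t.2 g
  refine ⟨L, hL.normal, h.odd_index hG hinv, h.isSimpleGroup hO hL hinv, fun hc => ?_⟩
  obtain ⟨a, -, b, -, ha, hb, hab⟩ := h.noncomm
  exact hab (congrArg Subtype.val (hc.is_comm.comm (⟨a, hinv a ha⟩ : L) ⟨b, hinv b hb⟩))

end CL.TF
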