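import Cfsg.Agent.Base

/-!
# Groups with a cyclic subgroup of index two: dihedral and quaternion recognition

Everything is stated for a subgroup `S` of an ambient group `G`.
-/

set_option autoImplicit false

namespace CL

open Subgroup

variable {G : Type*} [Group G]

/-- `S = ⟨x⟩ ∪ ⟨x⟩ y` with `y ∉ ⟨x⟩`. -/
structure IsCycExt (S : Subgroup G) (x y : G) : Prop where
  notMem : y ∉ zpowers x
  mem : ∀ g, g ∈ S ↔ ∃ i : ℤ, g = x ^ i ∨ g = x ^ i * y

theorem mem_closure_pair_of_conj {x y : G} (h1 : y * x * y⁻¹ ∈ zpowers x)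
    (h2 : y * y ∈ zpowers x) (g : G) :
    g ∈ closure ({x, y} : Set G) ↔ ∃ i : ℤ, g = x ^ i ∨ g = x ^ i * y := by
  obtain ⟨r, hr⟩ := mem_zpowers_iff.mp h1
  obtain ⟨k, hk⟩ := mem_zpowers_iff.mp h2
  have hx : x ∈ closure ({x, y} : Set G) := subset_closure (by simp)
  have hy : y ∈ closure ({x, y} : Set G) := subset_closure (by simp)
  have hc : ∀ i : ℤ, y * x ^ i = x ^ (r * i) * y := by
    intro i
    rw [zpow_mul, hr, conj_zpow]; group
  have hyi : y⁻¹ = x ^ (-k) * y := by
    rw [zpow_neg, hk]; group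
  constructor
  · intro hg
    induction hg using closure_induction with
    | mem g hg =>
      rcases hg with rfl | rfl
      · exact ⟨1, Or.inl (by simp)⟩
      · exact ⟨0, Or.inr (by simp)⟩
    | one => exact ⟨0, Or.inl (by simp)⟩
    | mul a b _ _ ha hb =>
      obtain ⟨i, rfl | rfl⟩ := ha <;> obtain ⟨j, rfl | rfl⟩ := hb
      · exact ⟨i + j, Or.inl (by rw [zpow_add])⟩
      · exact ⟨i + j, Or.inr (by rw [zpow_add, mul_assoc])⟩
      · exact ⟨i + r * j, Or.inr (by rw [zpow_add, mul_assoc, hc, mul_assoc])⟩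
      · refine ⟨i + r * j + k, Or.inl ?_⟩
        rw [zpow_add, zpow_add, hk]
        calc x ^ i * y * (x ^ j * y) = x ^ i * (y * x ^ j) * y := by group
          _ = _ := by rw [hc]; group
    | inv a _ ha =>
      obtain ⟨i, rfl | rfl⟩ := ha
      · exact ⟨-i, Or.inl (by rw [zpow_neg])⟩
      · refine ⟨-k + r * (-i), Or.inr ?_⟩
        rw [mul_inv_rev, hyi, ← zpow_neg, mul_assoc, hc, zpow_add, mul_assoc]
  · rintro ⟨i, rfl | rfl⟩
    · exact zpow_mem hx i
    · exact mul_mem (zpow_mem hx i) hy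

theorem isCycExt_closure {x y : G} (h1 : y * x * y⁻¹ ∈ zpowers x)
    (h2 : y * y ∈ zpowers x) (h3 : y ∉ zpowers x) :
    IsCycExt (closure ({x, y} : Set G)) x y :=
  ⟨h3, mem_closure_pair_of_conj h1 h2⟩

namespace IsCycExt

variable {S : Subgroup G} {x y : G}

theorem x_mem (h : IsCycExt S x y) : x ∈ S := (h.mem x).2 ⟨1, Or.inl (by simp)⟩

theorem y_mem (h : IsCycExt S x y) : y ∈ S := (h.mem y).2 ⟨0, Or.inr (by simp)⟩

theorem zpow_mem' (h : IsCycExt S x y) (i : ℤ) : x ^ i ∈ S := zpow_mem h.x_mem i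

theorem zpow_mul_mem (h : IsCycExt S x y) (i : ℤ) : x ^ i * y ∈ S :=
  mul_mem (h.zpow_mem' i) h.y_mem

theorem zpowers_le (h : IsCycExt S x y) : zpowers x ≤ S := by
  rw [Subgroup.zpowers_le]; exact h.x_mem

theorem zpow_mul_notMem (h : IsCycExt S x y) (i : ℤ) : x ^ i * y ∉ zpowers x := by
  intro hm
  exact h.notMem ((mul_mem_cancel_left (zpow_mem (mem_zpowers x) i)).1 hm)

theorem zpow_ne (h : IsCycExt S x y) (i j : ℤ) : x ^ i ≠ x ^ j * y := by
  intro he
  exact h.zpow_mul_notMem j (he ▸ zpow_mem (mem_zpowers x) i)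

theorem eq_closure (h : IsCycExt S x y) : S = closure ({x, y} : Set G) := by
  apply le_antisymm
  · intro g hg
    have hx : x ∈ closure ({x, y} : Set G) := subset_closure (by simp)
    have hy : y ∈ closure ({x, y} : Set G) := subset_closure (by simp)
    obtain ⟨i, rfl | rfl⟩ := (h.mem g).1 hg
    · exact zpow_mem hx i
    · exact mul_mem (zpow_mem hx i) hy
  · rw [closure_le]
    rintro g (rfl | rfl)
    · exact h.x_mem
    · exact h.y_mem

theorem le_of_mem (h : IsCycExt S x y) {H : Subgroup G} (hx : x ∈ H) (hy : y ∈ H) : S ≤ H := by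
  intro g hg
  obtain ⟨i, rfl | rfl⟩ := (h.mem g).1 hg
  · exact zpow_mem hx i
  · exact mul_mem (zpow_mem hx i) hy

theorem exists_eq_of_notMem (h : IsCycExt S x y) {g : G} (hg : g ∈ S) (hn : g ∉ zpowers x) :
    ∃ i : ℤ, g = x ^ i * y := by
  obtain ⟨i, rfl | rfl⟩ := (h.mem g).1 hg
  · exact absurd (zpow_mem (mem_zpowers x) i) hn
  · exact ⟨i, rfl⟩

theorem relIndex_eq (h : IsCycExt S x y) : (zpowers x).relIndex S = 2 := by
  rw [relIndex, index_eq_two_iff]
  refine ⟨⟨y⁻¹, inv_mem h.y_mem⟩, ?_⟩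
  rintro ⟨g, hg⟩
  simp only [mem_subgroupOf, coe_mul]
  obtain ⟨i, rfl | rfl⟩ := (h.mem g).1 hg
  · refine Or.inr ⟨zpow_mem (mem_zpowers x) i, fun hm => h.notMem ?_⟩
    exact inv_mem_iff.1 ((mul_mem_cancel_left (zpow_mem (mem_zpowers x) i)).1 hm)
  · exact Or.inl ⟨by simp, h.zpow_mul_notMem i⟩

theorem mul_mem_zpowers (h : IsCycExt S x y) {a b : G} (ha : a ∈ S) (hb : b ∈ S)
    (ha' : a ∉ zpowers x) (hb' : b ∉ zpowers x) : a * b ∈ zpowers x := by
  have := mul_mem_iff_of_index_two (H := (zpowers x).subgroupOf S) h.relIndex_eq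
    (a := ⟨a, ha⟩) (b := ⟨b, hb⟩)
  simp only [mem_subgroupOf] at this
  exact this.2 (by simp [ha', hb'])

theorem card_eq (h : IsCycExt S x y) : Nat.card S = 2 * orderOf x := by
  have h1 := ((zpowers x).subgroupOf S).card_mul_index
  have h2 : Nat.card ((zpowers x).subgroupOf S) = orderOf x := by
    rw [Nat.card_congr (subgroupOfEquivOfLe h.zpowers_le).toEquiv, Nat.card_zpowers]
  have h3 : ((zpowers x).subgroupOf S).index = 2 := h.relIndex_eq
  rw [h2, h3] at h1
  omega

/-- Change of the outer generator. -/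
theorem of_notMem (h : IsCycExt S x y) {y' : G} (hy : y' ∈ S) (hn : y' ∉ zpowers x) :
    IsCycExt S x y' := by
  refine ⟨hn, fun g => ⟨fun hg => ?_, ?_⟩⟩
  · obtain ⟨k, rfl⟩ := h.exists_eq_of_notMem hy hn
    obtain ⟨i, rfl | rfl⟩ := (h.mem g).1 hg
    · exact ⟨i, Or.inl rfl⟩
    · exact ⟨i - k, Or.inr (by rw [← mul_assoc, ← zpow_add]; simp)⟩
  · rintro ⟨i, rfl | rfl⟩
    · exact h.zpow_mem' i
    · exact mul_mem (h.zpow_mem' i) hy

theorem map {H : Type*} [Group H] (h : IsCycExt S x y) (f : G →* H)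
    (hf : Function.Injective f) : IsCycExt (S.map f) (f x) (f y) := by
  refine ⟨?_, fun g => ?_⟩
  · intro hm
    obtain ⟨k, hk⟩ := mem_zpowers_iff.mp hm
    rw [← map_zpow] at hk
    exact h.notMem (mem_zpowers_iff.mpr ⟨k, hf hk⟩)
  · constructor
    · rintro ⟨a, ha, rfl⟩
      obtain ⟨i, rfl | rfl⟩ := (h.mem a).1 ha
      · exact ⟨i, Or.inl (by simp)⟩
      · exact ⟨i, Or.inr (by simp)⟩
    · rintro ⟨i, rfl | rfl⟩
      · exact ⟨x ^ i, h.zpow_mem' i, by simp⟩
      · exact ⟨x ^ i * y, h.zpow_mul_mem i, by simp⟩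

end IsCycExt

theorem isCycExt_of_card {S : Subgroup G} [Finite S] {x y : G} (hx : x ∈ S) (hy : y ∈ S)
    (hn : y ∉ zpowers x) (hc : Nat.card S = 2 * orderOf x) : IsCycExt S x y := by
  have hle : zpowers x ≤ S := by rw [Subgroup.zpowers_le]; exact hx
  have h1 := ((zpowers x).subgroupOf S).card_mul_index
  have h2 : Nat.card ((zpowers x).subgroupOf S) = orderOf x := by
    rw [Nat.card_congr (subgroupOfEquivOfLe hle).toEquiv, Nat.card_zpowers]
  have hpos : 0 < Nat.card S := Nat.card_pos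
  have h3 : ((zpowers x).subgroupOf S).index = 2 := by
    rw [h2, hc] at h1
    have : 0 < orderOf x := by omega
    exact Nat.eq_of_mul_eq_mul_left this (by omega)
  refine ⟨hn, fun g => ⟨fun hg => ?_, ?_⟩⟩
  · by_cases hgx : g ∈ zpowers x
    · obtain ⟨i, rfl⟩ := mem_zpowers_iff.mp hgx
      exact ⟨i, Or.inl rfl⟩
    · have := mul_mem_iff_of_index_two h3 (a := ⟨g, hg⟩) (b := ⟨y⁻¹, inv_mem hy⟩)
      simp only [mem_subgroupOf] at this
      obtain ⟨i, hi⟩ := mem_zpowers_iff.mp (this.2 (by simp [hgx, hn]))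
      refine ⟨i, Or.inr ?_⟩
      rw [hi]; simp
  · rintro ⟨i, rfl | rfl⟩
    · exact zpow_mem hx i
    · exact mul_mem (zpow_mem hx i) hy

/-- Powers of `x` indexed by `ZMod (orderOf x)`. -/
theorem exists_zmod_pow {x : G} {m : ℕ} (h : orderOf x = m) :
    ∃ f : ZMod m → G, (∀ k : ℤ, f (k : ZMod m) = x ^ k) ∧ Function.Injective f := by
  refine ⟨fun i => x ^ (i.cast : ℤ), fun k => ?_, fun a b hab => ?_⟩
  · rw [zpow_eq_zpow_iff_modEq, h, ← ZMod.intCast_eq_intCast_iff]
    simp
  · simp only at hab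
    rw [zpow_eq_zpow_iff_modEq, h, ← ZMod.intCast_eq_intCast_iff] at hab
    simpa using hab

/-- Generators and relations of a dihedral subgroup of order `2 m`. -/
structure IsDihData (S : Subgroup G) (m : ℕ) (x y : G) : Prop extends IsCycExt S x y where
  ord : orderOf x = m
  sq : y * y = 1
  conj : y * x * y⁻¹ = x⁻¹

/-- Generators and relations of a generalized quaternion (dicyclic) subgroup of order `4 m`. -/
structure IsQuatData (S : Subgroup G) (m : ℕ) (x y : G) : Prop extends IsCycExt S x y where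
  ord : orderOf x = 2 * m
  sq : y * y = x ^ m
  conj : y * x * y⁻¹ = x⁻¹

theorem mul_zpow_of_conj_inv {x y : G} (h : y * x * y⁻¹ = x⁻¹) (i : ℤ) :
    y * x ^ i = x ^ (-i) * y := by
  rw [zpow_neg, ← inv_zpow, ← h, conj_zpow]; group

theorem zpow_mul_of_conj_inv {x y : G} (h : y * x * y⁻¹ = x⁻¹) (i : ℤ) :
    x ^ i * y = y * x ^ (-i) := by
  rw [mul_zpow_of_conj_inv h, neg_neg]

theorem IsDihData.nonempty_equiv {S : Subgroup G} {m : ℕ} {x y : G} (h : IsDihData S m x y) :
    Nonempty (S ≃* DihedralGroup m) := by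
  obtain ⟨f, hf, hinj⟩ := exists_zmod_pow h.ord
  have hc := zpow_mul_of_conj_inv h.conj
  let φ : DihedralGroup m →* G := MonoidHom.mk' (fun g => match g with
      | .r i => f i
      | .sr i => y * f i) (by
    rintro (a | a) (b | b) <;> obtain ⟨a, rfl⟩ := ZMod.intCast_surjective a <;>
      obtain ⟨b, rfl⟩ := ZMod.intCast_surjective b <;>
      simp only [DihedralGroup.r_mul_r, DihedralGroup.r_mul_sr, DihedralGroup.sr_mul_r,
        DihedralGroup.sr_mul_sr, ← Int.cast_add, ← Int.cast_sub, hf]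
    · rw [zpow_add]
    · rw [← mul_assoc, hc]; group
    · rw [zpow_add, mul_assoc]
    · calc x ^ (b - a) = (y * y) * x ^ (b - a) := by rw [h.sq, one_mul]
        _ = y * (y * x ^ (-a)) * x ^ b := by group
        _ = _ := by rw [← hc]; group)
  have hφ : Function.Injective φ := by
    rintro (a | a) (b | b) hab
    · exact congrArg _ (hinj hab)
    · exfalso
      obtain ⟨a, rfl⟩ := ZMod.intCast_surjective a
      obtain ⟨b, rfl⟩ := ZMod.intCast_surjective b
      change f _ = y * f _ at hab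
      rw [hf, hf, mul_zpow_of_conj_inv h.conj] at hab
      exact h.zpow_ne _ _ hab
    · exfalso
      obtain ⟨a, rfl⟩ := ZMod.intCast_surjective a
      obtain ⟨b, rfl⟩ := ZMod.intCast_surjective b
      change y * f _ = f _ at hab
      rw [hf, hf, mul_zpow_of_conj_inv h.conj] at hab
      exact h.zpow_ne _ _ hab.symm
    · change y * f _ = y * f _ at hab
      exact congrArg _ (hinj (mul_left_cancel hab))
  have hr : φ.range = S := by
    ext g
    rw [h.mem]
    constructor
    · rintro ⟨a | a, rfl⟩ <;> obtain ⟨a, rfl⟩ := ZMod.intCast_surjective a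
      · exact ⟨a, Or.inl (hf a)⟩
      · refine ⟨-a, Or.inr ?_⟩
        change y * f _ = _
        rw [hf, mul_zpow_of_conj_inv h.conj]
    · rintro ⟨i, rfl | rfl⟩
      · exact ⟨.r i, hf i⟩
      · refine ⟨.sr ((-i : ℤ) : ZMod m), ?_⟩
        change y * f _ = _
        rw [hf, hc]
  exact ⟨((MonoidHom.ofInjective hφ).trans (MulEquiv.subgroupCongr hr)).symm⟩

theorem IsQuatData.nonempty_equiv {S : Subgroup G} {m : ℕ} {x y : G} (h : IsQuatData S m x y) :
    Nonempty (S ≃* QuaternionGroup m) := by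
  obtain ⟨f, hf, hinj⟩ := exists_zmod_pow h.ord
  have hc := zpow_mul_of_conj_inv h.conj
  let φ : QuaternionGroup m →* G := MonoidHom.mk' (fun g => match g with
      | .a i => f i
      | .xa i => y * f i) (by
    have hm : (m : ZMod (2 * m)) = ((m : ℤ) : ZMod (2 * m)) := by simp
    rintro (a | a) (b | b) <;> obtain ⟨a, rfl⟩ := ZMod.intCast_surjective a <;>
      obtain ⟨b, rfl⟩ := ZMod.intCast_surjective b <;>
      simp only [QuaternionGroup.a_mul_a, QuaternionGroup.a_mul_xa, QuaternionGroup.xa_mul_a,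
        QuaternionGroup.xa_mul_xa, hm, ← Int.cast_add, ← Int.cast_sub, hf]
    · rw [zpow_add]
    · rw [← mul_assoc, hc]; group
    · rw [zpow_add, mul_assoc]
    · calc x ^ (m + b - a) = (y * y) * x ^ (b - a) := by rw [h.sq]; group
        _ = y * (y * x ^ (-a)) * x ^ b := by group
        _ = _ := by rw [← hc]; group)
  have hφ : Function.Injective φ := by
    rintro (a | a) (b | b) hab
    · exact congrArg _ (hinj hab)
    · exfalso
      obtain ⟨a, rfl⟩ := ZMod.intCast_surjective a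
      obtain ⟨b, rfl⟩ := ZMod.intCast_surjective b
      change f _ = y * f _ at hab
      rw [hf, hf, mul_zpow_of_conj_inv h.conj] at hab
      exact h.zpow_ne _ _ hab
    · exfalso
      obtain ⟨a, rfl⟩ := ZMod.intCast_surjective a
      obtain ⟨b, rfl⟩ := ZMod.intCast_surjective b
      change y * f _ = f _ at hab
      rw [hf, hf, mul_zpow_of_conj_inv h.conj] at hab
      exact h.zpow_ne _ _ hab.symm
    · change y * f _ = y * f _ at hab
      exact congrArg _ (hinj (mul_left_cancel hab))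
  have hr : φ.range = S := by
    ext g
    rw [h.mem]
    constructor
    · rintro ⟨a | a, rfl⟩ <;> obtain ⟨a, rfl⟩ := ZMod.intCast_surjective a
      · exact ⟨a, Or.inl (hf a)⟩
      · refine ⟨-a, Or.inr ?_⟩
        change y * f _ = _
        rw [hf, mul_zpow_of_conj_inv h.conj]
    · rintro ⟨i, rfl | rfl⟩
      · exact ⟨.a i, hf i⟩
      · refine ⟨.xa ((-i : ℤ) : ZMod (2 * m)), ?_⟩
        change y * f _ = _
        rw [hf, hc]
  exact ⟨((MonoidHom.ofInjective hφ).trans (MulEquiv.subgroupCongr hr)).symm⟩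

theorem isDihData_dihedralGroup (m : ℕ) :
    IsDihData (⊤ : Subgroup (DihedralGroup m)) m (.r 1) (.sr 0) where
  notMem := by
    intro h
    obtain ⟨k, hk⟩ := mem_zpowers_iff.mp h
    simp at hk
  mem := by
    rintro (a | a) <;> obtain ⟨a, rfl⟩ := ZMod.intCast_surjective a <;> simp only [mem_top, true_iff]
    · exact ⟨a, Or.inl (by simp)⟩
    · exact ⟨-a, Or.inr (by simp)⟩
  ord := DihedralGroup.orderOf_r_one
  sq := by simp
  conj := by simp

theorem quaternionGroup_a_one_zpow (m : ℕ) (k : ℤ) :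
    (QuaternionGroup.a 1 : QuaternionGroup m) ^ k = .a (k : ZMod (2 * m)) := by
  obtain ⟨n, rfl | rfl⟩ := k.eq_nat_or_neg
  · simp
  · rw [zpow_neg, zpow_natCast, QuaternionGroup.a_one_pow, inv_eq_iff_mul_eq_one]
    simp

theorem isQuatData_quaternionGroup (m : ℕ) :
    IsQuatData (⊤ : Subgroup (QuaternionGroup m)) m (.a 1) (.xa 0) where
  notMem := by
    intro h
    obtain ⟨k, hk⟩ := mem_zpowers_iff.mp h
    rw [quaternionGroup_a_one_zpow] at hk
    simp at hk
  mem := by
    rintro (a | a) <;> obtain ⟨a, rfl⟩ := ZMod.intCast_surjective a <;> simp only [mem_top, true_iff]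
    · exact ⟨a, Or.inl (by rw [quaternionGroup_a_one_zpow])⟩
    · exact ⟨-a, Or.inr (by rw [quaternionGroup_a_one_zpow]; simp)⟩
  ord := QuaternionGroup.orderOf_a_one
  sq := by simp
  conj := by
    rw [mul_inv_eq_iff_eq_mul, eq_comm, inv_mul_eq_iff_eq_mul]
    simp

theorem IsDihData.map {H : Type*} [Group H] {S : Subgroup G} {m : ℕ} {x y : G}
    (h : IsDihData S m x y) (f : G →* H) (hf : Function.Injective f) :
    IsDihData (S.map f) m (f x) (f y) where
  toIsCycExt := h.toIsCycExt.map f hf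
  ord := by rw [orderOf_injective f hf, h.ord]
  sq := by rw [← map_mul, h.sq, map_one]
  conj := by rw [← map_inv, ← map_mul, ← map_mul, h.conj, map_inv]

theorem IsQuatData.map {H : Type*} [Group H] {S : Subgroup G} {m : ℕ} {x y : G}
    (h : IsQuatData S m x y) (f : G →* H) (hf : Function.Injective f) :
    IsQuatData (S.map f) m (f x) (f y) where
  toIsCycExt := h.toIsCycExt.map f hf
  ord := by rw [orderOf_injective f hf, h.ord]
  sq := by rw [← map_mul, h.sq, map_pow]
  conj := by rw [← map_inv, ← map_mul, ← map_mul, h.conj, map_inv]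

theorem map_top_comp_equiv {H : Type*} [Group H] {S : Subgroup G} (e : S ≃* H) :
    (⊤ : Subgroup H).map (S.subtype.comp e.symm.toMonoidHom) = S := by
  rw [← Subgroup.map_map]
  simp [← MonoidHom.range_eq_map]

theorem exists_isDihData_of_equiv {S : Subgroup G} {m : ℕ} (e : S ≃* DihedralGroup m) :
    ∃ x y : G, IsDihData S m x y := by
  have := (isDihData_dihedralGroup m).map (S.subtype.comp e.symm.toMonoidHom)
    (S.subtype_injective.comp e.symm.injective)
  rw [map_top_comp_equiv] at this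
  exact ⟨_, _, this⟩

theorem exists_isQuatData_of_equiv {S : Subgroup G} {m : ℕ} (e : S ≃* QuaternionGroup m) :
    ∃ x y : G, IsQuatData S m x y := by
  have := (isQuatData_quaternionGroup m).map (S.subtype.comp e.symm.toMonoidHom)
    (S.subtype_injective.comp e.symm.injective)
  rw [map_top_comp_equiv] at this
  exact ⟨_, _, this⟩

/-- `⟨x, y⟩` is dihedral when `y` is an involution outside `⟨x⟩` inverting `x`. -/
theorem isDihData_closure {x y : G} (h1 : y * x * y⁻¹ = x⁻¹) (h2 : y * y = 1)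
    (h3 : y ∉ zpowers x) : IsDihData (closure ({x, y} : Set G)) (orderOf x) x y where
  toIsCycExt := isCycExt_closure (h1 ▸ inv_mem (mem_zpowers x)) (h2 ▸ one_mem _) h3
  ord := rfl
  sq := h2
  conj := h1

/-- `⟨x, y⟩` is generalized quaternion under the standard relations. -/
theorem isQuatData_closure {x y : G} {m : ℕ} (h0 : orderOf x = 2 * m) (h1 : y * x * y⁻¹ = x⁻¹)
    (h2 : y * y = x ^ m) (h3 : y ∉ zpowers x) : IsQuatData (closure ({x, y} : Set G)) m x y where
  toIsCycExt := isCycExt_closure (h1 ▸ inv_mem (mem_zpowers x)) (h2 ▸ npow_mem_zpowers x m) h3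
  ord := h0
  sq := h2
  conj := h1

end CL
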