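import Cfsg.Agent.TwoFus.Rank2Order3

/-!
2-groups with three involutions permuted cyclically by an automorphism of order 3 are homocyclic
or of order 64 and exponent 4; the latter group is unique up to isomorphism.
-/

set_option autoImplicit false

namespace CL.Rank2

variable {T : Type*} [Group T]

theorem invol_eq_of_mem_zpowers {x t : T} {k : ℕ} (hx : orderOf x = 2 ^ (k + 1))
    (ht : t ∈ Subgroup.zpowers x) (ht2 : t * t = 1) (ht1 : t ≠ 1) : t = x ^ 2 ^ k := by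
  obtain ⟨i, rfl⟩ := ht
  simp only at ht2 ht1 ⊢
  rw [← zpow_add, ← orderOf_dvd_iff_zpow_eq_one, hx] at ht2
  obtain ⟨j, hj⟩ := ht2
  have hi : i = 2 ^ k * j := by push_cast at hj; rw [pow_succ] at hj; linarith
  have h2 : (x ^ 2 ^ k) ^ (2 : ℤ) = 1 := by
    rw [zpow_ofNat, ← pow_mul, ← pow_succ, ← hx, pow_orderOf_eq_one]
  have e : x ^ i = (x ^ 2 ^ k) ^ (j % 2) := by
    rw [← zpow_eq_zpow_emod j h2, hi, zpow_mul]; norm_cast
  rcases Int.emod_two_eq_zero_or_one j with h | h <;> rw [h] at e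
  · exact absurd (by simpa using e) ht1
  · simpa using e

theorem half_pow_ne_one {x : T} {k : ℕ} (hx : orderOf x = 2 ^ (k + 1)) : x ^ 2 ^ k ≠ 1 :=
  pow_ne_one_of_lt_orderOf (by positivity) (by rw [hx]; exact Nat.pow_lt_pow_right (by norm_num) (by omega))

theorem half_pow_sq {x : T} {k : ℕ} (hx : orderOf x = 2 ^ (k + 1)) : x ^ 2 ^ k * x ^ 2 ^ k = 1 := by
  rw [← pow_two, ← pow_mul, ← pow_succ, ← hx, pow_orderOf_eq_one]

namespace Setup

variable {σ : MulAut T} {z : T} [Finite T]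

theorem exists_inv_mul_map (h : Setup σ z) (hT : IsPGroup 2 T) (g : T) : ∃ u, g = u⁻¹ * σ u := by
  have : Function.Injective (fun u : T => u⁻¹ * σ u) := by
    intro u v e
    simp only at e
    have : σ (u * v⁻¹) = u * v⁻¹ := by
      rw [map_mul, map_inv]
      calc σ u * (σ v)⁻¹ = u * (u⁻¹ * σ u) * (σ v)⁻¹ := by group
        _ = u * v⁻¹ := by rw [e]; group
    exact mul_inv_eq_one.1 (h.fixedPointFree hT this)
  obtain ⟨u, hu⟩ := Finite.surjective_of_injective this g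
  exact ⟨u, hu.symm⟩

theorem prod_eq_one (h : Setup σ z) (hT : IsPGroup 2 T) (h3 : ∀ x, σ (σ (σ x)) = x) (x : T) :
    x * σ x * σ (σ x) = 1 := by
  obtain ⟨u, rfl⟩ := h.exists_inv_mul_map hT x
  simp only [map_mul, map_inv, h3]
  group

theorem map_map_eq (h : Setup σ z) (hT : IsPGroup 2 T) (h3 : ∀ x, σ (σ (σ x)) = x) (x : T) :
    σ (σ x) = (x * σ x)⁻¹ :=
  eq_inv_of_mul_eq_one_right (h.prod_eq_one hT h3 x)

theorem commute_map (h : Setup σ z) (hT : IsPGroup 2 T) (h3 : ∀ x, σ (σ (σ x)) = x) (x : T) :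
    Commute x (σ x) := by
  have h1 := h.map_map_eq hT h3 x
  have h2 := h.map_map_eq hT h3 x⁻¹
  simp only [map_inv, mul_inv_rev, inv_inv] at h1 h2
  rw [h1, mul_inv_rev, inv_inv, inv_inv] at h2
  exact h2

theorem commute_conj_map (h : Setup σ z) (hT : IsPGroup 2 T) (h3 : ∀ x, σ (σ (σ x)) = x)
    (y g : T) : Commute y (g * σ y * g⁻¹) := by
  obtain ⟨u, rfl⟩ := h.exists_inv_mul_map hT g
  have h1 := (h.commute_map hT h3 (u * y * u⁻¹)).eq
  simp only [map_mul, map_inv] at h1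
  change _ = _
  calc y * (u⁻¹ * σ u * σ y * (u⁻¹ * σ u)⁻¹)
      = u⁻¹ * (u * y * u⁻¹ * (σ u * σ y * (σ u)⁻¹)) * u := by group
    _ = _ := by rw [h1]; group

theorem engel (h : Setup σ z) (hT : IsPGroup 2 T) (h3 : ∀ x, σ (σ (σ x)) = x) (y g : T) :
    Commute y (g * y * g⁻¹) := by
  have h1 : Commute (σ (σ y)) (g * y * g⁻¹) := by
    have := h.commute_conj_map hT h3 (σ (σ y)) g
    rwa [h3] at this
  have h2 : Commute (σ y) (g * y * g⁻¹) := by
    have := (h.commute_conj_map hT h3 y g⁻¹).eq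
    change _ = _
    calc σ y * (g * y * g⁻¹) = g * (g⁻¹ * σ y * g⁻¹⁻¹ * y) * g⁻¹ := by group
      _ = _ := by rw [← this]; group
  have h4 : y = (σ y * σ (σ y))⁻¹ := by
    rw [← h.map_map_eq hT h3, h3]
  have := (h2.mul_left h1).inv_left
  rwa [← h4] at this

omit [Finite T] in
theorem zpowers_inf (h : Setup σ z) (hT : IsPGroup 2 T) {x : T} {k : ℕ}
    (hx : orderOf x = 2 ^ (k + 1)) : Subgroup.zpowers x ⊓ Subgroup.zpowers (σ x) = ⊥ := by
  rw [eq_bot_iff]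
  intro w hw
  by_contra hw1
  obtain ⟨n, hn1, hn2⟩ := exists_pow_not_mem_sq_mem hT ⊥ hw1
  rw [Subgroup.mem_bot] at hn1 hn2
  have e1 := invol_eq_of_mem_zpowers hx (pow_mem hw.1 n) hn2 hn1
  have e2 := invol_eq_of_mem_zpowers (k := k) (by rw [MulEquiv.orderOf_eq, hx]) (pow_mem hw.2 n) hn2 hn1
  rw [← map_pow, ← e1] at e2
  exact hn1 (h.eq_one_of_fixed hn2 e2.symm)

theorem exists_sq (h : Setup σ z) (hT : IsPGroup 2 T) (h3 : ∀ x, σ (σ (σ x)) = x) {x : T} {k : ℕ}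
    (hx : orderOf x = 2 ^ (k + 1)) {b : T} (hb : b ∈ Subgroup.closure ({x, σ x} : Set T))
    (hb2 : b ^ 2 ^ k = 1) : ∃ a ∈ Subgroup.closure ({x, σ x} : Set T), b = a * a := by
  have hc := h.commute_map hT h3 x
  obtain ⟨i, j, rfl⟩ := (mem_closure_pair_of_commute hc).1 hb
  rw [(hc.zpow_zpow i j).mul_pow] at hb2
  have h1 : (x ^ i) ^ 2 ^ k ∈ Subgroup.zpowers x ⊓ Subgroup.zpowers (σ x) := by
    refine ⟨Subgroup.pow_mem _ (Subgroup.zpow_mem_zpowers x i) _, ?_⟩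
    rw [eq_inv_of_mul_eq_one_left hb2]
    exact Subgroup.inv_mem _ (Subgroup.pow_mem _ (Subgroup.zpow_mem_zpowers _ j) _)
  rw [h.zpowers_inf hT hx, Subgroup.mem_bot] at h1
  rw [h1, one_mul] at hb2
  have key : ∀ (y : T) (i : ℤ), orderOf y = 2 ^ (k + 1) → (y ^ i) ^ 2 ^ k = 1 → ∃ l, i = l + l := by
    intro y i hy e
    rw [← zpow_natCast, ← zpow_mul, ← orderOf_dvd_iff_zpow_eq_one, hy] at e
    obtain ⟨l, hl⟩ := e
    refine ⟨l, ?_⟩
    push_cast at hl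
    have h2 : (2 : ℤ) ^ k ≠ 0 := by positivity
    apply mul_right_cancel₀ h2
    rw [hl]; ring
  obtain ⟨i, rfl⟩ := key x i hx h1
  obtain ⟨j, rfl⟩ := key (σ x) j (by rw [MulEquiv.orderOf_eq, hx]) hb2
  refine ⟨x ^ i * σ x ^ j, (mem_closure_pair_of_commute hc).2 ⟨i, j, rfl⟩, ?_⟩
  rw [zpow_add, zpow_add]
  exact (hc.zpow_zpow i j).mul_mul_mul_comm _ _

omit [Finite T] in
theorem invol_mem_closure (h : Setup σ z) {x : T} {k : ℕ} (hx : orderOf x = 2 ^ (k + 1)) {t : T}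
    (ht : t * t = 1) : t ∈ Subgroup.closure ({x, σ x} : Set T) := by
  have h' := h.of_invol (half_pow_sq hx) (half_pow_ne_one hx)
  have m1 : x ^ 2 ^ k ∈ Subgroup.closure ({x, σ x} : Set T) :=
    pow_mem (Subgroup.subset_closure (by simp)) _
  have m2 : σ (x ^ 2 ^ k) ∈ Subgroup.closure ({x, σ x} : Set T) := by
    rw [map_pow]; exact pow_mem (Subgroup.subset_closure (by simp)) _
  rcases h'.cases t ht with e | e | e | e <;> rw [e]
  exacts [one_mem _, m1, m2, mul_mem m1 m2]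

theorem closure_eq_top (h : Setup σ z) (hT : IsPGroup 2 T) (h3 : ∀ x, σ (σ (σ x)) = x) {x : T}
    {k : ℕ} (hk : 2 ≤ k) (hx : orderOf x = 2 ^ (k + 1)) (hexp : ∀ y : T, y ^ 2 ^ (k + 1) = 1) :
    Subgroup.closure ({x, σ x} : Set T) = ⊤ := by
  set A := Subgroup.closure ({x, σ x} : Set T) with hA
  have hAc : ∀ a ∈ A, ∀ b ∈ A, a * b = b * a := by
    intro a ha b hb
    have hc := h.commute_map hT h3 x
    obtain ⟨i, j, rfl⟩ := (mem_closure_pair_of_commute hc).1 ha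
    obtain ⟨i', j', rfl⟩ := (mem_closure_pair_of_commute hc).1 hb
    exact (((Commute.refl x).zpow_zpow _ _).mul_right (hc.zpow_zpow _ _)).mul_left
      ((hc.symm.zpow_zpow _ _).mul_right ((Commute.refl _).zpow_zpow _ _))
  -- two computations in the 2-Engel group `T`
  have hsq : ∀ y a : T, y * y = a * a → y * a⁻¹ * (y * a⁻¹) = a * y⁻¹ * a⁻¹ * y := by
    intro y a e
    have h1 := (h.engel hT h3 a⁻¹ y⁻¹).eq
    calc y * a⁻¹ * (y * a⁻¹) = (y * y) * (y⁻¹ * a⁻¹ * y⁻¹⁻¹ * a⁻¹) := by group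
      _ = _ := by rw [e, ← h1]; group
  have hcsq : ∀ y a : T, (a * y⁻¹ * a⁻¹ * y) * (a * y⁻¹ * a⁻¹ * y) = a * (y * y)⁻¹ * a⁻¹ * (y * y) := by
    intro y a
    have h1 := (h.engel hT h3 y⁻¹ a).inv_left.eq
    calc (a * y⁻¹ * a⁻¹ * y) * (a * y⁻¹ * a⁻¹ * y)
        = (a * y⁻¹ * a⁻¹) * (y⁻¹⁻¹ * (a * y⁻¹ * a⁻¹)) * y := by group
      _ = _ := by rw [h1]; group
  have hcsq' : ∀ y a : T, (a * y⁻¹ * a⁻¹ * y) * (a * y⁻¹ * a⁻¹ * y) = a * a * y⁻¹ * (a * a)⁻¹ * y := by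
    intro y a
    have h1 := (h.engel hT h3 a⁻¹ y⁻¹).inv_left.eq
    calc (a * y⁻¹ * a⁻¹ * y) * (a * y⁻¹ * a⁻¹ * y)
        = a * (y⁻¹ * a⁻¹ * y⁻¹⁻¹ * a⁻¹⁻¹) * (y⁻¹ * a⁻¹ * y) := by group
      _ = _ := by rw [← h1]; group
  by_contra hne
  obtain ⟨y0, hy0⟩ : ∃ y, y ∉ A := by
    by_contra hcon
    push Not at hcon
    exact hne (eq_top_iff.2 fun y _ => hcon y)
  obtain ⟨n, hy, hy2⟩ := exists_pow_not_mem_sq_mem hT A hy0
  set y := y0 ^ n
  obtain ⟨a, ha, e⟩ := h.exists_sq hT h3 hx hy2 (by rw [← pow_two, ← pow_mul, ← pow_succ', hexp])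
  set w := y * a⁻¹ with hw
  have hwA : w ∉ A := fun hwA => hy (by simpa [hw] using mul_mem hwA ha)
  have hw4 : w * w * (w * w) = 1 := by
    rw [hw, hsq y a e, hcsq, e]; group
  have hw2 : w * w ∈ A := h.invol_mem_closure hx hw4
  obtain ⟨k, rfl⟩ : ∃ l, k = l + 2 := ⟨k - 2, by omega⟩
  obtain ⟨a1, ha1, e1⟩ := h.exists_sq hT h3 hx hw2 (by
    rw [pow_succ', pow_mul, pow_two (w * w), hw4, one_pow])
  obtain ⟨d, hd, e2⟩ := h.exists_sq hT h3 hx ha1 (by
    have : a1 ^ 4 = 1 := by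
      rw [← hw4, e1]; simp only [pow_succ, pow_zero, one_mul, mul_assoc]
    rw [pow_add, mul_comm, pow_mul, show 2 ^ 2 = 4 from rfl, this, one_pow])
  have h5 : w * a1⁻¹ * (w * a1⁻¹) = 1 := by
    rw [hsq w a1 e1, e2, ← hcsq', hcsq, hAc d hd _ (inv_mem hw2)]; group
  exact hwA (by simpa using mul_mem (h.invol_mem_closure hx h5) ha1)

/-- The dichotomy: homocyclic, or of order 64 and exponent 4. -/
theorem homocyclic_or (h : Setup σ z) (hT : IsPGroup 2 T) (h3 : ∀ x, σ (σ (σ x)) = x) :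
    (∃ (k : ℕ) (x : T), orderOf x = 2 ^ (k + 1) ∧ Subgroup.closure ({x, σ x} : Set T) = ⊤) ∨
      (Nat.card T = 64 ∧ ∀ x : T, x * x * (x * x) = 1) := by
  have : Fact (Nat.Prime 2) := ⟨Nat.prime_two⟩
  obtain ⟨x, hx⟩ := Finite.exists_max (orderOf : T → ℕ)
  obtain ⟨m, hm⟩ := IsPGroup.iff_orderOf.1 hT x
  have hexp : ∀ y : T, y ^ 2 ^ m = 1 := by
    intro y
    obtain ⟨l, hl⟩ := IsPGroup.iff_orderOf.1 hT y
    have := hx y
    rw [hl, hm, Nat.pow_le_pow_iff_right (by norm_num)] at this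
    rw [← orderOf_dvd_iff_pow_eq_one, hl]
    exact pow_dvd_pow 2 this
  rcases m with _ | k
  · exact absurd (by simpa using hexp z) h.ne_one
  by_cases htop : Subgroup.closure ({x, σ x} : Set T) = ⊤
  · exact Or.inl ⟨k, x, hm, htop⟩
  right
  rcases k with _ | _ | k
  · exact absurd (eq_top_iff.2 fun y _ => h.invol_mem_closure hm (by rw [← pow_two]; exact hexp y)) htop
  · have h4 : ∀ y : T, y * y * (y * y) = 1 := fun y => by
      rw [← hexp y]; simp only [pow_succ, pow_zero, one_mul, mul_assoc, zero_add,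
        Nat.reduceAdd, Nat.reduceMul]
    refine ⟨?_, h4⟩
    have h1 := h.card_eq hT ⊤ (Subgroup.mem_top _) (fun _ _ => Subgroup.mem_top _) (fun y _ => h4 y)
    rw [Subgroup.card_top] at h1
    have h2 := card_closure_pair _ x (σ x) hm (by rw [MulEquiv.orderOf_eq, hm])
      (h.commute_map hT h3 x) (h.zpowers_inf hT hm)
    have h5 := Subgroup.card_le_card_group (Subgroup.closure ({x, σ x} : Set T))
    have h6 : Nat.card (Subgroup.closure ({x, σ x} : Set T)) ≠ Nat.card T :=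
      fun e => htop (Subgroup.eq_top_of_card_eq _ e)
    norm_num at h2
    omega
  · exact absurd (h.closure_eq_top hT h3 (by omega) hm hexp) htop

end Setup

end CL.Rank2
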