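import Cfsg.Agent.TwoFus.DQ

/-!
# Counting classes, actions on three objects, four-groups and quaternion groups of order 8
-/

set_option autoImplicit false

namespace CL

open Subgroup

variable {G : Type*} [Group G]

/-! ### Counting conjugacy classes of elements of a given order -/

theorem orderOf_eq_of_isConj' {a b : G} (h : IsConj a b) : orderOf a = orderOf b := by
  obtain ⟨c, rfl⟩ := isConj_iff.1 h
  exact (orderOf_injective (MulAut.conj c).toMonoidHom (MulAut.conj c).injective a).symm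

theorem card_orderClasses_eq_one {k : ℕ} {a : G} (ha : orderOf a = k)
    (h : ∀ g : G, orderOf g = k → IsConj a g) :
    Nat.card {C : ConjClasses G // ∃ t : G, orderOf t = k ∧ ConjClasses.mk t = C} = 1 := by
  rw [Nat.card_eq_one_iff_exists]
  refine ⟨⟨ConjClasses.mk a, a, ha, rfl⟩, ?_⟩
  rintro ⟨C, t, ht, rfl⟩
  exact Subtype.ext (ConjClasses.mk_eq_mk_iff_isConj.2 (h t ht).symm)

theorem card_orderClasses_eq_two {k : ℕ} {a b : G} (ha : orderOf a = k) (hb : orderOf b = k)
    (hab : ¬ IsConj a b) (h : ∀ g : G, orderOf g = k → IsConj a g ∨ IsConj b g) :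
    Nat.card {C : ConjClasses G // ∃ t : G, orderOf t = k ∧ ConjClasses.mk t = C} = 2 := by
  rw [Nat.card_eq_two_iff]
  refine ⟨⟨ConjClasses.mk a, a, ha, rfl⟩, ⟨ConjClasses.mk b, b, hb, rfl⟩, ?_, ?_⟩
  · intro he
    exact hab (ConjClasses.mk_eq_mk_iff_isConj.1 (congrArg Subtype.val he))
  · rw [Set.eq_univ_iff_forall]
    rintro ⟨C, t, ht, rfl⟩
    rcases h t ht with h1 | h1
    · exact Or.inl (Subtype.ext (ConjClasses.mk_eq_mk_iff_isConj.2 h1.symm))
    · exact Or.inr (Subtype.ext (ConjClasses.mk_eq_mk_iff_isConj.2 h1.symm))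

theorem card_orderClasses_eq_three {k : ℕ} {a b c : G} (ha : orderOf a = k) (hb : orderOf b = k)
    (hc : orderOf c = k) (hab : ¬ IsConj a b) (hac : ¬ IsConj a c) (hbc : ¬ IsConj b c)
    (h : ∀ g : G, orderOf g = k → IsConj a g ∨ IsConj b g ∨ IsConj c g) :
    Nat.card {C : ConjClasses G // ∃ t : G, orderOf t = k ∧ ConjClasses.mk t = C} = 3 := by
  have : {C : ConjClasses G | ∃ t : G, orderOf t = k ∧ ConjClasses.mk t = C} =
      {ConjClasses.mk a, ConjClasses.mk b, ConjClasses.mk c} := by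
    ext C
    constructor
    · rintro ⟨t, ht, rfl⟩
      rcases h t ht with h1 | h1 | h1
      · exact Or.inl (ConjClasses.mk_eq_mk_iff_isConj.2 h1.symm)
      · exact Or.inr (Or.inl (ConjClasses.mk_eq_mk_iff_isConj.2 h1.symm))
      · exact Or.inr (Or.inr (ConjClasses.mk_eq_mk_iff_isConj.2 h1.symm))
    · rintro (rfl | rfl | rfl)
      · exact ⟨a, ha, rfl⟩
      · exact ⟨b, hb, rfl⟩
      · exact ⟨c, hc, rfl⟩
  change Nat.card {C : ConjClasses G | ∃ t : G, orderOf t = k ∧ ConjClasses.mk t = C} = 3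
  rw [this, Nat.card_coe_set_eq, Set.ncard_eq_three]
  exact ⟨_, _, _, by rwa [Ne, ConjClasses.mk_eq_mk_iff_isConj],
    by rwa [Ne, ConjClasses.mk_eq_mk_iff_isConj], by rwa [Ne, ConjClasses.mk_eq_mk_iff_isConj], rfl⟩

/-! ### Actions on three objects -/

/-- A subgroup `N` permuting three objects `A 0, A 1, A 2` with kernel `K` gives a
homomorphism to `Perm (Fin 3)`. -/
theorem exists_hom_perm_three {α : Type*} (f : G → α → α) (hf1 : ∀ t, f 1 t = t)
    (hfm : ∀ g h t, f (g * h) t = f g (f h t)) (N : Subgroup G) (A : Fin 3 → α)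
    (hA : Function.Injective A) (hN : ∀ g ∈ N, ∀ i, ∃ j, f g (A i) = A j) :
    ∃ φ : N →* Equiv.Perm (Fin 3), ∀ (g : N) (i : Fin 3), A (φ g i) = f g (A i) := by
  choose σ hσ using hN
  have hmul : ∀ (g h : N) (i : Fin 3), σ _ (g * h).2 i = σ _ g.2 (σ _ h.2 i) := by
    intro g h i
    apply hA
    rw [← hσ, ← hσ, ← hσ, coe_mul, hfm]
  have hone : ∀ i : Fin 3, σ _ (1 : N).2 i = i := by
    intro i
    apply hA
    rw [← hσ, coe_one, hf1]
  refine ⟨MonoidHom.toHomPerm ⟨⟨fun g => σ _ g.2, funext hone⟩, fun g h => funext (hmul g h)⟩, ?_⟩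
  intro g i
  exact (hσ _ g.2 i).symm

/-- If `N` permutes three objects with kernel `K`, and some element of `N` fixes the first
object but not the second, then `|N : K|` is `2` (everything fixes the first object) or `6`
(the first object can be moved to the second one). -/
theorem relIndex_three {α : Type*} (f : G → α → α) (hf1 : ∀ t, f 1 t = t)
    (hfm : ∀ g h t, f (g * h) t = f g (f h t)) (N K : Subgroup G) (A : Fin 3 → α)
    (hA : Function.Injective A) (hN : ∀ g ∈ N, ∀ i, ∃ j, f g (A i) = A j)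
    (hK : ∀ g ∈ N, g ∈ K ↔ ∀ i, f g (A i) = A i) {s : G} (hs : s ∈ N) (hs0 : f s (A 0) = A 0)
    (hs1 : f s (A 1) ≠ A 1) :
    (K.relIndex N = 2 ∧ ∀ g ∈ N, f g (A 0) = A 0) ∨
      (K.relIndex N = 6 ∧ ∀ i j, ∃ g ∈ N, f g (A i) = A j) := by
  obtain ⟨φ, hφ⟩ := exists_hom_perm_three f hf1 hfm N A hA hN
  have hker : K.subgroupOf N = φ.ker := by
    ext g
    rw [mem_subgroupOf, hK _ g.2, MonoidHom.mem_ker, Equiv.ext_iff]
    refine forall_congr' fun i => ?_
    rw [← hφ, hA.eq_iff]; rfl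
  have hidx : K.relIndex N = Nat.card φ.range := by
    rw [relIndex, hker, index_ker]
  have h6 : Nat.card (Equiv.Perm (Fin 3)) = 6 := by
    rw [Nat.card_eq_fintype_card, Fintype.card_perm]; rfl
  have hdvd : Nat.card φ.range ∣ 6 := h6 ▸ card_subgroup_dvd_card φ.range
  set σ := φ ⟨s, hs⟩ with hσ
  have hσ0 : σ 0 = 0 := hA (by rw [hσ, hφ]; exact hs0)
  have hσ1 : σ 1 ≠ 1 := fun h1 => hs1 (by rw [← hφ ⟨s, hs⟩, ← hσ, h1])
  have hσe : σ = Equiv.swap 1 2 := by
    revert hσ0 hσ1
    generalize σ = τ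
    revert τ
    decide
  have hle : zpowers σ ≤ φ.range := by
    rw [zpowers_le]; exact ⟨_, rfl⟩
  have hz : Nat.card (zpowers σ) = 2 := by
    rw [Nat.card_zpowers, hσe]
    exact orderOf_eq_prime (by decide) (by decide)
  have h2 : 2 ∣ Nat.card φ.range := hz ▸ card_dvd_of_le hle
  have h26 : Nat.card φ.range = 2 ∨ Nat.card φ.range = 6 := by
    have := Nat.le_of_dvd (by norm_num) hdvd
    interval_cases Nat.card φ.range <;> simp_all
  rcases h26 with h | h
  · left
    refine ⟨hidx.trans h, fun g hg => ?_⟩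
    have he : zpowers σ = φ.range := eq_of_le_of_card_ge hle (by omega)
    have hm : φ ⟨g, hg⟩ ∈ zpowers σ := he ▸ ⟨_, rfl⟩
    have hst : zpowers σ ≤ MulAction.stabilizer (Equiv.Perm (Fin 3)) (0 : Fin 3) := by
      rw [zpowers_le]; exact hσ0
    have : φ ⟨g, hg⟩ 0 = 0 := hst hm
    rw [← hφ ⟨g, hg⟩, this]
  · right
    refine ⟨hidx.trans h, fun i j => ?_⟩
    have he : φ.range = ⊤ := by
      apply eq_top_of_card_eq
      rw [h, h6]
    obtain ⟨g, hg⟩ : Equiv.swap i j ∈ φ.range := he ▸ mem_top _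
    exact ⟨g, g.2, by rw [← hφ, hg, Equiv.swap_apply_left]⟩

theorem injective_vec_three {α : Type*} {a b c : α} (hab : a ≠ b) (hac : a ≠ c) (hbc : b ≠ c) :
    Function.Injective ![a, b, c] := by
  intro i j hij
  fin_cases i <;> fin_cases j <;> first | rfl | (exfalso; simp at hij; simp_all)

/-! ### Klein four-subgroups -/

/-- `T = {1, a, b, a b}` is a four-group. -/
structure IsFourData (T : Subgroup G) (a b : G) : Prop where
  a_sq : a * a = 1
  b_sq : b * b = 1
  comm : a * b = b * a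
  a_ne : a ≠ 1
  b_ne : b ≠ 1
  ne : a ≠ b
  mem : ∀ g, g ∈ T ↔ g = 1 ∨ g = a ∨ g = b ∨ g = a * b

theorem isFourData_of_isKleinFour {T : Subgroup G} (hT : IsKleinFour T) {a b : G} (ha : a ∈ T)
    (hb : b ∈ T) (ha1 : a ≠ 1) (hb1 : b ≠ 1) (hab : a ≠ b) : IsFourData T a b where
  a_sq := congrArg Subtype.val (IsKleinFour.mul_self (⟨a, ha⟩ : T))
  b_sq := congrArg Subtype.val (IsKleinFour.mul_self (⟨b, hb⟩ : T))
  comm := congrArg Subtype.val
    ((IsKleinFour.isMulCommutative (G := T)).is_comm.comm (⟨a, ha⟩ : T) ⟨b, hb⟩)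
  a_ne := ha1
  b_ne := hb1
  ne := hab
  mem g := by
    constructor
    · intro hg
      by_contra hn
      push Not at hn
      have := IsKleinFour.eq_mul_of_ne_all (G := T) (x := ⟨a, ha⟩) (y := ⟨b, hb⟩) (z := ⟨g, hg⟩)
        (by simpa using ha1) (by simpa using hb1) (by simpa using hab) (by simpa using hn.1)
        (by simpa using hn.2.1) (by simpa using hn.2.2.1)
      exact hn.2.2.2 (congrArg Subtype.val this)
    · rintro (rfl | rfl | rfl | rfl)
      · exact one_mem _
      · exact ha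
      · exact hb
      · exact mul_mem ha hb

theorem exists_isFourData {T : Subgroup G} (hT : IsKleinFour T) : ∃ a b : G, IsFourData T a b := by
  classical
  have : Finite T := IsKleinFour.instFinite
  have h3 : 2 < Nat.card T := by rw [hT.card_four]; norm_num
  have := Fintype.ofFinite T
  rw [Nat.card_eq_fintype_card] at h3
  obtain ⟨a, ha⟩ := Fintype.exists_ne_of_one_lt_card (by omega) (1 : T)
  obtain ⟨b, hb⟩ : ∃ b : T, b ≠ 1 ∧ b ≠ a := by
    by_contra hn
    push Not at hn
    have : (Finset.univ : Finset T) ⊆ {1, a} := by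
      intro t _
      by_cases h1 : t = 1
      · simp [h1]
      · simp [hn t h1]
    have h2 := Finset.card_le_card this
    have h4 : ({1, a} : Finset T).card ≤ 2 := Finset.card_le_two
    rw [Finset.card_univ] at h2
    omega
  exact ⟨a, b, isFourData_of_isKleinFour hT a.2 b.2 (by simpa using ha) (by simpa using hb.1)
    (fun h => hb.2 (Subtype.ext h.symm))⟩

namespace IsFourData

variable {T : Subgroup G} {a b : G}

theorem a_mem (h : IsFourData T a b) : a ∈ T := (h.mem a).2 (by simp)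

theorem b_mem (h : IsFourData T a b) : b ∈ T := (h.mem b).2 (by simp)

theorem ab_mem (h : IsFourData T a b) : a * b ∈ T := mul_mem h.a_mem h.b_mem

theorem ab_sq (h : IsFourData T a b) : a * b * (a * b) = 1 := by
  calc a * b * (a * b) = a * (b * a) * b := by group
    _ = (a * a) * (b * b) := by rw [← h.comm]; group
    _ = 1 := by rw [h.a_sq, h.b_sq, one_mul]

theorem ab_ne_one (h : IsFourData T a b) : a * b ≠ 1 := by
  intro h1
  exact h.ne (mul_right_cancel (h1.trans h.b_sq.symm))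

theorem ab_ne_a (h : IsFourData T a b) : a * b ≠ a := by simpa using h.b_ne

theorem ab_ne_b (h : IsFourData T a b) : a * b ≠ b := by simpa using h.a_ne

theorem symm (h : IsFourData T a b) : IsFourData T b a where
  a_sq := h.b_sq
  b_sq := h.a_sq
  comm := h.comm.symm
  a_ne := h.b_ne
  b_ne := h.a_ne
  ne := h.ne.symm
  mem g := by rw [h.mem, h.comm]; tauto

theorem isDihData (h : IsFourData T a b) : IsDihData T 2 a b := by
  have ho : orderOf a = 2 := orderOf_eq_prime (by rw [pow_two, h.a_sq]) h.a_ne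
  have hz : ∀ i : ℤ, a ^ i = 1 ∨ a ^ i = a := by
    intro i
    obtain ⟨j, rfl | rfl⟩ := Int.even_or_odd' i
    · left; rw [zpow_mul, zpow_two, h.a_sq, one_zpow]
    · right; rw [zpow_add, zpow_mul, zpow_two, h.a_sq, one_zpow, one_mul, zpow_one]
  refine ⟨⟨?_, fun g => ?_⟩, ho, h.b_sq, ?_⟩
  · intro hm
    obtain ⟨i, hi⟩ := mem_zpowers_iff.mp hm
    rcases hz i with h1 | h1
    · exact h.b_ne (hi ▸ h1)
    · exact h.ne (h1.symm.trans hi)
  · rw [h.mem]
    constructor
    · rintro (rfl | rfl | rfl | rfl)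
      · exact ⟨0, Or.inl (by simp)⟩
      · exact ⟨1, Or.inl (by simp)⟩
      · exact ⟨0, Or.inr (by simp)⟩
      · exact ⟨1, Or.inr (by simp)⟩
    · rintro ⟨i, rfl | rfl⟩ <;> rcases hz i with h1 | h1 <;> simp [h1]
  · rw [← h.comm, mul_inv_cancel_right, eq_inv_iff_mul_eq_one, h.a_sq]

theorem card_eq (h : IsFourData T a b) : Nat.card T = 4 := by
  rw [h.isDihData.card_eq, h.isDihData.ord]

theorem sq_eq_one (h : IsFourData T a b) {g : G} (hg : g ∈ T) : g * g = 1 := by
  rcases (h.mem g).1 hg with rfl | rfl | rfl | rfl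
  · simp
  · exact h.a_sq
  · exact h.b_sq
  · exact h.ab_sq

theorem isKleinFour (h : IsFourData T a b) : IsKleinFour T where
  card_four := h.card_eq
  exponent_two := by
    have : Nontrivial T := ⟨⟨⟨a, h.a_mem⟩, 1, by simpa using h.a_ne⟩⟩
    rw [Monoid.exponent_eq_prime_iff Nat.prime_two]
    intro g hg
    exact orderOf_eq_prime (Subtype.ext (by simpa [pow_two] using h.sq_eq_one g.2)) hg

theorem map {H : Type*} [Group H] (h : IsFourData T a b) (f : G →* H)
    (hf : Function.Injective f) : IsFourData (T.map f) (f a) (f b) where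
  a_sq := by rw [← map_mul, h.a_sq, map_one]
  b_sq := by rw [← map_mul, h.b_sq, map_one]
  comm := by rw [← map_mul, h.comm, map_mul]
  a_ne := by rw [← map_one f]; exact hf.ne h.a_ne
  b_ne := by rw [← map_one f]; exact hf.ne h.b_ne
  ne := hf.ne h.ne
  mem g := by
    constructor
    · rintro ⟨t, ht, rfl⟩
      rcases (h.mem t).1 ht with rfl | rfl | rfl | rfl <;> simp
    · rintro (rfl | rfl | rfl | rfl)
      · exact one_mem _
      · exact mem_map_of_mem f h.a_mem
      · exact mem_map_of_mem f h.b_mem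
      · exact mul_mem (mem_map_of_mem f h.a_mem) (mem_map_of_mem f h.b_mem)

theorem eq_of (h : IsFourData T a b) {T' : Subgroup G} (h' : IsFourData T' a b) : T = T' := by
  ext g; rw [h.mem, h'.mem]

theorem mem_centralizer_iff (h : IsFourData T a b) {g : G} :
    g ∈ centralizer (T : Set G) ↔ a * g = g * a ∧ b * g = g * b := by
  rw [Subgroup.mem_centralizer_iff]
  refine ⟨fun hc => ⟨hc a h.a_mem, hc b h.b_mem⟩, fun ⟨h1, h2⟩ t ht => ?_⟩
  rcases (h.mem t).1 ht with rfl | rfl | rfl | rfl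
  · simp
  · exact h1
  · exact h2
  · rw [mul_assoc, h2, ← mul_assoc, h1, mul_assoc]

theorem mem_normalizer_of (h : IsFourData T a b) {g : G} (ha : g * a * g⁻¹ ∈ T)
    (hb : g * b * g⁻¹ ∈ T) : g ∈ normalizer (T : Set G) := by
  have : Finite T := Nat.finite_of_card_ne_zero (by rw [h.card_eq]; norm_num)
  apply mem_normalizer_fintype
  intro t ht
  rcases (h.mem t).1 ht with rfl | rfl | rfl | rfl
  · simp
  · exact ha
  · exact hb
  · have := mul_mem ha hb
    simpa [mul_assoc] using this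

/-- The normalizer of a four-group acts on its three involutions with kernel the centralizer. -/
theorem relIndex_cases (h : IsFourData T a b) {s : G} (hs : s ∈ normalizer (T : Set G))
    (hsa : s * a * s⁻¹ = a) (hsb : s * b * s⁻¹ ≠ b) :
    ((centralizer (T : Set G)).relIndex (normalizer (T : Set G)) = 2 ∧
        ∀ g ∈ normalizer (T : Set G), g * a * g⁻¹ = a) ∨
      ((centralizer (T : Set G)).relIndex (normalizer (T : Set G)) = 6 ∧
        (∃ g ∈ normalizer (T : Set G), g * a * g⁻¹ = b) ∧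
        ∃ g ∈ normalizer (T : Set G), g * a * g⁻¹ = a * b) := by
  have hA : Function.Injective ![a, b, a * b] := by
    exact injective_vec_three h.ne h.ab_ne_a.symm h.ab_ne_b.symm
  have key := relIndex_three (fun g t : G => g * t * g⁻¹) (by simp) (by intros; group)
    (normalizer (T : Set G)) (centralizer (T : Set G)) ![a, b, a * b] hA ?_ ?_ hs hsa hsb
  · rcases key with h1 | h1
    · exact Or.inl h1
    · exact Or.inr ⟨h1.1, h1.2 0 1, h1.2 0 2⟩
  · intro g hg i
    have hi : ![a, b, a * b] i ∈ T ∧ ![a, b, a * b] i ≠ 1 := by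
      fin_cases i
      · exact ⟨h.a_mem, h.a_ne⟩
      · exact ⟨h.b_mem, h.b_ne⟩
      · exact ⟨h.ab_mem, h.ab_ne_one⟩
    rcases (h.mem _).1 ((mem_normalizer_iff.1 hg _).1 hi.1) with h1 | h1 | h1 | h1
    · exact absurd (by simpa using h1) hi.2
    · exact ⟨0, h1⟩
    · exact ⟨1, h1⟩
    · exact ⟨2, h1⟩
  · intro g _
    rw [h.mem_centralizer_iff]
    constructor
    · rintro ⟨h1, h2⟩ i
      fin_cases i
      · simp [← h1]
      · simp [← h2]
      · simp only [Fin.reduceFinMk, Matrix.cons_val]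
        rw [← mul_assoc, ← h1, mul_assoc a, ← h2]; group
    · intro hi
      have h0 : g * a * g⁻¹ = a := hi 0
      have h1 : g * b * g⁻¹ = b := hi 1
      exact ⟨(mul_inv_eq_iff_eq_mul.1 h0).symm, (mul_inv_eq_iff_eq_mul.1 h1).symm⟩

end IsFourData

theorem isFourData_closure {a b : G} (ha : a * a = 1) (hb : b * b = 1) (hc : a * b = b * a)
    (ha1 : a ≠ 1) (hb1 : b ≠ 1) (hab : a ≠ b) : IsFourData (closure ({a, b} : Set G)) a b where
  a_sq := ha
  b_sq := hb
  comm := hc
  a_ne := ha1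
  b_ne := hb1
  ne := hab
  mem g := by
    have hz : ∀ i : ℤ, a ^ i = 1 ∨ a ^ i = a := by
      intro i
      obtain ⟨j, rfl | rfl⟩ := Int.even_or_odd' i
      · left; rw [zpow_mul, zpow_two, ha, one_zpow]
      · right; rw [zpow_add, zpow_mul, zpow_two, ha, one_zpow, one_mul, zpow_one]
    rw [mem_closure_pair_of_conj (by rw [← hc]; simp) (by rw [hb]; exact one_mem _)]
    constructor
    · rintro ⟨i, rfl | rfl⟩ <;> rcases hz i with h1 | h1 <;> simp [h1]
    · rintro (rfl | rfl | rfl | rfl)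
      · exact ⟨0, Or.inl (by simp)⟩
      · exact ⟨1, Or.inl (by simp)⟩
      · exact ⟨0, Or.inr (by simp)⟩
      · exact ⟨1, Or.inr (by simp)⟩

end CL
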