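import Cfsg.Agent.Base
import Cfsg.Agent.PGrp.CyclicMax
import Cfsg.Agent.PGrp.Frattini
import Cfsg.Agent.Solv.UniqueSubgroupP
import Cfsg.Agent.TwoFus.DQ
import Cfsg.Agent.TwoFus.Three
import Cfsg.Agent.TwoFus.Rank2Struct

/-!
Finite 2-groups without normal four-subgroup are cyclic, dihedral, generalized quaternion or
quasi-dihedral.
-/

set_option autoImplicit false

namespace CL.Rank2

open Subgroup CL.PGrp CL.PGrp.CycMax

variable {P : Type*} [Group P]

/-- A normal abelian non-cyclic subgroup of a finite 2-group contains a normal four-subgroup. -/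
theorem exists_normal_four_of_not_isCyclic [Finite P] (hP : IsPGroup 2 P) (A : Subgroup P) [A.Normal]
    (hA : IsMulCommutative A) (hnc : ¬ IsCyclic A) :
    ∃ V : Subgroup P, V.Normal ∧ V ≤ A ∧ IsKleinFour V := by
  classical
  have : Fact (Nat.Prime 2) := ⟨Nat.prime_two⟩
  let E : Subgroup P :=
    { carrier := {t | t ∈ A ∧ t * t = 1}
      one_mem' := ⟨one_mem _, one_mul 1⟩
      mul_mem' := fun {s t} hs ht => ⟨mul_mem hs.1 ht.1, by
        have e : t * s = s * t := setLike_mul_comm ht.1 hs.1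
        calc s * t * (s * t) = s * (t * s) * t := by group
          _ = (s * s) * (t * t) := by rw [e]; group
          _ = 1 := by rw [hs.2, ht.2, one_mul]⟩
      inv_mem' := fun {s} hs => ⟨inv_mem hs.1, by rw [← mul_inv_rev, hs.2, inv_one]⟩ }
  have : E.Normal := ⟨fun t ht g => ⟨Normal.conj_mem inferInstance t ht.1 g, by
    calc g * t * g⁻¹ * (g * t * g⁻¹) = g * (t * t) * g⁻¹ := by group
      _ = 1 := by rw [ht.2]; group⟩⟩
  have h4 : 2 ^ 2 ≤ Nat.card E := by
    by_contra hlt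
    apply hnc
    obtain ⟨j, hj⟩ := (hP.to_subgroup E).exists_card_eq
    have hE2 : Nat.card E ≤ 2 := by
      rw [hj] at hlt ⊢
      have : j < 2 := (Nat.pow_lt_pow_iff_right (by norm_num)).1 (not_le.1 hlt)
      interval_cases j <;> norm_num
    have := Fintype.ofFinite A
    have hcomm : ∀ a b : A, a * b = b * a := fun a b => mul_comm' a b
    rcases CL.UniqP.isCyclic_or_quaternion (p := 2) (hP.to_subgroup A) (by
      intro x y hx hy hx1
      by_contra hy'
      have hy1 : y ≠ 1 := fun e => hy' (e ▸ one_mem _)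
      have hxy : x ≠ y := fun e => hy' (e ▸ mem_zpowers _)
      have := Fintype.ofFinite E
      have h3 : 2 < Fintype.card E := Fintype.two_lt_card_iff.2
        ⟨1, ⟨x, x.2, by rw [← pow_two]; exact congrArg Subtype.val hx⟩,
          ⟨y, y.2, by rw [← pow_two]; exact congrArg Subtype.val hy⟩,
          fun e => hx1 (Subtype.ext (congrArg Subtype.val e).symm),
          fun e => hy1 (Subtype.ext (congrArg Subtype.val e).symm),
          fun e => hxy (Subtype.ext (congrArg (fun u : E => (u : P)) e))⟩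
      rw [← Nat.card_eq_fintype_card] at h3
      omega) with h | ⟨-, n, hn, ⟨e⟩⟩
    · exact h
    · exfalso
      have h1 := hcomm (e.symm (.a 1)) (e.symm (.xa 0))
      rw [← map_mul, ← map_mul, e.symm.apply_eq_iff_eq] at h1
      simp only [QuaternionGroup.a_mul_xa, QuaternionGroup.xa_mul_a, zero_sub, zero_add,
        QuaternionGroup.xa.injEq] at h1
      have h2 : ((2 : ℕ) : ZMod (2 * 2 ^ n)) = 0 := by
        push_cast; linear_combination -h1
      rw [ZMod.natCast_eq_zero_iff] at h2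
      have := Nat.le_of_dvd (by norm_num) h2
      have : 2 ^ 1 ≤ 2 ^ n := Nat.pow_le_pow_right (by norm_num) hn
      omega
  obtain ⟨V, hVn, hVE, hV4⟩ := exists_normal_le_card_eq hP E 2 h4
  refine ⟨V, hVn, fun v hv => (hVE hv).1, ⟨hV4, ?_⟩⟩
  have : Nontrivial V := Finite.one_lt_card_iff_nontrivial.1 (by rw [hV4]; norm_num)
  rw [Monoid.exponent_eq_prime_iff Nat.prime_two]
  intro g hg
  exact orderOf_eq_prime (Subtype.ext (by rw [pow_two]; exact (hVE g.2).2)) hg

theorem normal_of_isFourData {V : Subgroup P} {a b : P} (h : IsFourData V a b)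
    (hn : ∀ g, g * a * g⁻¹ ∈ V ∧ g * b * g⁻¹ ∈ V) : V.Normal := by
  rw [← normalizer_eq_top_iff, eq_top_iff]
  exact fun g _ => h.mem_normalizer_of (hn g).1 (hn g).2

/-- If no normal four-subgroup exists then some cyclic subgroup has index at most two. -/
theorem exists_cyclic_index_two [Finite P] (hP : IsPGroup 2 P)
    (hn : ∀ V : Subgroup P, V.Normal → ¬ IsKleinFour V) (hnc : ¬ IsCyclic P) :
    ∃ C : Subgroup P, IsCyclic C ∧ C.index = 2 ∧ ∃ x y : P, x * y ≠ y * x := by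
  have : Fact (Nat.Prime 2) := ⟨Nat.prime_two⟩
  obtain ⟨A, -, hAn, hAc⟩ := exists_scn_ge hP ⊥ inferInstance
  have hAcomm : IsMulCommutative A := le_centralizer_iff_isMulCommutative.1 hAc.ge
  have hAcyc : IsCyclic A := by
    by_contra h
    obtain ⟨V, h1, -, h2⟩ := exists_normal_four_of_not_isCyclic hP A hAcomm h
    exact hn V h1 h2
  obtain ⟨a, rfl⟩ := (Subgroup.isCyclic_iff_exists_zpowers_eq_top A).1 hAcyc
  have hmem : ∀ g, g ∈ zpowers a ↔ g * a * g⁻¹ = a := by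
    intro g
    rw [← hAc, centralizer_zpowers_eq, mem_centralizer_singleton_iff, mul_inv_eq_iff_eq_mul]
  have htop : zpowers a ≠ ⊤ := fun e => hnc (by
    rw [_root_.isCyclic_iff_exists_zpowers_eq_top]; exact ⟨a, e⟩)
  obtain ⟨g0, hg0⟩ : ∃ g, g ∉ zpowers a := by
    by_contra h
    push Not at h
    exact htop (eq_top_iff.2 fun g _ => h g)
  refine ⟨zpowers a, hAcyc, ?_, g0, a, fun e => hg0 ((hmem g0).2 (by rw [e]; group))⟩
  choose r hr using exists_conj_eq_zpow hAn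
  have hmul : ∀ g h, (g * h) * a * (g * h)⁻¹ = a ^ (r h * r g) := by
    intro g h
    rw [← conj_zpow_of_conj (hr g), ← hr h]; group
  obtain ⟨n, hn'⟩ := IsPGroup.iff_orderOf.1 hP a
  have hmod : ∀ i j : ℤ, a ^ i = a ^ j ↔ (2 : ℤ) ^ n ∣ j - i := by
    intro i j
    rw [zpow_eq_zpow_iff_modEq, hn', Int.modEq_iff_dvd]; push_cast; rfl
  have hmem' : ∀ g, g ∈ zpowers a ↔ (2 : ℤ) ^ n ∣ r g - 1 := by
    intro g
    rw [hmem, hr, eq_comm, ← hmod, zpow_one]
  have hmul' : ∀ g h, (2 : ℤ) ^ n ∣ r (g * h) - r h * r g := by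
    intro g h; rw [← hmod, ← hmul, hr]
  rcases n with _ | n
  · exact absurd ((hmem' g0).2 (by simp)) hg0
  have hodd : ∀ g, Odd (r g) := by
    intro g
    have h1 := (hmem' 1).1 (one_mem _)
    have h2 := hmul' g g⁻¹
    rw [mul_inv_cancel] at h2
    have h3 : (2 : ℤ) ∣ r g⁻¹ * r g - 1 := by
      have := (dvd_pow_self 2 n.succ_ne_zero).trans (dvd_sub h1 h2)
      exact this.trans (dvd_of_eq (by ring))
    by_contra hev
    rw [Int.not_odd_iff_even] at hev
    obtain ⟨k, hk⟩ := hev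
    obtain ⟨l, hl⟩ := h3
    rw [hk] at hl
    have : 2 * (r g⁻¹ * k - l) = 1 := by linear_combination hl
    omega
  have hsq : ∀ g, g * g ∈ zpowers a → (2 : ℤ) ^ n ∣ r g - 1 ∨ (2 : ℤ) ^ n ∣ r g + 1 := by
    intro g hg
    apply dvd_sub_or_add_one_of_sq
    have := dvd_sub ((hmem' _).1 hg) (hmul' g g)
    exact this.trans (dvd_of_eq (by ring))
  by_contra hind
  -- an element acting like `1 + 2 ^ n`
  obtain ⟨u, hu, hu2, hur, hn2⟩ : ∃ u, u ∉ zpowers a ∧ u * u ∈ zpowers a ∧ (2 : ℤ) ^ n ∣ r u - 1 ∧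
      2 ≤ n := by
    obtain ⟨k, hk1, hk2⟩ := exists_pow_not_mem_sq_mem hP _ hg0
    set b := g0 ^ k
    have hB : zpowers a ⊔ zpowers b ≠ ⊤ := by
      intro e
      apply hind
      rw [← relIndex_top_right, ← e]
      exact relIndex_sup_zpowers (p := 2) hk1 (by rw [pow_two]; exact hk2)
    obtain ⟨c0, hc0⟩ : ∃ g, g ∉ zpowers a ⊔ zpowers b := by
      by_contra h
      push Not at h
      exact hB (eq_top_iff.2 fun g _ => h g)
    obtain ⟨l, hl1, hl2⟩ := exists_pow_not_mem_sq_mem hP _ hc0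
    set c := c0 ^ l
    have hcA : c ∉ zpowers a := fun h => hl1 (mem_sup_left h)
    have hbcA : b * c ∉ zpowers a := fun h => hl1 (by
      have := mul_mem (inv_mem (mem_sup_right (mem_zpowers b))) (mem_sup_left (T := zpowers b) h)
      simpa using this)
    have hn2 : 2 ≤ n := by
      by_contra hlt
      have hn1 : n = 0 ∨ n = 1 := by omega
      obtain ⟨i, hi⟩ := hodd b
      obtain ⟨j, hj⟩ := hodd c
      have e1 := (hmem' b).not.1 hk1
      have e2 := (hmem' c).not.1 hcA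
      have e3 := (hmem' _).not.1 hbcA
      have e4 := hmul' b c
      rw [hi] at e1 e4
      rw [hj] at e2 e4
      rcases hn1 with rfl | rfl
      · exact e1 ⟨i, by ring⟩
      · norm_num at e1 e2 e3 e4
        have hi' : Odd i := by
          by_contra h; rw [Int.not_odd_iff_even] at h; obtain ⟨t, rfl⟩ := h; exact e1 ⟨t, by ring⟩
        have hj' : Odd j := by
          by_contra h; rw [Int.not_odd_iff_even] at h; obtain ⟨t, rfl⟩ := h; exact e2 ⟨t, by ring⟩
        obtain ⟨s, rfl⟩ := hi'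
        obtain ⟨t, rfl⟩ := hj'
        obtain ⟨w, hw⟩ := e4
        exact e3 ⟨w + (4 * s * t + 3 * s + 3 * t + 2), by linear_combination hw⟩
    have h4 : (4 : ℤ) ∣ 2 ^ n := by
      obtain ⟨m, rfl⟩ : ∃ m, n = m + 2 := ⟨n - 2, by omega⟩
      exact ⟨2 ^ m, by ring⟩
    have hdn : (2 : ℤ) ^ n ∣ 2 ^ (n + 1) := pow_dvd_pow 2 n.le_succ
    by_cases hc2 : c * c ∈ zpowers a
    · rcases hsq b hk2 with h1 | h1
      · exact ⟨b, hk1, hk2, h1, hn2⟩
      rcases hsq c hc2 with h2 | h2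
      · exact ⟨c, hcA, hc2, h2, hn2⟩
      refine ⟨b * c, hbcA, ?_, ?_, hn2⟩
      · rw [hmem]
        have e1 := (hmem _).1 hk2
        have e2 := (hmem _).1 hc2
        have e3 : b * c * a * (b * c)⁻¹ = c * b * a * (c * b)⁻¹ := by rw [hmul, hmul, mul_comm]
        calc b * c * (b * c) * a * (b * c * (b * c))⁻¹
            = b * c * (b * c * a * (b * c)⁻¹) * (b * c)⁻¹ := by group
          _ = b * (c * c) * (b * a * b⁻¹) * (c * c)⁻¹ * b⁻¹ := by rw [e3]; group
          _ = b * ((c * c) * a * (c * c)⁻¹) ^ r b * b⁻¹ := by rw [hr, conj_zpow]; group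
          _ = b * b * a * (b * b)⁻¹ := by rw [e2, ← hr]; group
          _ = a := e1
      · have := dvd_add (hdn.trans (hmul' b c))
          (dvd_sub (Dvd.dvd.mul_left h1 (r c)) h2)
        exact this.trans (dvd_of_eq (by ring))
    · have hc4 : c * c * (c * c) ∈ zpowers a := by
        obtain ⟨k', hk', i, hi⟩ := mem_sup_zpowers_iff_of_normal.1 hl2
        have hb2 : b ^ i * b ^ i ∈ zpowers a := by
          rw [← (Commute.refl b).mul_zpow]; exact zpow_mem hk2 i
        rw [hi]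
        have : k' * b ^ i * (k' * b ^ i) = k' * (b ^ i * k' * (b ^ i)⁻¹) * (b ^ i * b ^ i) := by group
        rw [this]
        exact mul_mem (mul_mem hk' (hAn.conj_mem _ hk' _)) hb2
      refine ⟨c * c, hc2, hc4, ?_, hn2⟩
      rcases hsq _ hc4 with h1 | h1
      · exact h1
      · exfalso
        obtain ⟨j, hj⟩ := hodd c
        have h2 := dvd_sub (h4.trans h1) (h4.trans (hdn.trans (hmul' c c)))
        rw [hj] at h2
        obtain ⟨w, hw⟩ := h2
        have : 4 * (w - j * j - j) = 2 := by linear_combination -hw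
        omega
  -- `u` acts as `a ↦ a * z`
  obtain ⟨m, rfl⟩ : ∃ m, n = m + 2 := ⟨n - 2, by omega⟩
  have hact : ∀ v, v ∉ zpowers a → (2 : ℤ) ^ (m + 2) ∣ r v - 1 →
      ∀ j : ℤ, v * a ^ j * v⁻¹ = a ^ (j * (1 + 2 ^ (m + 2))) := by
    intro v hv ⟨w, hw⟩ j
    rw [conj_zpow_of_conj (hr v), hmod]
    have hw' : Odd w := by
      by_contra h; rw [Int.not_odd_iff_even] at h; obtain ⟨t, rfl⟩ := h
      exact hv ((hmem' v).2 ⟨t, by rw [hw]; ring⟩)
    obtain ⟨t, rfl⟩ := hw'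
    exact ⟨-(j * t), by linear_combination (-j) * hw⟩
  obtain ⟨k, hk⟩ := mem_zpowers_iff.1 hu2
  have hk2 : Even k := by
    have h1 := hact u hu hur k
    rw [hk, show u * (u * u) * u⁻¹ = u * u by group, ← hk, hmod] at h1
    obtain ⟨w, hw⟩ := h1
    have h2 : (2 : ℤ) ^ (m + 2) ≠ 0 := by positivity
    exact ⟨w, mul_right_cancel₀ h2 (by linear_combination hw)⟩
  obtain ⟨k, rfl⟩ := hk2
  have hsqf : ∀ j : ℤ, a ^ j * u * (a ^ j * u) = a ^ (j + j * (1 + 2 ^ (m + 2)) + (k + k)) := by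
    intro j
    rw [zpow_add, zpow_add, hk, ← hact u hu hur]; group
  obtain ⟨j0, hj0⟩ : ∃ j : ℤ, a ^ j * u * (a ^ j * u) = 1 := by
    refine ⟨-k * (1 - 2 ^ (m + 1)), ?_⟩
    rw [hsqf, ← zpow_zero a, hmod]
    exact ⟨-(k * 2 ^ m), by ring⟩
  set v := a ^ j0 * u with hv
  have hvA : v ∉ zpowers a := fun h => hu ((mul_mem_cancel_left (zpow_mem_zpowers a j0)).1 h)
  have hva : ∀ j : ℤ, v * a ^ j * v⁻¹ = a ^ (j * (1 + 2 ^ (m + 2))) := by
    intro j
    calc v * a ^ j * v⁻¹ = a ^ j0 * (u * a ^ j * u⁻¹) * (a ^ j0)⁻¹ := by rw [hv]; group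
      _ = _ := by rw [hact u hu hur]; group
  set z := a ^ 2 ^ (m + 2) with hz
  have hz1 : z ≠ 1 := half_pow_ne_one hn'
  have hz2 : z * z = 1 := half_pow_sq hn'
  have hzA : z ∈ zpowers a := npow_mem_zpowers a _
  have hzc : ∀ g, g * z * g⁻¹ = z := by
    intro g
    refine invol_eq_of_mem_zpowers hn' (hAn.conj_mem _ hzA g) ?_ (by simpa using hz1)
    calc g * z * g⁻¹ * (g * z * g⁻¹) = g * (z * z) * g⁻¹ := by group
      _ = 1 := by rw [hz2]; group
  have hF := isFourData_closure hz2 hj0 (mul_inv_eq_iff_eq_mul.1 (hzc v)).symm hz1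
    (fun e => hvA (e ▸ one_mem _)) (fun e => hvA (e ▸ hzA))
  refine hn _ (normal_of_isFourData hF fun g => ⟨by rw [hzc]; exact hF.a_mem, ?_⟩) hF.isKleinFour
  have hcA : g * v * g⁻¹ * v⁻¹ ∈ zpowers a := by
    rw [hmem]
    have e3 : g * v * a * (g * v)⁻¹ = v * g * a * (v * g)⁻¹ := by rw [hmul, hmul, mul_comm]
    have e4 : ∀ x ∈ zpowers a, g * v * x * (g * v)⁻¹ = v * g * x * (v * g)⁻¹ := by
      rintro _ ⟨i, rfl⟩
      simp only [← conj_zpow, e3]
    have := e4 ((v * g)⁻¹ * a * (v * g)⁻¹⁻¹) (hAn.conj_mem _ (mem_zpowers a) _)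
    calc g * v * g⁻¹ * v⁻¹ * a * (g * v * g⁻¹ * v⁻¹)⁻¹
        = g * v * ((v * g)⁻¹ * a * (v * g)⁻¹⁻¹) * (g * v)⁻¹ := by group
      _ = a := by rw [this]; group
  obtain ⟨j, hj⟩ := mem_zpowers_iff.1 hcA
  have e1 : g * v * g⁻¹ = a ^ j * v := by rw [hj]; group
  have e2 : a ^ j * (v * a ^ j * v⁻¹) = 1 := by
    calc a ^ j * (v * a ^ j * v⁻¹) = (a ^ j * v) * (a ^ j * v) * (v * v)⁻¹ := by group
      _ = g * (v * v) * g⁻¹ * (v * v)⁻¹ := by rw [← e1]; group
      _ = 1 := by rw [hj0]; group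
  rw [hva, ← zpow_add, ← zpow_zero a, eq_comm, hmod] at e2
  have e3 : a ^ j * a ^ j = 1 := by
    rw [← zpow_add, ← zpow_zero a, eq_comm, hmod]
    have hc : IsCoprime ((2 : ℤ) ^ (m + 2 + 1)) (1 + 2 ^ (m + 1)) :=
      IsCoprime.pow_left ⟨-(2 ^ m), 1, by ring⟩
    apply hc.dvd_of_dvd_mul_right
    exact e2.trans (dvd_of_eq (by ring))
  rw [e1]
  by_cases h1 : a ^ j = 1
  · rw [h1, one_mul]; exact hF.b_mem
  · rw [invol_eq_of_mem_zpowers hn' (zpow_mem_zpowers a j) e3 h1]; exact hF.ab_mem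

/-- The classification of finite 2-groups without normal four-subgroup. -/
theorem classify_no_normal_four [Finite P] (hP : IsPGroup 2 P)
    (hn : ∀ V : Subgroup P, V.Normal → ¬ IsKleinFour V) :
    IsCyclic P ∨ (∃ m : ℕ, 1 ≤ m ∧ Nonempty (P ≃* QuaternionGroup (2 ^ m))) ∨
      (∃ m : ℕ, 3 ≤ m ∧ Nonempty (P ≃* DihedralGroup (2 ^ m))) ∨ Cfsg.IsQuasiDihedral P := by
  by_cases hnc : IsCyclic P
  · exact Or.inl hnc
  right
  obtain ⟨C, hC, hCi, hna⟩ := exists_cyclic_index_two hP hn hnc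
  obtain ⟨a, b, m, rfl, ha, hcard, hb, hcases⟩ := exists_gens_two hP C hC hCi hna
  have hext : IsCycExt (⊤ : Subgroup P) a b :=
    isCycExt_of_card (mem_top _) (mem_top _) hb (by rw [card_top, hcard, ha]; ring)
  have hb1 : b ≠ 1 := fun e => hb (e ▸ one_mem _)
  have hAn : (zpowers a).Normal := normal_of_index_eq_two hCi
  set z := a ^ 2 ^ (m + 1) with hz
  have hz1 : z ≠ 1 := half_pow_ne_one ha
  have hz2 : z * z = 1 := half_pow_sq ha
  have hzA : z ∈ zpowers a := npow_mem_zpowers a _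
  have hzc : ∀ g, g * z * g⁻¹ = z := by
    intro g
    refine invol_eq_of_mem_zpowers ha (hAn.conj_mem _ hzA g) ?_ (by simpa using hz1)
    calc g * z * g⁻¹ * (g * z * g⁻¹) = g * (z * z) * g⁻¹ := by group
      _ = 1 := by rw [hz2]; group
  have hfour : b ^ 2 = 1 → b * a * b⁻¹ = a * z → False := by
    intro h1 h2
    rw [pow_two] at h1
    have hF := isFourData_closure hz2 h1 (mul_inv_eq_iff_eq_mul.1 (hzc b)).symm hz1 hb1
      (fun e => hb (e ▸ hzA))
    have ha' : a ∈ normalizer (closure {z, b} : Subgroup P) := by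
      refine hF.mem_normalizer_of (by rw [hzc]; exact hF.a_mem) ?_
      have : a * b * a⁻¹ = z * b := by
        calc a * b * a⁻¹ = a * (b * a * b⁻¹)⁻¹ * b := by group
          _ = a * z⁻¹ * a⁻¹ * b := by rw [h2]; group
          _ = z * b := by rw [inv_eq_of_mul_eq_one_left hz2, hzc]
      rw [this]; exact hF.ab_mem
    refine hn _ ?_ hF.isKleinFour
    rw [← normalizer_eq_top_iff, eq_top_iff]
    exact hext.le_of_mem ha' (le_normalizer hF.b_mem)
  rcases hcases with ⟨h1, h2⟩ | ⟨h1, h2⟩ | ⟨hm, h1, h2⟩ | ⟨hm, h1, h2⟩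
  · rcases m with _ | m
    · exfalso
      refine hfour h1 ?_
      rw [h2, eq_comm, ← mul_eq_one_iff_eq_inv, hz, ← pow_succ', ← pow_succ]
      exact (congrArg (a ^ ·) ha).symm.trans (pow_orderOf_eq_one a)
    · obtain ⟨e⟩ := (⟨hext, ha, by rw [← pow_two, h1], h2⟩ : IsDihData ⊤ _ a b).nonempty_equiv
      exact Or.inr (Or.inl ⟨m + 3, by omega, ⟨topEquiv.symm.trans e⟩⟩)
  · obtain ⟨e⟩ := (⟨hext, by rw [ha]; ring, by rw [← pow_two, h1], h2⟩ :
      IsQuatData ⊤ (2 ^ (m + 1)) a b).nonempty_equiv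
    exact Or.inl ⟨m + 1, by omega, ⟨topEquiv.symm.trans e⟩⟩
  · exact (hfour h1 (by rw [h2, pow_add, pow_one])).elim
  · exact Or.inr (Or.inr ⟨m + 2, by omega, hcard, a, b, ha, orderOf_eq_prime h1 hb1, h2⟩)

end CL.Rank2
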