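import Cfsg.Agent.Base

/-!
# Strongly embedded subgroups: elementary facts about involutions

Namespace `CL.SE`.
-/

set_option autoImplicit false

namespace CL.SE

open Subgroup

variable {G : Type*} [Group G]

theorem ord2_iff {t : G} : orderOf t = 2 ↔ t * t = 1 ∧ t ≠ 1 := by
  rw [orderOf_eq_prime_iff, pow_two]

theorem ord2_mul_self {t : G} (ht : orderOf t = 2) : t * t = 1 := (ord2_iff.1 ht).1

theorem ord2_ne_one {t : G} (ht : orderOf t = 2) : t ≠ 1 := (ord2_iff.1 ht).2

theorem ord2_inv {t : G} (ht : orderOf t = 2) : t⁻¹ = t :=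
  inv_eq_of_mul_eq_one_right (ord2_mul_self ht)

theorem ord2_mul_cancel {t : G} (ht : orderOf t = 2) (x : G) : t * (t * x) = x := by
  rw [← mul_assoc, ord2_mul_self ht, one_mul]

theorem orderOf_conj' (g t : G) : orderOf (g * t * g⁻¹) = orderOf t := by
  have := MulEquiv.orderOf_eq (MulAut.conj g) t
  simpa using this

theorem ord2_conj {t : G} (ht : orderOf t = 2) (g : G) : orderOf (g * t * g⁻¹) = 2 := by
  rw [orderOf_conj', ht]

theorem mem_map_conj {H : Subgroup G} {g x : G} :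
    x ∈ H.map (MulAut.conj g).toMonoidHom ↔ g⁻¹ * x * g ∈ H := by
  rw [Subgroup.mem_map_equiv]
  simp

theorem odd_card_iff [Finite G] (K : Subgroup G) :
    Odd (Nat.card K) ↔ ∀ t ∈ K, orderOf t ≠ 2 := by
  constructor
  · intro h t ht h2
    have := K.orderOf_dvd_natCard ht
    rw [h2] at this
    exact (Nat.not_even_iff_odd.2 h) (even_iff_two_dvd.2 this)
  · intro h
    by_contra hne
    rw [Nat.not_odd_iff_even, even_iff_two_dvd] at hne
    obtain ⟨x, hx⟩ := exists_prime_orderOf_dvd_card' (G := K) 2 hne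
    exact h x x.2 (by rw [Subgroup.orderOf_coe]; exact hx)

theorem even_card_iff [Finite G] (K : Subgroup G) :
    Even (Nat.card K) ↔ ∃ t ∈ K, orderOf t = 2 := by
  rw [← Nat.not_odd_iff_even, odd_card_iff]
  push Not
  rfl

theorem odd_orderOf_of_mem {K : Subgroup G} (hK : Odd (Nat.card K)) {x : G} (hx : x ∈ K) :
    Odd (orderOf x) :=
  Odd.of_dvd_nat hK (K.orderOf_dvd_natCard hx)

theorem eq_one_of_odd_of_mul_self {x : G} (h : Odd (orderOf x)) (h2 : x * x = 1) : x = 1 := by
  by_contra hne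
  have : orderOf x = 2 := ord2_iff.2 ⟨h2, hne⟩
  rw [this] at h
  exact absurd h (by decide)

theorem eq_one_of_odd_of_eq_inv {x : G} (h : Odd (orderOf x)) (h2 : x = x⁻¹) : x = 1 :=
  eq_one_of_odd_of_mul_self h (by nth_rewrite 2 [h2]; simp)

/-- An involution inverts the powers of the product. -/
theorem conj_pow_mul {x y : G} (hx : orderOf x = 2) (hy : orderOf y = 2) (k : ℕ) :
    x * (x * y) ^ k = ((x * y) ^ k)⁻¹ * x := by
  have h1 : x * (x * y) * x⁻¹ = (x * y)⁻¹ := by
    rw [mul_inv_rev, ord2_inv hx, ord2_inv hy, ord2_mul_cancel hx]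
  have h2 : x * (x * y) ^ k * x⁻¹ = ((x * y) ^ k)⁻¹ := by
    rw [← conj_pow, h1, inv_pow]
  rw [← h2]; group

theorem conj_pow_mul' {x y : G} (hx : orderOf x = 2) (hy : orderOf y = 2) (k : ℕ) :
    y * (x * y) ^ k = ((x * y) ^ k)⁻¹ * y := by
  have h1 : y * (x * y) * y⁻¹ = (x * y)⁻¹ := by
    rw [mul_inv_rev, ord2_inv hx, ord2_inv hy, mul_assoc, mul_assoc, ord2_mul_self hy, mul_one]
  have h2 : y * (x * y) ^ k * y⁻¹ = ((x * y) ^ k)⁻¹ := by
    rw [← conj_pow, h1, inv_pow]
  rw [← h2]; group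

/-- Two involutions with product of even order have a common centralizing involution, a power of
the product. -/
theorem exists_comm_of_even [Finite G] {x y : G} (hx : orderOf x = 2) (hy : orderOf y = 2)
    (h : Even (orderOf (x * y))) :
    ∃ k : ℕ, orderOf ((x * y) ^ k) = 2 ∧ Commute ((x * y) ^ k) x ∧ Commute ((x * y) ^ k) y := by
  obtain ⟨k, hk⟩ := h
  have hpos : 0 < orderOf (x * y) := orderOf_pos _
  have hk0 : k ≠ 0 := by rintro rfl; omega
  have hz : orderOf ((x * y) ^ k) = 2 := by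
    rw [orderOf_pow' _ hk0, hk, ← two_mul, Nat.gcd_mul_left_left, Nat.mul_div_cancel _ (by omega)]
  refine ⟨k, hz, ?_, ?_⟩
  · have := conj_pow_mul hx hy k
    rw [ord2_inv hz] at this
    exact this.symm
  · have := conj_pow_mul' hx hy k
    rw [ord2_inv hz] at this
    exact this.symm

/-- Two distinct involutions with product of odd order are conjugate by an involution of the
dihedral group they generate. -/
theorem exists_ord2_conj_of_odd {x y : G} (hx : orderOf x = 2) (hy : orderOf y = 2)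
    (h : Odd (orderOf (x * y))) :
    ∃ k : ℕ, ((x * y) ^ k * x) * ((x * y) ^ k * x) = 1 ∧
      ((x * y) ^ k * x) * y * ((x * y) ^ k * x)⁻¹ = x := by
  obtain ⟨k, hk⟩ := h
  have h1 := conj_pow_mul hx hy k
  have hsq : ((x * y) ^ k * x) * ((x * y) ^ k * x) = 1 := by
    rw [mul_assoc, ← mul_assoc x, h1, ← mul_assoc, ← mul_assoc, mul_inv_cancel, one_mul,
      ord2_mul_self hx]
  refine ⟨k, hsq, ?_⟩
  have hpow : (x * y) ^ k * (x * y) * (x * y) ^ k = 1 := by
    rw [← pow_succ, ← pow_add, show k + 1 + k = orderOf (x * y) by omega, pow_orderOf_eq_one]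
  rw [inv_eq_of_mul_eq_one_right hsq]
  calc (x * y) ^ k * x * y * ((x * y) ^ k * x)
      = ((x * y) ^ k * (x * y) * (x * y) ^ k) * x := by simp only [mul_assoc]
    _ = x := by rw [hpow, one_mul]

theorem isConj_of_odd {x y : G} (hx : orderOf x = 2) (hy : orderOf y = 2)
    (h : Odd (orderOf (x * y))) : IsConj y x := by
  obtain ⟨k, -, hk⟩ := exists_ord2_conj_of_odd hx hy h
  exact isConj_iff.2 ⟨_, hk⟩

/-- If `w` of odd order inverts `c`, then `c * c = 1`. -/
theorem mul_self_eq_one_of_odd_inverts {w c : G} (hw : Odd (orderOf w))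
    (h : w * c * w⁻¹ = c⁻¹) : c * c = 1 := by
  have key : ∀ n : ℕ, w ^ (2 * n + 1) * c * (w ^ (2 * n + 1))⁻¹ = c⁻¹ := by
    intro n
    induction n with
    | zero => simpa using h
    | succ n ih =>
      have h' : w * c⁻¹ * w⁻¹ = c := by
        have := congrArg (·⁻¹) h
        simpa [mul_assoc] using this
      have e : w ^ (2 * (n + 1) + 1) = w * w * w ^ (2 * n + 1) := by
        rw [show 2 * (n + 1) + 1 = 1 + 1 + (2 * n + 1) by ring, pow_add, pow_add, pow_one]
      rw [e]
      calc w * w * w ^ (2 * n + 1) * c * (w * w * w ^ (2 * n + 1))⁻¹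
          = w * (w * (w ^ (2 * n + 1) * c * (w ^ (2 * n + 1))⁻¹) * w⁻¹) * w⁻¹ := by group
        _ = c⁻¹ := by rw [ih, h', h]
  obtain ⟨n, hn⟩ := hw
  have := key n
  rw [← hn, pow_orderOf_eq_one] at this
  simp only [one_mul, inv_one, mul_one] at this
  nth_rewrite 2 [this]
  simp

section SE

variable [Finite G] {H : Subgroup G}

theorem isSE_iff : Cfsg.IsStronglyEmbedded H ↔
    H ≠ ⊤ ∧ (∃ t ∈ H, orderOf t = 2) ∧
      ∀ t ∈ H, orderOf t = 2 → ∀ g : G, g * t * g⁻¹ ∈ H → g ∈ H := by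
  unfold Cfsg.IsStronglyEmbedded
  rw [even_card_iff]
  refine and_congr_right fun _ => and_congr_right fun _ => ⟨?_, ?_⟩
  · intro h t ht h2 g hg
    by_contra hgH
    have := (odd_card_iff _).1 (h g hgH) (g * t * g⁻¹)
      ⟨hg, mem_map_conj.2 (by simpa [mul_assoc] using ht)⟩
    exact this (ord2_conj h2 g)
  · intro h g hg
    rw [odd_card_iff]
    rintro t ⟨ht, ht'⟩ h2
    have := h t ht h2 g⁻¹ (by simpa using mem_map_conj.1 ht')
    exact hg (by simpa using this)

variable (hH : Cfsg.IsStronglyEmbedded H)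
include hH

omit [Finite G] in
theorem ne_top : H ≠ ⊤ := hH.1

theorem exists_ord2_mem : ∃ t ∈ H, orderOf t = 2 := (isSE_iff.1 hH).2.1

theorem mem_of_conj_mem {t g : G} (ht : t ∈ H) (h2 : orderOf t = 2) (hg : g * t * g⁻¹ ∈ H) :
    g ∈ H := (isSE_iff.1 hH).2.2 t ht h2 g hg

theorem mem_of_conj_mem' {t g : G} (ht : t ∈ H) (h2 : orderOf t = 2) (hg : g⁻¹ * t * g ∈ H) :
    g ∈ H := by
  have := mem_of_conj_mem hH ht h2 (g := g⁻¹) (by simpa using hg)
  simpa using this

theorem mem_of_commute {t g : G} (ht : t ∈ H) (h2 : orderOf t = 2) (hg : Commute g t) :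
    g ∈ H := mem_of_conj_mem hH ht h2 (by rw [hg.eq]; simpa using ht)

theorem centralizer_le {t : G} (ht : t ∈ H) (h2 : orderOf t = 2) :
    centralizer ({t} : Set G) ≤ H := fun _ hg =>
  mem_of_commute hH ht h2 (mem_centralizer_singleton_iff.1 hg)

omit [Finite G] in
theorem exists_not_mem : ∃ g : G, g ∉ H := by
  by_contra h
  push Not at h
  exact hH.1 ((Subgroup.eq_top_iff' H).2 h)

theorem exists_ord2_not_mem : ∃ u : G, u ∉ H ∧ orderOf u = 2 := by
  obtain ⟨t, ht, h2⟩ := exists_ord2_mem hH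
  obtain ⟨g, hg⟩ := exists_not_mem hH
  exact ⟨g * t * g⁻¹, fun h => hg (mem_of_conj_mem hH ht h2 h), ord2_conj h2 g⟩

omit [Finite G] in
theorem odd_inf_conj {g : G} (hg : g ∉ H) :
    Odd (Nat.card ↥(H ⊓ H.map (MulAut.conj g).toMonoidHom)) := hH.2.2 g hg

/-- The product of an involution of `H` and an involution outside `H` has odd order. -/
theorem odd_orderOf_mul {t u : G} (ht : t ∈ H) (h2 : orderOf t = 2) (hu : u ∉ H)
    (hu2 : orderOf u = 2) : Odd (orderOf (t * u)) := by
  by_contra h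
  obtain ⟨k, hz, h1, h3⟩ := exists_comm_of_even h2 hu2 (Nat.not_odd_iff_even.1 h)
  have hzH := mem_of_commute hH ht h2 h1
  exact hu (mem_of_commute hH hzH hz h3.symm)

/-- An involution of `H` and an involution outside `H` are interchanged by an involution outside
`H`. -/
theorem exists_swap {t u : G} (ht : t ∈ H) (h2 : orderOf t = 2) (hu : u ∉ H)
    (hu2 : orderOf u = 2) : ∃ v : G, orderOf v = 2 ∧ v ∉ H ∧ v * u * v⁻¹ = t := by
  obtain ⟨k, hv, hk⟩ := exists_ord2_conj_of_odd h2 hu2 (odd_orderOf_mul hH ht h2 hu hu2)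
  have hvH : (t * u) ^ k * t ∉ H := by
    intro hv'
    apply hu
    have : u = ((t * u) ^ k * t)⁻¹ * t * ((t * u) ^ k * t) := by
      nth_rewrite 3 [← hk]; group
    rw [this]
    exact H.mul_mem (H.mul_mem (H.inv_mem hv') ht) hv'
  refine ⟨_, ord2_iff.2 ⟨hv, ?_⟩, hvH, hk⟩
  intro h1
  exact hvH (h1 ▸ H.one_mem)

/-- All involutions of `G` are conjugate. -/
theorem isConj_of_ord2 {a b : G} (ha : orderOf a = 2) (hb : orderOf b = 2) : IsConj a b := by
  obtain ⟨t, ht, h2⟩ := exists_ord2_mem hH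
  obtain ⟨u, hu, hu2⟩ := exists_ord2_not_mem hH
  have htu : IsConj u t := isConj_of_odd h2 hu2 (odd_orderOf_mul hH ht h2 hu hu2)
  have key : ∀ c : G, orderOf c = 2 → IsConj u c := by
    intro c hc
    by_cases hcH : c ∈ H
    · exact isConj_of_odd hc hu2 (odd_orderOf_mul hH hcH hc hu hu2)
    · exact htu.trans (isConj_of_odd h2 hc (odd_orderOf_mul hH ht h2 hcH hc)).symm
  exact (key a ha).symm.trans (key b hb)

/-- `D = H ∩ H^u` is transitive on the involutions of `H`; more precisely by elements `v * u` with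
`v` an involution. -/
theorem exists_conj_eq {u s t : G} (hu : u ∉ H) (hu2 : orderOf u = 2) (hs : s ∈ H)
    (hs2 : orderOf s = 2) (ht : t ∈ H) (ht2 : orderOf t = 2) :
    ∃ d : G, d ∈ H ∧ u * d * u⁻¹ = d⁻¹ ∧ d * s * d⁻¹ = t := by
  have hs' : u * s * u⁻¹ ∉ H := fun h => hu (mem_of_conj_mem hH hs hs2 h)
  obtain ⟨v, hv2, -, hv⟩ := exists_swap hH ht ht2 hs' (ord2_conj hs2 u)
  have hd : (v * u) * s * (v * u)⁻¹ = t := by rw [← hv]; group
  refine ⟨v * u, mem_of_conj_mem hH hs hs2 (hd ▸ ht), ?_, hd⟩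
  rw [mul_inv_rev, ord2_inv hu2, ord2_inv hv2, mul_assoc, mul_assoc, ord2_mul_self hu2, mul_one]

omit [Finite G] in
/-- An element of `H` inverted by an involution outside `H` has odd order. -/
theorem odd_of_inverted {u c : G} (hu : u ∉ H) (hc : c ∈ H) (hinv : u * c * u⁻¹ = c⁻¹) :
    Odd (orderOf c) := by
  apply odd_orderOf_of_mem (odd_inf_conj hH hu)
  refine ⟨hc, mem_map_conj.2 ?_⟩
  have : u⁻¹ * c * u = c⁻¹ := by
    have h : u * c⁻¹ * u⁻¹ = c := by
      have h := congrArg (·⁻¹) hinv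
      simpa [mul_assoc] using h
    nth_rewrite 1 [← h]; group
  rw [this]; exact H.inv_mem hc

/-- An element of `H` inverted by an involution outside `H` and centralized by an involution of `H`
is trivial. -/
theorem eq_one_of_inverted {u c t : G} (hu : u ∉ H) (hu2 : orderOf u = 2)
    (hinv : u * c * u⁻¹ = c⁻¹) (ht : t ∈ H) (ht2 : orderOf t = 2) (hct : Commute c t) :
    c = 1 := by
  have hc : c ∈ H := mem_of_commute hH ht ht2 hct
  have hodd := odd_orderOf_mul hH ht ht2 hu hu2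
  have : (t * u) * c * (t * u)⁻¹ = c⁻¹ := by
    calc (t * u) * c * (t * u)⁻¹ = t * (u * c * u⁻¹) * t⁻¹ := by group
      _ = c⁻¹ := by rw [hinv, ← hct.inv_left.eq]; group
  exact eq_one_of_odd_of_mul_self (odd_of_inverted hH hu hc hinv)
    (mul_self_eq_one_of_odd_inverts hodd this)

/-- A conjugate of a strongly embedded subgroup is strongly embedded. -/
theorem isSE_conj (g : G) :
    Cfsg.IsStronglyEmbedded (H.map (MulAut.conj g).toMonoidHom) := by
  rw [isSE_iff]
  refine ⟨?_, ?_, ?_⟩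
  · intro h
    obtain ⟨k, hk⟩ := exists_not_mem hH
    have : g * k * g⁻¹ ∈ H.map (MulAut.conj g).toMonoidHom := h ▸ mem_top _
    rw [mem_map_conj] at this
    exact hk (by simpa [mul_assoc] using this)
  · obtain ⟨t, ht, h2⟩ := exists_ord2_mem hH
    exact ⟨g * t * g⁻¹, mem_map_conj.2 (by simpa [mul_assoc] using ht), ord2_conj h2 g⟩
  · intro t ht h2 k hk
    rw [mem_map_conj] at ht hk ⊢
    have h2' : orderOf (g⁻¹ * t * g) = 2 := by simpa using ord2_conj h2 g⁻¹
    apply mem_of_conj_mem hH ht h2'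
    convert hk using 1
    group

omit [Finite G] hH in
theorem smul_mk_eq_iff {i g k : G} :
    i • (QuotientGroup.mk g : G ⧸ H) = QuotientGroup.mk k ↔ k⁻¹ * i * g ∈ H := by
  rw [MulAction.Quotient.smul_mk, eq_comm, QuotientGroup.eq, smul_eq_mul, mul_assoc]

omit [Finite G] hH in
theorem stabilizer_mk (g : G) :
    MulAction.stabilizer G (QuotientGroup.mk g : G ⧸ H) = H.map (MulAut.conj g).toMonoidHom := by
  ext i
  rw [MulAction.mem_stabilizer_iff, smul_mk_eq_iff, mem_map_conj]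

theorem isSE_stabilizer (x : G ⧸ H) : Cfsg.IsStronglyEmbedded (MulAction.stabilizer G x) := by
  induction x using QuotientGroup.induction_on with
  | H g => rw [stabilizer_mk]; exact isSE_conj hH g

/-- An involution fixes at most one coset. -/
theorem eq_of_fix {t : G} (ht : orderOf t = 2) {x y : G ⧸ H} (hx : t • x = x) (hy : t • y = y) :
    x = y := by
  obtain ⟨g, rfl⟩ := MulAction.exists_smul_eq G x y
  have h1 : g⁻¹ * t * g ∈ MulAction.stabilizer G x := by
    rw [MulAction.mem_stabilizer_iff, mul_smul, mul_smul, hy, inv_smul_smul]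
  exact (mem_of_conj_mem' (isSE_stabilizer hH x) hx ht h1).symm

/-- An involution fixes a coset. -/
theorem exists_fix {t : G} (ht : orderOf t = 2) : ∃ x : G ⧸ H, t • x = x := by
  obtain ⟨s, hs, hs2⟩ := exists_ord2_mem hH
  obtain ⟨g, rfl⟩ := isConj_iff.1 (isConj_of_ord2 hH hs2 ht)
  exact ⟨QuotientGroup.mk g, smul_mk_eq_iff.2 (by simpa [mul_assoc] using hs)⟩

/-- Any two cosets are interchanged by an involution, which may be chosen to conjugate a given
involution fixing the first to a given involution fixing the second. -/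
theorem exists_swap_coset {x y : G ⧸ H} (hxy : x ≠ y) {s t : G} (hs : orderOf s = 2)
    (hsx : s • x = x) (ht : orderOf t = 2) (hty : t • y = y) :
    ∃ v : G, orderOf v = 2 ∧ v • x = y ∧ v * s * v⁻¹ = t := by
  have hsy : s ∉ MulAction.stabilizer G y := fun h => hxy (eq_of_fix hH hs hsx h)
  obtain ⟨v, hv, -, hvs⟩ := exists_swap (isSE_stabilizer hH y) hty ht hsy hs
  refine ⟨v, hv, ?_, hvs⟩
  apply eq_of_fix hH ht _ hty
  rw [← hvs, mul_smul, mul_smul, inv_smul_smul, hsx]

theorem exists_ord2_fix (x : G ⧸ H) : ∃ s : G, orderOf s = 2 ∧ s • x = x := by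
  obtain ⟨s, hs, hs2⟩ := exists_ord2_mem (isSE_stabilizer hH x)
  exact ⟨s, hs2, hs⟩

theorem exists_ord2_smul_eq {x y : G ⧸ H} (hxy : x ≠ y) :
    ∃ v : G, orderOf v = 2 ∧ v • x = y := by
  obtain ⟨s, hs, hsx⟩ := exists_ord2_fix hH x
  obtain ⟨t, ht, hty⟩ := exists_ord2_fix hH y
  obtain ⟨v, hv, hvx, -⟩ := exists_swap_coset hH hxy hs hsx ht hty
  exact ⟨v, hv, hvx⟩

/-- Two involutions carrying `x` to `y ≠ x` that act in the same way on an involution fixing `x`
are equal. -/
theorem swap_unique {x y : G ⧸ H} (hxy : x ≠ y) {s v w : G} (hs : orderOf s = 2)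
    (hsx : s • x = x) (hv : orderOf v = 2) (hw : orderOf w = 2) (hvx : v • x = y)
    (h : v * s * v⁻¹ = w * s * w⁻¹) : v = w := by
  have hv' : v ∉ MulAction.stabilizer G x := fun h' => hxy (h'.symm.trans hvx)
  have hc : Commute (w * v) s := by
    rw [ord2_inv hv, ord2_inv hw] at h
    show w * v * s = s * (w * v)
    calc w * v * s = w * (v * s * v) * v := by
          rw [mul_assoc w, mul_assoc w, mul_assoc _ v v, ord2_mul_self hv, mul_one]
      _ = s * (w * v) := by rw [h, ← mul_assoc, ← mul_assoc, ord2_mul_self hw, one_mul, mul_assoc]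
  have := eq_one_of_inverted (isSE_stabilizer hH x) hv' hv (c := w * v) (by
    rw [mul_inv_rev, ord2_inv hv, ord2_inv hw, mul_assoc, mul_assoc, ord2_mul_self hv, mul_one])
    hsx hs hc
  rw [← ord2_inv hw]
  exact (eq_inv_of_mul_eq_one_right this)

/-- The number of involutions carrying `x` to `y ≠ x` is the number of involutions fixing `y`. -/
theorem card_swap_eq {x y : G ⧸ H} (hxy : x ≠ y) :
    Nat.card {i : G // orderOf i = 2 ∧ i • x = y} =
      Nat.card {t : G // orderOf t = 2 ∧ t • y = y} := by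
  obtain ⟨s, hs, hsx⟩ := exists_ord2_fix hH x
  refine Nat.card_congr (Equiv.ofBijective (fun i => ⟨i.1 * s * i.1⁻¹, ord2_conj hs _, ?_⟩)
    ⟨?_, ?_⟩)
  · obtain ⟨i, hi, hix⟩ := i
    show (i * s * i⁻¹) • y = y
    rw [← hix, mul_smul, mul_smul, inv_smul_smul, hsx]
  · intro v w h
    exact Subtype.ext (swap_unique hH hxy hs hsx v.2.1 w.2.1 v.2.2 (congrArg Subtype.val h))
  · rintro ⟨t, ht, hty⟩
    obtain ⟨v, hv, hvx, hvs⟩ := exists_swap_coset hH hxy hs hsx ht hty
    exact ⟨⟨v, hv, hvx⟩, Subtype.ext hvs⟩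

omit [Finite G] hH in
theorem card_fix_eq (y : G ⧸ H) :
    Nat.card {t : G // orderOf t = 2 ∧ t • y = y} =
      Nat.card {t : G // orderOf t = 2 ∧ t ∈ H} := by
  induction y using QuotientGroup.induction_on with
  | H g =>
    refine Nat.card_congr (Equiv.subtypeEquiv (MulAut.conj g⁻¹).toEquiv ?_)
    intro t
    have : orderOf (g⁻¹ * t * g) = orderOf t := by simpa using orderOf_conj' g⁻¹ t
    rw [smul_mk_eq_iff]
    simp [this]

end SE

end CL.SE
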