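import Cfsg.Agent.TwoFus.QDFus
import Cfsg.Agent.Transfer.Fusion

/-!
# Four-subgroups of dihedral groups and fusion in groups with dihedral Sylow 2-subgroups
-/

set_option autoImplicit false

namespace CL

open Subgroup Cfsg CL.Transfer CL.TF

variable {G : Type*} [Group G]

/-! ### Pulling data back along injective homomorphisms -/

theorem IsCycExt.of_map {H : Type*} [Group H] {S : Subgroup G} {x y : G} (f : G →* H)
    (hf : Function.Injective f) (h : IsCycExt (S.map f) (f x) (f y)) : IsCycExt S x y := by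
  refine ⟨fun hm => h.notMem ?_, fun g => ?_⟩
  · rw [← MonoidHom.map_zpowers]; exact mem_map_of_mem f hm
  · rw [← mem_map_iff_mem hf, h.mem]
    refine exists_congr fun i => ?_
    rw [← map_zpow, ← map_mul, hf.eq_iff, hf.eq_iff]

theorem IsDihData.of_map {H : Type*} [Group H] {S : Subgroup G} {m : ℕ} {x y : G} (f : G →* H)
    (hf : Function.Injective f) (h : IsDihData (S.map f) m (f x) (f y)) : IsDihData S m x y where
  toIsCycExt := h.toIsCycExt.of_map f hf
  ord := by rw [← h.ord, orderOf_injective f hf]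
  sq := hf (by rw [map_mul, h.sq, map_one])
  conj := hf (by rw [map_mul, map_mul, map_inv, h.conj, map_inv])

theorem IsQuatData.of_map {H : Type*} [Group H] {S : Subgroup G} {m : ℕ} {x y : G} (f : G →* H)
    (hf : Function.Injective f) (h : IsQuatData (S.map f) m (f x) (f y)) : IsQuatData S m x y where
  toIsCycExt := h.toIsCycExt.of_map f hf
  ord := by rw [← h.ord, orderOf_injective f hf]
  sq := hf (by rw [map_mul, h.sq, map_pow])
  conj := hf (by rw [map_mul, map_mul, map_inv, h.conj, map_inv])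

theorem IsQDData.of_map {H : Type*} [Group H] {S : Subgroup G} {e : ℕ} {x y : G} (f : G →* H)
    (hf : Function.Injective f) (h : IsQDData (S.map f) e (f x) (f y)) : IsQDData S e x y where
  toIsCycExt := h.toIsCycExt.of_map f hf
  pos := h.pos
  ord := by rw [← h.ord, orderOf_injective f hf]
  sq := hf (by rw [map_mul, h.sq, map_one])
  conj := hf (by rw [map_mul, map_mul, map_inv, h.conj, map_zpow])

theorem IsDihData.subgroupOf {S H : Subgroup G} {m : ℕ} {x y : G} (h : IsDihData S m x y)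
    (hSH : S ≤ H) : IsDihData (S.subgroupOf H) m ⟨x, hSH h.x_mem⟩ ⟨y, hSH h.y_mem⟩ :=
  IsDihData.of_map H.subtype H.subtype_injective (by rwa [map_subgroupOf_eq_of_le hSH])

theorem IsQuatData.subgroupOf {S H : Subgroup G} {m : ℕ} {x y : G} (h : IsQuatData S m x y)
    (hSH : S ≤ H) : IsQuatData (S.subgroupOf H) m ⟨x, hSH h.x_mem⟩ ⟨y, hSH h.y_mem⟩ :=
  IsQuatData.of_map H.subtype H.subtype_injective (by rwa [map_subgroupOf_eq_of_le hSH])

theorem IsQDData.subgroupOf {S H : Subgroup G} {e : ℕ} {x y : G} (h : IsQDData S e x y)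
    (hSH : S ≤ H) : IsQDData (S.subgroupOf H) e ⟨x, hSH h.x_mem⟩ ⟨y, hSH h.y_mem⟩ :=
  IsQDData.of_map H.subtype H.subtype_injective (by rwa [map_subgroupOf_eq_of_le hSH])

/-- A cyclic group has at most one involution. -/
theorem eq_of_mem_zpowers_of_sq {x a b : G} (ha : a ∈ zpowers x) (hb : b ∈ zpowers x)
    (ha2 : a * a = 1) (hb2 : b * b = 1) (ha1 : a ≠ 1) (hb1 : b ≠ 1) : a = b := by
  obtain ⟨i, rfl⟩ := mem_zpowers_iff.mp ha
  obtain ⟨j, rfl⟩ := mem_zpowers_iff.mp hb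
  rw [← zpow_add, ← orderOf_dvd_iff_zpow_eq_one] at ha2 hb2
  rw [Ne, ← orderOf_dvd_iff_zpow_eq_one] at ha1 hb1
  rw [zpow_eq_zpow_iff_modEq, Int.modEq_iff_dvd]
  obtain ⟨k, hk⟩ := ha2
  obtain ⟨l, hl⟩ := hb2
  obtain ⟨k', rfl | rfl⟩ := Int.even_or_odd' k
  · exact absurd ⟨k', by linarith⟩ ha1
  obtain ⟨l', rfl | rfl⟩ := Int.even_or_odd' l
  · exact absurd ⟨l', by linarith⟩ hb1
  exact ⟨l' - k', by linarith⟩

/-- If three divides `|N(T) : C(T)|`, the normalizer is transitive on the involutions. -/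
theorem IsFourData.exists_conj_of_three_dvd {T : Subgroup G} {a b : G} (h : IsFourData T a b)
    (h3 : 3 ∣ (centralizer (T : Set G)).relIndex (normalizer (T : Set G))) :
    ∃ g ∈ normalizer (T : Set G), g * a * g⁻¹ = b := by
  obtain ⟨φ, hφ⟩ := exists_hom_perm_three (fun g t : G => g * t * g⁻¹) (by simp)
    (by intros; group) (normalizer (T : Set G)) ![a, b, a * b]
    (injective_vec_three h.ne h.ab_ne_a.symm h.ab_ne_b.symm) (by
      intro g hg i
      have hi : ![a, b, a * b] i ∈ T ∧ ![a, b, a * b] i ≠ 1 := by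
        fin_cases i
        · exact ⟨h.a_mem, h.a_ne⟩
        · exact ⟨h.b_mem, h.b_ne⟩
        · exact ⟨h.ab_mem, h.ab_ne_one⟩
      rcases (h.mem _).1 ((mem_normalizer_iff.1 hg _).1 hi.1) with h1 | h1 | h1 | h1
      · exact absurd (by simpa using h1) hi.2
      · exact ⟨0, h1⟩
      · exact ⟨1, h1⟩
      · exact ⟨2, h1⟩)
  have hker : φ.ker ≤ (centralizer (T : Set G)).subgroupOf (normalizer (T : Set G)) := by
    intro g hg
    rw [mem_subgroupOf, h.mem_centralizer_iff]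
    have h0 := hφ g 0
    have h1 := hφ g 1
    rw [MonoidHom.mem_ker.1 hg] at h0 h1
    exact ⟨mul_inv_eq_iff_eq_mul.1 h0.symm ▸ rfl, mul_inv_eq_iff_eq_mul.1 h1.symm ▸ rfl⟩
  have h3' : 3 ∣ Nat.card φ.range := by
    rw [← index_ker]; exact h3.trans (index_dvd_of_le hker)
  obtain ⟨⟨σ, hσr⟩, hσ⟩ := exists_prime_orderOf_dvd_card' (G := φ.range) 3 h3'
  rw [Subgroup.orderOf_mk] at hσ
  obtain ⟨g, rfl⟩ := hσr
  have key : ∀ σ : Equiv.Perm (Fin 3), σ ^ 3 = 1 → σ ≠ 1 → σ 0 = 1 ∨ (σ * σ) 0 = 1 := by decide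
  rcases key (φ g) (orderOf_dvd_iff_pow_eq_one.1 hσ.dvd) (by intro h1; rw [h1, orderOf_one] at hσ; omega)
    with h1 | h1
  · exact ⟨g, g.2, by simpa [h1] using (hφ g 0).symm⟩
  · rw [← map_mul] at h1
    have h2 := (hφ (g * g) 0).symm
    rw [h1] at h2
    exact ⟨_, (g * g).2, h2⟩

namespace IsDihData

section Inside

variable {S : Subgroup G} {m : ℕ} {x y z : G}

theorem y_mul (h : IsDihData S m x y) (i : ℤ) : y * x ^ i = x ^ (-i) * y :=
  mul_zpow_of_conj_inv h.conj i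

theorem mul_mul (h : IsDihData S m x y) (i j : ℤ) : x ^ i * y * (x ^ j * y) = x ^ (i - j) := by
  calc x ^ i * y * (x ^ j * y) = x ^ i * (y * x ^ j) * y := by group
    _ = x ^ (i - j) * (y * y) := by rw [h.y_mul]; group
    _ = _ := by rw [h.sq, mul_one]

theorem outer_sq (h : IsDihData S m x y) (i : ℤ) : x ^ i * y * (x ^ i * y) = 1 := by
  rw [h.mul_mul, sub_self, zpow_zero]

theorem outer_ne_one (h : IsDihData S m x y) (i : ℤ) : x ^ i * y ≠ 1 := fun h1 =>
  h.zpow_mul_notMem i (h1 ▸ one_mem _)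

theorem orderOf_outer (h : IsDihData S m x y) (i : ℤ) : orderOf (x ^ i * y) = 2 :=
  orderOf_eq_prime (by rw [pow_two, h.outer_sq]) (h.outer_ne_one i)

theorem orderOf_y (h : IsDihData S m x y) : orderOf y = 2 := by simpa using h.orderOf_outer 0

theorem of_outer (h : IsDihData S m x y) (i : ℤ) : IsDihData S m x (x ^ i * y) where
  toIsCycExt := h.toIsCycExt.of_notMem (h.zpow_mul_mem _) (h.zpow_mul_notMem _)
  ord := h.ord
  sq := h.outer_sq i
  conj := by
    calc x ^ i * y * x * (x ^ i * y)⁻¹ = x ^ i * (y * x * y⁻¹) * (x ^ i)⁻¹ := by group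
      _ = _ := by rw [h.conj]; group

theorem of_notMem' (h : IsDihData S m x y) {t : G} (ht : t ∈ S) (hn : t ∉ zpowers x) :
    IsDihData S m x t := by
  obtain ⟨i, rfl⟩ := h.exists_eq_of_notMem ht hn
  exact h.of_outer i

theorem conj_mul (h : IsDihData S m x y) (i j : ℤ) :
    x ^ j * (x ^ i * y) * (x ^ j)⁻¹ = x ^ (i + 2 * j) * y := by
  calc x ^ j * (x ^ i * y) * (x ^ j)⁻¹ = x ^ (j + i) * (y * x ^ (-j)) := by group
    _ = _ := by rw [h.y_mul]; group

theorem conj_of_mem_zpowers (h : IsDihData S m x y) {c : G} (hc : c ∈ zpowers x) :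
    y * c * y⁻¹ = c⁻¹ := by
  obtain ⟨i, rfl⟩ := mem_zpowers_iff.mp hc
  rw [h.y_mul]; group

theorem commute_z (h : IsDihData S m x y) (hzx : z ∈ zpowers x) (hz2 : z * z = 1) {g : G}
    (hg : g ∈ S) : g * z = z * g := by
  have h1 : y * z = z * y := by
    rw [← mul_inv_eq_iff_eq_mul, h.conj_of_mem_zpowers hzx, inv_eq_iff_mul_eq_one, hz2]
  obtain ⟨k, rfl⟩ := mem_zpowers_iff.mp hzx
  obtain ⟨i, rfl | rfl⟩ := (h.mem g).1 hg
  · group
  · rw [mul_assoc, h1]; group

theorem conj_z (h : IsDihData S m x y) (hzx : z ∈ zpowers x) (hz2 : z * z = 1) {g : G}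
    (hg : g ∈ S) : g * z * g⁻¹ = z := by
  rw [h.commute_z hzx hz2 hg]; group

theorem isFourData (h : IsDihData S m x y) (hzx : z ∈ zpowers x) (hz2 : z * z = 1) (hz1 : z ≠ 1) :
    IsFourData (closure ({z, y} : Set G)) z y :=
  isFourData_closure hz2 h.sq (h.commute_z hzx hz2 h.y_mem).symm hz1
    (by simpa using h.outer_ne_one 0) (fun he => h.notMem (he ▸ hzx))

theorem four_le (h : IsDihData S m x y) (hzx : z ∈ zpowers x) {T : Subgroup G}
    (hT : IsFourData T z y) : T ≤ S :=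
  hT.isDihData.le_of_mem (h.zpowers_le hzx) h.y_mem

/-- Every four-subgroup of a dihedral group is `{1, z, t, z t}` with `z ∈ ⟨x⟩`, `t ∉ ⟨x⟩`. -/
theorem exists_four_data (h : IsDihData S m x y) {T : Subgroup G} (hTS : T ≤ S)
    (hT : IsKleinFour T) : ∃ z ∈ zpowers x, ∃ i : ℤ, IsFourData T z (x ^ i * y) := by
  obtain ⟨a, b, hab⟩ := exists_isFourData hT
  have key : ∀ {a b : G}, IsFourData T a b → a ∈ zpowers x →
      ∃ z ∈ zpowers x, ∃ i : ℤ, IsFourData T z (x ^ i * y) := by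
    intro a b hab ha
    have hb : b ∉ zpowers x := fun hb =>
      hab.ne (eq_of_mem_zpowers_of_sq ha hb hab.a_sq hab.b_sq hab.a_ne hab.b_ne)
    obtain ⟨i, rfl⟩ := h.exists_eq_of_notMem (hTS hab.b_mem) hb
    exact ⟨a, ha, i, hab⟩
  by_cases ha : a ∈ zpowers x
  · exact key hab ha
  by_cases hb : b ∈ zpowers x
  · exact key hab.symm hb
  exact key (isFourData_of_isKleinFour hT hab.ab_mem hab.a_mem hab.ab_ne_one hab.a_ne hab.ab_ne_a)
    (h.mul_mem_zpowers (hTS hab.a_mem) (hTS hab.b_mem) ha hb)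

theorem exists_four_data' (h : IsDihData S m x y) (hzx : z ∈ zpowers x) (hz2 : z * z = 1)
    (hz1 : z ≠ 1) {T : Subgroup G} (hTS : T ≤ S) (hT : IsKleinFour T) :
    ∃ i : ℤ, IsFourData T z (x ^ i * y) := by
  obtain ⟨z', hz', i, hi⟩ := h.exists_four_data hTS hT
  exact ⟨i, eq_of_mem_zpowers_of_sq hz' hzx hi.a_sq hz2 hi.a_ne hz1 ▸ hi⟩

theorem mem_four_of_commute (h : IsDihData S m x y) (hzx : z ∈ zpowers x) {T : Subgroup G}
    (hT : IsFourData T z y) {g : G} (hg : g ∈ S) (hc : y * g = g * y) : g ∈ T := by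
  have key : ∀ c ∈ zpowers x, y * c = c * y → c ∈ T := by
    intro c hc h1
    have h2 := h.conj_of_mem_zpowers hc
    rw [h1, mul_inv_cancel_right, eq_inv_iff_mul_eq_one] at h2
    by_cases h3 : c = 1
    · rw [h3]; exact one_mem _
    · rw [eq_of_mem_zpowers_of_sq hc hzx h2 hT.a_sq h3 hT.a_ne]; exact hT.a_mem
  obtain ⟨i, rfl | rfl⟩ := (h.mem g).1 hg
  · exact key _ (zpow_mem (mem_zpowers x) i) hc
  · rw [← mul_assoc, mul_left_inj] at hc
    exact mul_mem (key _ (zpow_mem (mem_zpowers x) i) hc) hT.b_mem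

/-- Four-subgroups of a dihedral group are self-centralizing. -/
theorem mem_four_of_mem_centralizer (h : IsDihData S m x y) {T : Subgroup G} (hTS : T ≤ S)
    (hT : IsKleinFour T) {g : G} (hg : g ∈ S) (hc : g ∈ centralizer (T : Set G)) : g ∈ T := by
  obtain ⟨z, hz, i, hi⟩ := h.exists_four_data hTS hT
  exact (h.of_outer i).mem_four_of_commute hz hi hg (hi.mem_centralizer_iff.1 hc).2

theorem involution_cases (h : IsDihData S m x y) (hzx : z ∈ zpowers x) (hz2 : z * z = 1)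
    (hz1 : z ≠ 1) {g : G} (hg : g ∈ S) (h2 : orderOf g = 2) : g = z ∨ ∃ i : ℤ, g = x ^ i * y := by
  by_cases hx : g ∈ zpowers x
  · refine Or.inl (eq_of_mem_zpowers_of_sq hx hzx ?_ hz2 ?_ hz1)
    · rw [← pow_two, ← h2, pow_orderOf_eq_one]
    · rintro rfl; simp at h2
  · exact Or.inr (h.exists_eq_of_notMem hg hx)

/-- If `u ∈ ⟨x⟩` has square `z`, it swaps `y` and `z y`. -/
theorem u_conj (h : IsDihData S m x y) {u : G} (hu : u ∈ zpowers x) (huz : u * u = z) :
    u * y * u⁻¹ = z * y := by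
  have := h.conj_of_mem_zpowers (inv_mem hu)
  rw [inv_inv, mul_inv_eq_iff_eq_mul] at this
  rw [mul_assoc, this, ← huz, mul_assoc]

theorem u_mem_normalizer (h : IsDihData S m x y) (hzx : z ∈ zpowers x) {T : Subgroup G}
    (hT : IsFourData T z y) {u : G} (hu : u ∈ zpowers x) (huz : u * u = z) :
    u ∈ normalizer (T : Set G) :=
  hT.mem_normalizer_of (by rw [h.conj_z hzx hT.a_sq (h.zpowers_le hu)]; exact hT.a_mem)
    (by rw [h.u_conj hu huz]; exact hT.ab_mem)

end Inside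

variable [Finite G] {S : Sylow 2 G} {m : ℕ} {x y z : G}

theorem exists_pow (h : IsDihData (S : Subgroup G) m x y) : ∃ k, m = 2 ^ k := by
  obtain ⟨n, hn⟩ := S.2.exists_card_eq
  have : m ∣ 2 ^ n := by rw [← hn, h.card_eq, h.ord]; exact Dvd.intro_left 2 rfl
  obtain ⟨k, -, hk⟩ := (Nat.dvd_prime_pow Nat.prime_two).1 this
  exact ⟨k, hk⟩

/-- The central involution `z`; it is a square in `⟨x⟩` unless `S` is a four-group. -/
theorem exists_z (h : IsDihData (S : Subgroup G) m x y) (hm : 2 ≤ m) :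
    ∃ z ∈ zpowers x, z * z = 1 ∧ z ≠ 1 ∧
      ((m = 2 ∧ z = x) ∨ (4 ∣ m ∧ ∃ u ∈ zpowers x, u * u = z) ∧ z ∈ zpowers (x ^ 2)) := by
  obtain ⟨k, rfl⟩ := h.exists_pow
  obtain ⟨l, rfl⟩ : ∃ l, k = l + 1 := by
    cases k with
    | zero => simp at hm
    | succ l => exact ⟨l, rfl⟩
  refine ⟨x ^ 2 ^ l, npow_mem_zpowers x _, ?_, ?_, ?_⟩
  · rw [← pow_add, ← orderOf_dvd_iff_pow_eq_one, h.ord]; exact ⟨1, by ring⟩
  · rw [Ne, ← orderOf_dvd_iff_pow_eq_one, h.ord, Nat.pow_dvd_pow_iff_le_right (by norm_num)]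
    omega
  · cases l with
    | zero => left; simp
    | succ l =>
      right
      refine ⟨⟨⟨2 ^ l, by ring⟩, x ^ 2 ^ l, npow_mem_zpowers x _, ?_⟩, ?_⟩
      · rw [← pow_add]; congr 1; ring
      · rw [pow_succ' 2 l, pow_mul]; exact npow_mem_zpowers _ _

/-- If `z` is fused to `y`, then some element of `N(⟨z, y⟩)` moves `z`. -/
theorem exists_move_z (h : IsDihData (S : Subgroup G) m x y) (hm : 2 ≤ m) (hzx : z ∈ zpowers x)
    {T : Subgroup G} (hT : IsFourData T z y) (hc : IsConj z y) :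
    ∃ n ∈ normalizer (T : Set G), n * z * n⁻¹ ≠ z := by
  obtain ⟨g, hg⟩ := isConj_iff.1 hc
  obtain ⟨c, hc, hle⟩ := exists_conj_le_sylow_of_conj_le S (H := centralizer {z})
    (fun s hs => mem_centralizer_singleton_iff.2 (h.commute_z hzx hT.a_sq hs))
    (isPGroup_of_isKleinFour hT.isKleinFour) (g := g) (by
      intro t ht
      have hcomm := (hT.mem_centralizer_iff.1 ((haveI := hT.isKleinFour.isMulCommutative;
        le_centralizer T) ht)).2
      rw [mem_centralizer_singleton_iff]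
      rw [← hg] at hcomm
      calc g⁻¹ * t * g * z = g⁻¹ * (t * (g * z * g⁻¹)) * g := by group
        _ = _ := by rw [← hcomm]; group)
  set w := c * g⁻¹ with hw
  have hwy : w * y * w⁻¹ = z := by
    have hc' := mem_centralizer_singleton_iff.1 hc
    rw [hw, ← hg]
    calc c * g⁻¹ * (g * z * g⁻¹) * (c * g⁻¹)⁻¹ = c * z * c⁻¹ := by group
      _ = z := by rw [hc']; group
  have hT' := (hT.map (MulAut.conj w).toMonoidHom (MulAut.conj w).injective).symm
  simp only [MulEquiv.coe_toMonoidHom, MulAut.conj_apply, hwy] at hT'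
  obtain ⟨z', hz', hz2, hz1, hcase⟩ := h.exists_z hm
  obtain rfl : z' = z := eq_of_mem_zpowers_of_sq hz' hzx hz2 hT.a_sq hz1 hT.a_ne
  rcases hcase with ⟨rfl, rfl⟩ | ⟨⟨-, u, hu, huz⟩, -⟩
  · have hTS : T = S := le_antisymm (h.four_le hzx hT) (h.le_of_mem hT.a_mem hT.b_mem)
    have : T.map (MulAut.conj w).toMonoidHom = T := by
      apply eq_of_le_of_card_ge (hTS ▸ hle)
      rw [hT'.card_eq, hT.card_eq]
    refine ⟨w⁻¹, inv_mem (mem_normalizer_of_map_conj_eq this), fun he => hT.ne ?_⟩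
    rw [← he]
    conv_lhs => rw [← hwy]
    group
  · have hn : w * z' * w⁻¹ ∉ zpowers x := fun hm' =>
      hT'.ne (eq_of_mem_zpowers_of_sq hzx hm' hz2 hT'.b_sq hz1 hT'.b_ne)
    have h' := h.of_notMem' (hle hT'.b_mem) hn
    have hun := h'.u_mem_normalizer hzx hT' hu huz
    refine ⟨w⁻¹ * u * w, ?_, fun he => hT'.ab_ne_b ?_⟩
    · apply mem_normalizer_of_map_conj_eq
      rw [← map_conj_map_conj, ← map_conj_map_conj,
        show (T.map (MulAut.conj w).toMonoidHom).map (MulAut.conj u).toMonoidHom = _ from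
          conj_smul_eq_iff_mem_normalizer.2 hun, map_conj_map_conj, inv_mul_cancel]
      exact conj_one_smul T
    · rw [← h'.u_conj hu huz]
      conv_rhs => rw [← he]
      group

/-- If `z` is fused to no involution outside `⟨x⟩`, there is a normal 2-complement. -/
theorem hasNormalPComplement (h : IsDihData (S : Subgroup G) m x y) (hzx : z ∈ zpowers x)
    (hz2 : z * z = 1) (hz1 : z ≠ 1) (hn : ∀ i : ℤ, ¬ IsConj z (x ^ i * y)) :
    HasNormalPComplement 2 G := by
  refine hasNormalTwoComplement_of_isCyclic_inf S (Subgroup.isCyclic_of_le (H' := zpowers x) ?_)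
  refine inf_pResidual_le_of_forall S fun _ ha u _ hu =>
    inv_mul_mem_of_relIndex_two h.relIndex_eq ?_ ha.1 hu (isConj_iff.2 ⟨u, rfl⟩)
  intro a ha b hb hab
  by_contra hbx
  obtain ⟨i, rfl⟩ := h.exists_eq_of_notMem hb hbx
  have ho := orderOf_eq_of_isConj' hab
  rw [h.orderOf_outer] at ho
  rcases h.involution_cases hzx hz2 hz1 (h.zpowers_le ha) ho with rfl | ⟨j, rfl⟩
  · exact hn i hab
  · exact h.zpow_mul_notMem j ha

theorem involution_isConj (h : IsDihData (S : Subgroup G) m x y) (hzx : z ∈ zpowers x)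
    (hz2 : z * z = 1) (hz1 : z ≠ 1) {g : G} (hg : orderOf g = 2) :
    IsConj z g ∨ ∃ i : ℤ, IsConj (x ^ i * y) g := by
  obtain ⟨c, hc⟩ := exists_conj_mem_sylow S (k := 1) (g := g) (by simpa using hg)
  have h1 : IsConj g (c * g * c⁻¹) := isConj_iff.2 ⟨c, rfl⟩
  rcases h.involution_cases hzx hz2 hz1 hc ((orderOf_eq_of_isConj' h1).symm.trans hg) with
    h2 | ⟨i, h2⟩
  · exact Or.inl (h2 ▸ h1.symm)
  · exact Or.inr ⟨i, h2 ▸ h1.symm⟩

/-- Without a subgroup of index two all involutions are conjugate. -/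
theorem isConj_of_index_ne_two (h : IsDihData (S : Subgroup G) m x y) (hzx : z ∈ zpowers x)
    (hz2 : z * z = 1) (hz1 : z ≠ 1) (hG : ∀ H : Subgroup G, H.index ≠ 2) {g : G}
    (hg : orderOf g = 2) : IsConj z g := by
  by_contra hn
  obtain ⟨M, -, hM, -⟩ := thompson_transfer S h.zpowers_le h.relIndex_eq (u := g)
    (by rw [← hg, pow_orderOf_eq_one]) (by
      intro c hc
      have h1 : IsConj g (c * g * c⁻¹) := isConj_iff.2 ⟨c, rfl⟩
      rcases h.involution_cases hzx hz2 hz1 (h.zpowers_le hc)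
        ((orderOf_eq_of_isConj' h1).symm.trans hg) with h2 | ⟨i, h2⟩
      · exact hn (h2 ▸ h1.symm)
      · exact h.zpow_mul_notMem i (h2 ▸ hc))
  exact hG M hM

/-- The centralizer of the central involution has a normal 2-complement. -/
theorem hasNormalPComplement_centralizer (h : IsDihData (S : Subgroup G) m x y)
    (hzx : z ∈ zpowers x) (hz2 : z * z = 1) (hz1 : z ≠ 1) :
    HasNormalPComplement 2 (centralizer ({z} : Set G)) := by
  have hS : (S : Subgroup G) ≤ centralizer {z} :=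
    fun s hs => mem_centralizer_singleton_iff.2 (h.commute_z hzx hz2 hs)
  refine IsDihData.hasNormalPComplement (S := S.subtype hS) (h.subgroupOf hS) (z := ⟨z, hS (h.zpowers_le hzx)⟩) ?_ (Subtype.ext hz2)
    (fun h1 => hz1 (congrArg Subtype.val h1)) ?_
  · obtain ⟨k, rfl⟩ := mem_zpowers_iff.mp hzx
    exact mem_zpowers_iff.2 ⟨k, rfl⟩
  · intro i hi
    obtain ⟨c, hc⟩ := isConj_iff.1 hi
    have h1 : (c : G) * z * (c : G)⁻¹ = x ^ i * y := by simpa using congrArg Subtype.val hc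
    rw [mem_centralizer_singleton_iff.1 c.2, mul_inv_cancel_right] at h1
    exact h.zpow_mul_notMem i (h1 ▸ hzx)

/-- Fusion by elements centralizing `z` is realized in `S`. -/
theorem exists_conj_of_commute (h : IsDihData (S : Subgroup G) m x y)
    (hzx : z ∈ zpowers x) (hz2 : z * z = 1) (hz1 : z ≠ 1) {g : G} (hg : g * z = z * g) :
    ∃ s ∈ (S : Subgroup G), ∀ a ∈ (S : Subgroup G), g * a * g⁻¹ ∈ (S : Subgroup G) →
      s * a * s⁻¹ = g * a * g⁻¹ := by
  have hS : (S : Subgroup G) ≤ centralizer {z} :=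
    fun s hs => mem_centralizer_singleton_iff.2 (h.commute_z hzx hz2 hs)
  obtain ⟨s, hs, h1⟩ := exists_sylow_conj_of_hasNormalPComplement
    (h.hasNormalPComplement_centralizer hzx hz2 hz1) (S.subtype hS)
    ⟨g, mem_centralizer_singleton_iff.2 hg⟩
  exact ⟨s, hs, fun a ha hga => congrArg Subtype.val (h1 ⟨a, hS ha⟩ ha hga)⟩

end IsDihData

end CL
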