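import Cfsg.Agent.Base
import Cfsg.Agent.TwoFus.SEBasic

/-!
# Groups whose involution centralizers are elementary abelian 2-groups

Namespace `CL.SE.Elem`.
-/

set_option autoImplicit false

namespace CL.SE.Elem

open Subgroup CL.SE

variable {G : Type*} [Group G]

/-- The standing hypothesis. -/
structure Hyp (T : Sylow 2 G) : Prop where
  hnc : ¬ IsCyclic (T : Subgroup G)
  hnn : ¬ (T : Subgroup G).Normal
  hC : ∀ t : G, orderOf t = 2 → IsMulCommutative (Subgroup.centralizer ({t} : Set G)) ∧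
    ∀ c ∈ Subgroup.centralizer ({t} : Set G), c ^ 2 = 1

/-- The normalizer of `T`. -/
abbrev NT (T : Sylow 2 G) : Subgroup G := Subgroup.normalizer ((T : Subgroup G) : Set G)

/-- The two point stabilizer. -/
abbrev DD (T : Sylow 2 G) (u : G) : Subgroup G :=
  NT T ⊓ (NT T).map (MulAut.conj u).toMonoidHom

theorem mem_DD {T : Sylow 2 G} {u d : G} : d ∈ DD T u ↔ d ∈ NT T ∧ u⁻¹ * d * u ∈ NT T := by
  rw [Subgroup.mem_inf, mem_map_conj]

theorem le_NT (T : Sylow 2 G) : (T : Subgroup G) ≤ NT T := Subgroup.le_normalizer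

theorem conj_mem {T : Sylow 2 G} {h t : G} (hh : h ∈ NT T) (ht : t ∈ (T : Subgroup G)) :
    h * t * h⁻¹ ∈ (T : Subgroup G) := (Subgroup.mem_normalizer_iff.1 hh t).1 ht

theorem mem_of_ord2_mem_NT {T : Sylow 2 G} {s : G} (hs : orderOf s = 2) (h : s ∈ NT T) :
    s ∈ (T : Subgroup G) := by
  have hp : IsPGroup 2 (zpowers s) := by
    apply IsPGroup.of_card (n := 1)
    rw [Nat.card_zpowers, hs]; rfl
  have := hp.inf_normalizer_sylow T
  have h2 : s ∈ zpowers s ⊓ (T : Subgroup G) := this.le ⟨mem_zpowers s, h⟩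
  exact h2.2

variable [Finite G] {T : Sylow 2 G} (h : Hyp T)
include h

omit [Finite G] in
theorem Hyp.commute_of_commute {t a b : G} (ht : orderOf t = 2) (ha : Commute a t)
    (hb : Commute b t) : Commute a b := by
  have := (h.hC t ht).1
  exact setLike_mul_comm (s := Subgroup.centralizer ({t} : Set G))
    (mem_centralizer_singleton_iff.2 ha) (mem_centralizer_singleton_iff.2 hb)

omit [Finite G] in
theorem Hyp.mul_self {t a : G} (ht : orderOf t = 2) (ha : Commute a t) : a * a = 1 := by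
  rw [← pow_two]; exact (h.hC t ht).2 a (mem_centralizer_singleton_iff.2 ha)

omit [Finite G] in
theorem Hyp.nontrivial : Nontrivial (T : Subgroup G) := by
  by_contra hn
  rw [not_nontrivial_iff_subsingleton] at hn
  exact h.hnc inferInstance

theorem Hyp.exists_central :
    ∃ z ∈ (T : Subgroup G), orderOf z = 2 ∧ ∀ a ∈ (T : Subgroup G), Commute a z := by
  have := h.nontrivial
  have hc := T.isPGroup'.center_nontrivial
  have hp : IsPGroup 2 (center (T : Subgroup G)) := T.isPGroup'.to_subgroup _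
  obtain ⟨n, hn0, hn⟩ := hp.nontrivial_iff_card.1 hc
  obtain ⟨z, hz⟩ := exists_prime_orderOf_dvd_card' (G := center (T : Subgroup G)) 2
    (by rw [hn]; exact dvd_pow_self 2 hn0.ne')
  refine ⟨z.1.1, z.1.2, by rw [Subgroup.orderOf_coe, Subgroup.orderOf_coe, hz], ?_⟩
  intro a ha
  have := mem_center_iff.1 z.2 ⟨a, ha⟩
  exact congrArg Subtype.val this

theorem Hyp.commute {a b : G} (ha : a ∈ (T : Subgroup G)) (hb : b ∈ (T : Subgroup G)) :
    Commute a b := by
  obtain ⟨z, -, hz, hzc⟩ := h.exists_central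
  exact h.commute_of_commute hz (hzc a ha) (hzc b hb)

theorem Hyp.ord2 {a : G} (ha : a ∈ (T : Subgroup G)) (ha1 : a ≠ 1) : orderOf a = 2 := by
  obtain ⟨z, -, hz, hzc⟩ := h.exists_central
  exact ord2_iff.2 ⟨h.mul_self hz (hzc a ha), ha1⟩

theorem Hyp.centralizer_eq {t : G} (ht : t ∈ (T : Subgroup G)) (ht1 : t ≠ 1) :
    centralizer ({t} : Set G) = T := by
  apply T.is_maximal'
  · intro c
    refine ⟨1, Subtype.ext ?_⟩
    simpa using (h.hC t (h.ord2 ht ht1)).2 c c.2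
  · intro a ha
    exact mem_centralizer_singleton_iff.2 (h.commute ha ht)

theorem Hyp.mem_of_commute {t c : G} (ht : t ∈ (T : Subgroup G)) (ht1 : t ≠ 1)
    (hc : Commute c t) : c ∈ (T : Subgroup G) := by
  rw [← h.centralizer_eq ht ht1]; exact mem_centralizer_singleton_iff.2 hc

theorem Hyp.isSE : Cfsg.IsStronglyEmbedded (NT T) := by
  rw [isSE_iff]
  refine ⟨fun ht => h.hnn (Subgroup.normalizer_eq_top_iff.1 ht), ?_, ?_⟩
  · obtain ⟨z, hzT, hz, -⟩ := h.exists_central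
    exact ⟨z, le_NT T hzT, hz⟩
  · intro t ht h2 g hg
    have htT := mem_of_ord2_mem_NT h2 ht
    have hgT := mem_of_ord2_mem_NT (ord2_conj h2 g) hg
    rw [Subgroup.mem_normalizer_iff]
    intro a
    constructor
    · intro ha
      apply h.mem_of_commute hgT (ord2_ne_one (ord2_conj h2 g))
      have := (h.commute ha htT).eq
      show g * a * g⁻¹ * (g * t * g⁻¹) = g * t * g⁻¹ * (g * a * g⁻¹)
      calc g * a * g⁻¹ * (g * t * g⁻¹) = g * (a * t) * g⁻¹ := by group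
        _ = _ := by rw [this]; group
    · intro ha
      apply h.mem_of_commute htT (ord2_ne_one h2)
      have := (h.commute ha hgT).eq
      show a * t = t * a
      calc a * t = g⁻¹ * (g * a * g⁻¹ * (g * t * g⁻¹)) * g := by group
        _ = _ := by rw [this]; group

theorem Hyp.exists_two : ∃ s ∈ (T : Subgroup G), ∃ t ∈ (T : Subgroup G), s ≠ 1 ∧ t ≠ 1 ∧ s ≠ t := by
  by_contra hcon
  push Not at hcon
  obtain ⟨z, hzT, hz, -⟩ := h.exists_central
  apply h.hnc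
  refine ⟨⟨⟨z, hzT⟩, ?_⟩⟩
  rintro ⟨a, ha⟩
  by_cases ha1 : a = 1
  · exact ⟨0, Subtype.ext (by simp [ha1])⟩
  · exact ⟨1, Subtype.ext (by simpa using hcon z hzT a ha (ord2_ne_one hz) ha1)⟩

section D

variable {u : G} (hu : orderOf u = 2) (huH : u ∉ NT T)
include huH

theorem Hyp.eq_one_of_mem_DD {d : G} (hd : d ∈ DD T u) (hdT : d ∈ (T : Subgroup G)) : d = 1 := by
  by_contra hd1
  exact (odd_card_iff _).1 (odd_inf_conj h.isSE huH) d hd (h.ord2 hdT hd1)

theorem Hyp.eq_one_of_commute {d t : G} (hd : d ∈ DD T u) (hd1 : d ≠ 1)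
    (ht : t ∈ (T : Subgroup G)) (hc : Commute d t) : t = 1 := by
  by_contra ht1
  exact hd1 (h.eq_one_of_mem_DD huH hd (h.mem_of_commute ht ht1 hc))

include hu

omit h [Finite G] huH in
theorem mem_DD_of_inverted {d : G} (hd : d ∈ NT T) (hinv : u * d * u⁻¹ = d⁻¹) : d ∈ DD T u := by
  refine mem_DD.2 ⟨hd, ?_⟩
  rw [ord2_inv hu] at hinv ⊢
  rw [hinv]; exact (NT T).inv_mem hd

theorem Hyp.exists_conj {s t : G} (hs : s ∈ (T : Subgroup G)) (hs1 : s ≠ 1)
    (ht : t ∈ (T : Subgroup G)) (ht1 : t ≠ 1) :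
    ∃ d ∈ DD T u, u * d * u⁻¹ = d⁻¹ ∧ d * s * d⁻¹ = t := by
  obtain ⟨d, hd, hinv, hds⟩ := exists_conj_eq h.isSE huH hu (le_NT T hs) (h.ord2 hs hs1)
    (le_NT T ht) (h.ord2 ht ht1)
  exact ⟨d, mem_DD_of_inverted hu hd hinv, hinv, hds⟩

theorem Hyp.exists_decomp' {g : G} (hg : g ∈ NT T) :
    ∃ d ∈ DD T u, u * d * u⁻¹ = d⁻¹ ∧ d⁻¹ * g ∈ (T : Subgroup G) := by
  obtain ⟨z, hzT, hz, -⟩ := h.exists_central
  obtain ⟨d, hd, hinv, hds⟩ := h.exists_conj hu huH hzT (ord2_ne_one hz) (conj_mem hg hzT)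
    (ord2_ne_one (ord2_conj hz g))
  refine ⟨d, hd, hinv, h.mem_of_commute hzT (ord2_ne_one hz) ?_⟩
  show d⁻¹ * g * z = z * (d⁻¹ * g)
  calc d⁻¹ * g * z = d⁻¹ * (g * z * g⁻¹) * g := by group
    _ = _ := by rw [← hds]; group

theorem Hyp.inverts {d : G} (hd : d ∈ DD T u) : u * d * u⁻¹ = d⁻¹ := by
  obtain ⟨d', hd', hinv, hT⟩ := h.exists_decomp' hu huH hd.1
  have := h.eq_one_of_mem_DD huH ((DD T u).mul_mem ((DD T u).inv_mem hd') hd) hT
  rw [inv_mul_eq_one] at this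
  rw [← this, hinv]

theorem Hyp.commute_DD {d e : G} (hd : d ∈ DD T u) (he : e ∈ DD T u) : Commute d e := by
  have h1 := h.inverts hu huH hd
  have h2 := h.inverts hu huH he
  have h3 := h.inverts hu huH ((DD T u).mul_mem hd he)
  have : (d * e)⁻¹ = d⁻¹ * e⁻¹ := by rw [← h3, ← h1, ← h2]; group
  rw [← mul_inv_rev] at this
  exact inv_injective this

theorem Hyp.isComplement' :
    Subgroup.IsComplement' ((DD T u).subgroupOf (NT T)) ((T : Subgroup G).subgroupOf (NT T)) := by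
  apply Subgroup.isComplement'_of_disjoint_and_mul_eq_univ
  · rw [Subgroup.disjoint_def]
    intro x hx hxT
    exact Subtype.ext (h.eq_one_of_mem_DD huH hx hxT)
  · ext ⟨g, hg⟩
    obtain ⟨d, hd, -, hT⟩ := h.exists_decomp' hu huH hg
    simp only [Set.mem_univ, iff_true]
    exact ⟨⟨d, hd.1⟩, hd, ⟨d⁻¹ * g, le_NT T hT⟩, hT, Subtype.ext (by simp)⟩

theorem Hyp.card_DD : Nat.card (DD T u) = Nat.card T - 1 := by
  obtain ⟨z, hzT, hz, -⟩ := h.exists_central
  have e : DD T u ≃ {t : (T : Subgroup G) // t ≠ 1} := by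
    refine Equiv.ofBijective (fun d => ⟨⟨d.1 * z * d.1⁻¹, conj_mem d.2.1 hzT⟩, ?_⟩) ⟨?_, ?_⟩
    · intro h1
      exact ord2_ne_one (ord2_conj hz d.1) (congrArg Subtype.val h1)
    · intro d e hde
      have hde' : d.1 * z * d.1⁻¹ = e.1 * z * e.1⁻¹ := congrArg (fun x => x.1.1) hde
      have hc : Commute (e.1⁻¹ * d.1) z := by
        show e.1⁻¹ * d.1 * z = z * (e.1⁻¹ * d.1)
        calc e.1⁻¹ * d.1 * z = e.1⁻¹ * (d.1 * z * d.1⁻¹) * d.1 := by group
          _ = _ := by rw [hde']; group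
      have := h.eq_one_of_mem_DD huH ((DD T u).mul_mem ((DD T u).inv_mem e.2) d.2)
        (h.mem_of_commute hzT (ord2_ne_one hz) hc)
      rw [inv_mul_eq_one] at this
      exact Subtype.ext this.symm
    · rintro ⟨⟨t, ht⟩, ht1⟩
      obtain ⟨d, hd, -, hds⟩ := h.exists_conj hu huH hzT (ord2_ne_one hz) ht
        (fun h1 => ht1 (Subtype.ext h1))
      exact ⟨⟨d, hd⟩, Subtype.ext (Subtype.ext hds)⟩
  rw [Nat.card_congr e]
  classical
  have := Fintype.ofFinite (T : Subgroup G)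
  have h1 := Fintype.card_subtype_compl (fun t : (T : Subgroup G) => t = 1)
  rw [Nat.card_eq_fintype_card, h1, Fintype.card_subtype_eq]
  congr 1
  exact (Nat.card_eq_fintype_card).symm

theorem Hyp.card_NT : Nat.card (NT T) = Nat.card T * (Nat.card T - 1) := by
  rw [← (h.isComplement' hu huH).card_mul_card, mul_comm, ← h.card_DD hu huH]
  congr 1
  · exact Nat.card_congr (Subgroup.subgroupOfEquivOfLe (le_NT T)).toEquiv
  · exact Nat.card_congr (Subgroup.subgroupOfEquivOfLe inf_le_left).toEquiv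

theorem Hyp.exists_ne_one : ∃ d ∈ DD T u, d ≠ 1 := by
  obtain ⟨s, hs, t, ht, hs1, ht1, hst⟩ := h.exists_two
  obtain ⟨d, hd, -, hds⟩ := h.exists_conj hu huH hs hs1 ht ht1
  refine ⟨d, hd, ?_⟩
  rintro rfl
  exact hst (by simpa using hds)

/-- `D = C_H(d)` for `1 ≠ d ∈ D`. -/
theorem Hyp.mem_DD_of_commute {d c : G} (hd : d ∈ DD T u) (hd1 : d ≠ 1) (hc : c ∈ NT T)
    (hcd : Commute d c) : c ∈ DD T u := by
  obtain ⟨e, he, -, hT⟩ := h.exists_decomp' hu huH hc
  have := h.eq_one_of_commute huH hd hd1 hT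
    ((h.commute_DD hu huH hd ((DD T u).inv_mem he)).mul_right hcd)
  rw [inv_mul_eq_one] at this
  exact this ▸ he

theorem Hyp.DD_eq {v d : G} (hv : orderOf v = 2) (hvH : v ∉ NT T) (hd : d ∈ DD T u)
    (hd' : d ∈ DD T v) (hd1 : d ≠ 1) : DD T u = DD T v := by
  ext c
  exact ⟨fun hc => h.mem_DD_of_commute hv hvH hd' hd1 hc.1 (h.commute_DD hu huH hd hc),
    fun hc => h.mem_DD_of_commute hu huH hd hd1 hc.1 (h.commute_DD hv hvH hd' hc)⟩

theorem Hyp.mem_normalizer_DD : u ∈ normalizer (DD T u : Set G) := by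
  apply Subgroup.mem_normalizer_fintype
  intro d hd
  rw [h.inverts hu huH hd]
  exact (DD T u).inv_mem hd

theorem Hyp.mem_DD_of_normalizes {g : G} (hg : g ∈ normalizer (DD T u : Set G))
    (hgH : g ∈ NT T) : g ∈ DD T u := by
  obtain ⟨e, he, -, hT⟩ := h.exists_decomp' hu huH hgH
  obtain ⟨d, hd, hd1⟩ := h.exists_ne_one hu huH
  have ht : e⁻¹ * g ∈ normalizer (DD T u : Set G) :=
    (normalizer _).mul_mem (Subgroup.le_normalizer ((DD T u).inv_mem he)) hg
  set t := e⁻¹ * g with htdef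
  have h1 : d * (t * d⁻¹ * t⁻¹) ∈ DD T u :=
    (DD T u).mul_mem hd ((Subgroup.mem_normalizer_iff.1 ht _).1 ((DD T u).inv_mem hd))
  have h2 : d * (t * d⁻¹ * t⁻¹) ∈ (T : Subgroup G) := by
    have := (T : Subgroup G).mul_mem (conj_mem hd.1 hT) ((T : Subgroup G).inv_mem hT)
    convert this using 1
    group
  have h3 := h.eq_one_of_mem_DD huH h1 h2
  have h4 : Commute d t := by
    show d * t = t * d
    calc d * t = d * (t * d⁻¹ * t⁻¹) * (t * d) := by group
      _ = _ := by rw [h3, one_mul]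
  have := h.eq_one_of_commute huH hd hd1 hT h4
  rw [htdef, inv_mul_eq_one] at this
  exact this ▸ he

omit hu huH in
theorem Hyp.exists_ord2_coset {g : G} (hgH : g ∉ NT T) :
    ∃ v : G, orderOf v = 2 ∧ v ∉ NT T ∧ g⁻¹ * v ∈ NT T := by
  have hne : (QuotientGroup.mk 1 : G ⧸ NT T) ≠ QuotientGroup.mk g := by
    rw [Ne, QuotientGroup.eq]; simpa using hgH
  obtain ⟨v, hv, hvg⟩ := exists_ord2_smul_eq h.isSE hne
  rw [smul_mk_eq_iff, mul_one] at hvg
  refine ⟨v, hv, fun hvH => hgH ?_, hvg⟩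
  have := (NT T).mul_mem hvH ((NT T).inv_mem hvg)
  simpa using this

omit h [Finite G] hu huH in
theorem mem_DD_congr {g v d : G} (hgv : g⁻¹ * v ∈ NT T) (hd : d ∈ NT T)
    (hg : g⁻¹ * d * g ∈ NT T) : d ∈ DD T v := by
  refine mem_DD.2 ⟨hd, ?_⟩
  have := (NT T).mul_mem ((NT T).mul_mem ((NT T).inv_mem hgv) hg) hgv
  convert this using 1
  group

theorem Hyp.inverts_of_normalizes {g : G} (hg : g ∈ normalizer (DD T u : Set G))
    (hgH : g ∉ NT T) {d : G} (hd : d ∈ DD T u) : g * d * g⁻¹ = d⁻¹ := by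
  obtain ⟨v, hv, hvH, hgv⟩ := h.exists_ord2_coset hgH
  obtain ⟨d₀, hd₀, hd1⟩ := h.exists_ne_one hu huH
  have hd₀' : d₀ ∈ DD T v :=
    mem_DD_congr hgv hd₀.1 ((Subgroup.mem_normalizer_iff''.1 hg _).1 hd₀).1
  have e := h.DD_eq hu huH hv hvH hd₀ hd₀' hd1
  have hvN : v ∈ normalizer (DD T u : Set G) := e ▸ h.mem_normalizer_DD hv hvH
  have hk : g⁻¹ * v ∈ DD T u :=
    h.mem_DD_of_normalizes hu huH ((normalizer _).mul_mem ((normalizer _).inv_mem hg) hvN) hgv
  have h1 := h.inverts hv hvH (e ▸ hd)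
  have h2 := (h.commute_DD hu huH ((DD T u).inv_mem hk) hd).eq
  calc g * d * g⁻¹ = v * ((g⁻¹ * v)⁻¹ * d) * (g⁻¹ * v) * v⁻¹ := by group
    _ = v * d * v⁻¹ := by rw [h2]; group
    _ = d⁻¹ := h1

theorem Hyp.mul_mem_DD_of_normalizes {g : G} (hg : g ∈ normalizer (DD T u : Set G))
    (hgH : g ∉ NT T) : g * u ∈ DD T u := by
  have hgu := (normalizer _).mul_mem hg (h.mem_normalizer_DD hu huH)
  apply h.mem_DD_of_normalizes hu huH hgu
  by_contra hn
  obtain ⟨d, hd, hd1⟩ := h.exists_ne_one hu huH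
  have h1 := h.inverts_of_normalizes hu huH hgu hn hd
  have h2 := h.inverts hu huH hd
  have h3 := h.inverts_of_normalizes hu huH hg hgH ((DD T u).inv_mem hd)
  have h4 : d = d⁻¹ := by
    rw [← h1]
    calc d = g * d⁻¹ * g⁻¹ := by rw [h3, inv_inv]
      _ = _ := by rw [← h2]; group
  exact hd1 (eq_one_of_odd_of_eq_inv (odd_orderOf_of_mem (odd_inf_conj h.isSE huH) hd) h4)

theorem Hyp.normalizer_DD : normalizer (DD T u : Set G) = DD T u ⊔ zpowers u := by
  apply le_antisymm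
  · intro g hg
    by_cases hgH : g ∈ NT T
    · exact mem_sup_left (h.mem_DD_of_normalizes hu huH hg hgH)
    · have := mul_mem_sup (h.mul_mem_DD_of_normalizes hu huH hg hgH) (mem_zpowers u)
      rwa [mul_assoc, ord2_mul_self hu, mul_one] at this
  · exact sup_le Subgroup.le_normalizer (zpowers_le.2 (h.mem_normalizer_DD hu huH))

/-- A nontrivial element of `D` fixes only two cosets. -/
theorem Hyp.fix_iff {d : G} (hd : d ∈ DD T u) (hd1 : d ≠ 1) {g : G} (hg : g ∉ NT T)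
    (hfix : g⁻¹ * d * g ∈ NT T) : g⁻¹ * u ∈ NT T := by
  obtain ⟨v, hv, hvH, hgv⟩ := h.exists_ord2_coset hg
  have e := h.DD_eq hu huH hv hvH hd (mem_DD_congr hgv hd.1 hfix) hd1
  have hvN : v ∈ normalizer (DD T u : Set G) := e ▸ h.mem_normalizer_DD hv hvH
  have := (h.mul_mem_DD_of_normalizes hu huH hvN hvH).1
  have h2 := (NT T).mul_mem hgv this
  rwa [mul_assoc, ord2_mul_cancel hv] at h2

/-- `T` is transitive on the cosets other than `H`. -/
theorem Hyp.exists_smul {g : G} (hg : g ∉ NT T) :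
    ∃ t ∈ (T : Subgroup G), g⁻¹ * t * u ∈ NT T := by
  obtain ⟨v, hv, hvH, hgv⟩ := h.exists_ord2_coset hg
  obtain ⟨d, hd, hd1⟩ := h.exists_ne_one hu huH
  obtain ⟨e, he, -, hT⟩ := h.exists_decomp' hv hvH hd.1
  let f : ↥(T : Subgroup G) → ↥(T : Subgroup G) := fun t => ⟨d⁻¹ * t.1 * d * t.1⁻¹,
    (T : Subgroup G).mul_mem (by simpa using conj_mem ((NT T).inv_mem hd.1) t.2)
      ((T : Subgroup G).inv_mem t.2)⟩
  have hf : Function.Injective f := by
    intro a b hab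
    have hab' : d⁻¹ * a.1 * d * a.1⁻¹ = d⁻¹ * b.1 * d * b.1⁻¹ := congrArg Subtype.val hab
    have hc : Commute d (b.1⁻¹ * a.1) := by
      show d * (b.1⁻¹ * a.1) = b.1⁻¹ * a.1 * d
      calc d * (b.1⁻¹ * a.1) = b.1⁻¹ * d * (d⁻¹ * b.1 * d * b.1⁻¹) * a.1 := by group
        _ = _ := by rw [← hab']; group
    have := h.eq_one_of_commute huH hd hd1
      ((T : Subgroup G).mul_mem ((T : Subgroup G).inv_mem b.2) a.2) hc
    rw [inv_mul_eq_one] at this
    exact Subtype.ext this.symm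
  obtain ⟨t, ht⟩ := (Finite.surjective_of_injective hf) ⟨(e⁻¹ * d)⁻¹, (T : Subgroup G).inv_mem hT⟩
  have ht' : d⁻¹ * t.1 * d * t.1⁻¹ = (e⁻¹ * d)⁻¹ := congrArg Subtype.val ht
  have he' : e = t.1 * d * t.1⁻¹ := by
    calc e = d * (e⁻¹ * d)⁻¹ := by group
      _ = _ := by rw [← ht']; group
  have he1 : e ≠ 1 := by
    intro h1
    rw [h1] at he'
    apply hd1
    calc d = t.1⁻¹ * (t.1 * d * t.1⁻¹) * t.1 := by group
      _ = 1 := by rw [← he']; group
  have htu : t.1 * u ∉ NT T := fun h1 => huH (by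
    simpa using (NT T).mul_mem ((NT T).inv_mem (le_NT T t.2)) h1)
  have := h.fix_iff hv hvH he he1 htu (by
    rw [he']
    convert (mem_DD.1 hd).2 using 1
    group)
  refine ⟨t.1, t.2, ?_⟩
  have h5 := (NT T).mul_mem hgv ((NT T).inv_mem this)
  convert h5 using 1
  group

end D

end CL.SE.Elem
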