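import Cfsg.Agent.Base
import Cfsg.Agent.TwoFus.SEElem

/-!
# Sharp triple transitivity for groups with elementary abelian involution centralizers
-/

set_option autoImplicit false

namespace CL.SE.Elem

open Subgroup CL.SE

variable {G : Type*} [Group G] [Finite G] {T : Sylow 2 G} (h : Hyp T)
include h

omit [Finite G] h in
theorem ne_one_iff {g : G} :
    (QuotientGroup.mk g : G ⧸ NT T) ≠ QuotientGroup.mk 1 ↔ g ∉ NT T := by
  rw [Ne, QuotientGroup.eq]; simp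

omit [Finite G] h in
theorem smul_one_iff {g : G} :
    g • (QuotientGroup.mk 1 : G ⧸ NT T) = QuotientGroup.mk 1 ↔ g ∈ NT T := by
  rw [smul_mk_eq_iff]; simp

theorem Hyp.regular (x y : G ⧸ NT T) (hx : x ≠ QuotientGroup.mk 1) (hy : y ≠ QuotientGroup.mk 1) :
    ∃! t : G, t ∈ T ∧ t • x = y := by
  have hex : ∃ t : G, t ∈ T ∧ t • x = y := by
    obtain ⟨s, hs, hs1⟩ := exists_ord2_fix h.isSE (QuotientGroup.mk 1 : G ⧸ NT T)
    obtain ⟨u, hu, hux⟩ := exists_ord2_smul_eq h.isSE hx.symm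
    have hx' : x = QuotientGroup.mk u := by rw [← hux]; simp
    induction y using QuotientGroup.induction_on with
    | H g =>
      obtain ⟨t, ht, htg⟩ := h.exists_smul hu (ne_one_iff.1 (hx' ▸ hx)) (ne_one_iff.1 hy)
      exact ⟨t, ht, by rw [hx', smul_mk_eq_iff]; exact htg⟩
  obtain ⟨t, ht, htx⟩ := hex
  refine ⟨t, ⟨ht, htx⟩, ?_⟩
  rintro s ⟨hs, hsx⟩
  by_contra hne
  have hm : t⁻¹ * s ∈ (T : Subgroup G) :=
    (T : Subgroup G).mul_mem ((T : Subgroup G).inv_mem ht) hs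
  have h1 : t⁻¹ * s ≠ 1 := fun h1 => hne (inv_mul_eq_one.1 h1).symm
  exact hx (eq_of_fix h.isSE (h.ord2 hm h1) (by rw [mul_smul, hsx, ← htx, inv_smul_smul])
    (smul_one_iff.2 (le_NT T hm)))

theorem Hyp.normalize {u s : G} (hu : orderOf u = 2) (huH : u ∉ NT T)
    (hs : s ∈ (T : Subgroup G)) (hs1 : s ≠ 1) (x₁ x₂ x₃ : G ⧸ NT T) (h12 : x₁ ≠ x₂)
    (h13 : x₁ ≠ x₃) (h23 : x₂ ≠ x₃) :
    ∃ g : G, g • x₁ = QuotientGroup.mk 1 ∧ g • x₂ = QuotientGroup.mk u ∧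
      g • x₃ = s • (QuotientGroup.mk u : G ⧸ NT T) := by
  obtain ⟨g, hg⟩ := MulAction.exists_smul_eq G x₁ (QuotientGroup.mk 1)
  have hb := ne_one_iff.2 huH
  obtain ⟨t, ⟨ht, htg⟩, -⟩ := h.regular (g • x₂) (QuotientGroup.mk u)
    (by rw [← hg]; exact fun e => h12 (smul_left_cancel g e).symm) hb
  have ht1 := smul_one_iff.2 (le_NT T ht)
  obtain ⟨t', ⟨ht', htg'⟩, -⟩ := h.regular (QuotientGroup.mk u) (t • g • x₃) hb
    (by rw [← ht1, ← hg]; exact fun e => h13 (smul_left_cancel g (smul_left_cancel t e)).symm)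
  have ht'1 : t' ≠ 1 := by
    rintro rfl
    rw [one_smul, ← htg] at htg'
    exact h23 (smul_left_cancel g (smul_left_cancel t htg'))
  obtain ⟨d, hd, -, hds⟩ := h.exists_conj hu huH ht' ht'1 hs hs1
  have hdb : d • (QuotientGroup.mk u : G ⧸ NT T) = QuotientGroup.mk u :=
    smul_mk_eq_iff.2 (mem_DD.1 hd).2
  refine ⟨d * t * g, ?_, ?_, ?_⟩
  · rw [mul_smul, mul_smul, hg, ht1, smul_one_iff.2 hd.1]
  · rw [mul_smul, mul_smul, htg, hdb]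
  · rw [mul_smul, mul_smul, ← htg', ← hds, mul_smul, mul_smul]
    congr 2
    rw [eq_inv_smul_iff, hdb]

theorem Hyp.three_trans (x₁ x₂ x₃ y₁ y₂ y₃ : G ⧸ NT T) (h12 : x₁ ≠ x₂) (h13 : x₁ ≠ x₃)
    (h23 : x₂ ≠ x₃) (k12 : y₁ ≠ y₂) (k13 : y₁ ≠ y₃) (k23 : y₂ ≠ y₃) :
    ∃ g : G, g • x₁ = y₁ ∧ g • x₂ = y₂ ∧ g • x₃ = y₃ := by
  obtain ⟨u, huH, hu⟩ := exists_ord2_not_mem h.isSE
  obtain ⟨s, hs, -, -, hs1, -⟩ := h.exists_two
  obtain ⟨g, h1, h2, h3⟩ := h.normalize hu huH hs hs1 x₁ x₂ x₃ h12 h13 h23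
  obtain ⟨k, k1, k2, k3⟩ := h.normalize hu huH hs hs1 y₁ y₂ y₃ k12 k13 k23
  refine ⟨k⁻¹ * g, ?_, ?_, ?_⟩
  · rw [mul_smul, h1, ← k1, inv_smul_smul]
  · rw [mul_smul, h2, ← k2, inv_smul_smul]
  · rw [mul_smul, h3, ← k3, inv_smul_smul]

theorem Hyp.sharp (g : G) (x₁ x₂ x₃ : G ⧸ NT T) (h12 : x₁ ≠ x₂) (h13 : x₁ ≠ x₃)
    (h23 : x₂ ≠ x₃) (e1 : g • x₁ = x₁) (e2 : g • x₂ = x₂) (e3 : g • x₃ = x₃) : g = 1 := by
  obtain ⟨u, huH, hu⟩ := exists_ord2_not_mem h.isSE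
  obtain ⟨s, hs, -, -, hs1, -⟩ := h.exists_two
  obtain ⟨k, k1, k2, k3⟩ := h.normalize hu huH hs hs1 x₁ x₂ x₃ h12 h13 h23
  have f : ∀ x : G ⧸ NT T, g • x = x → (k * g * k⁻¹) • k • x = k • x := by
    intro x hx
    rw [mul_smul, mul_smul, inv_smul_smul, hx]
  have f1 := f _ e1
  have f2 := f _ e2
  have f3 := f _ e3
  rw [k1] at f1
  rw [k2] at f2
  rw [k3] at f3
  set d := k * g * k⁻¹ with hddef
  have hd : d ∈ DD T u := mem_DD.2 ⟨smul_one_iff.1 f1, smul_mk_eq_iff.1 f2⟩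
  have hb := ne_one_iff.2 huH
  have hc : s • (QuotientGroup.mk u : G ⧸ NT T) ≠ QuotientGroup.mk 1 := by
    rw [← k3, ← k1]; exact fun e => h13 (smul_left_cancel k e).symm
  have huniq := (h.regular _ _ hb hc).unique (y₁ := d * s * d⁻¹) (y₂ := s)
    ⟨conj_mem hd.1 hs, by rw [mul_smul, mul_smul, (inv_smul_eq_iff.2 f2.symm), f3]⟩ ⟨hs, rfl⟩
  have hd1 : d = 1 := by
    by_contra hd1
    exact hs1 (h.eq_one_of_commute huH hd hd1 hs (by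
      show d * s = s * d
      rw [← mul_inv_eq_iff_eq_mul, huniq]))
  calc g = k⁻¹ * d * k := by rw [hddef]; group
    _ = 1 := by rw [hd1]; group

end CL.SE.Elem
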