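import Cfsg.Agent.Base

/-!
# Automorphisms of odd order of 2-groups

`OddAut X φ` says that the map `φ : G → G` restricts to an automorphism of odd order of the
subgroup `X`.  It covers both conjugation by an element of odd order of `N_G(X)` and elements of odd
order of `MulAut X`.
-/

set_option autoImplicit false

namespace CL.Fus

open Subgroup

variable {G : Type*} [Group G]

/-- `φ` restricts to an automorphism of odd order of `X` -/
structure OddAut (X : Subgroup G) (φ : G → G) : Prop where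
  maps : ∀ x ∈ X, φ x ∈ X
  mul : ∀ x ∈ X, ∀ y ∈ X, φ (x * y) = φ x * φ y
  odd : ∃ m, Odd m ∧ ∀ x ∈ X, φ^[m] x = x

theorem conj_iterate (g x : G) (k : ℕ) : (fun y => g * y * g⁻¹)^[k] x = g ^ k * x * (g ^ k)⁻¹ := by
  induction k with
  | zero => simp
  | succ k ih => rw [Function.iterate_succ_apply', ih, pow_succ']; group

/-- conjugation by an element of odd order of the normalizer -/
theorem oddAut_conj {X : Subgroup G} {g : G} (hg : g ∈ normalizer (X : Set G))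
    (ho : Odd (orderOf g)) : OddAut X (fun y => g * y * g⁻¹) where
  maps x hx := (mem_normalizer_iff.1 hg x).1 hx
  mul x _ y _ := by group
  odd := ⟨orderOf g, ho, fun x _ => by rw [conj_iterate, pow_orderOf_eq_one]; simp⟩

/-- conjugation by an element of the normalizer with an odd power centralizing `X` -/
theorem oddAut_conj' {X : Subgroup G} {g : G} (hg : g ∈ normalizer (X : Set G)) {m : ℕ}
    (ho : Odd m) (hm : g ^ m ∈ centralizer (X : Set G)) : OddAut X (fun y => g * y * g⁻¹) where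
  maps x hx := (mem_normalizer_iff.1 hg x).1 hx
  mul x _ y _ := by group
  odd := ⟨m, ho, fun x hx => by
    rw [conj_iterate, ← mem_centralizer_iff.1 hm x hx]; simp⟩

/-- If `Aut X` is not a 2-group, there is a nontrivial automorphism of odd order. -/
theorem exists_oddAut_of_not_isPGroup {X : Subgroup G} [Finite X] (h : ¬ IsPGroup 2 (MulAut X)) :
    ∃ φ : G → G, OddAut X φ ∧ ∃ x ∈ X, φ x ≠ x := by
  classical
  have hfin : Finite (MulAut X) := Finite.of_injective (fun f => (f : X → X)) DFunLike.coe_injective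
  obtain ⟨α, hα⟩ : ∃ α : MulAut X, ∀ k, α ^ 2 ^ k ≠ 1 := by
    by_contra h'
    push Not at h'
    exact h h'
  obtain ⟨k, m, hm, hkm⟩ := Nat.exists_eq_two_pow_mul_odd (orderOf_pos α).ne'
  let β := α ^ 2 ^ k
  have hβ : β ^ m = 1 := by
    rw [← pow_mul, ← hkm, pow_orderOf_eq_one]
  let φ : G → G := fun g => if h : g ∈ X then (β ⟨g, h⟩ : G) else g
  have hφ : ∀ x : X, φ x = β x := fun x => by simp [φ]
  have hit : ∀ (j : ℕ) (x : X), φ^[j] x = (β ^ j) x := by
    intro j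
    induction j with
    | zero => simp
    | succ j ih => intro x; rw [Function.iterate_succ_apply', ih, hφ, pow_succ']; rfl
  refine ⟨φ, ⟨fun x hx => ?_, fun x hx y hy => ?_, m, hm, fun x hx => ?_⟩, ?_⟩
  · rw [hφ ⟨x, hx⟩]; exact (β _).2
  · rw [hφ ⟨x, hx⟩, hφ ⟨y, hy⟩]
    exact (hφ (⟨x, hx⟩ * ⟨y, hy⟩)).trans (by rw [map_mul, coe_mul])
  · rw [hit m ⟨x, hx⟩, hβ]; rfl
  · by_contra h'
    push Not at h'
    apply hα k
    ext x
    rw [← hφ x, h' x x.2]; rfl

namespace OddAut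

variable {X : Subgroup G} {φ : G → G} (h : OddAut X φ)
include h

theorem map_one : φ 1 = 1 := by
  have := h.mul 1 X.one_mem 1 X.one_mem
  simpa using this

theorem map_inv {x : G} (hx : x ∈ X) : φ x⁻¹ = (φ x)⁻¹ := by
  have := h.mul x hx x⁻¹ (X.inv_mem hx)
  rw [mul_inv_cancel, h.map_one] at this
  exact eq_inv_of_mul_eq_one_right this.symm

theorem map_pow {x : G} (hx : x ∈ X) (k : ℕ) : φ (x ^ k) = φ x ^ k := by
  induction k with
  | zero => simp [h.map_one]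
  | succ k ih => rw [pow_succ, h.mul _ (X.pow_mem hx k) _ hx, ih, pow_succ]

theorem map_zpow {x : G} (hx : x ∈ X) (k : ℤ) : φ (x ^ k) = φ x ^ k := by
  cases k with
  | ofNat k => simp [h.map_pow hx]
  | negSucc k => rw [zpow_negSucc, h.map_inv (X.pow_mem hx _), h.map_pow hx, zpow_negSucc]

theorem iterate_maps (k : ℕ) {x : G} (hx : x ∈ X) : φ^[k] x ∈ X := by
  induction k with
  | zero => exact hx
  | succ k ih => rw [Function.iterate_succ_apply']; exact h.maps _ ih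

theorem inj {x y : G} (hx : x ∈ X) (hy : y ∈ X) (hxy : φ x = φ y) : x = y := by
  obtain ⟨m, ⟨k, rfl⟩, hm⟩ := h.odd
  have h1 : φ^[2 * k] (φ x) = x := hm x hx
  have h2 : φ^[2 * k] (φ y) = y := hm y hy
  rw [← h1, ← h2, hxy]

theorem surj {y : G} (hy : y ∈ X) : ∃ x ∈ X, φ x = y := by
  obtain ⟨m, ⟨k, rfl⟩, hm⟩ := h.odd
  exact ⟨φ^[2 * k] y, h.iterate_maps _ hy, by
    rw [← Function.iterate_succ_apply' φ]; exact hm y hy⟩

theorem eq_one_iff {x : G} (hx : x ∈ X) : φ x = 1 ↔ x = 1 :=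
  ⟨fun h1 => h.inj hx X.one_mem (h1.trans h.map_one.symm), fun h1 => h1 ▸ h.map_one⟩

theorem pow_eq_one_iff {x : G} (hx : x ∈ X) (k : ℕ) : φ x ^ k = 1 ↔ x ^ k = 1 := by
  rw [← h.map_pow hx, h.eq_one_iff (X.pow_mem hx k)]

theorem orderOf_eq {x : G} (hx : x ∈ X) : orderOf (φ x) = orderOf x :=
  orderOf_eq_orderOf_iff.2 fun k => h.pow_eq_one_iff hx k

theorem comm_iff {x y : G} (hx : x ∈ X) (hy : y ∈ X) : φ x * φ y = φ y * φ x ↔ x * y = y * x := by
  rw [← h.mul x hx y hy, ← h.mul y hy x hx]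
  exact ⟨h.inj (X.mul_mem hx hy) (X.mul_mem hy hx), fun h1 => by rw [h1]⟩

/-- restriction to an invariant subgroup -/
theorem restrict {H : Subgroup G} (hHX : H ≤ X) (hH : ∀ x ∈ H, φ x ∈ H) : OddAut H φ where
  maps := hH
  mul x hx y hy := h.mul x (hHX hx) y (hHX hy)
  odd := let ⟨m, hm, hm'⟩ := h.odd; ⟨m, hm, fun x hx => hm' x (hHX hx)⟩

/-- `φ` preserves the centre -/
theorem central {x : G} (hx : x ∈ X) (hc : ∀ y ∈ X, x * y = y * x) :
    ∀ y ∈ X, φ x * y = y * φ x := by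
  intro y hy
  obtain ⟨w, hw, rfl⟩ := h.surj hy
  exact (h.comm_iff hx hw).2 (hc w hw)

/-- If `x⁻¹ φ(x)` is a fixed 2-element, then `x` is fixed. -/
theorem fix_of_inv_mul_fix {x : G} (hx : x ∈ X) (hk : φ (x⁻¹ * φ x) = x⁻¹ * φ x)
    (h2 : ∃ j, (x⁻¹ * φ x) ^ 2 ^ j = 1) : φ x = x := by
  set k := x⁻¹ * φ x with hkdef
  have hkX : k ∈ X := X.mul_mem (X.inv_mem hx) (h.maps x hx)
  have hit : ∀ j : ℕ, φ^[j] x = x * k ^ j := by
    intro j
    induction j with
    | zero => simp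
    | succ j ih =>
      rw [Function.iterate_succ_apply', ih, h.mul x hx _ (X.pow_mem hkX j), h.map_pow hkX, hk,
        pow_succ', ← mul_assoc, hkdef]
      group
  obtain ⟨m, hm, hm'⟩ := h.odd
  have h1 : k ^ m = 1 := by
    have := hit m
    rw [hm' x hx] at this
    simpa using this.symm
  obtain ⟨j, hj⟩ := h2
  have h3 : k = 1 := by
    rw [← orderOf_eq_one_iff]
    exact Nat.eq_one_of_dvd_coprimes
      (Nat.Coprime.pow_right j (Nat.coprime_two_right.2 hm))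
      (orderOf_dvd_of_pow_eq_one h1) (orderOf_dvd_of_pow_eq_one hj)
  rw [hkdef, inv_mul_eq_one] at h3
  exact h3.symm

/-- chain lemma, predicate form: `K` is fixed pointwise, `φ` preserves `H`, and `K` has
"index at most 2" in `H` -/
theorem fix_of_chain (hX : IsPGroup 2 X) {K H : G → Prop} (hHX : ∀ x, H x → x ∈ X)
    (hKX : ∀ x, K x → x ∈ X)
    (hK : ∀ x, K x → φ x = x) (hH : ∀ x, H x → H (φ x))
    (h2 : ∀ x y, H x → H y → ¬ K x → ¬ K y → K (x⁻¹ * y)) {x : G} (hx : H x) : φ x = x := by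
  by_cases hxK : K x
  · exact hK x hxK
  have hyK : ¬ K (φ x) := by
    intro h1
    have := h.inj (hKX _ h1) (hHX x hx) (hK _ h1)
    exact hxK (this ▸ h1)
  have h3 := h2 x (φ x) hx (hH x hx) hxK hyK
  refine h.fix_of_inv_mul_fix (hHX x hx) (hK _ h3) ?_
  obtain ⟨j, hj⟩ := hX ⟨_, hKX _ h3⟩
  exact ⟨j, congrArg Subtype.val hj⟩

/-- chain lemma for subgroups -/
theorem fix_of_relIndex_two (hX : IsPGroup 2 X) {K H : Subgroup G} (hHX : H ≤ X) (hKH : K ≤ H)
    (hK : ∀ x ∈ K, φ x = x) (hH : ∀ x ∈ H, φ x ∈ H) (h2 : K.relIndex H = 2) {x : G} (hx : x ∈ H) :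
    φ x = x := by
  refine h.fix_of_chain hX (K := (· ∈ K)) (H := (· ∈ H)) (fun _ hx => hHX hx)
    (fun _ hx => hHX (hKH hx)) hK hH (fun x y hx hy hxK hyK => ?_) hx
  have := (Subgroup.mul_mem_iff_of_index_two h2 (a := (⟨x, hx⟩ : H)⁻¹) (b := ⟨y, hy⟩)).2
    (by simp [mem_subgroupOf, hxK, hyK])
  simpa [mem_subgroupOf] using this

/-- an invariant cyclic 2-subgroup is fixed pointwise -/
theorem fix_of_mem_zpowers (hX : IsPGroup 2 X) {x : G} (hx : x ∈ X) (hφ : φ x ∈ zpowers x) :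
    φ x = x := by
  obtain ⟨j, hj⟩ := hX ⟨x, hx⟩
  replace hj : x ^ 2 ^ j = 1 := congrArg Subtype.val hj
  induction j generalizing x with
  | zero =>
    obtain rfl : x = 1 := by simpa using hj
    exact h.map_one
  | succ j ih =>
    obtain ⟨l, hl⟩ := hφ
    have hl : x ^ l = φ x := hl
    have h1 : φ (x ^ 2) = x ^ 2 := by
      refine ih (X.pow_mem hx 2) ⟨l, ?_⟩ (by rw [← pow_mul, ← pow_succ', hj])
      change (x ^ 2) ^ l = _
      rw [h.map_pow hx, ← hl, ← zpow_natCast, ← zpow_natCast, ← zpow_mul, ← zpow_mul, mul_comm]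
    have h2 : ∀ y ∈ zpowers (x ^ 2), φ y = y := by
      rintro _ ⟨i, rfl⟩
      change φ ((x ^ 2) ^ i) = (x ^ 2) ^ i
      rw [h.map_zpow (X.pow_mem hx 2), h1]
    refine h.fix_of_chain hX (K := (· ∈ zpowers (x ^ 2))) (H := (· ∈ zpowers x))
      (fun y hy => zpowers_le.2 hx hy) (fun y hy => zpowers_le.2 (X.pow_mem hx 2) hy) h2 ?_ ?_
      (mem_zpowers x)
    · rintro _ ⟨i, rfl⟩
      change φ (x ^ i) ∈ _
      rw [h.map_zpow hx, ← hl, ← zpow_mul]
      exact ⟨_, rfl⟩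
    · rintro _ _ ⟨a, rfl⟩ ⟨b, rfl⟩ ha hb
      have key : ∀ a : ℤ, x ^ a ∉ zpowers (x ^ 2) → Odd a := by
        intro a ha
        rw [← Int.not_even_iff_odd]
        rintro ⟨i, rfl⟩
        exact ha ⟨i, by change (x ^ 2) ^ i = _; rw [← zpow_natCast, ← zpow_mul]; congr 1; push_cast; ring⟩
      obtain ⟨i, rfl⟩ := key a ha
      obtain ⟨k, rfl⟩ := key b hb
      refine ⟨k - i, ?_⟩
      change (x ^ 2) ^ (k - i) = (x ^ (2 * i + 1))⁻¹ * x ^ (2 * k + 1)
      rw [← zpow_natCast, ← zpow_mul, ← zpow_neg, ← zpow_add]; congr 1; push_cast; ring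

/-- an invariant cyclic 2-subgroup is fixed pointwise -/
theorem fix_of_isCyclic (hX : IsPGroup 2 X) {H : Subgroup G} (hHX : H ≤ X) (hc : IsCyclic H)
    (hH : ∀ x ∈ H, φ x ∈ H) {x : G} (hx : x ∈ H) : φ x = x := by
  obtain ⟨g, hg⟩ := hc.exists_generator
  have h1 : ∀ y ∈ H, y ∈ zpowers (g : G) := by
    intro y hy
    obtain ⟨k, hk⟩ := hg ⟨y, hy⟩
    exact ⟨k, by simpa using congrArg Subtype.val hk⟩
  have h2 := h.fix_of_mem_zpowers hX (hHX g.2) (h1 _ (hH _ g.2))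
  obtain ⟨k, rfl⟩ := h1 x hx
  change φ ((g : G) ^ k) = (g : G) ^ k
  rw [h.map_zpow (hHX g.2), h2]

/-- On a 2-group: if `φ` fixes `K` pointwise and acts trivially modulo `K`, it is trivial. -/
theorem fix_of_trivial_mod (hX : IsPGroup 2 X) {K : Subgroup G} (hK : ∀ x ∈ K, φ x = x) {x : G}
    (hx : x ∈ X) (h1 : x⁻¹ * φ x ∈ K) : φ x = x := by
  refine h.fix_of_inv_mul_fix hx (hK _ h1) ?_
  obtain ⟨j, hj⟩ := hX ⟨_, X.mul_mem (X.inv_mem hx) (h.maps x hx)⟩
  exact ⟨j, congrArg Subtype.val hj⟩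

/-- On an abelian 2-group, an odd automorphism fixing all involutions is trivial. -/
theorem fix_of_comm_of_fix_involutions (hX : IsPGroup 2 X) (hc : ∀ x ∈ X, ∀ y ∈ X, x * y = y * x)
    (hinv : ∀ x ∈ X, x * x = 1 → φ x = x) {x : G} (hx : x ∈ X) : φ x = x := by
  obtain ⟨j, hj⟩ := hX ⟨x, hx⟩
  replace hj : x ^ 2 ^ j = 1 := congrArg Subtype.val hj
  induction j generalizing x with
  | zero =>
    obtain rfl : x = 1 := by simpa using hj
    exact h.map_one
  | succ j ih =>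
    have h1 : φ (x ^ 2) = x ^ 2 := ih (X.pow_mem hx 2) (by rw [← pow_mul, ← pow_succ', hj])
    have hk : x⁻¹ * φ x ∈ X := X.mul_mem (X.inv_mem hx) (h.maps x hx)
    have h2 : (x⁻¹ * φ x) * (x⁻¹ * φ x) = 1 := by
      have h3 := hc _ (h.maps x hx) _ (X.inv_mem hx)
      rw [h.map_pow hx] at h1
      calc (x⁻¹ * φ x) * (x⁻¹ * φ x) = x⁻¹ * (φ x * x⁻¹) * φ x := by group
        _ = (x ^ 2)⁻¹ * φ x ^ 2 := by rw [h3]; simp only [sq, mul_inv_rev, mul_assoc]
        _ = 1 := by rw [h1]; group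
    exact h.fix_of_inv_mul_fix hx (hinv _ hk h2) ⟨1, by simpa [sq] using h2⟩

end OddAut

end CL.Fus
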