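import Cfsg.Agent.TwoFus.Three

/-!
# Quaternion subgroups of order eight and the action of their normalizers
-/

set_option autoImplicit false

namespace CL

open Subgroup

variable {G : Type*} [Group G]

theorem pair_inv_eq_iff {a b : G} : ({a, a⁻¹} : Set G) = {b, b⁻¹} ↔ a = b ∨ a = b⁻¹ := by
  rw [Set.pair_eq_pair_iff]
  constructor
  · rintro (h | h)
    · exact Or.inl h.1
    · exact Or.inr h.1
  · rintro (rfl | rfl) <;> simp

namespace IsQuatData

variable {Q : Subgroup G} {i j : G}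

theorem ord4 (h : IsQuatData Q 2 i j) : orderOf i = 4 := h.ord

theorem sq' (h : IsQuatData Q 2 i j) : j * j = i * i := by rw [h.sq, pow_two]

theorem i_four (h : IsQuatData Q 2 i j) : i * i * (i * i) = 1 := by
  have := pow_orderOf_eq_one i
  rw [h.ord4] at this
  rw [← this]; simp only [pow_succ, pow_zero, one_mul, mul_assoc]

theorem ii_ne_one (h : IsQuatData Q 2 i j) : i * i ≠ 1 := by
  intro h1
  have := orderOf_dvd_of_pow_eq_one (x := i) (n := 2) (by rw [pow_two, h1])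
  rw [h.ord4] at this
  omega

theorem i_inv (h : IsQuatData Q 2 i j) : i⁻¹ = i * i * i := by
  rw [inv_eq_iff_mul_eq_one, ← h.i_four]; group

theorem j_mul_i (h : IsQuatData Q 2 i j) : j * i = i⁻¹ * j := by
  rw [← h.conj]; group

theorem j_inv (h : IsQuatData Q 2 i j) : j⁻¹ = i * i * j := by
  rw [inv_eq_iff_mul_eq_one, ← h.sq', ← h.i_four, ← h.sq']; group

theorem ij_inv (h : IsQuatData Q 2 i j) : (i * j)⁻¹ = i⁻¹ * j := by
  rw [inv_eq_iff_mul_eq_one, ← h.j_mul_i]
  calc i * j * (j * i) = i * (j * j) * i := by group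
    _ = 1 := by rw [h.sq', ← h.i_four]; group

theorem ij_sq (h : IsQuatData Q 2 i j) : i * j * (i * j) = i * i := by
  calc i * j * (i * j) = i * (j * i) * j := by group
    _ = j * j := by rw [h.j_mul_i]; group
    _ = _ := h.sq'

theorem conj_i_j (h : IsQuatData Q 2 i j) : i * j * i⁻¹ = j⁻¹ := by
  rw [h.j_inv, mul_assoc, mul_assoc, mul_right_inj, mul_inv_eq_iff_eq_mul, mul_assoc, h.j_mul_i]
  group

theorem zpow_cases (h : IsQuatData Q 2 i j) (k : ℤ) :
    i ^ k = 1 ∨ i ^ k = i ∨ i ^ k = i * i ∨ i ^ k = i⁻¹ := by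
  have h4 : i ^ k = i ^ (k % 4) := by
    rw [zpow_eq_zpow_iff_modEq, h.ord4]
    exact (Int.mod_modEq k 4).symm
  have : k % 4 = 0 ∨ k % 4 = 1 ∨ k % 4 = 2 ∨ k % 4 = 3 := by omega
  rcases this with h1 | h1 | h1 | h1 <;> rw [h4, h1]
  · simp
  · simp
  · right; right; left; exact zpow_two i
  · right; right; right
    rw [h.i_inv, show (3 : ℤ) = 2 + 1 by norm_num, zpow_add, zpow_two, zpow_one]

theorem mem_iff (h : IsQuatData Q 2 i j) (g : G) :
    g ∈ Q ↔ g = 1 ∨ g = i * i ∨ (g = i ∨ g = i⁻¹) ∨ (g = j ∨ g = j⁻¹) ∨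
      (g = i * j ∨ g = (i * j)⁻¹) := by
  constructor
  · intro hg
    rw [h.ij_inv, h.j_inv]
    obtain ⟨k, rfl | rfl⟩ := (h.mem g).1 hg <;> rcases h.zpow_cases k with h1 | h1 | h1 | h1 <;>
      simp [h1]
  · have hi := h.x_mem
    have hj := h.y_mem
    rintro (rfl | rfl | (rfl | rfl) | (rfl | rfl) | (rfl | rfl))
    · exact one_mem _
    · exact mul_mem hi hi
    · exact hi
    · exact inv_mem hi
    · exact hj
    · exact inv_mem hj
    · exact mul_mem hi hj
    · exact inv_mem (mul_mem hi hj)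

theorem card8 (h : IsQuatData Q 2 i j) : Nat.card Q = 8 := by
  rw [h.card_eq, h.ord4]

theorem commute_ii (h : IsQuatData Q 2 i j) {g : G} (hg : g ∈ Q) : g * (i * i) = i * i * g := by
  obtain ⟨k, rfl | rfl⟩ := (h.mem g).1 hg
  · group
  · rw [mul_assoc, ← h.sq', ← mul_assoc j, h.sq']; group

theorem orderOf_eq_four_of_sq (h : IsQuatData Q 2 i j) {g : G} (hg : g * g = i * i) :
    orderOf g = 4 := by
  have : orderOf g = 2 ^ 2 := by
    apply orderOf_eq_prime_pow
    · rw [pow_one, pow_two, hg]; exact h.ii_ne_one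
    · rw [show 2 ^ (1 + 1) = 2 * 2 by norm_num, pow_mul, pow_two, pow_two, hg, h.i_four]
  simpa using this

theorem orderOf_j (h : IsQuatData Q 2 i j) : orderOf j = 4 := h.orderOf_eq_four_of_sq h.sq'

theorem orderOf_ij (h : IsQuatData Q 2 i j) : orderOf (i * j) = 4 :=
  h.orderOf_eq_four_of_sq h.ij_sq

theorem orderOf_ii (h : IsQuatData Q 2 i j) : orderOf (i * i) = 2 :=
  orderOf_eq_prime (by rw [pow_two, h.i_four]) h.ii_ne_one

/-- Every element of `Q` other than `1` and `i²` has square `i²`. -/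
theorem sq_eq_of_ne (h : IsQuatData Q 2 i j) {g : G} (hg : g ∈ Q) (h1 : g ≠ 1) (h2 : g ≠ i * i) :
    g * g = i * i := by
  have hinv : ∀ t : G, t * t = i * i → t⁻¹ * t⁻¹ = i * i := by
    intro t ht
    rw [← mul_inv_rev, ht, inv_eq_iff_mul_eq_one, h.i_four]
  rcases (h.mem_iff g).1 hg with rfl | rfl | (rfl | rfl) | (rfl | rfl) | (rfl | rfl)
  · exact absurd rfl h1
  · exact absurd rfl h2
  · rfl
  · exact hinv _ rfl
  · exact h.sq'
  · exact hinv _ h.sq'
  · exact h.ij_sq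
  · exact hinv _ h.ij_sq

theorem eq_ii_of_sq_eq_one (h : IsQuatData Q 2 i j) {g : G} (hg : g ∈ Q) (h1 : g ≠ 1)
    (h2 : g * g = 1) : g = i * i := by
  by_contra hn
  exact h.ii_ne_one ((h.sq_eq_of_ne hg h1 hn).symm.trans h2)

theorem not_commute (h : IsQuatData Q 2 i j) : i * j ≠ j * i := by
  rw [h.j_mul_i, Ne, mul_left_inj, eq_inv_iff_mul_eq_one]
  exact h.ii_ne_one

/-- The generators may be exchanged. -/
theorem symm (h : IsQuatData Q 2 i j) : IsQuatData Q 2 j i := by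
  have hn : i ∉ zpowers j := by
    intro hm
    obtain ⟨k, hk⟩ := mem_zpowers_iff.mp hm
    exact h.not_commute (by rw [← hk]; group)
  have : Finite Q := Nat.finite_of_card_ne_zero (by rw [h.card8]; norm_num)
  exact ⟨isCycExt_of_card h.y_mem h.x_mem hn (by rw [h.card8, h.orderOf_j]), h.orderOf_j,
    by rw [pow_two, h.sq'], h.conj_i_j⟩

/-- The outer generator may be replaced by any element outside `⟨i⟩`. -/
theorem of_notMem' (h : IsQuatData Q 2 i j) {j' : G} (hj : j' ∈ Q) (hn : j' ∉ zpowers i) :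
    IsQuatData Q 2 i j' := by
  refine ⟨h.toIsCycExt.of_notMem hj hn, h.ord, ?_, ?_⟩
  · rw [pow_two]
    refine h.sq_eq_of_ne hj ?_ ?_
    · rintro rfl; exact hn (one_mem _)
    · rintro rfl; exact hn (mul_mem (mem_zpowers i) (mem_zpowers i))
  · obtain ⟨k, rfl⟩ := h.exists_eq_of_notMem hj hn
    calc i ^ k * j * i * (i ^ k * j)⁻¹ = i ^ k * (j * i * j⁻¹) * (i ^ k)⁻¹ := by group
      _ = i⁻¹ := by rw [h.conj]; group

theorem mem_centralizer_iff (h : IsQuatData Q 2 i j) {g : G} :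
    g ∈ centralizer (Q : Set G) ↔ i * g = g * i ∧ j * g = g * j := by
  rw [Subgroup.mem_centralizer_iff]
  refine ⟨fun hc => ⟨hc i h.x_mem, hc j h.y_mem⟩, fun ⟨h1, h2⟩ t ht => ?_⟩
  have : Q ≤ centralizer {g} := h.le_of_mem (mem_centralizer_singleton_iff.2 h1)
    (mem_centralizer_singleton_iff.2 h2)
  exact mem_centralizer_singleton_iff.1 (this ht)

theorem mem_normalizer_of (h : IsQuatData Q 2 i j) {g : G} (ha : g * i * g⁻¹ ∈ Q)
    (hb : g * j * g⁻¹ ∈ Q) : g ∈ normalizer (Q : Set G) := by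
  have : Finite Q := Nat.finite_of_card_ne_zero (by rw [h.card8]; norm_num)
  apply mem_normalizer_fintype
  intro t ht
  have : Q ≤ Q.comap (MulAut.conj g).toMonoidHom := h.le_of_mem ha hb
  exact this ht

theorem mem_center_iff (h : IsQuatData Q 2 i j) {g : G} (hg : g ∈ Q) :
    (∀ s ∈ Q, s * g = g * s) ↔ g = 1 ∨ g = i * i := by
  constructor
  · intro hc
    by_contra hn
    push Not at hn
    by_cases hi : g ∈ zpowers i
    · have hj : g ∉ zpowers j := by
        intro hj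
        obtain ⟨k, hk⟩ := mem_zpowers_iff.mp hi
        obtain ⟨l, hl⟩ := mem_zpowers_iff.mp hj
        rcases h.symm.zpow_cases l with h1 | h1 | h1 | h1
        · exact hn.1 (hl ▸ h1)
        · exact h.notMem (h1 ▸ hl ▸ hi)
        · exact hn.2 (hl ▸ h1.trans h.sq')
        · exact h.notMem (inv_mem_iff.1 (h1 ▸ hl ▸ hi))
      exact (h.symm.of_notMem' hg hj).not_commute (hc j h.y_mem)
    · exact (h.of_notMem' hg hi).not_commute (hc i h.x_mem)
  · rintro (rfl | rfl) s hs
    · simp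
    · exact h.commute_ii hs

/-- An element acting by signs on `i` and `j` lies in `Q C(Q)`. -/
theorem mem_sup_of_signs (h : IsQuatData Q 2 i j) {g : G}
    (hi : g * i * g⁻¹ = i ∨ g * i * g⁻¹ = i⁻¹) (hj : g * j * g⁻¹ = j ∨ g * j * g⁻¹ = j⁻¹) :
    g ∈ Q ⊔ centralizer (Q : Set G) := by
  have key : ∀ q ∈ Q, g * i * g⁻¹ = q * i * q⁻¹ → g * j * g⁻¹ = q * j * q⁻¹ →
      g ∈ Q ⊔ centralizer (Q : Set G) := by
    intro q hq h1 h2
    have : q⁻¹ * g ∈ centralizer (Q : Set G) := by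
      rw [h.mem_centralizer_iff]
      constructor
      · calc i * (q⁻¹ * g) = q⁻¹ * (q * i * q⁻¹) * g := by group
          _ = _ := by rw [← h1]; group
      · calc j * (q⁻¹ * g) = q⁻¹ * (q * j * q⁻¹) * g := by group
          _ = _ := by rw [← h2]; group
    have h3 := mul_mem (mem_sup_left hq) (mem_sup_right (S := Q) this)
    simpa using h3
  rcases hi with h1 | h1 <;> rcases hj with h2 | h2
  · exact key 1 (one_mem _) (by simpa using h1) (by simpa using h2)
  · exact key i h.x_mem (by simpa using h1) (by rw [h2, h.conj_i_j])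
  · exact key j h.y_mem (by rw [h1, h.conj]) (by simpa using h2)
  · refine key (i * j) (mul_mem h.x_mem h.y_mem) ?_ ?_
    · rw [h1]
      calc i⁻¹ = i * (j * i * j⁻¹) * i⁻¹ := by rw [h.conj]; group
        _ = _ := by group
    · rw [h2, ← h.conj_i_j]; group

theorem conj_signs (h : IsQuatData Q 2 i j) {q : G} (hq : q ∈ Q) :
    q * i * q⁻¹ = i ∨ q * i * q⁻¹ = i⁻¹ := by
  obtain ⟨k, rfl | rfl⟩ := (h.mem q).1 hq
  · left; group
  · right
    calc i ^ k * j * i * (i ^ k * j)⁻¹ = i ^ k * (j * i * j⁻¹) * (i ^ k)⁻¹ := by group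
      _ = i⁻¹ := by rw [h.conj]; group

theorem signs_of_mem_sup (h : IsQuatData Q 2 i j) {g : G}
    (hg : g ∈ Q ⊔ centralizer (Q : Set G)) : g * i * g⁻¹ = i ∨ g * i * g⁻¹ = i⁻¹ := by
  let K : Subgroup G :=
    { carrier := {g | g * i * g⁻¹ = i ∨ g * i * g⁻¹ = i⁻¹}
      one_mem' := by simp
      mul_mem' := by
        intro a b ha hb
        have hi : a * i⁻¹ * a⁻¹ = (a * i * a⁻¹)⁻¹ := by group
        have hab : a * b * i * (a * b)⁻¹ = a * (b * i * b⁻¹) * a⁻¹ := by group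
        simp only [Set.mem_ofPred_eq] at ha hb ⊢
        rcases ha with ha | ha <;> rcases hb with hb | hb <;> simp only [hab, hb, hi, ha] <;> simp
      inv_mem' := by
        intro a ha
        simp only [Set.mem_ofPred_eq] at ha ⊢
        rcases ha with ha | ha
        · left
          calc a⁻¹ * i * a⁻¹⁻¹ = a⁻¹ * (a * i * a⁻¹) * a := by rw [ha]; group
            _ = i := by group
        · right
          calc a⁻¹ * i * a⁻¹⁻¹ = a⁻¹ * (a * i * a⁻¹)⁻¹ * a := by rw [ha]; group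
            _ = i⁻¹ := by group }
  have : Q ⊔ centralizer (Q : Set G) ≤ K := by
    refine sup_le (fun q hq => h.conj_signs hq) (fun c hc => Or.inl ?_)
    rw [← (h.mem_centralizer_iff.1 hc).1]; group
  exact this hg

theorem ij_data (h : IsQuatData Q 2 i j) : IsQuatData Q 2 (i * j) i :=
  (h.of_notMem' (mul_mem h.x_mem h.y_mem) (by simpa using h.zpow_mul_notMem 1)).symm

/-- The normalizer of `Q ≅ Q₈` acts on the three cyclic subgroups of order four with kernel
`Q C(Q)`. -/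
theorem relIndex_cases (h : IsQuatData Q 2 i j) {s : G} (hs : s ∈ normalizer (Q : Set G))
    (hsi : s * i * s⁻¹ = i ∨ s * i * s⁻¹ = i⁻¹)
    (hsj : ¬ (s * j * s⁻¹ = j ∨ s * j * s⁻¹ = j⁻¹)) :
    ((Q ⊔ centralizer (Q : Set G)).relIndex (normalizer (Q : Set G)) = 2 ∧
        ∀ g ∈ normalizer (Q : Set G), g * i * g⁻¹ = i ∨ g * i * g⁻¹ = i⁻¹) ∨
      ((Q ⊔ centralizer (Q : Set G)).relIndex (normalizer (Q : Set G)) = 6 ∧
        ∃ g ∈ normalizer (Q : Set G), g * i * g⁻¹ = j) := by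
  have hf : ∀ g t : G, (fun a => g * a * g⁻¹) '' {t, t⁻¹} = {g * t * g⁻¹, (g * t * g⁻¹)⁻¹} := by
    intro g t
    rw [Set.image_pair]
    congr 2
    group
  have hA : Function.Injective ![({i, i⁻¹} : Set G), {j, j⁻¹}, {i * j, (i * j)⁻¹}] := by
    have hji : ∀ {a b : G}, IsQuatData Q 2 a b → ({b, b⁻¹} : Set G) ≠ {a, a⁻¹} := by
      intro a b hab he
      rcases pair_inv_eq_iff.1 he with h1 | h1
      · exact hab.notMem (h1 ▸ mem_zpowers a)
      · exact hab.notMem (h1 ▸ inv_mem (mem_zpowers a))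
    refine injective_vec_three (hji h).symm (hji h.ij_data) ?_
    refine (hji (h.symm.of_notMem' (mul_mem h.x_mem h.y_mem) ?_)).symm
    intro hm
    exact h.symm.notMem ((mul_mem_cancel_right (mem_zpowers j)).1 hm)
  have key := relIndex_three (fun (g : G) (A : Set G) => (fun a => g * a * g⁻¹) '' A) (by simp)
    (by intro g k A; rw [Set.image_image]; congr 1; ext a; group)
    (normalizer (Q : Set G)) (Q ⊔ centralizer (Q : Set G)) _ hA ?_ ?_ hs
    (by simpa only [Matrix.cons_val_zero, hf, pair_inv_eq_iff] using hsi)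
    (by simpa only [Matrix.cons_val_one, Matrix.cons_val_zero, hf, Ne, pair_inv_eq_iff] using hsj)
  · rcases key with h1 | h1
    · refine Or.inl ⟨h1.1, fun g hg => ?_⟩
      simpa only [Matrix.cons_val_zero, hf, pair_inv_eq_iff] using h1.2 g hg
    · refine Or.inr ⟨h1.1, ?_⟩
      obtain ⟨g, hg, h2⟩ := h1.2 0 1
      simp only [Matrix.cons_val_one, Matrix.cons_val_zero, hf, pair_inv_eq_iff] at h2
      rcases h2 with h2 | h2
      · exact ⟨g, hg, h2⟩
      · refine ⟨i * g, mul_mem (le_normalizer h.x_mem) hg, ?_⟩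
        calc i * g * i * (i * g)⁻¹ = i * (g * i * g⁻¹) * i⁻¹ := by group
          _ = (i * j * i⁻¹)⁻¹ := by rw [h2]; group
          _ = j := by rw [h.conj_i_j, inv_inv]
  · intro g hg k
    have hk : ∃ t ∈ Q, orderOf t = 4 ∧
        ![({i, i⁻¹} : Set G), {j, j⁻¹}, {i * j, (i * j)⁻¹}] k = {t, t⁻¹} := by
      fin_cases k
      · exact ⟨i, h.x_mem, h.ord4, rfl⟩
      · exact ⟨j, h.y_mem, h.orderOf_j, rfl⟩
      · exact ⟨i * j, mul_mem h.x_mem h.y_mem, h.orderOf_ij, rfl⟩
    obtain ⟨t, ht, ht4, hk⟩ := hk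
    have ho : orderOf (g * t * g⁻¹) = 4 := by
      rw [← ht4]; exact (orderOf_eq_of_isConj' (isConj_iff.2 ⟨g, rfl⟩)).symm
    simp only [hk, hf]
    rcases (h.mem_iff _).1 ((mem_normalizer_iff.1 hg _).1 ht) with h1 | h1 | h1 | h1 | h1
    · rw [h1, orderOf_one] at ho; omega
    · rw [h1, h.orderOf_ii] at ho; omega
    · exact ⟨0, pair_inv_eq_iff.2 h1⟩
    · exact ⟨1, pair_inv_eq_iff.2 h1⟩
    · exact ⟨2, pair_inv_eq_iff.2 h1⟩
  · intro g _
    constructor
    · intro hg k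
      fin_cases k
      · exact (hf g i).trans (pair_inv_eq_iff.2 (h.signs_of_mem_sup hg))
      · exact (hf g j).trans (pair_inv_eq_iff.2 (h.symm.signs_of_mem_sup hg))
      · exact (hf g (i * j)).trans (pair_inv_eq_iff.2 (h.ij_data.signs_of_mem_sup hg))
    · intro hk
      exact h.mem_sup_of_signs (pair_inv_eq_iff.1 ((hf g i).symm.trans (hk 0)))
        (pair_inv_eq_iff.1 ((hf g j).symm.trans (hk 1)))

end IsQuatData

end CL
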