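import Cfsg.Agent.TwoFus.StrClosed
import Cfsg.Agent.Transfer.PCompl

/-!
# Evaluation of the transfer at an element with controlled fusion
-/

set_option autoImplicit false

namespace CL.TwoFus

open Cfsg

variable {G : Type*} [Group G]

/-- If all conjugates inside `H` of the powers of `g ∈ H` have the same image under `φ` as the
power itself, then the transfer of `φ` maps `g` to `φ g ^ [G : H]`. -/
theorem transfer_eq_pow_of_control {H : Subgroup G} [H.FiniteIndex] {A : Type*} [CommGroup A]
    (φ : H →* A) (g : H)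
    (hctrl : ∀ (k : ℕ) (a : G) (h : a⁻¹ * (g : G) ^ k * a ∈ H), φ ⟨_, h⟩ = φ g ^ k) :
    MonoidHom.transfer φ g = φ g ^ H.index := by
  have : Fintype (Quotient (MulAction.orbitRel (Subgroup.zpowers (g : G)) (G ⧸ H))) :=
    Fintype.ofFinite _
  rw [Subgroup.index_eq_sum_minimalPeriod H g, ← Finset.prod_pow_eq_pow_sum,
    MonoidHom.transfer_eq_prod_quotient_orbitRel_zpowers_quot]
  apply Finset.prod_congr rfl
  intros
  apply hctrl

/-- Transfer argument: a `p`-element `g` of a subgroup `H` of index prime to `p` whose powers have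
controlled fusion with respect to `φ : H → A`, and with `φ g ≠ 1`, is not in the kernel of the
transfer. -/
theorem transfer_ne_one_of_control {p : ℕ} {H : Subgroup G} [H.FiniteIndex] {A : Type*}
    [CommGroup A] (φ : H →* A) (hidx : Nat.Coprime p H.index) (g : H) {n : ℕ}
    (hg : g ^ p ^ n = 1) (h1 : φ g ≠ 1)
    (hctrl : ∀ (k : ℕ) (a : G) (h : a⁻¹ * (g : G) ^ k * a ∈ H), φ ⟨_, h⟩ = φ g ^ k) :
    MonoidHom.transfer φ g ≠ 1 := by
  rw [transfer_eq_pow_of_control φ g hctrl]
  intro h
  apply h1
  have h2 : φ g ^ p ^ n = 1 := by rw [← map_pow, hg, map_one]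
  have h3 := Nat.dvd_gcd (orderOf_dvd_of_pow_eq_one h2) (orderOf_dvd_of_pow_eq_one h)
  rw [Nat.Coprime.pow_left n hidx] at h3
  exact orderOf_eq_one_iff.mp (Nat.dvd_one.mp h3)

open scoped IsMulCommutative in
/-- A subgroup of index prime to `p` controlling the fusion of its `p`-elements controls
`p`-transfer. -/
theorem pResidual_sup_commutator_inf [Finite G] {p : ℕ} [Fact p.Prime] (H : Subgroup G)
    (hidx : Nat.Coprime p H.index)
    (hfus : ∀ g ∈ H, (∃ k : ℕ, orderOf g = p ^ k) → ∀ a : G, a * g * a⁻¹ ∈ H →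
      ∃ h ∈ H, h * g * h⁻¹ = a * g * a⁻¹) :
    (pResidual p G ⊔ commutator G) ⊓ H = (pResidual p H ⊔ commutator H).map H.subtype := by
  apply le_antisymm
  · set K : Subgroup H := pResidual p H ⊔ commutator H with hK
    have : IsMulCommutative (H ⧸ K) :=
      Subgroup.Normal.quotient_commutative_iff_commutator_le.mpr le_sup_right
    have hp : IsPGroup p (H ⧸ K) := CL.Transfer.isPGroup_quotient_of_pResidual_le K le_sup_left
    let φ : H →* H ⧸ K := QuotientGroup.mk' K
    have hker : pResidual p G ⊔ commutator G ≤ (MonoidHom.transfer φ).ker :=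
      sup_le (CL.Transfer.pResidual_le_ker _ hp) (Abelianization.commutator_subset_ker _)
    rintro x ⟨hx, hxH⟩
    obtain ⟨a, b, ha, hb, ⟨n, hn⟩, hb', hab⟩ :=
      CL.Transfer.exists_p_part_mul_p'_part (p := p) (⟨x, hxH⟩ : H)
    have hbK : b ∈ K := (le_sup_left : pResidual p H ≤ K) (CL.Transfer.mem_pResidual_of_coprime hb')
    have haK : a ∈ K := by
      by_contra haK
      have h1 : φ a ≠ 1 := fun h => haK ((QuotientGroup.eq_one_iff a).mp h)
      apply transfer_ne_one_of_control φ hidx a hn h1
      · intro k c hc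
        have hord : ∃ j : ℕ, orderOf ((a : G) ^ k) = p ^ j := by
          have h2 : ((a : G) ^ k) ^ p ^ n = 1 := by
            rw [← pow_mul, mul_comm, pow_mul]
            have : (a : G) ^ p ^ n = 1 := congrArg Subtype.val hn
            rw [this, one_pow]
          obtain ⟨j, -, hj⟩ := (Nat.dvd_prime_pow (Fact.out : p.Prime)).mp
            (orderOf_dvd_of_pow_eq_one h2)
          exact ⟨j, hj⟩
        obtain ⟨h, hh, e⟩ := hfus _ (H.pow_mem a.2 k) hord c⁻¹ (by simpa using hc)
        have : (⟨_, hc⟩ : H) = ⟨h, hh⟩ * a ^ k * ⟨h, hh⟩⁻¹ := by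
          apply Subtype.ext
          simpa using e.symm
        rw [this, map_mul, map_mul, map_inv, map_pow, mul_inv_cancel_comm]
      · obtain ⟨m, hm⟩ := ha
        have : (a : G) = x ^ m := by rw [← hm]; rfl
        have h2 : (a : G) ∈ (MonoidHom.transfer φ).ker := this ▸ Subgroup.zpow_mem _ (hker hx) m
        exact h2
    refine ⟨⟨x, hxH⟩, ?_, rfl⟩
    rw [hab]
    exact K.mul_mem haK hbK
  · refine le_inf ?_ (Subgroup.map_subtype_le _)
    rw [Subgroup.map_sup]
    refine sup_le_sup (CL.Transfer.map_pResidual_le _) ?_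
    rw [Subgroup.map_subtype_commutator]
    exact Subgroup.commutator_mono le_top le_top

/-- If `O^p(G) G' = G` then `O^p(G) = G`. -/
theorem pResidual_eq_top_of_sup_commutator [Finite G] {p : ℕ} [Fact p.Prime]
    (h : pResidual p G ⊔ commutator G = ⊤) : pResidual p G = ⊤ := by
  have hp : IsPGroup p (G ⧸ pResidual p G) := CL.Transfer.isPGroup_quotient_pResidual
  have hn : Group.IsNilpotent (G ⧸ pResidual p G) := hp.isNilpotent
  have hc : commutator (G ⧸ pResidual p G) = ⊤ := by
    have := congrArg (Subgroup.map (QuotientGroup.mk' (pResidual p G))) h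
    rw [Subgroup.map_sup, QuotientGroup.map_mk'_self, bot_sup_eq, commutator_def,
      Subgroup.map_commutator, Subgroup.map_top_of_surjective _ (QuotientGroup.mk'_surjective _)]
      at this
    exact this
  by_contra hne
  have : Nontrivial (G ⧸ pResidual p G) := QuotientGroup.nontrivial_iff.mpr hne
  exact (Group.IsSolvable.commutator_lt_top_of_nontrivial (G ⧸ pResidual p G)).ne hc

end CL.TwoFus
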