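import Cfsg.Agent.TwoFus.QD
import Cfsg.Agent.PGrp.Basic
import Cfsg.Agent.PGrp.Uniserial
import Cfsg.Agent.Solv.Factor
import Cfsg.Agent.Transfer.SylowIn

/-!
# Sectional 2-rank: reduction to 2-subgroups, and Harada's `D × B` configuration

`SqIn X K` says that `K` contains the squares of the elements of `X`.  A finite group has
sectional 2-rank at most `k` as soon as `|X| ≤ 2 ^ k |K|` for all such pairs inside a Sylow
2-subgroup (`sectionalPRankLE_of_sylow`).
-/

set_option autoImplicit false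

namespace CL.HaradaDB

open Subgroup
open scoped commutatorElement Pointwise

variable {G : Type*} [Group G]

/-- `K` contains the squares of all elements of `X`. -/
def SqIn (X K : Subgroup G) : Prop := ∀ x ∈ X, x * x ∈ K

theorem SqIn.mul_conj {X K : Subgroup G} (h : SqIn X K) {y g : G} (hy : y ∈ X) (hg : g ∈ X) :
    y * (g * y * g⁻¹) ∈ K := by
  have h1 := h _ (mul_mem hy hg)
  have h2 := h _ (inv_mem hg)
  have : y * (g * y * g⁻¹) = y * g * (y * g) * (g⁻¹ * g⁻¹) := by group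
  rw [this]
  exact mul_mem h1 h2

/-- Sectional 2-rank is detected on pairs `K ≤ X` inside a Sylow 2-subgroup. -/
theorem sectionalPRankLE_of_sylow [Finite G] (S : Sylow 2 G) {k : ℕ}
    (h : ∀ X K : Subgroup G, X ≤ S → K ≤ X → SqIn X K → Nat.card X ≤ 2 ^ k * Nat.card K) :
    Cfsg.SectionalPRankLE 2 k G := by
  intro H N _ A _ hA
  have hAp : IsPGroup 2 A := fun a => ⟨1, by
    ext; simpa using hA a a.2⟩
  let A' : Subgroup H := A.comap (QuotientGroup.mk' N)
  let f : A' →* A := ((QuotientGroup.mk' N).comp A'.subtype).codRestrict A (fun x => x.2)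
  have hf : Function.Surjective f := by
    rintro ⟨a, ha⟩
    obtain ⟨x, rfl⟩ := QuotientGroup.mk'_surjective N a
    exact ⟨⟨x, ha⟩, rfl⟩
  obtain ⟨P⟩ : Nonempty (Sylow 2 A') := inferInstance
  have hP : (P : Subgroup A').map f = ⊤ := by
    have h1 := (P.mapSurjective hf).3 (hAp.to_subgroup ⊤) le_top
    exact h1.symm
  let i : A' →* G := H.subtype.comp A'.subtype
  have hi : Function.Injective i := H.subtype_injective.comp A'.subtype_injective
  have hPp : IsPGroup 2 ((P : Subgroup A').map i) := P.2.map i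
  obtain ⟨Q, hQ⟩ := hPp.exists_le_sylow
  obtain ⟨g, rfl⟩ := MulAction.exists_smul_eq G Q S
  let j : A' →* G := (MulAut.conj g).toMonoidHom.comp i
  have hj : Function.Injective j := (MulAut.conj g).injective.comp hi
  have h1 := h ((P : Subgroup A').map j) (((P : Subgroup A') ⊓ f.ker).map j) (by
      rintro _ ⟨x, hx, rfl⟩
      rw [Sylow.coe_subgroup_smul]
      exact Subgroup.smul_mem_pointwise_smul _ (MulAut.conj g) _ (hQ ⟨x, hx, rfl⟩))
    (map_mono inf_le_left) (by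
      rintro _ ⟨x, hx, rfl⟩
      refine ⟨x * x, ⟨mul_mem hx hx, ?_⟩, map_mul _ _ _⟩
      change f (x * x) = 1
      rw [map_mul, ← pow_two]
      ext
      simpa using hA _ (f x).2)
  rw [card_map_of_injective hj, card_map_of_injective hj] at h1
  have h2 := PGrp.card_inf_mul_relIndex f.ker (P : Subgroup A')
  rw [Subgroup.relIndex_ker, hP, card_top, inf_comm] at h2
  rw [← h2, mul_comm] at h1
  exact Nat.le_of_mul_le_mul_right h1 Nat.card_pos

theorem comm_of_sq {T : Subgroup G} (hsq : ∀ t ∈ T, t * t = 1) {a b : G} (ha : a ∈ T)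
    (hb : b ∈ T) : a * b = b * a := by
  have h1 := hsq _ (mul_mem ha hb)
  have h2 := inv_eq_of_mul_eq_one_right (hsq _ ha)
  have h3 := inv_eq_of_mul_eq_one_right (hsq _ hb)
  have h4 := inv_eq_of_mul_eq_one_right h1
  rw [mul_inv_rev, h2, h3] at h4
  exact h4.symm

/-- The map `w ↦ w w^g` on a subgroup of an elementary abelian group normalised by `g`. -/
theorem card_le_card_centralizer_mul [Finite G] {T W K : Subgroup G} (hsq : ∀ t ∈ T, t * t = 1)
    (hW : W ≤ T) {g : G} (hg : g ∈ normalizer (T : Set G))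
    (hK : ∀ w ∈ W, w * (g * w * g⁻¹) ∈ K) :
    Nat.card W ≤ Nat.card (T ⊓ centralizer {g} : Subgroup G) * Nat.card (K ⊓ T : Subgroup G) := by
  have hc : ∀ w ∈ T, g * w * g⁻¹ ∈ T := fun w hw => (mem_normalizer_iff.1 hg w).1 hw
  let φ : W →* G := MonoidHom.mk' (fun w => (w : G) * (g * w * g⁻¹)) (by
    intro a b
    have := comm_of_sq hsq (hW b.2) (hc _ (hW a.2))
    simp only [coe_mul]
    calc (a : G) * b * (g * (a * b) * g⁻¹) = a * (b * (g * a * g⁻¹)) * (g * b * g⁻¹) := by group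
      _ = _ := by rw [this]; group)
  have h1 := φ.ker.card_mul_index
  rw [index_ker] at h1
  rw [← h1]
  refine Nat.mul_le_mul ?_ (card_le_of_le ?_)
  · rw [← card_map_of_injective W.subtype_injective]
    refine card_le_of_le ?_
    rintro _ ⟨w, hw, rfl⟩
    refine ⟨hW w.2, mem_centralizer_singleton_iff.2 ?_⟩
    have h2 : (w : G) * (g * w * g⁻¹) = 1 := hw
    have h3 := hsq _ (hW w.2)
    have h4 : g * w * g⁻¹ = w := mul_left_cancel (h2.trans h3.symm)
    change (w : G) * g = g * w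
    rw [← h4]
    nth_rewrite 2 [h4]
    group
  · rintro _ ⟨w, rfl⟩
    exact ⟨hK _ w.2, mul_mem (hW w.2) (hc _ (hW w.2))⟩

theorem le_or_le_of_forall {Y T A : Subgroup G} (h : ∀ y ∈ Y, y ∈ T ∨ y ∈ A) : Y ≤ T ∨ Y ≤ A := by
  by_contra hc
  push Not at hc
  obtain ⟨a, ha, haT⟩ := SetLike.not_le_iff_exists.1 hc.1
  obtain ⟨b, hb, hbA⟩ := SetLike.not_le_iff_exists.1 hc.2
  have h1 := (h a ha).resolve_left haT
  have h2 := (h b hb).resolve_right hbA
  rcases h _ (mul_mem ha hb) with h3 | h3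
  · exact haT ((mul_mem_cancel_right h2).1 h3)
  · exact hbA ((mul_mem_cancel_left h1).1 h3)

theorem two_mul_card_inf_le [Finite G] {K T : Subgroup G} (h : ¬ K ≤ T) :
    2 * Nat.card (K ⊓ T : Subgroup G) ≤ Nat.card K := by
  have h1 := PGrp.card_inf_mul_relIndex T K
  have h2 : T.relIndex K ≠ 1 := fun h2 => h (relIndex_eq_one.1 h2)
  have h3 : T.relIndex K ≠ 0 := index_ne_zero_of_finite
  rw [← h1, inf_comm, mul_comm]
  exact Nat.mul_le_mul_left _ (by omega)

theorem card_le_relIndex_mul [Finite G] {X N : Subgroup G} (T : Subgroup G) (h : X ≤ N) :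
    Nat.card X ≤ T.relIndex N * Nat.card (X ⊓ T : Subgroup G) := by
  rw [← PGrp.card_inf_mul_relIndex T X, inf_comm, mul_comm]
  exact Nat.mul_le_mul_right _ (relIndex_le_of_le_right h index_ne_zero_of_finite)

theorem mem_normalizer_of_conj_mem [Finite G] {T : Subgroup G} {g : G}
    (h : ∀ t ∈ T, g * t * g⁻¹ ∈ T) : g ∈ normalizer (T : Set G) :=
  mem_normalizer_fintype h

/-- The configuration: `T ≅ E₁₆` inside the 2-group `S`, with a four-subgroup `B` all of whose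
involutions have centralizer `T` in `S`. -/
structure Conf (S T B : Subgroup G) : Prop where
  pS : IsPGroup 2 S
  le : T ≤ S
  card : Nat.card T = 16
  sq : ∀ t ∈ T, t * t = 1
  leB : B ≤ T
  cardB : Nat.card B = 4
  cent : ∀ b ∈ B, b ≠ 1 → ∀ g ∈ S, g * b = b * g → g ∈ T

namespace Conf

variable [Finite G] {S T B : Subgroup G}

theorem card_cent (h : Conf S T B) {g : G} (hg : g ∈ S) (hgT : g ∉ T) :
    Nat.card (T ⊓ centralizer {g} : Subgroup G) ≤ 4 := by
  have h1 := card_mul_card_le_card_mul_card_inf (S := T) (A := T ⊓ centralizer {g}) inf_le_left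
    h.leB
  have h2 : (T ⊓ centralizer {g}) ⊓ B = ⊥ := by
    rw [eq_bot_iff]
    rintro b ⟨⟨-, hb1⟩, hb2⟩
    by_contra hb
    exact hgT (h.cent b hb2 hb g hg (mem_centralizer_singleton_iff.1 hb1).symm)
  rw [h2, card_bot, h.card, h.cardB] at h1
  omega

theorem relIndex_le (h : Conf S T B) : T.relIndex (S ⊓ normalizer (T : Set G)) ≤ 4 := by
  set N := S ⊓ normalizer (T : Set G) with hN
  have hNp : IsPGroup 2 N := h.pS.to_le inf_le_left
  have hTp : IsPGroup 2 T := h.pS.to_le h.le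
  have hne : T ≠ ⊥ := by
    intro h0
    have := h.card
    rw [h0, card_bot] at this
    omega
  have hlt : ⁅T, N⁆ < T := PGrp.Chain.commutator_lt hTp hNp inf_le_right hne
  have hrel : ∀ b ∈ B, b ≠ 1 → T.relIndex N = (centralizer {b}).relIndex N := by
    intro b hb hb1
    rw [← inf_relIndex_right T, ← inf_relIndex_right (centralizer {b})]
    congr 1
    ext g
    simp only [mem_inf, mem_centralizer_singleton_iff]
    exact ⟨fun hg => ⟨comm_of_sq h.sq hg.1 (h.leB hb), hg.2⟩,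
      fun hg => ⟨h.cent b hb hb1 g hg.2.1 hg.1, hg.2⟩⟩
  have hcomm : ∀ b ∈ B, ∀ g ∈ N, ⁅g, b⁆ ∈ ⁅T, N⁆ := fun b hb g hg => by
    rw [commutator_comm]; exact commutator_mem_commutator hg (h.leB hb)
  by_cases hBR : ⁅T, N⁆ ⊓ B = ⊥
  · have h1 := card_mul_card_le_card_mul_card_inf (S := T) hlt.le h.leB
    rw [hBR, card_bot, h.card, h.cardB] at h1
    have hB : B ≠ ⊥ := by
      intro h0
      have := h.cardB
      rw [h0, card_bot] at this
      omega
    obtain ⟨⟨b, hb⟩, hb1⟩ := ne_bot_iff_exists_ne_one.1 hB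
    have hb1' : b ≠ 1 := fun h0 => hb1 (Subtype.ext h0)
    rw [hrel b hb hb1']
    have := PGrp.relIndex_centralizer_singleton_le N b (⁅T, N⁆ : Subgroup G) (hcomm b hb)
    change _ ≤ Nat.card (⁅T, N⁆ : Subgroup G) at this
    omega
  · obtain ⟨⟨b, hbR, hb⟩, hb1⟩ := ne_bot_iff_exists_ne_one.1 hBR
    have hb1' : b ≠ 1 := fun h0 => hb1 (Subtype.ext h0)
    have h1 := PGrp.relIndex_centralizer_singleton_le N b
      (((⁅T, N⁆ : Subgroup G) : Set G) \ {b⁻¹}) (fun g hg => ⟨hcomm b hb g hg, by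
        intro h0
        rw [Set.mem_singleton_iff, commutatorElement_def, mul_eq_right] at h0
        exact hb1' (by simpa using h0)⟩)
    rw [← hrel b hb hb1', Nat.card_coe_set_eq,
      Set.ncard_sdiff_singleton_of_mem (inv_mem hbR : b⁻¹ ∈ ⁅T, N⁆), ← Nat.card_coe_set_eq] at h1
    change _ ≤ Nat.card (⁅T, N⁆ : Subgroup G) - 1 at h1
    have h2 := two_mul_card_inf_le hlt.not_ge
    rw [inf_eq_right.2 hlt.le, h.card] at h2
    obtain ⟨k, hk⟩ := hNp.index (T.subgroupOf N)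
    change T.relIndex N = _ at hk
    rw [hk] at h1 ⊢
    by_contra hc
    have : 2 ^ 3 ≤ 2 ^ k := Nat.pow_le_pow_right (by norm_num) (by
      by_contra hk3
      have : k ≤ 2 := by omega
      have : 2 ^ k ≤ 2 ^ 2 := Nat.pow_le_pow_right (by norm_num) this
      omega)
    omega

theorem card_le_four_mul (h : Conf S T B) {X : Subgroup G} (hX : X ≤ S ⊓ normalizer (T : Set G)) :
    Nat.card X ≤ 4 * Nat.card (X ⊓ T : Subgroup G) :=
  (card_le_relIndex_mul T hX).trans (Nat.mul_le_mul_right _ h.relIndex_le)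

theorem card_inf_le (h : Conf S T B) {X K : Subgroup G} (hK : SqIn X K) {g : G} (hgX : g ∈ X)
    (hg : g ∈ S ⊓ normalizer (T : Set G)) (hgT : g ∉ T) :
    Nat.card (X ⊓ T : Subgroup G) ≤ 4 * Nat.card (K ⊓ T : Subgroup G) :=
  (card_le_card_centralizer_mul h.sq inf_le_right hg.2 fun _ hw => hK.mul_conj hw.1 hgX).trans
    (Nat.mul_le_mul_right _ (h.card_cent hg.1 hgT))

theorem bound_normalizer (h : Conf S T B) {X K : Subgroup G}
    (hX : X ≤ S ⊓ normalizer (T : Set G)) (hK : SqIn X K) : Nat.card X ≤ 16 * Nat.card K := by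
  have hKpos : 0 < Nat.card K := Nat.card_pos
  by_cases hXT : X ≤ T
  · have := card_le_of_le hXT
    rw [h.card] at this
    omega
  · obtain ⟨g, hgX, hgT⟩ := SetLike.not_le_iff_exists.1 hXT
    have h1 := h.card_inf_le hK hgX (hX hgX) hgT
    have h2 := h.card_le_four_mul hX
    have h3 : Nat.card (K ⊓ T : Subgroup G) ≤ Nat.card K := card_le_of_le inf_le_left
    omega

/-- A second `E₁₆` in `N_S(T)`. -/
theorem second (h : Conf S T B) {A : Subgroup G} (hA : A ≤ S ⊓ normalizer (T : Set G))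
    (hsq : ∀ u ∈ A, u * u = 1) (hc : Nat.card A = 16) (hAT : ¬ A ≤ T) :
    Nat.card (T ⊓ A : Subgroup G) ≤ 4 ∧
      ∀ n ∈ S ⊓ normalizer (T : Set G), n * n = 1 → n ∈ T ∨ n ∈ A := by
  set N := S ⊓ normalizer (T : Set G) with hN
  have hle : ∀ u ∈ A, T ⊓ A ≤ T ⊓ centralizer {u} := fun u hu t ht =>
    ⟨ht.1, mem_centralizer_singleton_iff.2 (comm_of_sq hsq ht.2 hu)⟩
  obtain ⟨u₀, hu₀, hu₀T⟩ := SetLike.not_le_iff_exists.1 hAT
  have h4 : Nat.card (T ⊓ A : Subgroup G) ≤ 4 :=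
    (card_le_of_le (hle u₀ hu₀)).trans (h.card_cent (hA hu₀).1 hu₀T)
  refine ⟨h4, fun n hn hnn => ?_⟩
  have h5 := h.card_le_four_mul hA
  rw [inf_comm, hc] at h5
  have hTN : T ≤ N := le_inf h.le le_normalizer
  have hsup : T ⊔ A = N := by
    refine eq_of_le_of_card_ge (sup_le hTN hA) ?_
    have h6 := h.card_le_four_mul (le_refl N)
    rw [inf_eq_right.2 hTN, h.card] at h6
    have h7 := card_mul_card_le_card_mul_card_inf (S := T ⊔ A) le_sup_left le_sup_right
    rw [h.card, hc] at h7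
    have h8 := Nat.mul_le_mul_left (Nat.card (T ⊔ A : Subgroup G)) h4
    omega
  rw [← hsup, ← SetLike.mem_coe,
    coe_mul_of_right_le_normalizer_left _ _ (hA.trans inf_le_right)] at hn
  obtain ⟨t, ht, u, hu, rfl⟩ := hn
  dsimp only at hnn ⊢
  by_cases huT : u ∈ T
  · exact Or.inl (mul_mem ht huT)
  · right
    have h6 : T ⊓ A = T ⊓ centralizer {u} :=
      eq_of_le_of_card_ge (hle u hu) ((h.card_cent (hA hu).1 huT).trans (by omega))
    have h7 : t ∈ T ⊓ centralizer {u} := by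
      refine ⟨ht, mem_centralizer_singleton_iff.2 ?_⟩
      have h8 := inv_eq_of_mul_eq_one_right hnn
      rw [mul_inv_rev, inv_eq_of_mul_eq_one_right (h.sq t ht),
        inv_eq_of_mul_eq_one_right (hsq u hu)] at h8
      exact h8.symm
    rw [← h6] at h7
    exact mul_mem h7.2 hu

omit [Finite G] in
theorem conj_mem_normalizer {N : Subgroup G} {a n : G} (ha : a ∈ normalizer (N : Set G))
    (hn : n ∈ N) : a * n * a⁻¹ ∈ N := (mem_normalizer_iff.1 ha n).1 hn

/-- The main estimate. -/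
theorem bound (h : Conf S T B) {X K : Subgroup G} (hX : X ≤ S) (hK : SqIn X K) :
    Nat.card X ≤ 16 * Nat.card K := by
  set N := S ⊓ normalizer (T : Set G) with hN
  set M := S ⊓ normalizer (N : Set G) with hM
  have hTN : T ≤ N := le_inf h.le le_normalizer
  have hNM : N ≤ M := le_inf inf_le_left le_normalizer
  by_cases hSN : S ≤ N
  · exact h.bound_normalizer (hX.trans hSN) hK
  have hNS : N < S := lt_of_le_of_ne inf_le_left fun h0 => hSN h0.ge
  obtain ⟨a₀, ha₀M, ha₀N⟩ := SetLike.exists_of_lt (Transfer.lt_inf_normalizer h.pS hNS)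
  -- conjugates of `T`
  let cj : G → Subgroup G := fun g => T.map (MulAut.conj g).toMonoidHom
  have cj_mem : ∀ g, ∀ t ∈ T, g * t * g⁻¹ ∈ cj g := fun g t ht => ⟨t, ht, rfl⟩
  have cj_card : ∀ g, Nat.card (cj g) = 16 := fun g => by
    rw [card_map_of_injective (MulAut.conj g).injective, h.card]
  have cj_sq : ∀ g, ∀ u ∈ cj g, u * u = 1 := by
    rintro g _ ⟨t, ht, rfl⟩
    rw [← map_mul, h.sq t ht, map_one]
  have cj_le : ∀ g, ∀ L : Subgroup G, T ≤ L → g ∈ normalizer (L : Set G) → cj g ≤ L := by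
    rintro g L hL hg _ ⟨t, ht, rfl⟩
    exact conj_mem_normalizer hg (hL ht)
  have cj_T : ∀ g ∈ S, cj g ≤ T → g ∈ N := fun g hg hle =>
    ⟨hg, mem_normalizer_of_conj_mem fun t ht => hle (cj_mem g t ht)⟩
  set A := cj a₀ with hA
  have hAN : A ≤ N := cj_le a₀ N hTN ha₀M.2
  have hAT : ¬ A ≤ T := fun h0 => ha₀N (cj_T a₀ ha₀M.1 h0)
  obtain ⟨hZ, hinv⟩ := h.second hAN (cj_sq a₀) (cj_card a₀) hAT
  have hor : ∀ Y : Subgroup G, Y ≤ N → (∀ y ∈ Y, y * y = 1) → Y ≤ T ∨ Y ≤ A :=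
    fun Y hY hsq => le_or_le_of_forall fun y hy => hinv y (hY hy) (hsq y hy)
  -- elements of `M - N` swap `T` and `A`
  have hswap1 : ∀ a ∈ M, a ∉ N → ∀ t ∈ T, a * t * a⁻¹ ∈ A := fun a ha haN t ht =>
    ((hor _ (cj_le a N hTN ha.2) (cj_sq a)).resolve_left
      fun h0 => haN (cj_T a ha.1 h0)) (cj_mem a t ht)
  have hswap2 : ∀ a ∈ M, a ∉ N → ∀ u ∈ A, a * u * a⁻¹ ∈ T := by
    intro a ha haN u hu
    have h1 : cj a⁻¹ = A := by
      refine eq_of_le_of_card_ge ?_ (by rw [cj_card, cj_card])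
      rintro _ ⟨t, ht, rfl⟩
      exact hswap1 _ (inv_mem ha) (fun h0 => haN (inv_mem_iff.1 h0)) t ht
    rw [← h1] at hu
    obtain ⟨t, ht, rfl⟩ := hu
    simpa [mul_assoc] using ht
  have hmul : ∀ a ∈ M, a ∉ N → ∀ b ∈ M, b ∉ N → a * b ∈ N := by
    intro a ha haN b hb hbN
    refine ⟨mul_mem ha.1 hb.1, mem_normalizer_of_conj_mem fun t ht => ?_⟩
    have := hswap2 a ha haN _ (hswap1 b hb hbN t ht)
    simpa [mul_assoc] using this
  have hidx : ∀ Y : Subgroup G, Y ≤ M → Nat.card Y ≤ 2 * Nat.card (Y ⊓ N : Subgroup G) := by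
    intro Y hY
    refine (card_le_relIndex_mul N hY).trans (Nat.mul_le_mul_right _ (le_of_eq ?_))
    rw [relIndex, index_eq_two_iff]
    refine ⟨⟨a₀, ha₀M⟩, fun b => ?_⟩
    simp only [mem_subgroupOf, coe_mul]
    by_cases hb : (b : G) ∈ N
    · exact Or.inr ⟨hb, fun h0 => ha₀N ((mul_mem_cancel_left hb).1 h0)⟩
    · exact Or.inl ⟨hmul _ b.2 hb _ ha₀M ha₀N, hb⟩
  have helem : ∀ Y : Subgroup G, Y ≤ M → ¬ Y ≤ N → (∀ y ∈ Y, y * y = 1) → Nat.card Y ≤ 8 := by
    intro Y hY hYN hsq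
    obtain ⟨a, haY, haN⟩ := SetLike.not_le_iff_exists.1 hYN
    have hfix : ∀ y ∈ Y, a * y * a⁻¹ = y := fun y hy => by
      rw [comm_of_sq hsq haY hy]; group
    have h1 : Y ⊓ N ≤ T ⊓ A := by
      rcases hor (Y ⊓ N) inf_le_right (fun y hy => hsq y hy.1) with h2 | h2
      · exact fun y hy => ⟨h2 hy, hfix y hy.1 ▸ hswap1 a (hY haY) haN y (h2 hy)⟩
      · exact fun y hy => ⟨hfix y hy.1 ▸ hswap2 a (hY haY) haN y (h2 hy), h2 hy⟩
    have h2 := card_le_of_le h1
    have h3 := hidx Y hY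
    omega
  have hSM : S ≤ M := by
    by_contra hSM
    have hMS : M < S := lt_of_le_of_ne inf_le_left fun h0 => hSM h0.ge
    obtain ⟨g, hg, hgM⟩ := SetLike.exists_of_lt (Transfer.lt_inf_normalizer h.pS hMS)
    have h1 : cj g ≤ M := cj_le g M (hTN.trans hNM) hg.2
    by_cases h2 : cj g ≤ N
    · rcases hor _ h2 (cj_sq g) with h3 | h3
      · exact hgM (hNM (cj_T g hg.1 h3))
      · have h4 : a₀ * g ∈ N := by
          refine ⟨mul_mem ha₀M.1 hg.1, mem_normalizer_of_conj_mem fun t ht => ?_⟩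
          have := hswap2 a₀ ha₀M ha₀N _ (h3 (cj_mem g t ht))
          simpa [mul_assoc] using this
        exact hgM ((mul_mem_cancel_left ha₀M).1 (hNM h4))
    · have := helem _ h1 h2 (cj_sq g)
      rw [cj_card] at this
      omega
  by_cases hXN : X ≤ N
  · exact h.bound_normalizer hXN hK
  have hXM := hX.trans hSM
  have h1 := hidx X hXM
  have h2 := h.card_le_four_mul (inf_le_right : X ⊓ N ≤ N)
  rw [inf_assoc, inf_eq_right.2 hTN] at h2
  have hKpos : 0 < Nat.card K := Nat.card_pos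
  by_cases hW : X ⊓ T ≤ A
  · have h3 : Nat.card (X ⊓ T : Subgroup G) ≤ Nat.card (T ⊓ A : Subgroup G) :=
      card_le_of_le (le_inf inf_le_right hW)
    by_cases hK1 : K = ⊥
    · have := helem X hXM hXN fun y hy => by simpa [hK1] using hK y hy
      omega
    · have : 1 < Nat.card K := (one_lt_card_iff_ne_bot K).2 hK1
      omega
  · obtain ⟨w, hw, hwA⟩ := SetLike.not_le_iff_exists.1 hW
    obtain ⟨hwX, hwT⟩ := mem_inf.1 hw
    obtain ⟨a, haX, haN⟩ := SetLike.not_le_iff_exists.1 hXN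
    have hw'A := hswap1 a (hXM haX) haN w hwT
    have hw'T : a * w * a⁻¹ ∉ T := fun h0 => hwA (by
      have := hswap1 a⁻¹ (inv_mem (hXM haX)) (fun h0 => haN (inv_mem_iff.1 h0)) _ h0
      simpa [mul_assoc] using this)
    have hw'X : a * w * a⁻¹ ∈ X := mul_mem (mul_mem haX hwX) (inv_mem haX)
    have h3 := h.card_inf_le hK hw'X (hAN hw'A) hw'T
    have h4 : ¬ K ≤ T := fun h0 =>
      hw'T ((mul_mem_cancel_left hwT).1 (h0 (hK.mul_conj hwX haX)))
    have h5 := two_mul_card_inf_le h4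
    omega

end Conf

/-- Squares in a subgroup of a cyclic group have index at most two. -/
theorem card_inf_zpowers_le [Finite G] {X K : Subgroup G} (hK : SqIn X K) (x : G) :
    Nat.card (X ⊓ zpowers x : Subgroup G) ≤ 2 * Nat.card K := by
  obtain ⟨n, hn⟩ := (le_zpowers_iff x (X ⊓ zpowers x)).1 inf_le_right
  have hc : x ^ n ∈ X := (hn ▸ mem_zpowers (x ^ n) : x ^ n ∈ X ⊓ zpowers x).1
  have h1 : zpowers (x ^ n * x ^ n) ≤ K := by rw [zpowers_le]; exact hK _ hc
  have h2 := card_le_of_le h1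
  rw [hn, Nat.card_zpowers] at *
  have h3 : orderOf (x ^ n) ∣ 2 * orderOf (x ^ n * x ^ n) := by
    rw [orderOf_dvd_iff_pow_eq_one, pow_mul, pow_two, pow_orderOf_eq_one]
  have h4 := Nat.le_of_dvd (Nat.mul_pos (by norm_num) (orderOf_pos _)) h3
  omega

theorem eq_of_sq_of_mem_zpowers [Finite G] {x a b : G} (ha : a ∈ zpowers x) (hb : b ∈ zpowers x)
    (ha1 : a ≠ 1) (hb1 : b ≠ 1) (ha2 : a * a = 1) (hb2 : b * b = 1) : a = b := by
  classical
  have := Fintype.ofFinite (zpowers x)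
  have h1 := IsCyclic.card_pow_eq_one_le (α := zpowers x) (n := 2) (by norm_num)
  by_contra hab
  have h2 : ({1, ⟨a, ha⟩, ⟨b, hb⟩} : Finset (zpowers x)) ⊆
      Finset.univ.filter (fun c : zpowers x => c ^ 2 = 1) := by
    intro c hc
    simp only [Finset.mem_insert, Finset.mem_singleton] at hc
    rcases hc with rfl | rfl | rfl <;> simp [pow_two, Subtype.ext_iff, ha2, hb2]
  have h3 := Finset.card_le_card h2
  have h4 : ({1, ⟨a, ha⟩, ⟨b, hb⟩} : Finset (zpowers x)).card = 3 :=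
    Finset.card_eq_three.2 ⟨1, ⟨a, ha⟩, ⟨b, hb⟩, by simp [Subtype.ext_iff, ha1.symm],
      by simp [Subtype.ext_iff, hb1.symm], by simp [Subtype.ext_iff, hab], rfl⟩
  omega

section Prod

variable {S T D B : Subgroup G}

theorem exists_mul_of_prod (hp : Cfsg.IsInternalDirectProduct D B T) {t : G} (ht : t ∈ T) :
    ∃ d ∈ D, ∃ b ∈ B, d * b = t := by
  obtain ⟨-, -, hc, -, rfl⟩ := hp
  have hn : B ≤ normalizer (D : Set G) := fun b hb => centralizer_le_normalizer _
    (mem_centralizer_iff.2 fun d hd => hc d hd b hb)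
  rw [← SetLike.mem_coe, coe_mul_of_right_le_normalizer_left _ _ hn] at ht
  exact ht

theorem card_of_prod [Finite G] (hp : Cfsg.IsInternalDirectProduct D B T) :
    Nat.card T = Nat.card D * Nat.card B := by
  apply le_antisymm
  · rw [← Nat.card_prod]
    refine Nat.card_le_card_of_surjective
      (fun x : D × B => (⟨x.1 * x.2, mul_mem (hp.1 x.1.2) (hp.2.1 x.2.2)⟩ : T)) ?_
    rintro ⟨t, ht⟩
    obtain ⟨d, hd, b, hb, rfl⟩ := exists_mul_of_prod hp ht
    exact ⟨(⟨d, hd⟩, ⟨b, hb⟩), rfl⟩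
  · have := card_mul_card_le_card_mul_card_inf hp.1 hp.2.1
    rwa [hp.2.2.2.1, card_bot, mul_one] at this

/-- If `D` is nonabelian with a cyclic subgroup of index two then `T` is already Sylow. -/
theorem le_of_not_comm [Finite G] (hS : IsPGroup 2 S) (hTS : T ≤ S)
    (hp : Cfsg.IsInternalDirectProduct D B T) {x y : G} (hD : IsCycExt D x y)
    (hxy : x * y ≠ y * x) (hB : IsKleinFour B)
    (hc : ∀ b ∈ B, b ≠ 1 → ∀ g ∈ S, g * b = b * g → g ∈ T) : S ≤ T := by
  by_contra hST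
  have hlt : T < S := lt_of_le_of_ne hTS fun h0 => hST h0.ge
  obtain ⟨g₀, hg₀, hg₀T⟩ := SetLike.exists_of_lt (Transfer.lt_inf_normalizer hS hlt)
  obtain ⟨g, hg, hgT, hg2⟩ : ∃ g ∈ S ⊓ normalizer (T : Set G), g ∉ T ∧ g * g ∈ T := by
    obtain ⟨k, hk⟩ := hS ⟨g₀, hg₀.1⟩
    have hk' : g₀ ^ 2 ^ k ∈ T := by
      have : g₀ ^ 2 ^ k = 1 := congrArg Subtype.val hk
      rw [this]; exact one_mem _
    classical
    have hex : ∃ k, g₀ ^ 2 ^ k ∈ T := ⟨k, hk'⟩
    have h1 := Nat.find_spec hex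
    have h2 : Nat.find hex ≠ 0 := fun h0 => hg₀T (by simpa [h0] using h1)
    obtain ⟨j, hj⟩ := Nat.exists_eq_succ_of_ne_zero h2
    refine ⟨g₀ ^ 2 ^ j, pow_mem hg₀ _, Nat.find_min hex (by omega), ?_⟩
    rw [hj] at h1
    rwa [← pow_add, ← two_mul, mul_comm, ← pow_succ]
  have hBsq : ∀ b ∈ B, b * b = 1 := fun b hb =>
    congrArg Subtype.val (IsKleinFour.mul_self (⟨b, hb⟩ : B))
  have hBT : ∀ b ∈ B, ∀ t ∈ T, t * b = b * t := by
    intro b hb t ht
    obtain ⟨d, hd, c, hc, rfl⟩ := exists_mul_of_prod hp ht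
    rw [mul_assoc, comm_of_sq hBsq hc hb, ← mul_assoc, hp.2.2.1 d hd b hb, mul_assoc]
  -- the `D`-component of a conjugate of `b`
  have hcomp : ∀ b ∈ B, ∃ d ∈ zpowers x, d * d = 1 ∧ ∃ c ∈ B, g * b * g⁻¹ = d * c := by
    intro b hb
    obtain ⟨d, hd, c, hcB, hdc⟩ :=
      exists_mul_of_prod hp (Conf.conj_mem_normalizer hg.2 (hp.2.1 hb))
    have hcen : ∀ t ∈ D, t * d = d * t := by
      intro t ht
      have h1 := hBT b hb _ (Conf.conj_mem_normalizer (inv_mem hg.2) (hp.1 ht))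
      have h2 : t * (d * c) = d * c * t := by
        rw [hdc]
        calc t * (g * b * g⁻¹) = g * (g⁻¹ * t * g⁻¹⁻¹ * b) * g⁻¹ := by group
          _ = _ := by rw [h1]; group
      rw [mul_assoc, ← hp.2.2.1 t ht c hcB, ← mul_assoc, ← mul_assoc] at h2
      exact mul_right_cancel h2
    refine ⟨d, ?_, ?_, c, hcB, hdc.symm⟩
    · by_contra hn
      obtain ⟨i, rfl⟩ := hD.exists_eq_of_notMem hd hn
      have h1 := hcen x hD.x_mem
      apply hxy
      have h2 : x ^ i * (x * y) = x ^ i * (y * x) := by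
        calc x ^ i * (x * y) = x * (x ^ i * y) := by group
          _ = _ := by rw [h1]; group
      exact mul_left_cancel h2
    · have h1 : d * c * (d * c) = 1 := by
        rw [hdc]
        calc g * b * g⁻¹ * (g * b * g⁻¹) = g * (b * b) * g⁻¹ := by group
          _ = 1 := by rw [hBsq b hb]; group
      calc d * d = d * d * (c * c) := by rw [hBsq c hcB, mul_one]
        _ = d * (d * c) * c := by group
        _ = d * (c * d) * c := by rw [hp.2.2.1 d hd c hcB]
        _ = 1 := by rw [← h1]; group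
  have hfin : ∀ b ∈ B, b ≠ 1 → g * b * g⁻¹ ∉ B := by
    intro b hb hb1 hbg
    by_cases he : g * b * g⁻¹ = b
    · exact hgT (hc b hb hb1 g hg.1 (mul_inv_eq_iff_eq_mul.1 he))
    · refine hgT (hc (b * (g * b * g⁻¹)) (mul_mem hb hbg) (fun h0 => he ?_) g hg.1 ?_)
      · exact mul_left_cancel (h0.trans (hBsq b hb).symm)
      · have h1 := hBT b hb _ hg2
        have h2 := comm_of_sq hBsq hb hbg
        calc g * (b * (g * b * g⁻¹)) = g * b * g⁻¹ * (g * g * b) * g⁻¹ := by group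
          _ = g * b * g⁻¹ * b * g := by rw [h1]; group
          _ = _ := by rw [h2]
  have : Nontrivial B := Finite.one_lt_card_iff_nontrivial.1 (by rw [hB.card_four]; norm_num)
  obtain ⟨b₁, hb₁⟩ := exists_ne (1 : B)
  obtain ⟨b₂, hb₂⟩ : ∃ b₂ : B, b₂ ∉ ({1, b₁} : Set B) := by
    by_contra hcon
    push Not at hcon
    have h1 : (Set.univ : Set B) ⊆ {1, b₁} := fun z _ => hcon z
    have h2 := Set.ncard_le_ncard h1
    rw [Set.ncard_univ, IsKleinFour.card_four] at h2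
    have h3 := Set.ncard_insert_le (1 : B) {b₁}
    rw [Set.ncard_singleton] at h3
    omega
  simp only [Set.mem_insert_iff, Set.mem_singleton_iff, not_or] at hb₂
  have hb₁' : (b₁ : G) ≠ 1 := fun h0 => hb₁ (Subtype.ext h0)
  have hb₂' : (b₂ : G) ≠ 1 := fun h0 => hb₂.1 (Subtype.ext h0)
  obtain ⟨d₁, hd₁, hd₁2, c₁, hc₁, e₁⟩ := hcomp _ b₁.2
  obtain ⟨d₂, hd₂, hd₂2, c₂, hc₂, e₂⟩ := hcomp _ b₂.2
  have hd₁1 : d₁ ≠ 1 := fun h0 => hfin _ b₁.2 hb₁' (by rw [e₁, h0, one_mul]; exact hc₁)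
  have hd₂1 : d₂ ≠ 1 := fun h0 => hfin _ b₂.2 hb₂' (by rw [e₂, h0, one_mul]; exact hc₂)
  obtain rfl := eq_of_sq_of_mem_zpowers hd₁ hd₂ hd₁1 hd₂1 hd₁2 hd₂2
  refine hfin _ (mul_mem b₁.2 b₂.2) (fun h0 => hb₂.2 (Subtype.ext ?_)) ?_
  · exact mul_left_cancel (h0.trans (hBsq _ b₁.2).symm)
  · have h1 := hp.2.2.1 d₁ (hD.zpowers_le hd₁) c₁ hc₁
    have : g * (b₁ * b₂) * g⁻¹ = c₁ * c₂ := by
      calc g * (b₁ * b₂) * g⁻¹ = (g * b₁ * g⁻¹) * (g * b₂ * g⁻¹) := by group
        _ = c₁ * (d₁ * d₁) * c₂ := by rw [e₁, e₂, h1]; group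
        _ = _ := by rw [hd₁2, mul_one]
    rw [this]
    exact mul_mem hc₁ hc₂

theorem bound_of_le [Finite G] (hp : Cfsg.IsInternalDirectProduct D B T) {x y : G}
    (hD : IsCycExt D x y) (hB : IsKleinFour B) {X K : Subgroup G} (hX : X ≤ T) (hK : SqIn X K) :
    Nat.card X ≤ 16 * Nat.card K := by
  have h1 := card_le_relIndex_mul (zpowers x) hX
  have h2 := PGrp.card_mul_relIndex (hD.zpowers_le.trans hp.1)
  rw [card_of_prod hp, hD.card_eq, hB.card_four, Nat.card_zpowers] at h2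
  have h3 : (zpowers x).relIndex T = 8 :=
    Nat.eq_of_mul_eq_mul_left (orderOf_pos x) (by rw [h2]; ring)
  have h4 := card_inf_zpowers_le hK x
  rw [h3] at h1
  omega

end Prod

end CL.HaradaDB
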