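import Cfsg.Agent.Base
import Cfsg.Agent.TwoFus.HaradaDB
import Cfsg.Agent.TwoFus.NoNormalFour

/-!
# Counting tools for the sectional rank of 2-groups
-/

set_option autoImplicit false

namespace CL.SecRank

open Subgroup CL.HaradaDB
open scoped commutatorElement

variable {G : Type*} [Group G]

theorem relIndex_le_ncard (N X : Subgroup G) {α : Type*} (φ : G → α) {s : Set α} (hs : s.Finite)
    (h1 : ∀ x ∈ X, φ x ∈ s) (h2 : ∀ x ∈ X, ∀ y ∈ X, φ x = φ y → x⁻¹ * y ∈ N) :
    N.relIndex X ≤ s.ncard := by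
  have := hs.to_subtype
  let f : X ⧸ N.subgroupOf X → s := fun q => ⟨φ (q.out : X), h1 _ q.out.2⟩
  refine Nat.card_le_card_of_injective f fun q r e => ?_
  rw [← q.out_eq', ← r.out_eq', QuotientGroup.eq]
  exact h2 _ q.out.2 _ r.out.2 (congrArg Subtype.val e)

theorem relIndex_le_card [Finite G] {H : Type*} [Group H] [Finite H] (N X : Subgroup G) (φ : G → H)
    (U : Subgroup H) (h1 : ∀ x ∈ X, φ x ∈ U) (h2 : ∀ x ∈ X, ∀ y ∈ X, φ x = φ y → x⁻¹ * y ∈ N) :
    N.relIndex X ≤ Nat.card U :=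
  relIndex_le_ncard N X φ (Set.toFinite (U : Set H)) h1 h2

theorem relIndex_le_two (N X : Subgroup G) {α : Type*} (φ : G → α) (a b : α)
    (h1 : ∀ x ∈ X, φ x = a ∨ φ x = b) (h2 : ∀ x ∈ X, ∀ y ∈ X, φ x = φ y → x⁻¹ * y ∈ N) :
    N.relIndex X ≤ 2 :=
  (relIndex_le_ncard N X φ (Set.toFinite {a, b}) h1 h2).trans
    ((Set.ncard_insert_le _ _).trans (by simp))

theorem card_le_of_relIndex {N X : Subgroup G} {n : ℕ} (h : N.relIndex X ≤ n) :
    Nat.card X ≤ n * Nat.card (N ⊓ X : Subgroup G) := by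
  rw [← PGrp.card_inf_mul_relIndex N X, mul_comm]
  exact Nat.mul_le_mul_right _ h

theorem card_le_of_relIndex' [Finite G] {N X : Subgroup G} {n : ℕ} (h : N.relIndex X ≤ n) :
    Nat.card X ≤ n * Nat.card N :=
  (card_le_of_relIndex h).trans (Nat.mul_le_mul_left _ (card_le_of_le inf_le_left))

theorem bound_mul (N : Subgroup G) {X K : Subgroup G} {a b : ℕ}
    (h1 : N.relIndex X ≤ a * N.relIndex K)
    (h2 : Nat.card (N ⊓ X : Subgroup G) ≤ b * Nat.card (N ⊓ K : Subgroup G)) :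
    Nat.card X ≤ a * b * Nat.card K := by
  rw [← PGrp.card_inf_mul_relIndex N X, ← PGrp.card_inf_mul_relIndex N K]
  calc _ ≤ _ := Nat.mul_le_mul h2 h1
    _ = _ := by ring

theorem relIndex_pos [Finite G] (N K : Subgroup G) : 1 ≤ N.relIndex K :=
  Nat.pos_of_ne_zero index_ne_zero_of_finite

theorem two_le_relIndex [Finite G] {N K : Subgroup G} {k : G} (hk : k ∈ K) (hN : k ∉ N) :
    2 ≤ N.relIndex K := by
  have h1 := relIndex_pos N K
  have h2 : N.relIndex K ≠ 1 := fun e => hN (relIndex_eq_one.1 e hk)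
  omega

theorem two_le_card [Finite G] {K : Subgroup G} {k : G} (hk : k ∈ K) (h1 : k ≠ 1) :
    2 ≤ Nat.card K := by
  simpa using two_le_relIndex (N := ⊥) hk (by simpa using h1)

theorem relIndex_le_mul [Finite G] {N T : Subgroup G} (h : N ≤ T) (X : Subgroup G) {n : ℕ}
    (hT : T.relIndex X ≤ n) : N.relIndex X ≤ n * N.relIndex (T ⊓ X) := by
  have := relIndex_inf_mul_relIndex N T X
  rw [inf_eq_left.2 h] at this
  rw [← this, mul_comm]
  exact Nat.mul_le_mul_right _ hT

theorem two_mul_card_le [Finite G] {H L : Subgroup G} (h : H ≤ L) {a : G} (ha : a ∈ L)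
    (haH : a ∉ H) : 2 * Nat.card H ≤ Nat.card L := by
  rw [← PGrp.card_mul_relIndex h, mul_comm]
  exact Nat.mul_le_mul_left _ (two_le_relIndex ha haH)

theorem mul_mem_of_card_le [Finite G] {H L : Subgroup G} (h : H ≤ L)
    (hc : Nat.card L ≤ 2 * Nat.card H) {a b : G} (ha : a ∈ L) (hb : b ∈ L) (haH : a ∉ H)
    (hbH : b ∉ H) : a * b ∈ H := by
  have h1 := PGrp.card_mul_relIndex h
  have h2 := two_le_relIndex ha haH
  have h3 : H.relIndex L = 2 := by
    have : 0 < Nat.card H := Nat.card_pos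
    nlinarith
  exact (mul_mem_iff_of_index_two (H := H.subgroupOf L) h3 (a := ⟨a, ha⟩) (b := ⟨b, hb⟩)).2
    (iff_of_false haH hbH)

/-- In a 2-group, `|L| < 2 n |H|` with `n` a power of two gives `|L| ≤ n |H|`. -/
theorem card_le_of_lt [Finite G] (hG : IsPGroup 2 G) {H L : Subgroup G} (h : H ≤ L) {k : ℕ}
    (hc : Nat.card L < 2 ^ (k + 1) * Nat.card H) : Nat.card L ≤ 2 ^ k * Nat.card H := by
  have h1 := PGrp.card_mul_relIndex h
  obtain ⟨n, hn⟩ := (hG.to_subgroup L).index (H.subgroupOf L)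
  change H.relIndex L = _ at hn
  rw [← h1, hn, mul_comm] at hc ⊢
  have h2 := Nat.lt_of_mul_lt_mul_right hc
  exact Nat.mul_le_mul_right _ (Nat.pow_le_pow_right (by norm_num)
    (Nat.lt_succ_iff.1 ((Nat.pow_lt_pow_iff_right (by norm_num)).1 h2)))

theorem card_le_of_lt' [Finite G] (hG : IsPGroup 2 G) {L : Subgroup G} {k : ℕ}
    (hc : Nat.card L < 2 ^ (k + 1)) : Nat.card L ≤ 2 ^ k := by
  simpa using card_le_of_lt hG (H := ⊥) bot_le (k := k) (by simpa using hc)

/-- Counting squares. -/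
theorem card_le_sq [Finite G] {Y K V : Subgroup G} (hK : SqIn Y K)
    (hV : ∀ x ∈ Y, ∀ y ∈ Y, x * x = y * y → x⁻¹ * y ∈ V) :
    Nat.card Y ≤ Nat.card (V ⊓ Y : Subgroup G) * Nat.card K := by
  rw [mul_comm]
  exact card_le_of_relIndex (relIndex_le_card V Y (fun x => x * x) K hK hV)

theorem card_lt_sq [Finite G] {Y K V : Subgroup G} (hK : SqIn Y K)
    (hV : ∀ x ∈ Y, ∀ y ∈ Y, x * x = y * y → x⁻¹ * y ∈ V) {k : G} (hk : k ∈ K)
    (hn : ∀ y ∈ Y, y * y ≠ k) : Nat.card Y < Nat.card (V ⊓ Y : Subgroup G) * Nat.card K := by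
  have h1 := relIndex_le_ncard V Y (fun x => x * x) (Set.toFinite ((K : Set G) \ {k}))
    (fun x hx => ⟨hK x hx, hn x hx⟩) hV
  have h2 : ((K : Set G) \ {k}).ncard < Nat.card K := Set.ncard_sdiff_singleton_lt_of_mem hk
  rw [← PGrp.card_inf_mul_relIndex V Y]
  exact Nat.mul_lt_mul_of_pos_left (h1.trans_lt h2) Nat.card_pos

theorem sectional_of_bound [Finite G] (hG : IsPGroup 2 G)
    (h : ∀ X K : Subgroup G, K ≤ X → SqIn X K → Nat.card X ≤ 16 * Nat.card K) :
    Cfsg.SectionalPRankLE 2 4 G := by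
  obtain ⟨S⟩ : Nonempty (Sylow 2 G) := inferInstance
  exact sectionalPRankLE_of_sylow S fun X K _ => h X K

theorem exists_pow_order_four (hG : IsPGroup 2 G) {x : G} (hx : x * x ≠ 1) :
    ∃ k : ℕ, x ^ k * x ^ k ≠ 1 ∧ x ^ k * x ^ k * (x ^ k * x ^ k) = 1 := by
  obtain ⟨k, h1, h2⟩ := PGrp.exists_pow_ne_one_pow_eq_one hG hx
  rw [(Commute.refl x).mul_pow] at h1 h2
  exact ⟨_, h1, by rwa [pow_two] at h2⟩

theorem exists_invol [Finite G] (hG : IsPGroup 2 G) {X : Subgroup G} (hX : X ≠ ⊥) :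
    ∃ c ∈ X, c ≠ 1 ∧ c * c = 1 := by
  obtain ⟨⟨x, hx⟩, h1⟩ := ne_bot_iff_exists_ne_one.1 hX
  obtain ⟨k, h2, h3⟩ := PGrp.exists_pow_ne_one_pow_eq_one hG (x := x)
    fun e => h1 (Subtype.ext e)
  exact ⟨_, pow_mem hx _, h2, by rwa [pow_two] at h3⟩

theorem exists_central_invol [Finite G] (hG : IsPGroup 2 G) (N : Subgroup G) [N.Normal]
    (hN : N ≠ ⊥) : ∃ z ∈ N, z ≠ 1 ∧ z * z = 1 ∧ ∀ g, g * z = z * g := by
  obtain ⟨z, h1, h2, h3, h4⟩ := PGrp.exists_mem_center_of_normal hG N hN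
  exact ⟨z, h1, h2, by rwa [pow_two] at h4, mem_center_iff.1 h3⟩

/-- A subgroup of order at most four containing two commuting involutions. -/
theorem isFourData_of_card [Finite G] {F : Subgroup G} (hF : Nat.card F ≤ 4) {a b : G} (ha : a ∈ F)
    (hb : b ∈ F) (ha2 : a * a = 1) (hb2 : b * b = 1) (hc : a * b = b * a) (ha1 : a ≠ 1)
    (hb1 : b ≠ 1) (hab : a ≠ b) : IsFourData F a b := by
  have h := isFourData_closure ha2 hb2 hc ha1 hb1 hab
  have e : closure ({a, b} : Set G) = F := eq_of_le_of_card_ge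
    ((closure_le _).2 (Set.pair_subset ha hb)) (by rw [h.card_eq]; exact hF)
  exact e ▸ h

theorem exists_isFourData_of_card [Finite G] {F : Subgroup G} (hF : Nat.card F = 4)
    (hsq : ∀ f ∈ F, f * f = 1) {a : G} (ha : a ∈ F) (ha1 : a ≠ 1) : ∃ b, IsFourData F a b := by
  obtain ⟨b, hb, h1, h2⟩ : ∃ b ∈ F, b ≠ 1 ∧ b ≠ a := by
    by_contra hn
    push Not at hn
    have := relIndex_le_two ⊥ F id 1 a (fun x hx => by
      by_cases e : x = 1
      · exact .inl e
      · exact .inr (hn x hx e)) (fun x _ y _ e => by simp [show x = y from e])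
    rw [relIndex_bot_left] at this
    omega
  exact ⟨b, isFourData_of_card hF.le ha hb (hsq a ha) (hsq b hb) (comm_of_sq hsq ha hb) ha1 h1
    h2.symm⟩

/-- Conjugation on a four-group fixing `a`. -/
theorem _root_.CL.IsFourData.conj_cases {V : Subgroup G} {a b : G} (h : IsFourData V a b) {g : G}
    (ha : g * a = a * g) (hb : g * b * g⁻¹ ∈ V) : g * b * g⁻¹ = b ∨ g * b * g⁻¹ = a * b := by
  rcases (h.mem _).1 hb with e | e | e | e
  · exact absurd (by simpa using e) h.b_ne
  · refine absurd ?_ h.ne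
    have : g * b * g⁻¹ = g * a * g⁻¹ := by rw [e, ha, mul_inv_cancel_right]
    exact (mul_left_cancel (mul_right_cancel this)).symm
  · exact .inl e
  · exact .inr e

theorem _root_.CL.IsFourData.comm_of {V : Subgroup G} {a b : G} (h : IsFourData V a b) {g : G}
    (ha : g * a = a * g) (hb : g * b = b * g) {v : G} (hv : v ∈ V) : g * v = v * g := by
  rcases (h.mem _).1 hv with rfl | rfl | rfl | rfl
  · simp
  · exact ha
  · exact hb
  · rw [← mul_assoc, ha, mul_assoc, hb, mul_assoc]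

theorem _root_.CL.IsFourData.relIndex_cent_le {V : Subgroup G} {a b : G} (h : IsFourData V a b)
    {X : Subgroup G} (ha : ∀ g ∈ X, g * a = a * g) (hb : ∀ g ∈ X, g * b * g⁻¹ ∈ V) :
    (centralizer (V : Set G)).relIndex X ≤ 2 := by
  refine relIndex_le_two _ _ (fun g => g * b * g⁻¹) b (a * b)
    (fun g hg => h.conj_cases (ha g hg) (hb g hg)) fun x hx y hy e => ?_
  refine h.mem_centralizer_iff.2 ⟨(ha _ (mul_mem (inv_mem hx) hy)).symm, ?_⟩
  have e' : x * b * x⁻¹ = y * b * y⁻¹ := e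
  calc b * (x⁻¹ * y) = x⁻¹ * (x * b * x⁻¹) * y := by group
    _ = _ := by rw [e']; group

/-- The elements of an abelian subgroup of order dividing `n`. -/
def powKer (R : Subgroup G) (hR : ∀ a ∈ R, ∀ b ∈ R, a * b = b * a) (n : ℕ) : Subgroup G where
  carrier := {r | r ∈ R ∧ r ^ n = 1}
  one_mem' := ⟨one_mem _, one_pow n⟩
  mul_mem' := fun {a b} ha hb => ⟨mul_mem ha.1 hb.1, by
    rw [Commute.mul_pow (hR a ha.1 b hb.1), ha.2, hb.2, mul_one]⟩
  inv_mem' := fun {a} ha => ⟨inv_mem ha.1, by rw [inv_pow, ha.2, inv_one]⟩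

theorem powKer_normal (R : Subgroup G) [hN : R.Normal] (hR : ∀ a ∈ R, ∀ b ∈ R, a * b = b * a)
    (n : ℕ) : (powKer R hR n).Normal :=
  ⟨fun a ha g => ⟨hN.conj_mem a ha.1 g, by rw [conj_pow, ha.2, mul_one, mul_inv_cancel]⟩⟩

theorem isMulCommutative_of {R : Subgroup G} (hR : ∀ a ∈ R, ∀ b ∈ R, a * b = b * a) :
    IsMulCommutative R := ⟨⟨fun a b => Subtype.ext (hR a a.2 b b.2)⟩⟩

theorem comm_of_isMulCommutative {R : Subgroup G} (hR : IsMulCommutative R) :
    ∀ a ∈ R, ∀ b ∈ R, a * b = b * a := fun a ha b hb =>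
  congrArg Subtype.val (hR.is_comm.comm (⟨a, ha⟩ : R) ⟨b, hb⟩)

/-- The automorphisms induced on a normal abelian group `W = V⟨a⟩` with `V` a normal four-group of
index at most two form a group of sectional rank at most two. -/
theorem relIndex_le_four [Finite G] {V W : Subgroup G} [hV : V.Normal] [hW : W.Normal] {α β a : G}
    (h : IsFourData V α β) (hα : ∀ g, g * α = α * g) (hVW : V ≤ W) (ha : a ∈ W)
    (hc : ∀ v ∈ V, a * v = v * a) (hm : ∀ w ∈ W, w ∈ V ∨ a⁻¹ * w ∈ V) {X K : Subgroup G}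
    (hK : SqIn X K) :
    (centralizer (W : Set G)).relIndex X ≤ 4 * (centralizer (W : Set G)).relIndex K := by
  set N := centralizer (W : Set G)
  set T := centralizer (V : Set G)
  have hφ : ∀ x, a⁻¹ * (x * a * x⁻¹) ∈ V := fun x => by
    rcases hm _ (hW.conj_mem a ha x) with e | e
    · have : a ∈ V := by simpa [mul_assoc] using hV.conj_mem _ e x⁻¹
      exact mul_mem (inv_mem this) e
    · exact e
  have hinj : ∀ x ∈ T ⊓ X, ∀ y ∈ T ⊓ X, a⁻¹ * (x * a * x⁻¹) = a⁻¹ * (y * a * y⁻¹) →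
      x⁻¹ * y ∈ N := fun x hx y hy e w hw => by
    have e1 : a * (x⁻¹ * y) = x⁻¹ * y * a := by
      calc a * (x⁻¹ * y) = x⁻¹ * (x * a * x⁻¹) * y := by group
        _ = _ := by rw [mul_left_cancel e]; group
    have hT : x⁻¹ * y ∈ T := mul_mem (inv_mem hx.1) hy.1
    rcases hm w hw with e2 | e2
    · exact hT w e2
    · have := hT _ e2
      calc w * (x⁻¹ * y) = a * (a⁻¹ * w * (x⁻¹ * y)) := by group
        _ = a * (x⁻¹ * y) * (a⁻¹ * w) := by rw [this]; group
        _ = _ := by rw [e1]; group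
  have h4 : N.relIndex (T ⊓ X) ≤ 4 :=
    h.card_eq ▸ relIndex_le_card N _ (fun x => a⁻¹ * (x * a * x⁻¹)) V (fun x _ => hφ x) hinj
  have hpos := relIndex_pos N K
  by_cases hX : X ≤ T
  · rw [inf_eq_right.2 hX] at h4
    omega
  have h2 : N.relIndex X ≤ 2 * N.relIndex (T ⊓ X) := relIndex_le_mul (centralizer_le hVW) X
    (h.relIndex_cent_le (fun g _ => hα g) fun g _ => hV.conj_mem _ h.b_mem g)
  by_cases hy : ∀ y ∈ T ⊓ X, a⁻¹ * (y * a * y⁻¹) = 1 ∨ a⁻¹ * (y * a * y⁻¹) = α
  · have := relIndex_le_two N _ (fun x => a⁻¹ * (x * a * x⁻¹)) 1 α hy hinj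
    omega
  push Not at hy
  obtain ⟨y, hy, h1, h3⟩ := hy
  obtain ⟨x, hx, hxT⟩ := SetLike.not_le_iff_exists.1 hX
  obtain ⟨v, hv⟩ : ∃ v, v = a⁻¹ * (y * a * y⁻¹) := ⟨_, rfl⟩
  obtain ⟨v', hv'⟩ : ∃ v, v = a⁻¹ * (x⁻¹ * a * x⁻¹⁻¹) := ⟨_, rfl⟩
  have mv : v ∈ V := hv ▸ hφ y
  have mv' : v' ∈ V := hv' ▸ hφ x⁻¹
  rw [← hv] at h1 h3
  have h' := isFourData_of_card h.card_eq.le h.a_mem mv h.a_sq (h.sq_eq_one mv) (hα v).symm h.a_ne
    h1 (Ne.symm h3)
  have e1 : x * v * x⁻¹ = α * v := (h'.conj_cases (hα x) (hV.conj_mem _ mv x)).resolve_left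
    fun e => hxT (h'.mem_centralizer_iff.2 ⟨(hα x).symm, (mul_inv_eq_iff_eq_mul.1 e).symm⟩)
  have e2 : y * a * y⁻¹ = a * v := by rw [hv]; group
  have e3 : ∀ u ∈ V, y * u * y⁻¹ = u := fun u hu => by rw [← hy.1 u hu]; group
  have e4 : x⁻¹ * a * x = a * v' := by rw [hv']; group
  have e5 : v * v' = v' * v := comm_of_sq (fun _ => h.sq_eq_one) mv mv'
  have e6 : (x * y * x⁻¹) * a * (x * y * x⁻¹)⁻¹ = a * (α * v) := by
    calc _ = x * (y * (x⁻¹ * a * x) * y⁻¹) * x⁻¹ := by group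
      _ = x * ((y * a * y⁻¹) * (y * v' * y⁻¹)) * x⁻¹ := by rw [e4]; group
      _ = x * (a * v') * v * x⁻¹ := by rw [e2, e3 _ mv', mul_assoc a, e5]; group
      _ = _ := by rw [← e4, ← e1]; group
  have e7 : y * (x * y * x⁻¹) ∉ N := fun hk => by
    have e8 : (y * (x * y * x⁻¹)) * a * (y * (x * y * x⁻¹))⁻¹ = a := by rw [← hk a ha]; group
    have e9 : (y * (x * y * x⁻¹)) * a * (y * (x * y * x⁻¹))⁻¹ = a * α := by
      calc _ = y * ((x * y * x⁻¹) * a * (x * y * x⁻¹)⁻¹) * y⁻¹ := by group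
        _ = (y * a * y⁻¹) * (y * (α * v) * y⁻¹) := by rw [e6]; group
        _ = a * (v * α) * v := by rw [e2, e3 _ (mul_mem h.a_mem mv)]; group
        _ = a * α * (v * v) := by rw [hα v]; group
        _ = _ := by rw [h.sq_eq_one mv, mul_one]
    exact h.a_ne (by simpa using e9.symm.trans e8)
  have := two_le_relIndex (hK.mul_conj hy.2 hx) e7
  omega

/-- A self-centralising normal `E₈`. -/
theorem bound_of_eight [Finite G] (hG : IsPGroup 2 G) {B : Subgroup G} [hB : B.Normal]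
    (hsq : ∀ b ∈ B, b * b = 1) (h8 : Nat.card B = 8) (hC : centralizer (B : Set G) ≤ B)
    {X K : Subgroup G} (hK : SqIn X K) : Nat.card X ≤ 16 * Nat.card K := by
  obtain ⟨V, hV, hVB, h4⟩ := PGrp.exists_normal_le_card_eq hG B 2 (by omega)
  obtain ⟨α, hα, h1, -, hc⟩ := exists_central_invol hG V (by
    rintro rfl
    simp at h4)
  obtain ⟨β, h⟩ := exists_isFourData_of_card h4 (fun f hf => hsq f (hVB hf)) hα h1
  obtain ⟨a, ha, haV⟩ := SetLike.not_le_iff_exists.1 (show ¬ B ≤ V from fun e => by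
    have := card_le_of_le e
    omega)
  have h2 := relIndex_le_four h hc hVB ha (fun v hv => comm_of_sq hsq ha (hVB hv)) (fun w hw => by
    by_cases e : w ∈ V
    · exact .inl e
    · exact .inr (mul_mem_of_card_le hVB (by omega) (inv_mem ha) hw (by simpa using haV) e)) hK
  have hCB : centralizer (B : Set G) = B :=
    le_antisymm hC fun b hb b' hb' => comm_of_sq hsq hb' hb
  rw [hCB] at h2
  have hp : 0 < Nat.card K := Nat.card_pos
  by_cases hX : X ≤ B
  · have := card_le_of_le hX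
    omega
  refine bound_mul B h2 (b := 4) ?_
  have hp' : 0 < Nat.card (B ⊓ K : Subgroup G) := Nat.card_pos
  by_cases hBX : B ≤ X
  · obtain ⟨x, hx, hxB⟩ := SetLike.not_le_iff_exists.1 hX
    rw [← hCB, mem_centralizer_iff] at hxB
    push Not at hxB
    obtain ⟨b, hb, hne⟩ := hxB
    have := two_le_card (K := B ⊓ K) ⟨mul_mem hb (hB.conj_mem b hb x), hK.mul_conj (hBX hb) hx⟩
      fun e => hne (by
        have e2 := mul_left_cancel (e.trans (hsq b hb).symm)
        exact (mul_inv_eq_iff_eq_mul.1 e2).symm)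
    rw [inf_eq_left.2 hBX]
    omega
  · have := two_mul_card_inf_le hBX
    omega

theorem card_le_eight [Finite G] (hG : IsPGroup 2 G) {t : G} (ht : t * t = 1)
    (hC : Nat.card (centralizer ({t} : Set G)) ≤ 4) {V : Subgroup G} [hV : V.Normal]
    (h4 : IsKleinFour V) : Nat.card G ≤ 8 := by
  have hc4 : Nat.card V = 4 := h4.card_four
  obtain ⟨z, hz, h1, hz2, hc⟩ := exists_central_invol hG V (by
    rintro rfl
    simp at hc4)
  obtain ⟨a, b, h'⟩ := exists_isFourData h4
  obtain ⟨v, h⟩ := exists_isFourData_of_card hc4 (fun f => h'.sq_eq_one) hz h1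
  have key : centralizer (V : Set G) ≤ V := by
    by_cases htV : t ∈ V
    · have e : V = centralizer {t} := eq_of_le_of_card_ge
        (fun x hx => mem_centralizer_singleton_iff.2 (comm_of_sq (fun _ => h.sq_eq_one) hx htV))
        (by omega)
      exact fun x hx => e ▸ mem_centralizer_singleton_iff.2 (hx t htV).symm
    have hT := isFourData_of_card hC (mem_centralizer_singleton_iff.2 (hc t).symm)
      (mem_centralizer_singleton_iff.2 rfl) hz2 ht (hc t).symm h1 (fun e => htV (e ▸ one_mem _))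
      fun e => htV (e ▸ hz)
    have hm : ∀ x, t * x * t⁻¹ = x → x = 1 ∨ x = z ∨ x = t ∨ x = z * t := fun x hx =>
      (hT.mem x).1 (mem_centralizer_singleton_iff.2 (mul_inv_eq_iff_eq_mul.1 hx).symm)
    have hmV : ∀ x ∈ V, t * x * t⁻¹ = x → x = 1 ∨ x = z := fun x hx e => by
      rcases hm x e with e | e | e | e
      · exact .inl e
      · exact .inr e
      · exact absurd (e ▸ hx) htV
      · exact absurd ((mul_mem_cancel_left hz).1 (e ▸ hx)) htV
    have hv : t * v * t⁻¹ = z * v :=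
      (h.conj_cases (hc t) (hV.conj_mem _ h.b_mem t)).resolve_left fun e => by
        rcases hmV v h.b_mem e with e | e
        · exact h.b_ne e
        · exact h.ne e.symm
    have htC : t ∉ centralizer (V : Set G) := fun e => h1 (by
      rw [← e v h.b_mem] at hv
      simpa using hv.symm)
    have hmC : ∀ x ∈ centralizer (V : Set G), t * x * t⁻¹ = x → x ∈ V := fun x hx e => by
      rcases hm x e with e | e | e | e
      · exact e ▸ one_mem _
      · exact e ▸ hz
      · exact absurd (e ▸ hx) htC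
      · have mz : z ∈ centralizer (V : Set G) := fun g _ => hc g
        exact absurd ((mul_mem_cancel_left mz).1 (e ▸ hx)) htC
    by_contra hn
    obtain ⟨n, hn, hnV, -, hcm⟩ := PGrp.exists_central_mod hG V _ hn
    obtain ⟨w, hw⟩ : ∃ w, w = ⁅t, n⁆ := ⟨_, rfl⟩
    have mw : w ∈ V := hw ▸ hcm t
    have e1 : t * n * t⁻¹ = w * n := by rw [hw, commutatorElement_def]; group
    have e2 : t * w * t⁻¹ = w := by
      have e3 : t * (t * n * t⁻¹) * t⁻¹ = n := by
        calc _ = (t * t) * n * (t * t)⁻¹ := by group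
          _ = _ := by rw [ht]; group
      have e4 : t * w * t⁻¹ * w * n = w * w * n := by
        rw [h.sq_eq_one mw, one_mul, mul_assoc, ← e1]
        conv_rhs => rw [← e3, e1]
        group
      exact mul_right_cancel (mul_right_cancel e4)
    rcases hmV w mw e2 with e | e
    · exact hnV (hmC n hn (by rw [e1, e, one_mul]))
    · have mv : v ∈ centralizer (V : Set G) := fun u hu =>
        comm_of_sq (fun _ => h.sq_eq_one) hu h.b_mem
      refine hnV ((mul_mem_cancel_right h.b_mem).1 (hmC (n * v) (mul_mem hn mv) ?_))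
      calc _ = (t * n * t⁻¹) * (t * v * t⁻¹) := by group
        _ = z * (n * z) * v := by rw [e1, e, hv]; group
        _ = z * z * n * v := by rw [hc n]; group
        _ = _ := by rw [hz2, one_mul]
  have h2 := card_le_of_relIndex' (h.relIndex_cent_le (X := ⊤) (fun g _ => hc g)
    fun g _ => hV.conj_mem _ h.b_mem g)
  have h3 := card_le_of_le key
  rw [card_top] at h2
  omega

theorem exists_zpowers_of_no_four [Finite G] (hG : IsPGroup 2 G)
    (hn : ∀ V : Subgroup G, V.Normal → ¬ IsKleinFour V) : ∃ x : G, (zpowers x).Normal ∧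
      ∀ X : Subgroup G, Nat.card X ≤ 2 * Nat.card (zpowers x ⊓ X : Subgroup G) := by
  obtain ⟨C, hC, hi⟩ : ∃ C : Subgroup G, IsCyclic C ∧ C.index ≤ 2 ∧ C.Normal := by
    by_cases hc : IsCyclic G
    · exact ⟨⊤, inferInstance, by simp, inferInstance⟩
    · obtain ⟨C, h1, h2, -⟩ := Rank2.exists_cyclic_index_two hG hn hc
      exact ⟨C, h1, h2.le, normal_of_index_eq_two h2⟩
  obtain ⟨x, rfl⟩ := C.isCyclic_iff_exists_zpowers_eq_top.1 hC
  exact ⟨x, hi.2, fun X => card_le_of_relIndex ((relIndex_le_of_le_right (H := zpowers x)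
    (le_top (a := X)) index_ne_zero_of_finite).trans (relIndex_top_right (zpowers x) ▸ hi.1))⟩

/-- 2-groups with an involution whose centraliser has order at most four. -/
theorem small_cent [Finite G] (hG : IsPGroup 2 G) {t : G} (ht : t * t = 1) (ht1 : t ≠ 1)
    (hC : Nat.card (centralizer ({t} : Set G)) ≤ 4) {X K : Subgroup G} (hK : SqIn X K) :
    Nat.card X ≤ 2 * Nat.card K ∨ (Nat.card X ≤ 4 * Nat.card K ∧ ∃ c ∈ X, c ≠ 1 ∧ c * c = 1 ∧
      (∀ g, g * c = c * g) ∧ (t ∈ X ∨ ∃ s, s * t * s⁻¹ = c * t)) := by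
  have hp : 0 < Nat.card K := Nat.card_pos
  by_cases h2 : Nat.card X ≤ 2
  · exact .inl (by omega)
  right
  have main : Nat.card X ≤ 4 * Nat.card K ∧ ∃ c ∈ X, c ≠ 1 ∧ c * c = 1 ∧ ∀ g, g * c = c * g := by
    by_cases hn : ∀ V : Subgroup G, V.Normal → ¬ IsKleinFour V
    · obtain ⟨x, hi, hx⟩ := exists_zpowers_of_no_four hG hn
      have h3 := hx X
      have h4 := card_inf_zpowers_le hK x
      rw [inf_comm] at h4
      obtain ⟨c, hc, h1, hc2⟩ := exists_invol hG (X := zpowers x ⊓ X) fun e => by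
        rw [e, card_bot] at h3
        omega
      refine ⟨by omega, c, hc.2, h1, hc2, fun g => mul_inv_eq_iff_eq_mul.1 ?_⟩
      refine eq_of_sq_of_mem_zpowers (hi.conj_mem c hc.1 g) hc.1 (by simpa using h1) h1 ?_ hc2
      calc _ = g * (c * c) * g⁻¹ := by group
        _ = _ := by rw [hc2]; group
    · push Not at hn
      obtain ⟨V, hV, h4⟩ := hn
      have h8 := card_le_eight hG ht hC h4
      have h5 : 4 ≤ Nat.card X := by
        by_contra h5
        exact h2 (card_le_of_lt' hG (k := 1) (by omega))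
      have h6 := X.card_mul_index
      have h7 : X.index ≠ 0 := index_ne_zero_of_finite
      have hX : X.Normal := by
        by_cases e : X.index = 1
        · rw [index_eq_one.1 e]; infer_instance
        · have : X.index < 3 := by nlinarith
          exact normal_of_index_eq_two (by omega)
      refine ⟨?_, exists_central_invol hG X fun e => h2 (by simp [e])⟩
      by_cases h9 : Nat.card X ≤ 4
      · omega
      have hX8 := card_le_of_le (le_top (a := X))
      rw [card_top] at hX8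
      by_cases hK1 : ∀ x ∈ X, x * x = 1
      · have e' : X.index < 2 := by nlinarith
        have e : X.index = 1 := by omega
        rw [index_eq_one.1 e] at hK1 h9
        have : ⊤ ≤ centralizer ({t} : Set G) := fun g _ => mem_centralizer_singleton_iff.2
          (comm_of_sq hK1 (mem_top _) (mem_top _))
        exact absurd ((card_le_of_le this).trans hC) h9
      · push Not at hK1
        obtain ⟨x, hx, hne⟩ := hK1
        have := two_le_card (hK x hx) hne
        omega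
  obtain ⟨h4, c, hc, h1, hc2, hcc⟩ := main
  refine ⟨h4, c, hc, h1, hc2, hcc, ?_⟩
  by_cases htX : t ∈ X
  · exact .inl htX
  right
  have hT := isFourData_of_card hC (mem_centralizer_singleton_iff.2 (hcc t).symm)
    (mem_centralizer_singleton_iff.2 rfl) hc2 ht (hcc t).symm h1 ht1 fun e => htX (e ▸ hc)
  by_cases htop : centralizer ({t} : Set G) = ⊤
  · refine absurd ?_ h2
    rw [← relIndex_bot_left]
    refine relIndex_le_two ⊥ X id 1 c (fun x hx => ?_) fun x _ y _ e => by simp [show x = y from e]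
    rcases (hT.mem x).1 (htop ▸ mem_top x) with e | e | e | e
    · exact .inl e
    · exact .inr e
    · exact absurd (e ▸ hx) htX
    · exact absurd ((mul_mem_cancel_left hc).1 (e ▸ hx)) htX
  have := hG.isNilpotent
  obtain ⟨s, hs, hsn⟩ := SetLike.exists_of_lt
    (Group.normalizerCondition_of_isNilpotent _ (lt_top_iff_ne_top.2 htop))
  refine ⟨s, ?_⟩
  rcases (hT.mem _).1 ((mem_normalizer_iff.1 hs t).1 hT.b_mem) with e | e | e | e
  · exact absurd (by simpa using e) ht1
  · refine absurd ?_ htX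
    have : s * t * s⁻¹ = s * c * s⁻¹ := by rw [e, hcc s, mul_inv_cancel_right]
    exact mul_left_cancel (mul_right_cancel this) ▸ hc
  · exact absurd (mem_centralizer_singleton_iff.2 (mul_inv_eq_iff_eq_mul.1 e)) hsn
  · exact e

end CL.SecRank
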