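import Cfsg.Agent.Base
import Cfsg.Agent.TwoFus.SecAux
import Cfsg.Agent.PGrp.Alperin

/-!
# MacWilliams' four-generator theorem

A finite 2-group without normal elementary abelian subgroup of order 8 has sectional rank at
most 4.  `W` is a maximal normal abelian subgroup of exponent at most 4 and `V = Ω₁(W)`.
-/

set_option autoImplicit false

namespace CL.SecRank

open Subgroup CL.HaradaDB
open scoped commutatorElement

variable {G : Type*} [Group G]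

local notation "𝐂" W => Subgroup.centralizer (W : Set G)

/-- The configuration provided by Alperin's theorem. -/
structure MW (V W : Subgroup G) (α β : G) : Prop where
  p2 : IsPGroup 2 G
  four : IsFourData V α β
  Vn : V.Normal
  Wn : W.Normal
  cen : ∀ g, g * α = α * g
  le : V ≤ W
  comm : ∀ u ∈ W, ∀ w ∈ W, u * w = w * u
  om : ∀ w ∈ W, w * w = 1 → w ∈ V
  exp : ∀ w ∈ W, w * w * (w * w) = 1
  alp : ∀ x ∈ (𝐂 W), x * x * (x * x) = 1 → x ∈ W
  no8 : ∀ A : Subgroup G, A.Normal → (∀ a ∈ A, a * a = 1) → Nat.card A ≤ 4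

/-- `w⁻¹ w^x` -/
def dl (x w : G) : G := w⁻¹ * (x * w * x⁻¹)

namespace MW

variable {V W : Subgroup G} {α β : G} (h : MW V W α β)
include h

theorem sq_mem {w : G} (hw : w ∈ W) : w * w ∈ V := h.om _ (mul_mem hw hw) (h.exp w hw)

theorem le_cent : W ≤ 𝐂 W := fun w hw u hu => h.comm u hu w hw

theorem mem_of_sq_eq {u w : G} (hu : u ∈ W) (hw : w ∈ W) (e : u * u = w * w) : u⁻¹ * w ∈ V := by
  refine h.om _ (mul_mem (inv_mem hu) hw) ?_
  calc _ = u⁻¹ * (w * u⁻¹) * w := by group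
    _ = (u * u)⁻¹ * (w * w) := by rw [h.comm w hw _ (inv_mem hu)]; group
    _ = _ := by rw [e, inv_mul_cancel]

theorem mem_of_inv {x n : G} (hx : ∀ w ∈ W, x * w * x⁻¹ = w⁻¹ → w ∈ V) (hn : n ∈ 𝐂 W)
    (e : x * n * x⁻¹ = n⁻¹) : n ∈ V := by
  by_cases h1 : n * n = 1
  · exact h.om n (h.alp n hn (by rw [h1, one_mul])) h1
  · obtain ⟨k, h2, h3⟩ := exists_pow_order_four h.p2 h1
    exact absurd (h.four.sq_eq_one (hx _ (h.alp _ (pow_mem hn k) h3)
      (by rw [← conj_pow, e, inv_pow]))) h2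

theorem sq_of_fix {x n : G} (hx : ∀ w ∈ W, x * w * x⁻¹ = w → w ∈ V) (hn : n ∈ 𝐂 W)
    (e : x * n * x⁻¹ = n) : n * n = 1 := by
  by_contra h1
  obtain ⟨k, h2, h3⟩ := exists_pow_order_four h.p2 h1
  exact h2 (h.four.sq_eq_one (hx _ (h.alp _ (pow_mem hn k) h3) (by rw [← conj_pow, e])))

theorem mem_of_inv' {x n : G} (hx : x ∈ 𝐂 W) (hn : n ∈ 𝐂 W) (e : x * n * x⁻¹ = n⁻¹) : n ∈ V :=
  h.mem_of_inv (fun w hw e => h.om w hw (by
    rw [← hx w hw, mul_inv_cancel_right] at e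
    exact mul_eq_one_iff_eq_inv.2 e)) hn e

theorem sq_inj {x y : G} (hx : x ∈ 𝐂 W) (hy : y ∈ 𝐂 W) (e : x * x = y * y) : x⁻¹ * y ∈ V := by
  refine h.mem_of_inv' (inv_mem hx) (mul_mem (inv_mem hx) hy) ?_
  calc _ = (x * x)⁻¹ * y * x := by group
    _ = _ := by rw [e]; group

variable [Finite G]

theorem card_inf_le {X K : Subgroup G} (hK : SqIn X K) :
    Nat.card ((𝐂 W) ⊓ X : Subgroup G) ≤ 4 * Nat.card ((𝐂 W) ⊓ K : Subgroup G) :=
  (card_le_sq (V := V) (Y := (𝐂 W) ⊓ X) (K := (𝐂 W) ⊓ K) (fun x hx => ⟨mul_mem hx.1 hx.1, hK x hx.2⟩)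
    fun _ hx _ hy => h.sq_inj hx.1 hy.1).trans
    (Nat.mul_le_mul_right _ (h.four.card_eq ▸ card_le_of_le inf_le_left))

theorem dichotomy {X K : Subgroup G} (hKX : K ≤ X) (hK : SqIn X K) :
    Nat.card ((𝐂 W) ⊓ X : Subgroup G) ≤ 2 * Nat.card ((𝐂 W) ⊓ K : Subgroup G) ∨
      ∀ x ∈ X, x * x ∈ (𝐂 W) → ∃ y ∈ X, y⁻¹ * x ∈ (𝐂 W) ∧ y * y * (y * y) = 1 := by
  have := h.Wn
  by_cases hs : ∀ k ∈ (𝐂 W) ⊓ K, ∃ y ∈ (𝐂 W) ⊓ X, y * y = k
  · refine .inr fun x hx hxx => ?_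
    obtain ⟨y, hy, e⟩ := hs _ ⟨hxx, hK x hx⟩
    refine ⟨x * y⁻¹, mul_mem hx (inv_mem hy.2), by simpa using hy.1, ?_⟩
    have e1 : y * (x * y⁻¹) * y⁻¹ = (x * y⁻¹)⁻¹ := by
      calc _ = y * x * (y * y)⁻¹ := by group
        _ = _ := by rw [e]; group
    refine h.four.sq_eq_one (h.mem_of_inv' hy.1 ?_ ?_)
    · have : x * y⁻¹ * (x * y⁻¹) = x * y⁻¹ * x⁻¹ * (x * x) * y⁻¹ := by group
      rw [this]
      exact mul_mem (mul_mem (Normal.conj_mem inferInstance _ (inv_mem hy.1) x) hxx) (inv_mem hy.1)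
    · calc _ = y * (x * y⁻¹) * y⁻¹ * (y * (x * y⁻¹) * y⁻¹) := by group
        _ = _ := by rw [e1]; group
  · push Not at hs
    obtain ⟨k, hk, hn⟩ := hs
    left
    refine card_le_of_lt h.p2 (inf_le_inf_left _ hKX) (k := 1) ?_
    exact (card_lt_sq (V := V) (Y := (𝐂 W) ⊓ X) (K := (𝐂 W) ⊓ K)
      (fun x hx => ⟨mul_mem hx.1 hx.1, hK x hx.2⟩) (fun _ hx _ hy => h.sq_inj hx.1 hy.1) hk
      hn).trans_le (Nat.mul_le_mul_right _ ((card_le_of_le inf_le_left).trans h.four.card_eq.le))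

omit [Finite G] in
theorem dl_mem {x w : G} (hx : x ∈ 𝐂 V) (hw : w ∈ W) : dl x w ∈ V := by
  refine h.mem_of_sq_eq hw (h.Wn.conj_mem w hw x) ?_
  calc _ = w * w * x * x⁻¹ := by group
    _ = _ := by rw [hx _ (h.sq_mem hw)]; group

omit [Finite G] in
theorem dl_mul (x : G) {u w : G} (hu : u ∈ W) (hw : w ∈ W) : dl x (u * w) = dl x u * dl x w := by
  have := h.comm _ (inv_mem hw) _ (mul_mem (inv_mem hu) (h.Wn.conj_mem u hu x))
  calc _ = w⁻¹ * (u⁻¹ * (x * u * x⁻¹)) * (x * w * x⁻¹) := by unfold dl; group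
    _ = _ := by rw [this]; unfold dl; group

omit [Finite G] h in
theorem dl_of_mem {x v : G} (hx : x ∈ 𝐂 V) (hv : v ∈ V) : dl x v = 1 := by
  unfold dl
  rw [← hx v hv]; group

omit [Finite G] in
theorem dl_congr {x u w : G} (hx : x ∈ 𝐂 V) (hu : u ∈ W) (hw : w ∈ W) (e : u * u = w * w) :
    dl x w = dl x u := by
  have h1 := h.mem_of_sq_eq hu hw e
  have := h.dl_mul x hu (h.le h1)
  rwa [dl_of_mem hx h1, mul_one, mul_inv_cancel_left] at this

omit [Finite G] in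
theorem mul_dl {x y w : G} (hx : x ∈ 𝐂 V) (hy : y ∈ 𝐂 V) (hw : w ∈ W) :
    dl (x * y) w = dl x w * dl y w := by
  calc _ = w⁻¹ * (x * w * x⁻¹) * (x * dl y w) * x⁻¹ := by unfold dl; group
    _ = _ := by rw [← hx _ (h.dl_mem hy hw)]; unfold dl; group

omit [Finite G] h in
theorem mem_cent_iff {x : G} : x ∈ (𝐂 W) ↔ ∀ w ∈ W, dl x w = 1 := by
  refine forall₂_congr fun w _ => ?_
  unfold dl
  rw [inv_mul_eq_one, eq_mul_inv_iff_mul_eq]

omit [Finite G] in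
theorem sq_mem_cent {x : G} (hx : x ∈ 𝐂 V) : x * x ∈ 𝐂 W :=
  mem_cent_iff.2 fun w hw => by rw [h.mul_dl hx hx hw, h.four.sq_eq_one (h.dl_mem hx hw)]

omit [Finite G] in
theorem conj_mem_cent {x g : G} (hx : x ∈ 𝐂 V) (hg : g ∈ 𝐂 V) : x⁻¹ * (g * x * g⁻¹) ∈ 𝐂 W := by
  have : x⁻¹ * (g * x * g⁻¹) = x⁻¹ * x⁻¹ * (x * g * (x * g)) * (g⁻¹ * g⁻¹) := by group
  rw [this]
  exact mul_mem (mul_mem (h.sq_mem_cent (inv_mem hx)) (h.sq_mem_cent (mul_mem hx hg)))
    (h.sq_mem_cent (inv_mem hg))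

omit [Finite G] in
/-- The coset of an element of order at most 4 inverting no element of order 4 of `W`. -/
theorem exists_invol {x : G} (hx : x ∈ 𝐂 V) (h4 : x * x * (x * x) = 1)
    (h1 : ∀ w ∈ W, x * w * x⁻¹ = w⁻¹ → w ∈ V) (h2 : ∀ v ∈ V, ∃ w ∈ W, w * w * dl x w = v) :
    ∃ t, t ∈ (𝐂 V) ∧ t * t = 1 ∧ x⁻¹ * t ∈ W ∧ (∀ w ∈ W, t * w * t⁻¹ = x * w * x⁻¹) ∧
      ∀ g, x⁻¹ * (g * x * g⁻¹) ∈ (𝐂 W) → t⁻¹ * (g * t * g⁻¹) ∈ V := by
  have := h.Wn
  obtain ⟨w, hw, e⟩ := h2 _ (h.om _ (h.alp _ (h.sq_mem_cent hx) (by rw [h4, one_mul])) h4)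
  have ht : w * x * (w * x) = 1 := by
    calc _ = w * (w * dl x w) * (x * x) := by unfold dl; group
      _ = _ := by rw [← mul_assoc w, e, h4]
  have hc : ∀ u ∈ W, w * x * u * (w * x)⁻¹ = x * u * x⁻¹ := fun u hu => by
    calc _ = w * (x * u * x⁻¹) * w⁻¹ := by group
      _ = _ := by rw [h.comm w hw _ (h.Wn.conj_mem u hu x), mul_inv_cancel_right]
  refine ⟨w * x, mul_mem (fun v hv => h.comm v (h.le hv) w hw) hx, ht,
    by simpa [mul_assoc] using h.Wn.conj_mem w hw x⁻¹, hc, fun g hg => ?_⟩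
  refine h.mem_of_inv (x := w * x) (fun u hu e => h1 u hu (hc u hu ▸ e)) ?_ ?_
  · have : (w * x)⁻¹ * (g * (w * x) * g⁻¹) =
        x⁻¹ * (w⁻¹ * (g * w * g⁻¹)) * x⁻¹⁻¹ * (x⁻¹ * (g * x * g⁻¹)) := by group
    rw [this]
    exact mul_mem (h.le_cent (h.Wn.conj_mem _ (mul_mem (inv_mem hw) (h.Wn.conj_mem w hw g)) _)) hg
  · have e1 := inv_eq_of_mul_eq_one_right ht
    generalize w * x = t at e1 ⊢
    calc _ = g * t * g⁻¹ * t⁻¹ := by group
      _ = g * t⁻¹ * g⁻¹ * t := by rw [e1]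
      _ = _ := by group

theorem false_of_invol {t : G} (ht : t ∈ 𝐂 V) (h2 : t * t = 1) (htV : t ∉ V)
    (hn : ∀ g, t⁻¹ * (g * t * g⁻¹) ∈ V) : False := by
  have := h.Vn
  have h1 := h.no8 (V ⊔ zpowers t) (PGrp.normal_sup_zpowers fun g => by
      have := h.Vn.conj_mem _ (hn g) t
      rwa [show t * (t⁻¹ * (g * t * g⁻¹)) * t⁻¹ = ⁅g, t⁆ by
        rw [commutatorElement_def]; group] at this)
    fun a ha => pow_two a ▸ PGrp.pow_eq_one_of_mem_sup_zpowers ht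
      (fun v hv => (pow_two v).trans (h.four.sq_eq_one hv)) ((pow_two t).trans h2) ha
  rw [PGrp.card_sup_zpowers (p := 2) htV (by rw [pow_two, h2]; exact one_mem _),
    h.four.card_eq] at h1
  omega

end MW

/-- The case `W ≅ C₄ × C₄`. -/
structure MW4 (V W : Subgroup G) (α β a b : G) : Prop extends MW V W α β where
  ha : a ∈ W
  hb : b ∈ W
  a_sq : a * a = α
  b_sq : b * b = β

/-- the action of `x ∈ C(V)` on `W = ⟨a, b⟩` -/
def mu (a b x : G) : G × G := (dl x a, dl x b)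

/-- `1 + M` is invertible and `M ≠ 0` -/
def GoodPair (V : Subgroup G) (α β : G) (p : G × G) : Prop :=
  p ≠ 1 ∧ IsFourData V (α * p.1) (β * p.2)

namespace MW4

variable {V W : Subgroup G} {α β a b : G} (h : MW4 V W α β a b)
include h

theorem ab_sq : a * b * (a * b) = α * β := by
  rw [← h.a_sq, ← h.b_sq, mul_assoc, ← mul_assoc b, h.comm b h.hb a h.ha]; group

theorem hom_cases {f : G → G} (hf : ∀ u ∈ W, ∀ w ∈ W, f (u * w) = f u * f w)
    (h1 : ∀ v ∈ V, f v = 1) {w : G} (hw : w ∈ W) :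
    w ∈ V ∨ f w = f a ∨ f w = f b ∨ f w = f a * f b := by
  have key : ∀ u ∈ W, u * u = w * w → f w = f u := fun u hu e => by
    have h2 := h.mem_of_sq_eq hu hw e
    have := hf u hu _ (h.le h2)
    rwa [h1 _ h2, mul_one, mul_inv_cancel_left] at this
  rcases (h.four.mem _).1 (h.sq_mem hw) with e | e | e | e
  · exact .inl (h.om w hw e)
  · exact .inr (.inl (key a h.ha (h.a_sq.trans e.symm)))
  · exact .inr (.inr (.inl (key b h.hb (h.b_sq.trans e.symm))))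
  · exact .inr (.inr (.inr (hf a h.ha b h.hb ▸ key _ (mul_mem h.ha h.hb) (h.ab_sq.trans e.symm))))

theorem hom_bij {f : G → G} (hf : ∀ u ∈ W, ∀ w ∈ W, f (u * w) = f u * f w)
    (h1 : ∀ v ∈ V, f v = 1) (h4 : IsFourData V (f a) (f b)) :
    (∀ w ∈ W, f w = 1 → w ∈ V) ∧ ∀ v ∈ V, ∃ w ∈ W, f w = v := by
  refine ⟨fun w hw e => ?_, fun v hv => ?_⟩
  · rcases h.hom_cases hf h1 hw with e1 | e1 | e1 | e1
    · exact e1
    · exact absurd (e1.symm.trans e) h4.a_ne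
    · exact absurd (e1.symm.trans e) h4.b_ne
    · exact absurd (e1.symm.trans e) h4.ab_ne_one
  · rcases (h4.mem _).1 hv with rfl | rfl | rfl | rfl
    · exact ⟨1, one_mem _, h1 1 (one_mem _)⟩
    · exact ⟨a, h.ha, rfl⟩
    · exact ⟨b, h.hb, rfl⟩
    · exact ⟨_, mul_mem h.ha h.hb, hf a h.ha b h.hb⟩

theorem mu_mul {x y : G} (hx : x ∈ 𝐂 V) (hy : y ∈ 𝐂 V) : mu a b (x * y) = mu a b x * mu a b y :=
  Prod.ext (h.mul_dl hx hy h.ha) (h.mul_dl hx hy h.hb)

theorem mu_mem {x : G} (hx : x ∈ 𝐂 V) : mu a b x ∈ V.prod V := ⟨h.dl_mem hx h.ha, h.dl_mem hx h.hb⟩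

theorem sq_prod {p : G × G} (hp : p ∈ V.prod V) : p * p = 1 :=
  Prod.ext (h.four.sq_eq_one hp.1) (h.four.sq_eq_one hp.2)

theorem mu_eq_one {x : G} (hx : x ∈ 𝐂 V) : mu a b x = 1 ↔ x ∈ 𝐂 W := by
  rw [MW.mem_cent_iff]
  refine ⟨fun e w hw => ?_, fun e => Prod.ext (e a h.ha) (e b h.hb)⟩
  have e1 : dl x a = 1 := congrArg Prod.fst e
  have e2 : dl x b = 1 := congrArg Prod.snd e
  rcases h.hom_cases (fun _ hu _ hw => h.dl_mul x hu hw) (fun _ => MW.dl_of_mem hx) hw with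
    e3 | e3 | e3 | e3
  · exact MW.dl_of_mem hx e3
  all_goals simp [e3, e1, e2]

theorem mu_inv {x : G} (hx : x ∈ 𝐂 V) : mu a b x⁻¹ = mu a b x := by
  have := h.mu_mul hx (inv_mem hx)
  rw [mul_inv_cancel, (h.mu_eq_one (one_mem _)).2 (one_mem _), ← h.sq_prod (h.mu_mem hx)] at this
  exact (mul_left_cancel this).symm

theorem mu_eq_iff {x y : G} (hx : x ∈ 𝐂 V) (hy : y ∈ 𝐂 V) :
    mu a b x = mu a b y ↔ x⁻¹ * y ∈ 𝐂 W := by
  rw [← h.mu_eq_one (mul_mem (inv_mem hx) hy), h.mu_mul (inv_mem hx) hy, h.mu_inv hx,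
    ← h.sq_prod (h.mu_mem hx), mul_right_inj, eq_comm]

theorem conj_beta {g : G} (hg : g ∉ 𝐂 V) : g * β * g⁻¹ = α * β :=
  (h.four.conj_cases (h.cen g) (h.Vn.conj_mem _ h.four.b_mem g)).resolve_left fun e =>
    hg (h.four.mem_centralizer_iff.2 ⟨(h.cen g).symm, (mul_inv_eq_iff_eq_mul.1 e).symm⟩)

theorem conj_alpha (g : G) : g * α * g⁻¹ = α := by rw [h.cen g, mul_inv_cancel_right]

theorem mu_conj {g x : G} (hg : g ∉ 𝐂 V) (hx : x ∈ 𝐂 V) :
    mu a b (g * x * g⁻¹) = (g * dl x a * g⁻¹, g * (dl x a * dl x b) * g⁻¹) := by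
  have e : ∀ w, dl (g * x * g⁻¹) w = g * dl x (g⁻¹ * w * g⁻¹⁻¹) * g⁻¹ := fun w => by
    unfold dl; group
  have e2 : ∀ w : G, g⁻¹ * w * g⁻¹⁻¹ * (g⁻¹ * w * g⁻¹⁻¹) = g⁻¹ * (w * w) * g⁻¹⁻¹ := fun w => by
    group
  unfold mu
  rw [e, e, h.dl_congr hx h.ha (h.Wn.conj_mem a h.ha _) (by rw [e2, h.a_sq, h.conj_alpha]),
    h.dl_congr hx (mul_mem h.ha h.hb) (h.Wn.conj_mem b h.hb _)
      (by rw [e2, h.b_sq, h.ab_sq, h.conj_beta (by simpa using hg)]), h.dl_mul x h.ha h.hb]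

theorem good_facts {x : G} (hx : x ∈ 𝐂 V) (hp : GoodPair V α β (mu a b x)) :
    (∀ w ∈ W, x * w * x⁻¹ = w⁻¹ → w ∈ V) ∧ ∀ v ∈ V, ∃ w ∈ W, w * w * dl x w = v := by
  have := h.hom_bij (f := fun w => w * w * dl x w) (fun u hu w hw => by
      have e1 := h.comm _ (h.le (h.dl_mem hx hu)) _ (mul_mem hw hw)
      have e2 := h.comm u hu w hw
      calc u * w * (u * w) * dl x (u * w) = u * (w * u) * w * (dl x u * dl x w) := by
            rw [h.dl_mul x hu hw]; group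
        _ = u * u * (w * w * dl x u) * dl x w := by rw [← e2]; group
        _ = _ := by rw [← e1]; group)
    (fun v hv => by simp only [MW.dl_of_mem hx hv, h.four.sq_eq_one hv, mul_one])
    (by simp only [h.a_sq, h.b_sq]; exact hp.2)
  refine ⟨fun w hw e => this.1 w hw ?_, this.2⟩
  unfold dl
  rw [e]; group

variable [Finite G]

theorem false_of_good {x : G} (hx : x ∈ 𝐂 V) (hp : GoodPair V α β (mu a b x))
    (h4 : x * x * (x * x) = 1) (hinv : ∀ g, x⁻¹ * (g * x * g⁻¹) ∈ 𝐂 W) : False := by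
  obtain ⟨t, ht, h2, h3, -, h5⟩ := h.exists_invol hx h4 (h.good_facts hx hp).1
    (h.good_facts hx hp).2
  refine h.false_of_invol ht h2 (fun e => hp.1 ((h.mu_eq_one hx).2 (h.le_cent ?_))) fun g =>
    h5 g (hinv g)
  simpa using (mul_mem_cancel_right (h.le e)).1 h3

omit [Finite G] in
theorem pow_four_of_omega {x : G} (hx : x ∈ 𝐂 V) (hp : GoodPair V α β (mu a b x))
    (hf : IsFourData V (dl x a) (dl x b)) {s : G} (hs : s ∈ 𝐂 V) : s * s * (s * s) = 1 := by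
  have h1 : ∀ w ∈ W, x * w * x⁻¹ = w → w ∈ V := fun w hw e =>
    (h.hom_bij (fun _ hu _ hw => h.dl_mul x hu hw) (fun _ => MW.dl_of_mem hx) hf).1 w hw
      (by unfold dl; rw [e, inv_mul_cancel])
  obtain ⟨t, ht, h2, -, h4, h5⟩ := h.exists_invol hx
    (h.sq_of_fix h1 (h.sq_mem_cent hx) (by group)) (h.good_facts hx hp).1 (h.good_facts hx hp).2
  refine h.sq_of_fix (x := t) (fun w hw e => h1 w hw (h4 w hw ▸ e)) (h.sq_mem_cent hs) ?_
  obtain ⟨v, hv⟩ : ∃ v, v = t⁻¹ * (s * t * s⁻¹) := ⟨_, rfl⟩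
  have mv : v ∈ V := hv ▸ h5 s (h.conj_mem_cent hx hs)
  have e1 : s * t = t * v * s := by rw [hv]; group
  have e2 : s * s * t = t * (s * s) := by
    calc _ = s * (t * v * s) := by rw [mul_assoc, e1]
      _ = s * t * v * s := by group
      _ = t * v * (s * v) * s := by rw [e1]; simp only [mul_assoc]
      _ = t * (v * v) * (s * s) := by rw [← hs v mv]; group
      _ = _ := by rw [h.four.sq_eq_one mv, mul_one]
  rw [← e2, mul_inv_cancel_right]

/-- the image of `X ⊓ C(V)` -/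
def img (X : Subgroup G) : Subgroup (G × G) where
  carrier := {p | ∃ x ∈ (𝐂 V) ⊓ X, mu a b x = p}
  one_mem' := ⟨1, one_mem _, (h.mu_eq_one (one_mem _)).2 (one_mem _)⟩
  mul_mem' := by
    rintro _ _ ⟨x, hx, rfl⟩ ⟨y, hy, rfl⟩
    exact ⟨x * y, mul_mem hx hy, h.mu_mul hx.1 hy.1⟩
  inv_mem' := by
    rintro _ ⟨x, hx, rfl⟩
    exact ⟨x, hx, (inv_eq_of_mul_eq_one_right (h.sq_prod (h.mu_mem hx.1))).symm⟩

theorem img_le (X : Subgroup G) : h.img X ≤ V.prod V := by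
  rintro _ ⟨x, hx, rfl⟩
  exact h.mu_mem hx.1

theorem img_mono {X Y : Subgroup G} (e : X ≤ Y) : h.img X ≤ h.img Y :=
  fun _ ⟨x, hx, e1⟩ => ⟨x, ⟨hx.1, e hx.2⟩, e1⟩

theorem relIndex_le_img (X : Subgroup G) : (𝐂 W).relIndex ((𝐂 V) ⊓ X) ≤ Nat.card (h.img X) :=
  relIndex_le_card _ _ (mu a b) _ (fun x hx => ⟨x, hx, rfl⟩)
    fun _ hx _ hy => (h.mu_eq_iff hx.1 hy.1).1

theorem card_prod : Nat.card (V.prod V) = 16 := by
  rw [Nat.card_congr (prodEquiv V V).toEquiv, Nat.card_prod, h.four.card_eq]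

theorem card_img_le {X : Subgroup G} {p : G × G} (hp : p ∈ V.prod V) (hX : p ∉ h.img X) :
    Nat.card (h.img X) ≤ 8 := by
  have := two_mul_card_le (h.img_le X) hp hX
  rw [h.card_prod] at this
  omega

theorem eight_le {X : Subgroup G} (h4 : ¬ Nat.card (h.img X) ≤ 4) : 8 ≤ Nat.card (h.img X) := by
  have h1 := card_dvd_of_le (h.img_le X)
  rw [h.card_prod] at h1
  have h2 := Nat.le_of_dvd (by norm_num) h1
  generalize Nat.card (h.img X) = n at *
  interval_cases n <;> omega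

theorem mul_mem_img {X : Subgroup G} (h4 : ¬ Nat.card (h.img X) ≤ 4) {p q : G × G}
    (hp : p ∈ V.prod V) (hq : q ∈ V.prod V) (h1 : p ∉ h.img X) (h2 : q ∉ h.img X) :
    p * q ∈ h.img X :=
  mul_mem_of_card_le (h.img_le X) (by have := h.eight_le h4; rw [h.card_prod]; omega) hp hq h1 h2

theorem good₁ : GoodPair V α β (1, α) :=
  ⟨fun e => h.four.a_ne (congrArg Prod.snd e), by
    simpa only [mul_one, h.cen β] using isFourData_of_card h.four.card_eq.le h.four.a_mem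
      h.four.ab_mem h.four.a_sq h.four.ab_sq (h.cen _).symm h.four.a_ne h.four.ab_ne_one
      h.four.ab_ne_a.symm⟩

theorem good_omega : GoodPair V α β (β, α * β) ∧ IsFourData V β (α * β) := by
  have e : β * (α * β) = α := by rw [← mul_assoc, h.cen β, mul_assoc, h.four.b_sq, mul_one]
  exact ⟨⟨fun e => h.four.b_ne (congrArg Prod.fst e), by
      simpa only [e, mul_one, h.cen β] using h.good₁.2.symm⟩,
    isFourData_of_card h.four.card_eq.le h.four.b_mem h.four.ab_mem h.four.b_sq h.four.ab_sq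
      (comm_of_sq (fun _ => h.four.sq_eq_one) h.four.b_mem h.four.ab_mem) h.four.b_ne
      h.four.ab_ne_one h.four.ab_ne_b.symm⟩

theorem exists_good {X : Subgroup G} (h4 : ¬ Nat.card (h.img X) ≤ 4) :
    ∃ p ∈ h.img X, GoodPair V α β p := by
  by_contra hn
  push Not at hn
  have ea : α * (α * β) = β := by rw [← mul_assoc, h.four.a_sq, one_mul]
  have eb : β * (α * β) = α := by rw [← mul_assoc, h.cen β, mul_assoc, h.four.b_sq, mul_one]
  have ma := h.four.a_mem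
  have mb := h.four.b_mem
  have mab := h.four.ab_mem
  have g2 : GoodPair V α β (β, 1) := ⟨fun e => h.four.b_ne (congrArg Prod.fst e), by
    simpa only [mul_one] using h.good_omega.2.symm⟩
  have g3 : GoodPair V α β (α * β, α * β) := ⟨fun e => h.four.ab_ne_one (congrArg Prod.fst e), by
    simpa only [ea, eb] using h.four.symm⟩
  have g5 : GoodPair V α β (α * β, α) := ⟨fun e => h.four.a_ne (congrArg Prod.snd e), by
    simpa only [ea, h.cen β] using h.good_omega.2⟩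
  have m1 := h.mul_mem_img h4 (p := (1, α)) (q := (β, 1)) ⟨one_mem _, ma⟩ ⟨mb, one_mem _⟩
    (fun e => hn _ e h.good₁) fun e => hn _ e g2
  have m2 := h.mul_mem_img h4 (p := (β, α * β)) (q := (α * β, α)) ⟨mb, mab⟩ ⟨mab, ma⟩
    (fun e => hn _ e h.good_omega.1) fun e => hn _ e g5
  refine hn _ ?_ g3
  convert mul_mem m2 m1 using 1
  simp only [Prod.mk_mul_mk, one_mul, mul_one, eb, h.cen (α * β), ea, h.cen β]

theorem conj_mem_img {X : Subgroup G} {g : G} (hg : g ∉ 𝐂 V) (hgX : g ∈ X) {p : G × G}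
    (hp : p ∈ h.img X) : (g * p.1 * g⁻¹, g * (p.1 * p.2) * g⁻¹) ∈ h.img X := by
  have := h.Vn
  obtain ⟨x, hx, rfl⟩ := hp
  exact ⟨g * x * g⁻¹, mem_inf.2 ⟨Normal.conj_mem inferInstance x hx.1 g,
    mul_mem (mul_mem hgX hx.2) (inv_mem hgX)⟩, h.mu_conj hg hx.1⟩

theorem mem_img_of_inv {X : Subgroup G} {g : G} (hg : g ∉ 𝐂 V) (hgX : g ∈ X)
    (h4 : ¬ Nat.card (h.img X) ≤ 4) : (1, α) ∈ h.img X := by
  have e : ((1 : G), α * β) * (1, β) = (1, α) := by
    simp only [Prod.mk_mul_mk, mul_one, mul_assoc, h.four.b_sq]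
  by_cases h1 : (1, β) ∈ h.img X
  · have := h.conj_mem_img hg hgX h1
    simp only [mul_one, one_mul, mul_inv_cancel, h.conj_beta hg] at this
    exact e ▸ mul_mem this h1
  · refine e ▸ h.mul_mem_img h4 ⟨one_mem _, h.four.ab_mem⟩ ⟨one_mem _, h.four.b_mem⟩
      (fun h2 => h1 ?_) h1
    have := h.conj_mem_img hg hgX h2
    rwa [show g * (1 * (α * β)) * g⁻¹ = g * α * g⁻¹ * (g * β * g⁻¹) by group, h.conj_alpha,
      h.conj_beta hg, ← mul_assoc, h.four.a_sq, one_mul, mul_one, mul_inv_cancel] at this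

theorem false_of_nil {x : G} (hx : x ∈ 𝐂 V) (e : mu a b x = (1, α)) (h4 : x * x * (x * x) = 1) :
    False := by
  have := h.Vn
  refine h.false_of_good hx (e ▸ h.good₁) h4 fun g => ?_
  by_cases hg : g ∈ 𝐂 V
  · exact h.conj_mem_cent hx hg
  · rw [← h.mu_eq_iff hx (Normal.conj_mem inferInstance x hx g), h.mu_conj hg hx, e,
      show dl x a = 1 from congrArg Prod.fst e, show dl x b = α from congrArg Prod.snd e]
    simp only [mul_one, one_mul, mul_inv_cancel, h.conj_alpha]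

theorem fixed_of_le {X K : Subgroup G} (hK : SqIn X K) (hKN : K ≤ 𝐂 W) {g : G} (hg : g ∉ 𝐂 V)
    (hgX : g ∈ X) {p : G × G} (hp : p ∈ h.img X) :
    (p.1 = 1 ∨ p.1 = α) ∧ (p.1 = 1 → p.2 = 1 ∨ p.2 = α) := by
  have := h.Vn
  have mp := h.img_le X hp
  obtain ⟨x, hx, rfl⟩ := hp
  have h1 : x⁻¹⁻¹ * (g * x * g⁻¹) ∈ 𝐂 W := by simpa using hKN (hK.mul_conj hx.2 hgX)
  rw [← h.mu_eq_iff (inv_mem hx.1) (Normal.conj_mem inferInstance x hx.1 g), h.mu_inv hx.1,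
    h.mu_conj hg hx.1] at h1
  have key : ∀ v ∈ V, v = g * v * g⁻¹ → v = 1 ∨ v = α := fun v hv e => by
    rcases (h.four.mem v).1 hv with e1 | e1 | e1 | e1
    · exact .inl e1
    · exact .inr e1
    · rw [e1, h.conj_beta hg] at e
      exact absurd e.symm h.four.ab_ne_b
    · rw [e1, show g * (α * β) * g⁻¹ = g * α * g⁻¹ * (g * β * g⁻¹) by group, h.conj_alpha,
        h.conj_beta hg] at e
      exact absurd (mul_left_cancel e).symm h.four.ab_ne_b
  refine ⟨key _ mp.1 (congrArg Prod.fst h1), fun e => key _ mp.2 ?_⟩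
  have e' : dl x a = 1 := e
  have e2 : dl x b = g * (dl x a * dl x b) * g⁻¹ := congrArg Prod.snd h1
  rwa [e', one_mul] at e2

theorem bound {X K : Subgroup G} (hKX : K ≤ X) (hK : SqIn X K) :
    Nat.card X ≤ 16 * Nat.card K := by
  have h1 := h.relIndex_le_img X
  have h2 : (𝐂 W).relIndex X ≤ 2 * (𝐂 W).relIndex ((𝐂 V) ⊓ X) :=
    relIndex_le_mul (centralizer_le h.le) X
      (h.four.relIndex_cent_le (fun g _ => h.cen g) fun g _ => h.Vn.conj_mem _ h.four.b_mem g)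
  have hpos := relIndex_pos (𝐂 W) K
  have mω : (β, α * β) ∈ V.prod V := ⟨h.four.b_mem, h.four.ab_mem⟩
  have hω : (β, α * β) ∈ h.img ⊤ → ∀ s ∈ (𝐂 V), s * s * (s * s) = 1 := by
    rintro ⟨x, hx, e⟩ s hs
    refine h.pow_four_of_omega hx.1 (e ▸ h.good_omega.1) ?_ hs
    rw [show dl x a = β from congrArg Prod.fst e, show dl x b = α * β from congrArg Prod.snd e]
    exact h.good_omega.2
  -- the two ways to conclude
  have c4 : (𝐂 W).relIndex X ≤ 4 * (𝐂 W).relIndex K → Nat.card X ≤ 16 * Nat.card K :=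
    fun e => bound_mul _ e (h.card_inf_le hK)
  have hsub : X ≤ (𝐂 V) → (𝐂 W).relIndex X ≤ Nat.card (h.img X) := fun e => by
    rwa [inf_eq_right.2 e] at h1
  -- if `(1, α)` does not occur and `X ⊄ C(V)`
  have cB : ¬ X ≤ (𝐂 V) → (1, α) ∉ h.img X → Nat.card X ≤ 16 * Nat.card K := fun hX hn => by
    obtain ⟨g, hgX, hg⟩ := SetLike.not_le_iff_exists.1 hX
    have h3 : Nat.card (h.img X) ≤ 4 := by
      by_contra h3
      exact hn (h.mem_img_of_inv hg hgX h3)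
    refine c4 ?_
    by_cases hKN : K ≤ 𝐂 W
    · have := relIndex_le_two (𝐂 W) ((𝐂 V) ⊓ X) (fun x => dl x a) 1 α
        (fun x hx => (h.fixed_of_le hK hKN hg hgX ⟨x, hx, rfl⟩).1) fun x hx y hy e => by
          have m := mul_mem (inv_mem hx) hy
          have e1 : dl (x⁻¹ * y) a = 1 := by
            rw [h.mul_dl (inv_mem hx.1) hy.1 h.ha,
              show dl x⁻¹ a = dl x a from congrArg Prod.fst (h.mu_inv hx.1),
              show dl x a = dl y a from e, h.four.sq_eq_one (h.dl_mem hy.1 h.ha)]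
          rcases (h.fixed_of_le hK hKN hg hgX ⟨_, m, rfl⟩).2 e1 with e2 | e2
          · exact (h.mu_eq_one m.1).1 (Prod.ext e1 e2)
          · exact absurd ⟨_, m, Prod.ext e1 e2⟩ hn
      omega
    · obtain ⟨k, hk, hkN⟩ := SetLike.not_le_iff_exists.1 hKN
      have := two_le_relIndex hk hkN
      omega
  by_cases hT : ∀ g, g ∈ 𝐂 V
  · have h3 := hsub fun g _ => hT g
    by_cases h4 : Nat.card (h.img X) ≤ 4
    · exact c4 (by omega)
    rcases h.dichotomy hKX hK with hd | hd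
    · have := h.card_img_le mω (X := X) fun ⟨x, hx, e⟩ =>
        h.false_of_good hx.1 (e ▸ h.good_omega.1) (hω ⟨x, ⟨hx.1, mem_top x⟩, e⟩ x hx.1)
          fun g => h.conj_mem_cent hx.1 (hT g)
      exact bound_mul (a := 8) _ (by omega) hd
    · obtain ⟨_, ⟨x, hx, rfl⟩, hp⟩ := h.exists_good h4
      obtain ⟨y, -, h5, h6⟩ := hd x hx.2 (h.sq_mem_cent hx.1)
      exact (h.false_of_good (hT y) ((h.mu_eq_iff (hT y) hx.1).2 h5 ▸ hp) h6
        fun g => h.conj_mem_cent (hT y) (hT g)).elim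
  push Not at hT
  obtain ⟨g, hg⟩ := hT
  have hU := card_le_of_le (h.img_mono (le_top (a := X)))
  by_cases hω' : (β, α * β) ∈ h.img ⊤
  · have hn : (1, α) ∉ h.img ⊤ := fun ⟨x, hx, e⟩ => h.false_of_nil hx.1 e (hω hω' x hx.1)
    by_cases hX : X ≤ 𝐂 V
    · have h3 : Nat.card (h.img ⊤) ≤ 4 := by
        by_contra h3
        exact hn (h.mem_img_of_inv hg (mem_top g) h3)
      have := hsub hX
      exact c4 (by omega)
    · exact cB hX fun e => hn (h.img_mono le_top e)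
  have h8 := h.card_img_le mω hω'
  rcases h.dichotomy hKX hK with hd | hd
  · refine bound_mul (a := 8) _ ?_ hd
    by_cases hX : X ≤ 𝐂 V
    · have := hsub hX
      omega
    obtain ⟨x, hxX, hx⟩ := SetLike.not_le_iff_exists.1 hX
    by_cases hKN : K ≤ 𝐂 W
    · have h3 : Nat.card (h.img X) ≤ 4 := by
        by_contra h3
        have hb : ∀ q, (β, q) ∉ h.img X := fun q e =>
          (h.fixed_of_le hK hKN hx hxX e).1.elim h.four.b_ne h.four.ne.symm
        refine hb β ?_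
        simpa using h.mul_mem_img h3 (p := (β, 1)) (q := (1, β)) ⟨h.four.b_mem, one_mem _⟩
          ⟨one_mem _, h.four.b_mem⟩ (hb 1) fun e =>
            ((h.fixed_of_le hK hKN hx hxX e).2 rfl).elim h.four.b_ne h.four.ne.symm
      omega
    · obtain ⟨k, hk, hkN⟩ := SetLike.not_le_iff_exists.1 hKN
      have := two_le_relIndex hk hkN
      omega
  · have hn : (1, α) ∉ h.img X := fun ⟨x, hx, e⟩ => by
      obtain ⟨y, -, h5, h6⟩ := hd x hx.2 (h.sq_mem_cent hx.1)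
      have hy : y ∈ 𝐂 V := by
        simpa using (mul_mem_cancel_right (mem_inf.1 hx).1).1 (centralizer_le h.le h5)
      exact h.false_of_nil hy (((h.mu_eq_iff hy hx.1).2 h5).trans e) h6
    by_cases hX : X ≤ 𝐂 V
    · have := hsub hX
      by_cases h4 : Nat.card (h.img X) ≤ 4
      · exact c4 (by omega)
      have := h.eight_le h4
      have e := eq_of_le_of_card_ge (h.img_mono (le_top (a := X))) (by omega)
      exact absurd (e ▸ h.mem_img_of_inv hg (mem_top g) (by omega)) hn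
    · exact cB hX hn

end MW4

/-- **MacWilliams' theorem.** -/
theorem macWilliams [Finite G] (hG : IsPGroup 2 G)
    (h : ∀ A : Subgroup G, A.Normal → (∀ a ∈ A, a * a = 1) → Nat.card A ≤ 4)
    {X K : Subgroup G} (hKX : K ≤ X) (hK : SqIn X K) : Nat.card X ≤ 16 * Nat.card K := by
  by_cases hn : ∀ V : Subgroup G, V.Normal → ¬ IsKleinFour V
  · obtain ⟨x, -, hx⟩ := exists_zpowers_of_no_four hG hn
    have h3 := hx X
    have h4 := card_inf_zpowers_le hK x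
    rw [inf_comm] at h4
    omega
  push Not at hn
  obtain ⟨V, hV, h4⟩ := hn
  have hc4 : Nat.card V = 4 := h4.card_four
  obtain ⟨a', b', h'⟩ := exists_isFourData h4
  obtain ⟨α, hα, h1, -, hc⟩ := exists_central_invol hG V (by
    rintro rfl
    simp at hc4)
  obtain ⟨β, hf⟩ := exists_isFourData_of_card hc4 (fun f => h'.sq_eq_one) hα h1
  have e4 : ∀ x : G, x ^ 2 ^ 2 = x * x * (x * x) := fun x => by
    rw [pow_two 2, pow_mul, pow_two, pow_two]
  obtain ⟨W, hVW, ⟨hW, hWc, hWe⟩, hmax⟩ := PGrp.exists_maximal_subgroup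
    (fun B : Subgroup G => B.Normal ∧ IsMulCommutative B ∧ ∀ b ∈ B, b ^ 2 ^ 2 = 1) V
    ⟨hV, isMulCommutative_of fun _ ha _ hb => comm_of_sq (fun _ => hf.sq_eq_one) ha hb,
      fun b hb => by rw [e4, hf.sq_eq_one hb, one_mul]⟩
  have hcm := comm_of_isMulCommutative hWc
  have hΩ : V = powKer W hcm 2 := eq_of_le_of_card_ge
    (fun v hv => ⟨hVW hv, (pow_two v).trans (hf.sq_eq_one hv)⟩)
    (hc4 ▸ h _ (powKer_normal W hcm 2) fun a ha => (pow_two a).symm.trans ha.2)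
  have H : MW V W α β := ⟨hG, hf, hV, hW, hc, hVW, hcm,
    fun w hw e => hΩ ▸ ⟨hw, (pow_two w).trans e⟩, fun w hw => e4 w ▸ hWe w hw,
    fun x hx e => PGrp.mem_of_maximal_normal_abelian_exponent hG 2 (by norm_num) W hWc hWe
      (fun B h1 h2 h3 => hmax B ⟨h1, h2, h3⟩) x hx ((e4 x).trans e), h⟩
  by_cases hs : ∀ v ∈ V, ∃ w ∈ W, w * w = v
  · obtain ⟨a, ha, ea⟩ := hs α hα
    obtain ⟨b, hb, eb⟩ := hs β hf.b_mem
    exact MW4.bound ⟨H, ha, hb, ea, eb⟩ hKX hK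
  obtain ⟨a, ha, hm⟩ : ∃ a ∈ W, ∀ w ∈ W, w ∈ V ∨ a⁻¹ * w ∈ V := by
    by_cases hWV : W ≤ V
    · exact ⟨1, one_mem _, fun w hw => .inl (hWV hw)⟩
    obtain ⟨a, ha, haV⟩ := SetLike.not_le_iff_exists.1 hWV
    refine ⟨a, ha, fun w hw => ?_⟩
    by_contra hne
    push Not at hne
    have h2 := isFourData_of_card hc4.le (H.sq_mem ha) (H.sq_mem hw) (H.exp a ha) (H.exp w hw)
      (hcm _ (mul_mem ha ha) _ (mul_mem hw hw)) (fun e => haV (H.om a ha e))
      (fun e => hne.1 (H.om w hw e)) fun e => hne.2 (H.mem_of_sq_eq ha hw e)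
    refine hs fun v hv => ?_
    rcases (h2.mem v).1 hv with rfl | rfl | rfl | rfl
    · exact ⟨1, one_mem _, one_mul 1⟩
    · exact ⟨a, ha, rfl⟩
    · exact ⟨w, hw, rfl⟩
    · refine ⟨a * w, mul_mem ha hw, ?_⟩
      rw [mul_assoc, ← mul_assoc w, hcm w hw a ha]; group
  exact bound_mul _ (relIndex_le_four hf hc hVW ha (fun v hv => hcm a ha v (hVW hv)) hm hK)
    (H.card_inf_le hK)

end CL.SecRank
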