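import Cfsg.Agent.TwoFus.Rank2Unique
import Cfsg.Agent.TwoFus.NoNormalFour
import Cfsg.Agent.Invol.Quat
import Cfsg.Agent.TwoFus.SylTools

/-!
Alperin's determination of the Sylow 2-subgroups of 2-rank two in groups without isolated
involution.
-/

set_option autoImplicit false

namespace CL.Rank2

open Subgroup CL.PGrp

variable {T : Type*} [Group T]

theorem Setup.exists_order_three [Finite T] {φ : MulAut T} {z : T} (hS : Setup φ z)
    (hT : IsPGroup 2 T) : ∃ σ : MulAut T, Setup σ z ∧ ∀ x, σ (σ (σ x)) = x := by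
  obtain ⟨k, m, hm, hkm⟩ := Nat.exists_eq_pow_mul_and_not_dvd (orderOf_pos φ).ne' 3 (by norm_num)
  have hS' : Setup (φ ^ m) z := by
    refine setup_of_no_fixed hS.ne_one hS.sq (fun t ht => hS.central ht) hS.cases _
      fun t ht e => hS.eq_one_of_fixed ht ?_
    have h3 : ∀ q : ℕ, (φ ^ (3 * q)) t = t := by
      intro q
      induction q with
      | zero => rfl
      | succ q ih => rw [mul_add, mul_one, pow_add, MulAut.mul_apply, cube_apply, hS.map3 ht, ih]
    have hm3 : m % 3 = 1 ∨ m % 3 = 2 := by omega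
    rw [← Nat.mod_add_div m 3, pow_add, MulAut.mul_apply, h3] at e
    rcases hm3 with e' | e' <;> rw [e'] at e
    · simpa using e
    · have := hS.map3 ht
      rw [pow_two, MulAut.mul_apply] at e
      rwa [e] at this
  refine ⟨φ ^ m, hS', hS'.cube_eq_one hT (k := k) ?_⟩
  rw [← pow_mul, mul_comm, ← hkm, pow_orderOf_eq_one]

theorem cases_rebase {a b : T} (ha : a * a = 1) (hb : b * b = 1) (hab : a * b = b * a)
    (hcases : ∀ t, t * t = 1 → t = 1 ∨ t = a ∨ t = b ∨ t = a * b) {u w : T} (hu : u * u = 1)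
    (hw : w * w = 1) (hu1 : u ≠ 1) (hw1 : w ≠ 1) (huw : u ≠ w) :
    ∀ t, t * t = 1 → t = 1 ∨ t = u ∨ t = w ∨ t = u * w := by
  intro t ht
  have e1 : a * (a * b) = b := by rw [← mul_assoc, ha, one_mul]
  have e2 : b * (a * b) = a := by rw [hab, ← mul_assoc, hb, one_mul]
  have e3 : a * b * a = b := by rw [hab, mul_assoc, ha, mul_one]
  have e4 : a * b * b = a := by rw [mul_assoc, hb, mul_one]
  have := hcases t ht
  rcases hcases u hu with h | h | h | h <;> rcases hcases w hw with h' | h' | h' | h' <;>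
    first | exact absurd h hu1 | exact absurd h' hw1 | exact absurd (h.trans h'.symm) huw |
      (rw [h, h']; (try simp only [e1, e2, e3, e4, ← hab]); tauto)

/-- Two automorphisms without common fixed involution generate one without fixed involution. -/
theorem exists_aut_no_fixed {a b : T} (ha : a * a = 1) (hb : b * b = 1)
    (hc : ∀ t : T, t * t = 1 → ∀ g, t * g = g * t)
    (hcases : ∀ t, t * t = 1 → t = 1 ∨ t = a ∨ t = b ∨ t = a * b) (α β : MulAut T)
    (h : ∀ t, t * t = 1 → α t = t → β t = t → t = 1) :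
    ∃ φ : MulAut T, ∀ t, t * t = 1 → φ t = t → t = 1 := by
  by_contra hcon
  push Not at hcon
  obtain ⟨u, hu, hαu, hu1⟩ := hcon α
  obtain ⟨w, hw, hβw, hw1⟩ := hcon β
  obtain ⟨t, ht, hφt, ht1⟩ := hcon (α * β)
  have huw : u ≠ w := fun e => hu1 (h u hu hαu (e ▸ hβw))
  have hcases' := cases_rebase ha hb (hc a ha b) hcases hu hw hu1 hw1 huw
  have hαw : α w = u * w := by
    rcases hcases' (α w) (by rw [← map_mul, hw, map_one]) with e | e | e | e
    · exact absurd (by simpa using e) hw1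
    · exact absurd (α.injective (hαu.trans e.symm)) huw
    · exact absurd (h w hw e hβw) hw1
    · exact e
  have hβu : β u = u * w := by
    rcases hcases' (β u) (by rw [← map_mul, hu, map_one]) with e | e | e | e
    · exact absurd (by simpa using e) hu1
    · exact absurd (h u hu hαu e) hu1
    · exact absurd (β.injective (e.trans hβw.symm)) huw
    · exact e
  rw [MulAut.mul_apply] at hφt
  rcases hcases' t ht with e | e | e | e <;> rw [e] at hφt
  · exact ht1 e
  · rw [hβu, map_mul, hαu, hαw, ← mul_assoc, hu, one_mul] at hφt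
    exact huw hφt.symm
  · rw [hβw, hαw] at hφt
    exact hu1 (by simpa using hφt)
  · rw [map_mul, hβu, hβw, mul_assoc, hw, mul_one, hαu] at hφt
    exact hw1 (by simpa using hφt)

theorem comm_aux1 {A : Type*} [CommGroup A] (a b c d : A) :
    a * a * (b * b) * (c * d) = a * b * (a * c * (b * d)) := by
  simp only [mul_comm, mul_left_comm]

theorem comm_aux2 {A : Type*} [CommGroup A] (a b c : A) :
    a * a * (b * b) * c = b * (a * b * (a * c)) := by
  simp only [mul_comm, mul_left_comm]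

/-- The group of order 64 has no automorphism with inner square moving an involution. -/
theorem Setup.no_extension [Finite T] {σ : MulAut T} {z : T} (h : Setup σ z) (hT : IsPGroup 2 T)
    (h3 : ∀ x, σ (σ (σ x)) = x) (h64 : Nat.card T = 64) (h4 : ∀ x : T, x * x * (x * x) = 1)
    (β : MulAut T) (c : T) (hβ : ∀ a, β (β a) = c * a * c⁻¹) (hz : β z ≠ z) : False := by
  let Z : Subgroup T :=
    { carrier := {t | t * t = 1}
      one_mem' := one_mul 1
      mul_mem' := fun {s t} hs ht => h.mul_invol hs ht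
      inv_mem' := fun {s} hs => by
        change s⁻¹ * s⁻¹ = 1
        rw [← mul_inv_rev, hs, inv_one] }
  have : Z.Normal := ⟨fun t ht g => by
    rw [← h.central ht, mul_inv_cancel_right]; exact ht⟩
  let π := QuotientGroup.mk' Z
  have hπ1 : ∀ a, π a = 1 ↔ a * a = 1 := fun a => QuotientGroup.eq_one_iff a
  have hsq : ∀ a b, π a = π b → a * a = b * b := by
    intro a b e
    have h1 : (a⁻¹ * b) * (a⁻¹ * b) = 1 := QuotientGroup.eq.1 e
    have h2 := h.central h1
    calc a * a = a * a * ((a⁻¹ * b) * (a⁻¹ * b)) := by rw [h1, mul_one]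
      _ = a * (a * (a⁻¹ * b)) * (a⁻¹ * b) := by simp only [mul_assoc]
      _ = a * ((a⁻¹ * b) * a) * (a⁻¹ * b) := by rw [h2]
      _ = b * b := by group
  have hcm : ∀ p q : T ⧸ Z, p * q = q * p := by
    intro p q
    obtain ⟨a, rfl⟩ := QuotientGroup.mk'_surjective Z p
    obtain ⟨b, rfl⟩ := QuotientGroup.mk'_surjective Z q
    rw [← mul_inv_eq_one, mul_inv_rev, ← mul_assoc, ← map_inv, ← map_inv, ← map_mul, ← map_mul,
      ← map_mul]
    exact (hπ1 _).2 (h.cm_sq h4 a b)
  let _ : CommGroup (T ⧸ Z) := { (inferInstance : Group (T ⧸ Z)) with mul_comm := hcm }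
  have h2 : ∀ a, π a * π a = 1 := fun a => by rw [← map_mul]; exact (hπ1 _).2 (h4 a)
  have hββ : ∀ a, π (β (β a)) = π a := fun a => by
    rw [hβ, map_mul, map_mul, map_inv, mul_comm (π c), mul_inv_cancel_right]
  have hβz : β z * β z = 1 := by rw [← map_mul, h.sq, map_one]
  have hcases := cases_rebase h.sq h.map_sq (h.comm _) h.cases h.sq hβz h.ne_one
    (by simpa using h.ne_one) hz.symm
  have hK : ∀ a, π (β a) = π a → π a ≠ 1 → a * a = z * β z := by
    intro a ha ha1
    have e := hsq _ _ ha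
    rw [← map_mul] at e
    rcases hcases _ (h4 a) with e' | e' | e' | e'
    · exact absurd ((hπ1 a).2 e') ha1
    · rw [e'] at e; exact absurd e hz
    · rw [e', hβ, ← h.comm, mul_inv_cancel_right] at e; exact absurd e.symm hz
    · exact e'
  have hQ : ∀ a b, π (β a) = π a → π (β b) = π b → π a ≠ 1 → π b ≠ 1 → π (a * b) = 1 := by
    intro a b ha hb ha1 hb1
    by_contra hab
    have e1 := hK a ha ha1
    have e2 := hK b hb hb1
    have e3 := hK (a * b) (by simp only [map_mul, ha, hb]) hab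
    exact ha1 ((hπ1 a).2 (h.no_quaternion hT h3 h4 (e1.trans e2.symm) (e3.trans e1.symm)))
  obtain ⟨x, y, hx, hy, hc, -⟩ := h.normal_form hT h3 h64 h4
  have hne : ∀ a b, a * a = z → b * b = z → π (β a) ≠ π b := by
    intro a b ha hb e
    have := hsq _ _ e
    rw [← map_mul, ha, hb] at this
    exact hz this
  have hb : ∀ a, π (β (a * β a)) = π (a * β a) := fun a => by
    simp only [map_mul, hββ, mul_comm]
  have hb1 : ∀ a, a * a = z → π (a * β a) ≠ 1 := fun a ha e => by
    rw [map_mul, ← h2 a, mul_left_cancel_iff] at e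
    exact hne a a ha ha e
  have e1 := hQ _ _ (hb x) (hb y) (hb1 x hx) (hb1 y hy)
  have e2 := hQ (x * y) _ (by
    simp only [map_mul] at e1 ⊢
    calc π (β x) * π (β y) = (π x * π x) * (π y * π y) * (π (β x) * π (β y)) := by
          rw [h2, h2, one_mul, one_mul]
      _ = π x * π y * (π x * π (β x) * (π y * π (β y))) := by
          generalize π x = a, π y = b, π (β x) = c, π (β y) = d
          exact comm_aux1 a b c d
      _ = _ := by rw [e1, mul_one]) (hb x) (by
    rw [Ne, hπ1, h.mul_mul_self h4, hc, hx, hy, mul_assoc, h.sq, mul_one]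
    exact h.map_ne_one) (hb1 x hx)
  apply hne x y hx hy
  simp only [map_mul] at e2
  calc π (β x) = (π x * π x) * (π y * π y) * π (β x) := by rw [h2, h2, one_mul, one_mul]
    _ = π y * (π x * π y * (π x * π (β x))) := by
        generalize π x = a, π y = b, π (β x) = c
        exact comm_aux2 a b c
    _ = _ := by rw [e2, mul_one]

theorem dihedral_eight [Finite T] (h8 : Nat.card T = 8) {v t z : T} (hv : v * v = 1)
    (ht : t * t = 1) (hz : v * t * (v * t) = z) (hz1 : z ≠ 1) (hz2 : z * z = 1) :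
    Nonempty (T ≃* DihedralGroup 4) := by
  have : Fact (Nat.Prime 2) := ⟨Nat.prime_two⟩
  have ho : orderOf (v * t) = 2 ^ (1 + 1) := by
    apply orderOf_eq_prime_pow
    · rw [pow_one, pow_two, hz]; exact hz1
    · rw [show 2 ^ (1 + 1) = 2 * 2 from rfl, pow_mul, pow_two, pow_two, hz, hz2]
  have hn : t ∉ zpowers (v * t) := by
    rintro ⟨i, hi⟩
    have h1 : Commute (v * t) t := by
      have := (Commute.refl (v * t)).zpow_right i
      simp only at hi
      rwa [hi] at this
    apply hz1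
    rw [← hz, ← mul_assoc, mul_assoc v t v, ← (mul_left_inj t).1 (show t * v * t = v * t * t by
      rw [mul_assoc t, h1.eq]) |>.symm]
    calc v * (v * t) * t = (v * v) * (t * t) := by group
      _ = 1 := by rw [hv, ht, one_mul]
  obtain ⟨e⟩ := (⟨isCycExt_of_card (mem_top _) (mem_top _) hn (by rw [card_top, h8, ho]; rfl), ho, ht,
    by rw [mul_inv_rev, inv_eq_of_mul_eq_one_left hv]; rw [inv_eq_of_mul_eq_one_left ht, ← mul_assoc, mul_assoc _ t t, ht, mul_one]⟩ : IsDihData (⊤ : Subgroup T) 4 (v * t) t).nonempty_equiv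
  exact ⟨topEquiv.symm.trans e⟩

/-- If every involution is moved by some automorphism then some automorphism of order three
permutes the three involutions. -/
theorem exists_setup_of_moves [Finite T] (hT : IsPGroup 2 T) {a b : T} (ha1 : a ≠ 1)
    (ha : a * a = 1) (hb : b * b = 1) (hc : ∀ t : T, t * t = 1 → ∀ g, t * g = g * t)
    (hcases : ∀ t, t * t = 1 → t = 1 ∨ t = a ∨ t = b ∨ t = a * b)
    (h : ∀ t : T, t * t = 1 → t ≠ 1 → ∃ α : MulAut T, α t ≠ t) :
    ∃ σ : MulAut T, Setup σ a ∧ ∀ x, σ (σ (σ x)) = x := by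
  obtain ⟨φ, hφ⟩ : ∃ φ : MulAut T, ∀ t, t * t = 1 → φ t = t → t = 1 := by
    obtain ⟨α, hα⟩ := h a ha ha1
    by_cases h1 : ∀ t, t * t = 1 → α t = t → t = 1
    · exact ⟨α, h1⟩
    push Not at h1
    obtain ⟨u, hu, hαu, hu1⟩ := h1
    obtain ⟨β, hβ⟩ := h u hu hu1
    refine exists_aut_no_fixed ha hb hc hcases α β fun t ht e1 e2 => ?_
    by_contra ht1
    have hut : u ≠ t := fun e => hβ (e ▸ e2)
    apply hα
    rcases cases_rebase ha hb (hc a ha b) hcases hu ht hu1 ht1 hut a ha with e | e | e | e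
    · exact absurd e ha1
    · rw [e, hαu]
    · rw [e, e1]
    · rw [e, map_mul, hαu, e1]
  exact (setup_of_no_fixed ha1 ha hc hcases φ hφ).exists_order_three hT

theorem mem_of_commute_four [Finite T] (h2 : Cfsg.PRankLE 2 2 T) {V : Subgroup T} [V.Normal]
    {a b : T} (hV : IsFourData V a b) {t : T} (ht : t * t = 1) (hta : a * t = t * a)
    (htb : b * t = t * b) : t ∈ V := by
  have : Fact (Nat.Prime 2) := ⟨Nat.prime_two⟩
  by_contra htV
  have hc : t ∈ centralizer (V : Set T) := hV.mem_centralizer_iff.2 ⟨hta, htb⟩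
  have h1 := h2 (V ⊔ zpowers t) (isMulCommutative_sup_zpowers hV.isKleinFour.isMulCommutative hc)
    fun y hy => pow_eq_one_of_mem_sup_zpowers hc (fun a ha => by rw [pow_two, hV.sq_eq_one ha])
      (by rw [pow_two, ht]) hy
  rw [card_sup_zpowers (p := 2) htV (by rw [pow_two, ht]; exact one_mem _), hV.card_eq] at h1
  omega

/-- The wreathed case. -/
theorem isWreathed_of_homocyclic [Finite T] {C : Subgroup T} (hC : C.index = 2) {k : ℕ}
    (hk : 1 ≤ k) (hcard : Nat.card C = 2 ^ (k + 1) * 2 ^ (k + 1))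
    (hcomm : ∀ a ∈ C, ∀ b ∈ C, a * b = b * a) {x s : T} (hx : x ∈ C) (hs : s ∉ C)
    (ho : orderOf x = 2 ^ (k + 1)) (hsx : s * x ^ 2 ^ k * s⁻¹ ≠ x ^ 2 ^ k) : Cfsg.IsWreathed T := by
  have : C.Normal := normal_of_index_eq_two hC
  set y := s * x * s⁻¹ with hy
  have hyC : y ∈ C := this.conj_mem x hx s
  have hoy : orderOf y = 2 ^ (k + 1) := by
    rw [← ho]; exact (MulAut.conj s).orderOf_eq x
  have hxy : Commute x y := hcomm x hx y hyC
  have hd : zpowers x ⊓ zpowers y = ⊥ := by
    rw [eq_bot_iff]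
    intro w hw
    by_contra hw1
    have h2 : IsPGroup 2 (zpowers x) := IsPGroup.of_card (by rw [Nat.card_zpowers, ho])
    obtain ⟨n, hn1, hn2⟩ := exists_pow_not_mem_sq_mem h2 ⊥ (y := ⟨w, hw.1⟩)
      (by rw [mem_bot] at hw1 ⊢; exact fun e => hw1 (congrArg Subtype.val e))
    rw [mem_bot] at hn1 hn2
    have e1 : w ^ n ≠ 1 := fun e => hn1 (Subtype.ext e)
    have e2 : w ^ n * w ^ n = 1 := congrArg Subtype.val hn2
    apply hsx
    rw [← conj_pow, ← hy, ← invol_eq_of_mem_zpowers ho (pow_mem hw.1 n) e2 e1,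
      ← invol_eq_of_mem_zpowers hoy (pow_mem hw.2 n) e2 e1]
  have hcl : closure ({x, y} : Set T) = C := by
    apply eq_of_le_of_card_ge
    · rw [closure_le]
      rintro w (rfl | rfl)
      exacts [hx, hyC]
    · rw [card_closure_pair _ x y ho hoy hxy hd, hcard]
  have hss : s * s ∈ C := by rw [mul_mem_iff_of_index_two hC]
  obtain ⟨i, j, hij⟩ := (mem_closure_pair_of_commute hxy).1 (hcl ▸ hss)
  have e1 : s * y * s⁻¹ = x := by
    rw [hy, show s * (s * x * s⁻¹) * s⁻¹ = s * s * x * (s * s)⁻¹ by group, hcomm _ hss x hx,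
      mul_inv_cancel_right]
  have e2 : x ^ i * y ^ j = y ^ i * x ^ j := by
    calc x ^ i * y ^ j = s * (s * s) * s⁻¹ := by rw [← hij]; group
      _ = MulAut.conj s (x ^ i * y ^ j) := by rw [hij, MulAut.conj_apply]
      _ = _ := by rw [map_mul, map_zpow, map_zpow, MulAut.conj_apply, MulAut.conj_apply, e1]
  have e3 : y ^ (j - i) = 1 := by
    have : y ^ (j - i) = x ^ (j - i) := by
      calc y ^ (j - i) = y ^ (-i) * (x ^ (-i) * (x ^ i * y ^ j)) := by group
        _ = y ^ (-i) * (x ^ (-i) * y ^ i) * x ^ j := by rw [e2]; group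
        _ = x ^ (j - i) := by rw [((hxy.zpow_zpow (-i) i)).eq]; group
    rw [← mem_bot, ← hd]
    exact ⟨this ▸ zpow_mem_zpowers x _, zpow_mem_zpowers y _⟩
  have e4 : y ^ j = y ^ i := by
    rw [show j = (j - i) + i by ring, zpow_add, e3, one_mul]
  refine ⟨k + 1, by omega, ?_, x, y, x ^ (-i) * s, ho, hxy, hd, ?_, ?_⟩
  · rw [← C.index_mul_card, hC, hcard]; ring
  · have : Fact (Nat.Prime 2) := ⟨Nat.prime_two⟩
    apply orderOf_eq_prime
    · calc (x ^ (-i) * s) ^ 2 = x ^ (-i) * (s * x * s⁻¹) ^ (-i) * (s * s) := by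
            rw [conj_zpow, pow_two]; group
        _ = x ^ (-i) * (y ^ (-i) * x ^ i) * y ^ i := by
            rw [hij, e4, ← hy]; simp only [mul_assoc]
        _ = 1 := by rw [← (hxy.zpow_zpow i (-i)).eq]; group
    · intro e
      apply hs
      rw [← mul_mem_cancel_left (zpow_mem hx (-i)), e]
      exact one_mem _
  · calc x ^ (-i) * s * x * (x ^ (-i) * s)⁻¹ = x ^ (-i) * y * (x ^ (-i))⁻¹ := by rw [hy]; group
      _ = y := by rw [(hxy.zpow_left (-i)).eq, mul_inv_cancel_right]

/-- The possible results of Alperin's analysis. -/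
def AlperinType (S : Type*) [Group S] : Prop :=
  (∃ m : ℕ, 2 ≤ m ∧ Nonempty (S ≃* DihedralGroup m)) ∨ Cfsg.IsQuasiDihedral S ∨
    Cfsg.IsWreathed S ∨
    (∃ n : ℕ, 2 ≤ n ∧ Nonempty (S ≃* Multiplicative (ZMod (2 ^ n) × ZMod (2 ^ n)))) ∨
    ∃ (σ : MulAut S) (z : S), Setup σ z ∧ (∀ x, σ (σ (σ x)) = x) ∧ Nat.card S = 64 ∧
      ∀ x : S, x * x * (x * x) = 1

theorem alperinType_of_setup [Finite T] (hT : IsPGroup 2 T) {σ : MulAut T} {z : T}
    (h : Setup σ z) (h3 : ∀ x, σ (σ (σ x)) = x) : AlperinType T := by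
  rcases h.homocyclic_or hT h3 with ⟨k, x, hx, htop⟩ | ⟨h64, h4⟩
  · rcases Nat.eq_zero_or_pos k with rfl | hk
    · have hx2 := half_pow_sq hx
      have hx1 := half_pow_ne_one hx
      rw [pow_zero, pow_one] at hx1 hx2
      have h' := h.of_invol hx2 hx1
      have h4 := isFourData_closure hx2 h'.map_sq (h'.comm _) hx1 h'.map_ne_one
        h'.map_ne.symm
      rw [htop] at h4
      obtain ⟨e⟩ := h4.isDihData.nonempty_equiv
      exact Or.inl ⟨2, le_rfl, ⟨topEquiv.symm.trans e⟩⟩
    · exact Or.inr (Or.inr (Or.inr (Or.inl ⟨k + 1, by omega, nonempty_equiv_zmod_sq _ x (σ x) hx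
        (by rw [MulEquiv.orderOf_eq, hx]) (h.commute_map hT h3 x) (h.zpowers_inf hT hx) htop⟩)))
  · exact Or.inr (Or.inr (Or.inr (Or.inr ⟨σ, z, h, h3, h64, h4⟩)))

/-- The case of a non-central normal four-group. -/
theorem alperin_noncentral [Finite T] (hT : IsPGroup 2 T) {V : Subgroup T} [V.Normal] {z v s : T}
    (hV : IsFourData V z v) (hz : ∀ g, z * g = g * z) (hs : v * s ≠ s * v)
    (hinv : ∀ t, t * t = 1 → v * t = t * v → t ∈ V)
    (r : T → T → Prop) (rsymm : ∀ a b, r a b → r b a) (rtrans : ∀ a b c, r a b → r b c → r a c)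
    (rconj : ∀ a g, r a (g * a * g⁻¹))
    (hiso : ∃ t, t * t = 1 ∧ t ≠ 1 ∧ t ≠ z ∧ r t z)
    (hθ : ∀ t, r t z → ∃ θ : centralizer ({t} : Set T) →* T, Function.Injective θ ∧
      θ ⟨t, mem_centralizer_singleton_iff.2 rfl⟩ = z ∧ ∀ x, r x.1 (θ x)) : AlperinType T := by
  have : Fact (Nat.Prime 2) := ⟨Nat.prime_two⟩
  set C := centralizer ({v} : Set T) with hC
  have memC : ∀ g, g ∈ C ↔ v * g = g * v := fun g => mem_centralizer_singleton_iff.trans eq_comm
  have hout : ∀ g, g ∉ C → g * v * g⁻¹ = z * v := by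
    intro g hg
    rcases (hV.mem _).1 (‹V.Normal›.conj_mem v hV.b_mem g) with e | e | e | e
    · exact absurd (by simpa using e) hV.b_ne
    · rw [mul_inv_eq_iff_eq_mul, hz, mul_left_cancel_iff] at e
      exact absurd e.symm hV.ne
    · exact absurd ((memC g).2 (by rw [mul_inv_eq_iff_eq_mul] at e; exact e.symm)) hg
    · exact e
  have hout' : ∀ g, g ∉ C → g * (z * v) * g⁻¹ = v := by
    intro g hg
    rw [← mul_assoc, ← hz, mul_assoc z, mul_assoc z, hout g hg, ← mul_assoc, hV.a_sq, one_mul]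
  have hsC : s ∉ C := fun h => hs ((memC s).1 h)
  have hidx : C.index = 2 := by
    rw [index_eq_two_iff_exists_notMem_and]
    refine ⟨s, hsC, fun g => ?_⟩
    by_cases hg : g ∈ C
    · exact Or.inr hg
    · left
      rw [memC, eq_comm, ← mul_inv_eq_iff_eq_mul]
      calc g * s * v * (g * s)⁻¹ = g * (s * v * s⁻¹) * g⁻¹ := by group
        _ = v := by rw [hout s hsC, hout' g hg]
  have hCn : C.Normal := normal_of_index_eq_two hidx
  have hsq : ∀ g, g * g ∈ C := fun g => by rw [mul_mem_iff_of_index_two hidx]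
  have hVC : V ≤ C := fun w hw => (memC w).2 (hV.isKleinFour.isMulCommutative.is_comm.comm
    (⟨v, hV.b_mem⟩ : V) ⟨w, hw⟩ |> congrArg Subtype.val)
  have hcV : ∀ w ∈ V, ∀ g ∈ C, w * g = g * w := fun w hw g hg =>
    (hV.mem_centralizer_iff.2 ⟨hz g, (memC g).1 hg⟩ : g ∈ centralizer (V : Set T)) w hw
  have hfix : ∀ g, g ∉ C → ∀ w ∈ V, g * w * g⁻¹ = w → w = 1 ∨ w = z := by
    intro g hg w hw e
    rcases (hV.mem _).1 hw with e' | e' | e' | e'
    · exact Or.inl e'
    · exact Or.inr e'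
    · rw [e', hout g hg] at e; exact absurd e hV.ab_ne_b
    · rw [e', hout' g hg] at e; exact absurd e.symm hV.ab_ne_b
  have hcardT : Nat.card T = 2 * Nat.card C := by rw [← C.index_mul_card, hidx]
  by_cases hCV : C ≤ V
  · have h8 : Nat.card T = 8 := by rw [hcardT, le_antisymm hCV hVC, hV.card_eq]
    have e1 : v * s * (v * s) = z * (s * s) := by
      calc v * s * (v * s) = v * (s * v * s⁻¹) * (s * s) := by group
        _ = z * (s * s) := by
          rw [hout s hsC, ← mul_assoc v z v, ← hz, mul_assoc z v v, hV.b_sq, mul_one]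
    refine Or.inl ⟨4, by norm_num, ?_⟩
    rcases hfix s hsC (s * s) (hCV (hsq s)) (by group) with e | e
    · exact dihedral_eight h8 hV.b_sq e (by rw [e1, e, mul_one]) hV.a_ne hV.a_sq
    · exact dihedral_eight h8 hV.b_sq (t := v * s) (by rw [e1, e, hV.a_sq])
        (by rw [← mul_assoc v v, hV.b_sq, one_mul, e]) hV.a_ne hV.a_sq
  obtain ⟨x, hxC, hxV, hx2, hxc⟩ := exists_central_mod hT V C hCV
  rw [pow_two] at hx2
  have hconj : ∀ g, ∃ w ∈ V, g * x * g⁻¹ = w * x := fun g =>
    ⟨_, hxc g, by rw [commutatorElement_def]; group⟩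
  have hxx : x * x = z := by
    obtain ⟨w, hw, e⟩ := hconj s
    refine (hfix s hsC _ hx2 ?_).resolve_left fun e => hxV (hinv x e ((memC x).1 hxC))
    calc s * (x * x) * s⁻¹ = (s * x * s⁻¹) * (s * x * s⁻¹) := by group
      _ = w * (x * w) * x := by rw [e]; group
      _ = x * x := by rw [← hcV w hw x hxC, ← mul_assoc, hV.sq_eq_one hw, one_mul]
  have key : ∀ t (θ : centralizer ({t} : Set T) →* T) (_ : Function.Injective θ)
      (_ : θ ⟨t, mem_centralizer_singleton_iff.2 rfl⟩ = z) (_ : t ≠ z)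
      (y : centralizer ({t} : Set T)) (_ : (y : T) * y = z),
      θ (y * y) = v ∨ θ (y * y) = z * v := by
    intro t θ hθi hθt htz y hy
    have h1 : y * y * (y * y) = 1 := Subtype.ext (by simp [hy, hV.a_sq])
    have h2 : θ (y * y) * θ (y * y) = 1 := by rw [← map_mul, h1, map_one]
    rcases (hV.mem _).1 (hinv _ h2 ((memC _).1 (by rw [map_mul]; exact hsq _))) with e | e | e | e
    · rw [← map_one θ] at e
      exact absurd (hy.symm.trans (congrArg Subtype.val (hθi e))) hV.a_ne
    · rw [← hθt] at e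
      exact absurd (hy.symm.trans (congrArg Subtype.val (hθi e))).symm htz
    · exact Or.inl e
    · exact Or.inr e
  have rvz : r v z := by
    by_contra hr
    have hr' : ¬ r (z * v) z := fun h => hr (rtrans _ _ _ (hout s hsC ▸ rconj v s) h)
    obtain ⟨t, ht, ht1, htz, hrt⟩ := hiso
    have htC : t ∉ C := by
      intro h
      rcases (hV.mem _).1 (hinv t ht ((memC t).1 h)) with e | e | e | e
      exacts [ht1 e, htz e, hr (e ▸ hrt), hr' (e ▸ hrt)]
    obtain ⟨w, hw, e⟩ := hconj t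
    have hw' : t * w * t⁻¹ = w := by
      have : t * w * t⁻¹ * w = 1 := by
        rw [← mul_left_inj x, one_mul]
        calc t * w * t⁻¹ * w * x = t * w * t⁻¹ * (t * x * t⁻¹) := by rw [e, mul_assoc _ w x]
          _ = t * (w * x) * t⁻¹ := by group
          _ = t * (t * x * t⁻¹) * t⁻¹ := by rw [e]
          _ = t * t * x * (t * t)⁻¹ := by group
          _ = x := by rw [ht]; group
      rw [eq_inv_of_mul_eq_one_left this, inv_eq_of_mul_eq_one_right (hV.sq_eq_one hw)]
    obtain ⟨y, hyt, hy⟩ : ∃ y, y ∈ centralizer ({t} : Set T) ∧ y * y = z := by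
      rcases hfix t htC w hw hw' with e' | e'
      · refine ⟨x, ?_, hxx⟩
        rw [e', one_mul, mul_inv_eq_iff_eq_mul] at e
        exact mem_centralizer_singleton_iff.2 e.symm
      · refine ⟨x * v, ?_, ?_⟩
        · rw [mem_centralizer_singleton_iff, eq_comm, ← mul_inv_eq_iff_eq_mul]
          calc t * (x * v) * t⁻¹ = (t * x * t⁻¹) * (t * v * t⁻¹) := by group
            _ = z * (x * z) * v := by rw [e, e', hout t htC]; group
            _ = x * v := by rw [← hz, ← mul_assoc, hV.a_sq, one_mul]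
        · calc x * v * (x * v) = x * (v * x) * v := by group
            _ = x * x * (v * v) := by rw [(memC x).1 hxC]; group
            _ = z := by rw [hxx, hV.b_sq, mul_one]
    obtain ⟨θ, hθi, hθt, hθr⟩ := hθ t hrt
    have h1 := hθr (⟨y, hyt⟩ * ⟨y, hyt⟩)
    rw [show ((⟨y, hyt⟩ * ⟨y, hyt⟩ : centralizer ({t} : Set T)) : T) = z from hy] at h1
    rcases key t θ hθi hθt htz ⟨y, hyt⟩ hy with e | e <;> rw [e] at h1
    exacts [hr (rsymm _ _ h1), hr' (rsymm _ _ h1)]
  obtain ⟨θ, hθi, hθt, -⟩ := hθ v rvz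
  have hθz := key v θ hθi hθt hV.ne.symm ⟨x, hxC⟩ hxx
  rw [show (⟨x, hxC⟩ * ⟨x, hxC⟩ : C) = ⟨z, hVC hV.a_mem⟩ from Subtype.ext hxx] at hθz
  have hθC : ∀ g, θ g ∈ C := by
    intro g
    have e : θ ⟨z, hVC hV.a_mem⟩ * θ g = θ g * θ ⟨z, hVC hV.a_mem⟩ := by
      rw [← map_mul, ← map_mul]; exact congrArg θ (Subtype.ext (hz g))
    rw [memC]
    rcases hθz with e' | e' <;> rw [e'] at e
    · exact e
    · rwa [mul_assoc, ← mul_assoc (θ g), ← hz, mul_assoc, mul_left_cancel_iff] at e
  let α : MulAut C := MulEquiv.ofBijective (θ.codRestrict C hθC)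
    (Finite.injective_iff_bijective.1 fun a b e => hθi (congrArg Subtype.val e))
  let β : MulAut C := MulAut.conjNormal s
  have hβ : ∀ g : C, (β g : T) = s * g * s⁻¹ := fun g => rfl
  have hC2 : IsPGroup 2 C := hT.to_subgroup C
  have hmem : ∀ t : C, t * t = 1 → (t : T) ∈ V := fun t ht =>
    hinv t (congrArg Subtype.val ht) ((memC _).1 t.2)
  obtain ⟨σ, hσ, h3⟩ := exists_setup_of_moves hC2 (a := ⟨v, hVC hV.b_mem⟩)
    (b := ⟨z, hVC hV.a_mem⟩) (fun e => hV.b_ne (congrArg Subtype.val e)) (Subtype.ext hV.b_sq)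
    (Subtype.ext hV.a_sq) (fun t ht g => Subtype.ext (hcV _ (hmem t ht) _ g.2))
    (fun t ht => by
      simpa only [Subtype.ext_iff, coe_one, coe_mul] using (hV.symm.mem _).1 (hmem t ht)) (by
      intro t ht ht1
      by_cases h : (t : T) = z
      · refine ⟨α, fun e => ?_⟩
        have e' : θ t = t := congrArg Subtype.val e
        rw [show t = ⟨z, hVC hV.a_mem⟩ from Subtype.ext h] at e'
        rcases hθz with e'' | e'' <;> rw [e''] at e'
        exacts [hV.ne e'.symm, hV.ab_ne_a e']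
      · refine ⟨β, fun e => ?_⟩
        rcases hfix s hsC t (hmem t ht) (congrArg Subtype.val e) with e' | e'
        exacts [ht1 (Subtype.ext e'), h e'])
  rcases hσ.homocyclic_or hC2 h3 with ⟨k, y, hy, htop⟩ | ⟨h64, h4⟩
  · have hcy := hσ.commute_map hC2 h3 y
    have hcard : Nat.card C = 2 ^ (k + 1) * 2 ^ (k + 1) := by
      rw [← card_closure_pair _ y (σ y) hy (by rw [MulEquiv.orderOf_eq, hy]) hcy
        (hσ.zpowers_inf hC2 hy), htop, card_top]
    have hk : 1 ≤ k := by
      by_contra hk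
      obtain rfl : k = 0 := by omega
      exact hCV (eq_of_le_of_card_ge hVC (by rw [hcard, hV.card_eq]; norm_num)).ge
    have hcomm : ∀ a ∈ C, ∀ b ∈ C, a * b = b * a := by
      intro a ha b hb
      obtain ⟨i, j, e1⟩ := (mem_closure_pair_of_commute hcy).1 (htop ▸ mem_top (⟨a, ha⟩ : C))
      obtain ⟨i', j', e2⟩ := (mem_closure_pair_of_commute hcy).1 (htop ▸ mem_top (⟨b, hb⟩ : C))
      have : Commute (⟨a, ha⟩ : C) ⟨b, hb⟩ := by
        rw [e1, e2]
        exact (((Commute.refl y).zpow_zpow _ _).mul_right (hcy.zpow_zpow _ _)).mul_left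
          ((hcy.symm.zpow_zpow _ _).mul_right ((Commute.refl _).zpow_zpow _ _))
      exact congrArg Subtype.val this.eq
    obtain ⟨y', hy', hne⟩ : ∃ y' : C, orderOf y' = 2 ^ (k + 1) ∧ ((y' ^ 2 ^ k : C) : T) ≠ z := by
      by_cases e : ((y ^ 2 ^ k : C) : T) = z
      · refine ⟨σ y, by rw [MulEquiv.orderOf_eq, hy], fun e' => ?_⟩
        rw [← map_pow] at e'
        exact (hσ.of_invol (half_pow_sq hy) (half_pow_ne_one hy)).map_ne
          (Subtype.ext (e'.trans e.symm))
      · exact ⟨y, hy, e⟩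
    refine Or.inr (Or.inr (Or.inl (isWreathed_of_homocyclic hidx hk hcard hcomm y'.2 hsC
      (by rw [orderOf_coe, hy']) fun e => ?_)))
    rcases hfix s hsC _ (hmem _ (half_pow_sq hy')) e with e' | e'
    exacts [half_pow_ne_one hy' (Subtype.ext e'), hne e']
  · refine (hσ.no_extension hC2 h3 h64 h4 β ⟨s * s, hsq s⟩ (fun a => Subtype.ext ?_)
      fun e => ?_).elim
    · simp only [hβ, coe_mul, coe_inv]; group
    · have := congrArg Subtype.val e
      rw [hβ, hout s hsC] at this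
      exact hV.ab_ne_b this

/-- Alperin's theorem on Sylow 2-subgroups of rank two, in abstract form. -/
theorem alperin_abstract [Finite T] (hT : IsPGroup 2 T) (h2 : Cfsg.PRankLE 2 2 T)
    (h1 : ∃ a b : T, orderOf a = 2 ∧ orderOf b = 2 ∧ a ≠ b)
    (r : T → T → Prop) (rsymm : ∀ a b, r a b → r b a) (rtrans : ∀ a b c, r a b → r b c → r a c)
    (rconj : ∀ a g, r a (g * a * g⁻¹))
    (hiso : ∀ z : T, z * z = 1 → z ≠ 1 → (∀ g, z * g = g * z) →
      ∃ t, t * t = 1 ∧ t ≠ 1 ∧ t ≠ z ∧ r t z)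
    (hθ : ∀ z : T, (∀ g, z * g = g * z) → ∀ t, r t z →
      ∃ θ : centralizer ({t} : Set T) →* T, Function.Injective θ ∧
      θ ⟨t, mem_centralizer_singleton_iff.2 rfl⟩ = z ∧ ∀ x, r x.1 (θ x)) : AlperinType T := by
  have : Fact (Nat.Prime 2) := ⟨Nat.prime_two⟩
  by_cases hn : ∀ V : Subgroup T, V.Normal → ¬ IsKleinFour V
  · obtain ⟨a, b, ha, hb, hab⟩ := h1
    rcases classify_no_normal_four hT hn with h | ⟨m, -, ⟨e⟩⟩ | ⟨m, hm, h⟩ | h
    · obtain ⟨g, hg⟩ := IsCyclic.exists_generator (α := T)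
      obtain ⟨n, hn⟩ := (IsPGroup.iff_orderOf.1 hT) g
      have hz : ∀ c : T, orderOf c = 2 → c * c = 1 ∧ c ≠ 1 := fun c hc =>
        ⟨by rw [← pow_two, ← hc, pow_orderOf_eq_one], fun e => by simp [e] at hc⟩
      cases n with
      | zero =>
        rw [pow_zero, orderOf_eq_one_iff] at hn
        obtain ⟨i, hi⟩ := hg a
        exact absurd (by rw [← hi, hn]; simp) (hz a ha).2
      | succ n =>
        exact absurd ((invol_eq_of_mem_zpowers hn (hg a) (hz a ha).1 (hz a ha).2).trans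
          (invol_eq_of_mem_zpowers hn (hg b) (hz b hb).1 (hz b hb).2).symm) hab
    · exact absurd ((CL.Invol.existsUnique_involution_of_equiv_quat e).unique ha hb) hab
    · exact Or.inl ⟨_, le_trans (by norm_num) (Nat.pow_le_pow_right (n := 2) (by norm_num) hm), h⟩
    · exact Or.inr (Or.inl h)
  push Not at hn
  obtain ⟨V, hVn, hV4⟩ := hn
  obtain ⟨z, hzV, hz1, hzc, hz2⟩ := exists_mem_center_of_normal hT V (by
    intro e
    have := hV4.card_four
    rw [e, card_bot] at this
    omega)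
  rw [pow_two] at hz2
  have hz : ∀ g, z * g = g * z := fun g => (mem_center_iff.1 hzc g).symm
  obtain ⟨v, hV⟩ : ∃ v, IsFourData V z v := by
    obtain ⟨a, b, hab⟩ := exists_isFourData hV4
    by_cases e : z = a
    · exact ⟨b, e ▸ hab⟩
    · exact ⟨a, isFourData_of_isKleinFour hV4 hzV hab.a_mem hz1 hab.a_ne e⟩
  have hinv : ∀ t, t * t = 1 → v * t = t * v → t ∈ V := fun t ht e =>
    mem_of_commute_four h2 hV ht (hz t) e
  by_cases hv : ∀ g, v * g = g * v
  · have hc : ∀ t : T, t * t = 1 → ∀ g, t * g = g * t := fun t ht g =>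
      (hV.mem_centralizer_iff.2 ⟨hz g, hv g⟩ : g ∈ centralizer (V : Set T)) t (hinv t ht (hv t))
    obtain ⟨σ, hσ, h3⟩ := exists_setup_of_moves hT hz1 hz2 hV.b_sq hc
      (fun t ht => (hV.mem t).1 (hinv t ht (hv t))) (by
        intro a ha ha1
        obtain ⟨t, ht, -, hta, hr⟩ := hiso a ha ha1 (hc a ha)
        obtain ⟨θ, hθi, hθt, -⟩ := hθ a (hc a ha) t hr
        let ι : T →* centralizer ({t} : Set T) := (MonoidHom.id T).codRestrict _ fun g =>
          mem_centralizer_singleton_iff.2 (hc t ht g).symm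
        have hi : Function.Injective (θ.comp ι) := fun a b e => congrArg Subtype.val (hθi e)
        refine ⟨MulEquiv.ofBijective (θ.comp ι) (Finite.injective_iff_bijective.1 hi), fun e => ?_⟩
        exact hta (hi (hθt.trans e.symm)))
    exact alperinType_of_setup hT hσ h3
  · push Not at hv
    obtain ⟨s, hs⟩ := hv
    exact alperin_noncentral hT hV hz hs hinv r rsymm rtrans rconj (hiso z hz2 hz1 hz) (hθ z hz)

end CL.Rank2
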