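import Cfsg.Agent.TwoFus.Isol

/-!
# Strongly closed and weakly closed subgroups: elementary facts; Sylow conjugation helpers
-/

set_option autoImplicit false

namespace CL.StrCl

open Cfsg

variable {G : Type*} [Group G]

theorem mem_map_conj {A : Subgroup G} {g x : G} :
    x ∈ A.map (MulAut.conj g).toMonoidHom ↔ g⁻¹ * x * g ∈ A := by
  rw [Subgroup.mem_map]
  constructor
  · rintro ⟨a, ha, rfl⟩
    simpa [mul_assoc] using ha
  · intro h
    exact ⟨_, h, by simp [mul_assoc]⟩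

theorem conj_mem_map_conj {A : Subgroup G} (g : G) {x : G} (hx : x ∈ A) :
    g * x * g⁻¹ ∈ A.map (MulAut.conj g).toMonoidHom := by
  rw [mem_map_conj]; simpa [mul_assoc] using hx

theorem card_map_conj (A : Subgroup G) (g : G) :
    Nat.card (A.map (MulAut.conj g).toMonoidHom) = Nat.card A :=
  Subgroup.card_map_of_injective (MulAut.conj g).injective

theorem map_conj_map_conj (A : Subgroup G) (g h : G) :
    (A.map (MulAut.conj g).toMonoidHom).map (MulAut.conj h).toMonoidHom =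
      A.map (MulAut.conj (h * g)).toMonoidHom := by
  ext x
  simp only [mem_map_conj, mul_inv_rev, mul_assoc]

theorem map_conj_one (A : Subgroup G) : A.map (MulAut.conj (1 : G)).toMonoidHom = A := by
  ext x
  simp only [mem_map_conj, inv_one, one_mul, mul_one]

theorem map_conj_eq_iff_mem_normalizer {A : Subgroup G} {g : G} :
    A.map (MulAut.conj g).toMonoidHom = A ↔ g ∈ Subgroup.normalizer (A : Set G) := by
  rw [Subgroup.mem_normalizer_iff'']
  constructor
  · intro h x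
    rw [← mem_map_conj, h]
  · intro h
    ext x
    rw [mem_map_conj]
    exact (h x).symm

variable [Finite G] {p : ℕ} [Fact p.Prime]

/-- A `p`-subgroup can be conjugated into a given Sylow `p`-subgroup. -/
theorem exists_conj_le_sylow (S : Sylow p G) {U : Subgroup G} (hU : IsPGroup p U) :
    ∃ y : G, ∀ u ∈ U, y * u * y⁻¹ ∈ S := by
  obtain ⟨R, hR⟩ := hU.exists_le_sylow
  obtain ⟨y, rfl⟩ := MulAction.exists_smul_eq G R S
  refine ⟨y, fun u hu => ?_⟩
  have : MulAut.conj y • u ∈ ((y • R : Sylow p G) : Subgroup G) := by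
    rw [Sylow.coe_subgroup_smul]
    exact Subgroup.smul_mem_pointwise_smul _ _ _ (hR hu)
  exact this

/-- Relative form: two `p`-subgroups `A`, `U` of `Y`: some `Y`-conjugate of `U` lies together with
`A` in a `p`-subgroup of `Y`. -/
theorem exists_conj_le_pgroup {Y A U : Subgroup G} (hA : IsPGroup p A) (hAY : A ≤ Y)
    (hU : IsPGroup p U) (hUY : U ≤ Y) :
    ∃ T : Subgroup G, IsPGroup p T ∧ A ≤ T ∧ T ≤ Y ∧ ∃ y ∈ Y, ∀ u ∈ U, y * u * y⁻¹ ∈ T := by
  obtain ⟨R, hR⟩ := (hA.comap_subtype (K := Y)).exists_le_sylow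
  obtain ⟨y, hy⟩ := exists_conj_le_sylow R (hU.comap_subtype (K := Y))
  refine ⟨(R : Subgroup Y).map Y.subtype, R.2.map _, fun a ha => ?_, Subgroup.map_subtype_le _,
    y, y.2, fun u hu => ?_⟩
  · exact ⟨⟨a, hAY ha⟩, hR ha, rfl⟩
  · exact ⟨_, hy ⟨u, hUY hu⟩ hu, rfl⟩

/-- If the Sylow subgroup `S` of `G` lies in `Y`, every `p`-subgroup of `Y` is `Y`-conjugate into
`S`. -/
theorem exists_conj_le_sylow_of_le (S : Sylow p G) {Y U : Subgroup G} (hSY : (S : Subgroup G) ≤ Y)
    (hU : IsPGroup p U) (hUY : U ≤ Y) : ∃ y ∈ Y, ∀ u ∈ U, y * u * y⁻¹ ∈ S := by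
  obtain ⟨T, hT, hST, -, y, hy, h⟩ := exists_conj_le_pgroup S.2 hSY hU hUY
  have : T = S := S.3 hT hST
  exact ⟨y, hy, fun u hu => by have := h u hu; rwa [‹T = _›] at this⟩

omit [Finite G] [Fact p.Prime] in
theorem isPGroup_zpowers {x : G} {k : ℕ} (hx : x ^ p ^ k = 1) :
    IsPGroup p (Subgroup.zpowers x) := by
  rintro ⟨y, n, rfl⟩
  refine ⟨k, Subtype.ext ?_⟩
  change (x ^ n) ^ p ^ k = 1
  rw [← zpow_natCast, ← zpow_mul, mul_comm, zpow_mul, zpow_natCast, hx, one_zpow]

omit [Finite G] [Fact p.Prime] in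
theorem isPGroup_zpowers_of_mem {T : Subgroup G} (hT : IsPGroup p T) {x : G} (hx : x ∈ T) :
    IsPGroup p (Subgroup.zpowers x) :=
  hT.to_le (by simpa using hx)

omit [Finite G] [Fact p.Prime] in
theorem isPGroup_map_conj {T : Subgroup G} (hT : IsPGroup p T) (g : G) :
    IsPGroup p (T.map (MulAut.conj g).toMonoidHom) := hT.map _

/-- A strongly closed subgroup is strongly closed in every `p`-subgroup containing it. -/
theorem conj_mem_of_isPGroup {S : Sylow p G} {A : Subgroup G}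
    (hA : IsStronglyClosed A (S : Subgroup G)) {T : Subgroup G} (hT : IsPGroup p T) (hAT : A ≤ T)
    {a g : G} (ha : a ∈ A) (hg : g * a * g⁻¹ ∈ T) : g * a * g⁻¹ ∈ A := by
  obtain ⟨y, hy⟩ := exists_conj_le_sylow S hT
  have h1 : A.map (MulAut.conj y).toMonoidHom ≤ A := by
    rintro _ ⟨x, hx, rfl⟩
    exact hA.2 x hx y (hy x (hAT hx))
  have h2 : A.map (MulAut.conj y).toMonoidHom = A :=
    Subgroup.eq_of_le_of_card_ge h1 (card_map_conj A y).ge
  have h3 : (y * g) * a * (y * g)⁻¹ ∈ A := by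
    apply hA.2 a ha
    have := hy _ hg
    have e : (y * g) * a * (y * g)⁻¹ = y * (g * a * g⁻¹) * y⁻¹ := by group
    rw [e]; exact this
  rw [← h2, mem_map_conj] at h3
  convert h3 using 1
  group

/-- If `A` is strongly closed and `A ≤ Y`, any `p`-subgroup `U` of `Y` has a `Y`-conjugate in which
all `G`-conjugates of elements of `A` lie in `A`. -/
theorem exists_conj_into {S : Sylow p G} {A : Subgroup G}
    (hA : IsStronglyClosed A (S : Subgroup G)) {Y U : Subgroup G} (hAY : A ≤ Y)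
    (hU : IsPGroup p U) (hUY : U ≤ Y) :
    ∃ y ∈ Y, ∀ a ∈ A, ∀ g : G, g * a * g⁻¹ ∈ U → y * (g * a * g⁻¹) * y⁻¹ ∈ A := by
  obtain ⟨T, hT, hAT, -, y, hy, h⟩ := exists_conj_le_pgroup (S.2.to_le hA.1) hAY hU hUY
  refine ⟨y, hy, fun a ha g hg => ?_⟩
  have h1 := h _ hg
  have e : y * (g * a * g⁻¹) * y⁻¹ = (y * g) * a * (y * g)⁻¹ := by group
  rw [e] at h1 ⊢
  exact conj_mem_of_isPGroup hA hT hAT ha h1

/-- A weakly closed subgroup is weakly closed in every `p`-subgroup containing it. -/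
theorem map_conj_eq_of_isPGroup {S : Sylow p G} {W : Subgroup G}
    (hW : IsWeaklyClosed W (S : Subgroup G)) {T : Subgroup G} (hT : IsPGroup p T) (hWT : W ≤ T)
    {g : G} (hg : W.map (MulAut.conj g).toMonoidHom ≤ T) :
    W.map (MulAut.conj g).toMonoidHom = W := by
  obtain ⟨y, hy⟩ := exists_conj_le_sylow S hT
  have h1 : W.map (MulAut.conj y).toMonoidHom = W := by
    apply hW.2
    rintro _ ⟨x, hx, rfl⟩
    exact hy x (hWT hx)
  have h2 : W.map (MulAut.conj (y * g)).toMonoidHom = W := by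
    apply hW.2
    rw [← map_conj_map_conj]
    rintro _ ⟨x, hx, rfl⟩
    exact hy x (hg hx)
  rw [map_conj_eq_iff_mem_normalizer] at h1 h2 ⊢
  have := Subgroup.mul_mem _ (Subgroup.inv_mem _ h1) h2
  rwa [inv_mul_cancel_left] at this

end CL.StrCl
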