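import Cfsg.Agent.TwoFus.Isol2
import Cfsg.Agent.TwoFus.StrClosed
import Cfsg.Agent.S0215

/-!
# Glauberman's Z*-theorem for `IsIsolatedInvolution`, and first consequences
-/

set_option autoImplicit false

namespace CL.Isol

open Cfsg

variable {G : Type*} [Group G] [Finite G] {z : G}

/-- An involution of a Sylow `2`-subgroup conjugate to no other element of it is isolated. -/
theorem isol_of_sylow (P : Sylow 2 G) (hz : orderOf z = 2) 
    (hiso : ∀ g : G, g * z * g⁻¹ ∈ P → g * z * g⁻¹ = z) : IsIsolatedInvolution z := by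
  refine ⟨hz, fun g hg => ?_⟩
  have h1 : IsPGroup 2 (Subgroup.zpowers z) :=
    IsPGroup.of_card (n := 1) (by rw [Nat.card_zpowers, hz, pow_one])
  have h2 : IsPGroup 2 (Subgroup.zpowers (g * z * g⁻¹)) :=
    IsPGroup.of_card (n := 1) (by rw [Nat.card_zpowers, orderOf_conj, hz, pow_one])
  have h3 : IsPGroup 2 (Subgroup.zpowers z ⊔ Subgroup.zpowers (g * z * g⁻¹) : Subgroup G) := by
    apply IsPGroup.to_sup_of_normal_right' h1 h2
    rw [Subgroup.zpowers_le]
    apply Subgroup.mem_normalizer_fintype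
    rintro _ ⟨n, rfl⟩
    have := (hg.zpow_right n).eq
    simp only
    rw [this, mul_inv_cancel_right]
    exact ⟨n, rfl⟩
  obtain ⟨y, hy⟩ := CL.StrCl.exists_conj_le_sylow P h3
  have e1 := hiso y (hy _ (Subgroup.mem_sup_left (Subgroup.mem_zpowers z)))
  have e2 := hiso (y * g) (by
    have := hy _ (Subgroup.mem_sup_right (Subgroup.mem_zpowers (g * z * g⁻¹)))
    have e : y * g * z * (y * g)⁻¹ = y * (g * z * g⁻¹) * y⁻¹ := by group
    rw [e]; exact this)
  calc g * z * g⁻¹ = y⁻¹ * (y * g * z * (y * g)⁻¹) * y := by group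
    _ = y⁻¹ * (y * z * y⁻¹) * y := by rw [e2, e1]
    _ = z := by group

/-- The Z*-theorem. -/
theorem zstar (hz : IsIsolatedInvolution z) :
    ∃ N : Subgroup G, N.Normal ∧ Odd (Nat.card N) ∧ ∀ g : G, z * g * z⁻¹ * g⁻¹ ∈ N := by
  have h1 : IsPGroup 2 (Subgroup.zpowers z) :=
    IsPGroup.of_card (n := 1) (by rw [Nat.card_zpowers, hz.1, pow_one])
  obtain ⟨S, hS⟩ := h1.exists_le_sylow
  have hzS : z ∈ S := hS (Subgroup.mem_zpowers z)
  exact Cfsg.Agent.S0215.result S z hz.1 hzS (fun g hg => hz.2 g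
    (commute_of_isPGroup hz S.2 (Subgroup.le_normalizer hzS) hg).symm)

/-- The Z*-theorem: an isolated involution is central modulo `O(G)`. -/
theorem zstar_oddCore (hz : IsIsolatedInvolution z) (g : G) : z * g * z⁻¹ * g⁻¹ ∈ oddCore G := by
  obtain ⟨N, hN, hodd, h⟩ := zstar hz
  exact (le_sSup (s := {N : Subgroup G | N.Normal ∧ (Nat.card N).Coprime 2})
    ⟨hN, hodd.coprime_two_right⟩ : N ≤ oddCore G) (h g)

/-- If `O(G) = 1`, an isolated involution is central. -/
theorem zstar_center (hz : IsIsolatedInvolution z) (hO : oddCore G = ⊥) :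
    z ∈ Subgroup.center G := by
  rw [Subgroup.mem_center_iff]
  intro g
  have := zstar_oddCore hz g
  rw [hO, Subgroup.mem_bot] at this
  calc g * z = (z * g * z⁻¹ * g⁻¹) * (g * z) := by rw [this, one_mul]
    _ = z * g := by group

/-- The Z*-theorem for an involutory automorphism. -/
theorem zstar_aut {H : Type*} [Group H] [Finite H] (φ : MulAut H) (hφ : φ * φ = 1)
    (hyp : ∀ h : H, (φ h * h⁻¹) * (φ h * h⁻¹) = 1 → φ h = h) (h : H) :
    φ h * h⁻¹ ∈ oddCore H := by
  by_cases h1 : φ = 1
  · simp [h1]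
  let A := Subgroup.zpowers φ
  let X := H ⋊[A.subtype] A
  have : Finite X := Finite.of_equiv _ SemidirectProduct.equivProd.symm
  let a : A := ⟨φ, Subgroup.mem_zpowers φ⟩
  let z : X := SemidirectProduct.inr a
  have hφφ : ∀ x, φ (φ x) = x := fun x => by
    have := congrArg (fun ψ : MulAut H => ψ x) hφ
    simpa using this
  have hzh : ∀ x : H, z * SemidirectProduct.inl x * z⁻¹ = SemidirectProduct.inl (φ x) := by
    intro x
    have := SemidirectProduct.inl_aut (φ := A.subtype) a x
    rw [map_inv] at this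
    exact this.symm
  have hz : IsIsolatedInvolution z := by
    refine ⟨orderOf_eq_two_of ?_ ?_, fun g hg => ?_⟩
    · intro h
      apply h1
      have : a = 1 := SemidirectProduct.inr_injective (h.trans (map_one _).symm)
      exact congrArg Subtype.val this
    · rw [← map_mul, show a * a = 1 from Subtype.ext hφ, map_one]
    · have hc : Commute (SemidirectProduct.inr g.right : X) z := by
        apply Commute.map
        obtain ⟨_, n, rfl⟩ := g.right
        apply Subtype.ext
        exact ((Commute.refl φ).zpow_left n).eq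
      have e : g * z * g⁻¹ = SemidirectProduct.inl (g.left * (φ g.left)⁻¹) * z := by
        rw [map_mul, map_inv, ← hzh]
        nth_rewrite 1 2 [← SemidirectProduct.inl_left_mul_inr_right g]
        have hzz : z⁻¹ = z := by
          apply inv_eq_of_mul_eq_one_right
          rw [← map_mul, show a * a = 1 from Subtype.ext hφ, map_one]
        generalize (SemidirectProduct.inl g.left : X) = u
        generalize (SemidirectProduct.inr g.right : X) = v at hc
        calc u * v * z * (u * v)⁻¹ = u * (v * z) * v⁻¹ * u⁻¹ := by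
              simp only [mul_inv_rev, mul_assoc]
          _ = u * z⁻¹⁻¹ * u⁻¹ := by
              rw [hc.eq, hzz, hzz]; simp only [mul_assoc, mul_inv_cancel_left]
          _ = _ := by simp only [mul_inv_rev, mul_assoc, inv_mul_cancel, mul_one]
      rw [e] at hg ⊢
      have h2 : Commute z (SemidirectProduct.inl (g.left * (φ g.left)⁻¹)) := by
        have := hg.mul_right (Commute.refl z).inv_right
        rwa [mul_inv_cancel_right] at this
      have h3 := hzh (g.left * (φ g.left)⁻¹)
      rw [h2.eq, mul_inv_cancel_right] at h3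
      have h4 := SemidirectProduct.inl_injective h3
      rw [map_mul, map_inv, hφφ] at h4
      have h5 := hyp g.left (by
        nth_rewrite 1 [← h4]
        group)
      rw [h5, mul_inv_cancel, map_one, one_mul]
  obtain ⟨N, hN, hodd, hzN⟩ := zstar hz
  have hle : N.comap (SemidirectProduct.inl : H →* X) ≤ oddCore H := by
    apply le_sSup (s := {N : Subgroup H | N.Normal ∧ (Nat.card N).Coprime 2})
    exact ⟨hN.comap _, (Odd.of_dvd_nat hodd
      (Subgroup.card_comap_dvd_of_injective N _ SemidirectProduct.inl_injective)).coprime_two_right⟩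
  apply hle
  rw [Subgroup.mem_comap, map_mul, map_inv, ← hzh]
  exact hzN _

/-- If `A` is a strongly closed `2`-subgroup normalizing `H`, `O(H) = 1` and `A ⊓ H = 1`, then `A`
centralizes `H`. -/
theorem stronglyClosed_le_centralizer (S : Sylow 2 G) {A : Subgroup G}
    (hA : IsStronglyClosed A (S : Subgroup G)) {H : Subgroup G}
    (hAH : A ≤ Subgroup.normalizer (H : Set G)) (hO : oddCore ↥H = ⊥) (hdisj : A ⊓ H = ⊥) :
    A ≤ Subgroup.centralizer (H : Set G) := by
  have hA2 : IsPGroup 2 A := S.2.to_le hA.1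
  -- it suffices to treat `a` with `a ^ 2` centralizing `H`
  suffices key : ∀ a ∈ A, a ^ 2 ∈ Subgroup.centralizer (H : Set G) →
      a ∈ Subgroup.centralizer (H : Set G) by
    intro a ha
    obtain ⟨k, hk⟩ := hA2 ⟨a, ha⟩
    replace hk : a ^ 2 ^ k ∈ Subgroup.centralizer (H : Set G) := by
      have : a ^ 2 ^ k = 1 := congrArg Subtype.val hk
      rw [this]; exact Subgroup.one_mem _
    induction k with
    | zero => simpa using hk
    | succ k ih =>
      apply ih
      apply key _ (A.pow_mem ha _)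
      rwa [← pow_mul, ← pow_succ]
  intro a ha ha2
  let φ : MulAut H := H.normalizerMonoidHom ⟨a, hAH ha⟩
  have hφ : ∀ h : H, (φ h : G) = a * h * a⁻¹ := fun h => rfl
  have hφ2 : ∀ h ∈ H, a * (a * h * a⁻¹) * a⁻¹ = h := by
    intro h hh
    have := ha2 h hh
    calc a * (a * h * a⁻¹) * a⁻¹ = (a ^ 2 * h) * (a ^ 2)⁻¹ := by rw [pow_two]; group
      _ = h := by rw [← this, mul_inv_cancel_right]
  have key := zstar_aut φ (by
    ext h
    exact hφ2 h h.2) (by
    intro h hh
    apply Subtype.ext
    replace hh : (a * h * a⁻¹ * (h : G)⁻¹ : G) * (a * h * a⁻¹ * (h : G)⁻¹) = 1 :=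
      congrArg Subtype.val hh
    set w : G := a * h * a⁻¹ * (h : G)⁻¹ with hw
    have hwH : w ∈ H := (φ h * h⁻¹).2
    have hcomm : a * w * a⁻¹ = w := by
      calc a * w * a⁻¹ = (a * (a * h * a⁻¹) * a⁻¹) * (a * (h : G)⁻¹ * a⁻¹) := by rw [hw]; group
        _ = w⁻¹ := by rw [hφ2 h h.2, hw]; group
        _ = w := inv_eq_of_mul_eq_one_right hh
    have hU : IsPGroup 2 (Subgroup.zpowers a ⊔ Subgroup.zpowers w : Subgroup G) := by
      apply IsPGroup.to_sup_of_normal_right' (CL.StrCl.isPGroup_zpowers_of_mem hA2 ha)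
        (CL.StrCl.isPGroup_zpowers (k := 1) (by rw [pow_one, pow_two, hh]))
      rw [Subgroup.zpowers_le]
      apply Subgroup.mem_normalizer_fintype
      rintro _ ⟨n, rfl⟩
      exact ⟨n, by simp only; rw [← conj_zpow, hcomm]⟩
    obtain ⟨y, hy, hyA⟩ := CL.StrCl.exists_conj_into hA (Y := Subgroup.normalizer (H : Set G)) hAH
      hU (sup_le (by simpa using hAH ha) (by simpa using Subgroup.le_normalizer hwH))
    have h1 := hyA a ha 1 (by simpa using Subgroup.mem_sup_left (Subgroup.mem_zpowers a))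
    have h2 := hyA a ha h (by
      have e : h * a * (h : G)⁻¹ = w⁻¹ * a := by rw [hw]; group
      rw [e]
      exact Subgroup.mul_mem _ (Subgroup.inv_mem _ (Subgroup.mem_sup_right (Subgroup.mem_zpowers w)))
        (Subgroup.mem_sup_left (Subgroup.mem_zpowers a)))
    have h3 : y * w * y⁻¹ ∈ A ⊓ H := by
      refine ⟨?_, (Subgroup.mem_normalizer_iff.mp hy w).mp hwH⟩
      have := A.mul_mem h1 (A.inv_mem h2)
      have e : y * w * y⁻¹ = y * (1 * a * 1⁻¹) * y⁻¹ * (y * (h * a * (h : G)⁻¹) * y⁻¹)⁻¹ := by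
        rw [hw]; group
      rw [e]; exact this
    rw [hdisj, Subgroup.mem_bot] at h3
    have h4 : w = 1 := by simpa using h3
    rw [hφ]
    exact mul_inv_eq_one.mp h4)
  intro h hh
  have := key ⟨h, hh⟩
  rw [hO, Subgroup.mem_bot] at this
  have h2 : a * h * a⁻¹ * h⁻¹ = 1 := congrArg Subtype.val this
  calc h * a = (a * h * a⁻¹ * h⁻¹) * (h * a) := by rw [h2, one_mul]
    _ = a * h := by group

end CL.Isol
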