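import Cfsg.Agent.TwoFus.U3Sylow

/-!
Transport of the properties of the model `CL.U3.U` to Sylow 2-subgroups of `PSU 3 F q`.
-/

set_option autoImplicit false

namespace CL.U3

theorem isSuzukiTwoGroup_of_equiv {P Q : Type*} [Group P] [Group Q] (e : P ≃* Q)
    (h : Cfsg.IsSuzukiTwoGroup Q) : Cfsg.IsSuzukiTwoGroup P := by
  obtain ⟨hfin, hp, ⟨x, y, hxy⟩, ⟨u, v, huv, hu, hu2, hv, hv2⟩, K, hK, hreg⟩ := h
  refine ⟨Finite.of_equiv _ e.symm.toEquiv, hp.of_equiv e.symm, ⟨e.symm x, e.symm y, ?_⟩,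
    ⟨e.symm u, e.symm v, ?_, ?_, ?_, ?_, ?_⟩, K.map (MulAut.congr e.symm).toMonoidHom, ?_, ?_⟩
  · intro h; apply hxy; apply e.symm.injective; simpa using h
  · exact fun h => huv (e.symm.injective h)
  · simpa using hu
  · rw [← map_mul, hu2, map_one]
  · simpa using hv
  · rw [← map_mul, hv2, map_one]
  · exact isCyclic_of_surjective _ (MonoidHom.subgroupMap_surjective _ K)
  · intro a b ha ha2 hb hb2
    obtain ⟨k, hk, hk'⟩ := hreg (e a) (e b) (by simpa using ha) (by rw [← map_mul, ha2, map_one])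
      (by simpa using hb) (by rw [← map_mul, hb2, map_one])
    refine ⟨⟨MulAut.congr e.symm k, ⟨k, k.2, rfl⟩⟩, ?_, ?_⟩
    · simp only [MulAut.congr_apply, MulEquiv.trans_apply, MulEquiv.symm_symm]
      rw [hk]; simp
    · rintro ⟨_, m, hm, rfl⟩ h1
      have h2 : (⟨m, hm⟩ : K) = k := by
        apply hk'
        apply e.symm.injective
        simpa using h1
      subst h2
      rfl

theorem map_center_equiv {P Q : Type*} [Group P] [Group Q] (e : P ≃* Q) :
    (Subgroup.center P).map e.toMonoidHom = Subgroup.center Q := by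
  ext y
  constructor
  · rintro ⟨x, hx, rfl⟩
    rw [Subgroup.mem_center_iff]
    intro g
    obtain ⟨g, rfl⟩ := e.surjective g
    have := Subgroup.mem_center_iff.1 hx g
    simp only [MulEquiv.coe_toMonoidHom, ← map_mul, this]
  · intro hy
    refine ⟨e.symm y, ?_, by simp⟩
    change e.symm y ∈ Subgroup.center P
    rw [Subgroup.mem_center_iff]
    intro g
    apply e.injective
    simp [Subgroup.mem_center_iff.1 hy (e g)]

theorem mem_center_equiv {P Q : Type*} [Group P] [Group Q] (e : P ≃* Q) (x : P) :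
    e x ∈ Subgroup.center Q ↔ x ∈ Subgroup.center P := by
  rw [← map_center_equiv e]
  exact Subgroup.mem_map_iff_mem (f := e.toMonoidHom) e.injective

theorem card_center_equiv {P Q : Type*} [Group P] [Group Q] (e : P ≃* Q) :
    Nat.card (Subgroup.center P) = Nat.card (Subgroup.center Q) := by
  rw [← map_center_equiv e]
  exact (Subgroup.card_map_of_injective (f := e.toMonoidHom) e.injective).symm

variable {F : Type*} [Field F] [Fintype F]

/-- The structure of a Sylow 2-subgroup of `PSU 3 F (2 ^ n)`, `n ≥ 2`. -/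
theorem sylow_psu_structure {n : ℕ} (hn : 2 ≤ n) (hF : Fintype.card F = (2 ^ n) ^ 2)
    (S : Sylow 2 (Cfsg.PSU 3 F (2 ^ n))) :
    Nat.card S = (2 ^ n) ^ 3 ∧
    Nat.card (Subgroup.center (S : Subgroup (Cfsg.PSU 3 F (2 ^ n)))) = 2 ^ n ∧
    Cfsg.IsSuzukiTwoGroup (S : Subgroup (Cfsg.PSU 3 F (2 ^ n))) ∧
    (∀ x : (S : Subgroup (Cfsg.PSU 3 F (2 ^ n))),
      x ∈ Subgroup.center (S : Subgroup (Cfsg.PSU 3 F (2 ^ n))) ↔ x * x = 1) ∧
    (∀ x : (S : Subgroup (Cfsg.PSU 3 F (2 ^ n))),
      x * x ∈ Subgroup.center (S : Subgroup (Cfsg.PSU 3 F (2 ^ n)))) ∧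
    commutator (S : Subgroup (Cfsg.PSU 3 F (2 ^ n))) =
      Subgroup.center (S : Subgroup (Cfsg.PSU 3 F (2 ^ n))) := by
  obtain ⟨_, bar, _, hbar⟩ := exists_bar (by omega) hF
  have hq : 2 < 2 ^ n := by
    calc 2 = 2 ^ 1 := rfl
      _ < 2 ^ n := Nat.pow_lt_pow_right (by omega) (by omega)
  have hq1 : 1 < 2 ^ n := by omega
  obtain ⟨e⟩ := nonempty_sylow_equiv hq1 hbar hF S
  refine ⟨?_, ?_, isSuzukiTwoGroup_of_equiv e (isSuzukiTwoGroup hq hbar hF), ?_, ?_, ?_⟩
  · rw [← card_U hq1 hbar hF]; exact Nat.card_congr e.toEquiv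
  · rw [card_center_equiv e, card_center hq1 hbar hF]
  · intro x
    rw [← mem_center_equiv e, mem_center_iff hq1 hbar hF, ← mul_self_eq_one_iff, ← map_mul,
      MulEquiv.map_eq_one_iff]
  · intro x
    rw [← mem_center_equiv e, mem_center_iff hq1 hbar hF, map_mul, sq_a]
  · apply Subgroup.map_injective (f := e.toMonoidHom) e.injective
    rw [map_center_equiv, ← commutator_eq_center hq1 hbar hF, commutator_def, commutator_def,
      Subgroup.map_commutator, Subgroup.map_top_of_surjective _ e.surjective]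

end CL.U3
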