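import Cfsg.Agent.Base

/-!
# Isolated involutions: elementary facts

The product of two conjugates of an isolated involution has odd order; consequences.
-/

set_option autoImplicit false

namespace CL.Isol

open Cfsg

variable {G : Type*} [Group G]

theorem mul_self_of_orderOf_two {z : G} (hz : orderOf z = 2) : z * z = 1 := by
  have := pow_orderOf_eq_one z
  rwa [hz, pow_two] at this

theorem inv_eq_of_orderOf_two {z : G} (hz : orderOf z = 2) : z⁻¹ = z :=
  inv_eq_of_mul_eq_one_right (mul_self_of_orderOf_two hz)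

theorem ne_one_of_orderOf_two {z : G} (hz : orderOf z = 2) : z ≠ 1 := by
  rintro rfl
  simp at hz

theorem orderOf_conj (g z : G) : orderOf (g * z * g⁻¹) = orderOf z := by
  have := (MulAut.conj g).orderOf_eq z
  simpa using this

theorem orderOf_eq_of_isConj {a b : G} (h : IsConj a b) : orderOf a = orderOf b := by
  obtain ⟨c, rfl⟩ := isConj_iff.mp h
  exact (orderOf_conj c a).symm

theorem orderOf_eq_two_of {x : G} (h1 : x ≠ 1) (h2 : x * x = 1) : orderOf x = 2 :=
  orderOf_eq_prime (by rwa [pow_two]) h1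

/-- An element inverting `w` inverts all its powers. -/
theorem inverts_pow {s w : G} (h : s * w * s⁻¹ = w⁻¹) (n : ℕ) :
    s * w ^ n * s⁻¹ = (w ^ n)⁻¹ := by
  rw [← conj_pow, h, inv_pow]

theorem inverts_zpow {s w : G} (h : s * w * s⁻¹ = w⁻¹) (n : ℤ) :
    s * w ^ n * s⁻¹ = (w ^ n)⁻¹ := by
  rw [← conj_zpow, h, inv_zpow]

/-- If `s` inverts `k` then `k s k⁻¹ = k ^ 2 s`. -/
theorem conj_eq_sq_mul {s k : G} (h : s * k * s⁻¹ = k⁻¹) : k * s * k⁻¹ = k ^ 2 * s := by
  have : s * k⁻¹ * s⁻¹ = k := by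
    have h2 : s * k⁻¹ * s⁻¹ = (s * k * s⁻¹)⁻¹ := by group
    rw [h2, h, inv_inv]
  calc k * s * k⁻¹ = k * (s * k⁻¹ * s⁻¹) * s := by group
    _ = k ^ 2 * s := by rw [this, pow_two]

theorem inverts_mul_left {s t : G} (hs : s * s = 1) (ht : t * t = 1) :
    s * (s * t) * s⁻¹ = (s * t)⁻¹ := by
  have hs' : s⁻¹ = s := inv_eq_of_mul_eq_one_right hs
  have ht' : t⁻¹ = t := inv_eq_of_mul_eq_one_right ht
  rw [mul_inv_rev, hs', ht', ← mul_assoc, hs, one_mul]

theorem inverts_mul_right {s t : G} (hs : s * s = 1) (ht : t * t = 1) :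
    t * (s * t) * t⁻¹ = (s * t)⁻¹ := by
  have hs' : s⁻¹ = s := inv_eq_of_mul_eq_one_right hs
  have ht' : t⁻¹ = t := inv_eq_of_mul_eq_one_right ht
  rw [mul_inv_rev, hs', ht', mul_assoc, mul_assoc, ht, mul_one]

/-- Two elements of odd order with the same square are equal. -/
theorem eq_of_sq_eq {a b : G} (ha : Odd (orderOf a)) (hb : Odd (orderOf b))
    (h : a ^ 2 = b ^ 2) : a = b := by
  obtain ⟨m, hm⟩ := ha.mul hb
  have h1 : a ^ (2 * m + 1) = 1 := by
    rw [← hm, pow_mul, pow_orderOf_eq_one, one_pow]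
  have h2 : b ^ (2 * m + 1) = 1 := by
    rw [← hm, mul_comm, pow_mul, pow_orderOf_eq_one, one_pow]
  have e1 : a = (a ^ 2) ^ (m + 1) := by
    rw [← pow_mul, show 2 * (m + 1) = (2 * m + 1) + 1 by ring, pow_succ, h1, one_mul]
  have e2 : b = (b ^ 2) ^ (m + 1) := by
    rw [← pow_mul, show 2 * (m + 1) = (2 * m + 1) + 1 by ring, pow_succ, h2, one_mul]
  rw [e1, e2, h]

/-- An element of odd order with square one is trivial. -/
theorem eq_one_of_odd_of_sq {a : G} (ha : Odd (orderOf a)) (h : a * a = 1) : a = 1 :=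
  eq_of_sq_eq ha (by simp) (by rw [pow_two, h]; simp)

theorem odd_orderOf_pow {a : G} (ha : Odd (orderOf a)) (n : ℕ) : Odd (orderOf (a ^ n)) :=
  Odd.of_dvd_nat ha (orderOf_pow_dvd n)

/-- An element of odd order has a square root among its powers. -/
theorem exists_pow_sq_eq {a : G} (ha : Odd (orderOf a)) : ∃ n : ℕ, (a ^ n) ^ 2 = a := by
  obtain ⟨m, hm⟩ := ha
  refine ⟨m + 1, ?_⟩
  rw [← pow_mul, show (m + 1) * 2 = (2 * m + 1) + 1 by ring, pow_succ, ← hm, pow_orderOf_eq_one,
    one_mul]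

/-- If `s`, `t` square to one and `t s` has odd order then `t = k s k⁻¹` for a power `k` of
`t s`. -/
theorem exists_pow_conj_of_odd {s t : G} (hs : s * s = 1) (ht : t * t = 1)
    (h : Odd (orderOf (t * s))) : ∃ n : ℕ, (t * s) ^ n * s * ((t * s) ^ n)⁻¹ = t := by
  obtain ⟨n, hn⟩ := exists_pow_sq_eq h
  refine ⟨n, ?_⟩
  rw [conj_eq_sq_mul (inverts_pow (inverts_mul_right ht hs) n), hn, mul_assoc, hs, mul_one]

/-- An element of odd order inverting `w` forces `w * w = 1`. -/
theorem sq_eq_one_of_odd_inverts {v w : G} (hv : Odd (orderOf v)) (h : v * w * v⁻¹ = w⁻¹) :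
    w * w = 1 := by
  obtain ⟨m, hm⟩ := hv
  have h2 : v ^ 2 * w * (v ^ 2)⁻¹ = w := by
    have : v * w⁻¹ * v⁻¹ = w := by
      have h2 : v * w⁻¹ * v⁻¹ = (v * w * v⁻¹)⁻¹ := by group
      rw [h2, h, inv_inv]
    calc v ^ 2 * w * (v ^ 2)⁻¹ = v * (v * w * v⁻¹) * v⁻¹ := by rw [pow_two]; group
      _ = w := by rw [h, this]
  have hc : Commute (v ^ 2) w := by
    rw [Commute, SemiconjBy]
    exact mul_inv_eq_iff_eq_mul.mp h2
  have hv : v = ((v ^ 2) ^ (m + 1)) := by
    rw [← pow_mul, show 2 * (m + 1) = (2 * m + 1) + 1 by ring, pow_succ, ← hm, pow_orderOf_eq_one,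
      one_mul]
  have hc2 : Commute v w := by
    rw [hv]
    exact hc.pow_left _
  have : w = w⁻¹ := by
    rw [← h, hc2.eq, mul_inv_cancel_right]
  nth_rewrite 2 [this]
  exact mul_inv_cancel w

section Isolated

variable {z : G}

theorem isol_mul_self (hz : IsIsolatedInvolution z) : z * z = 1 := mul_self_of_orderOf_two hz.1

theorem isol_inv (hz : IsIsolatedInvolution z) : z⁻¹ = z := inv_eq_of_orderOf_two hz.1

theorem conj_mul_self (hz : IsIsolatedInvolution z) {a : G} (ha : IsConj z a) : a * a = 1 :=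
  mul_self_of_orderOf_two (orderOf_eq_of_isConj ha ▸ hz.1)

/-- Two commuting conjugates of an isolated involution are equal. -/
theorem eq_of_commute (hz : IsIsolatedInvolution z) {a b : G} (ha : IsConj z a) (hb : IsConj z b)
    (h : Commute a b) : a = b := by
  obtain ⟨c, rfl⟩ := isConj_iff.mp ha
  obtain ⟨d, rfl⟩ := isConj_iff.mp hb
  have h1 : Commute z ((c⁻¹ * d) * z * (c⁻¹ * d)⁻¹) := by
    have := h.map (MulAut.conj c⁻¹)
    simp only [MulAut.conj_apply] at this
    convert this using 1 <;> group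
  have h2 := hz.2 _ h1
  calc c * z * c⁻¹ = c * ((c⁻¹ * d) * z * (c⁻¹ * d)⁻¹) * c⁻¹ := by rw [h2]
    _ = d * z * d⁻¹ := by group

/-- A conjugate of an isolated involution is isolated. -/
theorem isol_of_isConj (hz : IsIsolatedInvolution z) {a : G} (ha : IsConj z a) :
    IsIsolatedInvolution a :=
  ⟨orderOf_eq_of_isConj ha ▸ hz.1, fun g hg =>
    (eq_of_commute hz ha (ha.trans (isConj_iff.mpr ⟨g, rfl⟩)) hg).symm⟩

/-- An isolated involution is isolated in every subgroup containing it. -/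
theorem isol_subgroup (hz : IsIsolatedInvolution z) {H : Subgroup G} (hH : z ∈ H) :
    IsIsolatedInvolution (⟨z, hH⟩ : H) := by
  refine ⟨by rw [← hz.1]; exact (Subgroup.orderOf_mk z hH), fun g hg => ?_⟩
  apply Subtype.ext
  apply hz.2
  have := hg.map H.subtype
  simpa using this

variable [Finite G]

/-- The product of two conjugates of an isolated involution has odd order. -/
theorem odd_orderOf_mul (hz : IsIsolatedInvolution z) {a b : G} (ha : IsConj z a)
    (hb : IsConj z b) : Odd (orderOf (a * b)) := by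
  by_contra hodd
  rw [Nat.not_odd_iff_even] at hodd
  obtain ⟨m, hm⟩ := hodd
  have ha2 := conj_mul_self hz ha
  have hb2 := conj_mul_self hz hb
  set w := a * b with hw
  have hpos : 0 < orderOf w := orderOf_pos w
  have hmpos : 0 < m := by omega
  have hu1 : w ^ m ≠ 1 := pow_ne_one_of_lt_orderOf (by omega) (by omega)
  have hu2 : w ^ m * w ^ m = 1 := by rw [← pow_add, ← hm, pow_orderOf_eq_one]
  have hinv : b * w * b⁻¹ = w⁻¹ := inverts_mul_right ha2 hb2
  have hinva : a * w * a⁻¹ = w⁻¹ := inverts_mul_left ha2 hb2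
  have hcomm : Commute b (w ^ m) := by
    have := inverts_pow hinv m
    rw [inv_eq_of_mul_eq_one_right hu2] at this
    exact mul_inv_eq_iff_eq_mul.mp this
  -- `w ^ m * b` is conjugate to `a` or `b`
  have hconj : IsConj z (w ^ m * b) := by
    rcases Nat.even_or_odd' m with ⟨j, rfl | rfl⟩
    · refine hb.trans (isConj_iff.mpr ⟨w ^ j, ?_⟩)
      rw [conj_eq_sq_mul (inverts_pow hinv j), ← pow_mul, mul_comm j 2]
    · refine ha.trans (isConj_iff.mpr ⟨w ^ j, ?_⟩)
      rw [conj_eq_sq_mul (inverts_pow hinva j), ← pow_mul, mul_comm j 2, pow_succ, mul_assoc,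
        hw, mul_assoc a b b, hb2, mul_one]
  have := eq_of_commute hz hb hconj (hcomm.mul_right (Commute.refl b))
  apply hu1
  exact (mul_eq_right.mp this.symm)

/-- Two conjugates `a`, `b` of an isolated involution are conjugate by a power of `b a`. -/
theorem exists_pow_conj (hz : IsIsolatedInvolution z) {a b : G} (ha : IsConj z a)
    (hb : IsConj z b) : ∃ n : ℕ, (b * a) ^ n * a * ((b * a) ^ n)⁻¹ = b :=
  exists_pow_conj_of_odd (conj_mul_self hz ha) (conj_mul_self hz hb) (odd_orderOf_mul hz hb ha)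

/-- Two conjugates `a`, `b` of an isolated involution are conjugate by an element of odd order,
inverted by `a`, lying in every subgroup that contains `b a`. -/
theorem exists_conj (hz : IsIsolatedInvolution z) {a b : G} (ha : IsConj z a)
    (hb : IsConj z b) : ∃ k : G, k * a * k⁻¹ = b ∧ Odd (orderOf k) ∧ a * k * a⁻¹ = k⁻¹ ∧
      ∀ H : Subgroup G, b * a ∈ H → k ∈ H := by
  obtain ⟨n, hn⟩ := exists_pow_conj hz ha hb
  exact ⟨_, hn, odd_orderOf_pow (odd_orderOf_mul hz hb ha) n,
    inverts_pow (inverts_mul_right (conj_mul_self hz hb) (conj_mul_self hz ha)) n,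
    fun H hH => H.pow_mem hH n⟩

/-- Conjugates of an isolated involution inside a subgroup are conjugate in the subgroup. -/
theorem exists_conj_mem (hz : IsIsolatedInvolution z) {a b : G} (ha : IsConj z a)
    (hb : IsConj z b) {H : Subgroup G} (haH : a ∈ H) (hbH : b ∈ H) :
    ∃ h ∈ H, h * a * h⁻¹ = b := by
  obtain ⟨k, hk, -, -, hH⟩ := exists_conj hz ha hb
  exact ⟨k, hH H (H.mul_mem hbH haH), hk⟩

/-- Every element `g` of a `z`-invariant subgroup `H` is `k c` with `k ∈ H` of odd order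
inverted by `z` and `c ∈ H` centralizing `z`. -/
theorem exists_inverted_mul (hz : IsIsolatedInvolution z) {H : Subgroup G}
    (hzH : z ∈ Subgroup.normalizer (H : Set G)) {g : G} (hg : g ∈ H) :
    ∃ k ∈ H, ∃ c ∈ H, Odd (orderOf k) ∧ z * k * z⁻¹ = k⁻¹ ∧ Commute c z ∧ g = k * c := by
  obtain ⟨k, hk, hodd, hinv, hH⟩ := exists_conj hz (IsConj.refl z)
    (isConj_iff.mpr ⟨g, rfl⟩ : IsConj z (g * z * g⁻¹))
  have hkH : k ∈ H := by
    apply hH
    have h1 : z * g⁻¹ * z⁻¹ ∈ H := (Subgroup.mem_normalizer_iff.mp hzH g⁻¹).mp (H.inv_mem hg)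
    have : g * z * g⁻¹ * z = g * (z * g⁻¹ * z⁻¹) := by rw [isol_inv hz]; group
    rw [this]
    exact H.mul_mem hg h1
  refine ⟨k, hkH, k⁻¹ * g, H.mul_mem (H.inv_mem hkH) hg, hodd, hinv, ?_, by group⟩
  rw [Commute, SemiconjBy]
  calc k⁻¹ * g * z = k⁻¹ * (g * z * g⁻¹) * g := by group
    _ = z * (k⁻¹ * g) := by rw [← hk]; group

/-- `C_G(z)` controls the fusion in `C_H(z)` for `z`-invariant `H`. -/
theorem exists_commute_conj (hz : IsIsolatedInvolution z) {H : Subgroup G}
    (hzH : z ∈ Subgroup.normalizer (H : Set G)) {x y h : G} (hxz : Commute x z)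
    (hyz : Commute y z) (hh : h ∈ H) (hconj : h * x * h⁻¹ = y) :
    ∃ c ∈ H, Commute c z ∧ c * x * c⁻¹ = y := by
  obtain ⟨k, hk, -, -, hH⟩ := exists_conj hz (IsConj.refl z)
    (isConj_iff.mpr ⟨h⁻¹, rfl⟩ : IsConj z (h⁻¹ * z * h⁻¹⁻¹))
  have hkH : k ∈ H := by
    apply hH
    have h1 : z * h * z⁻¹ ∈ H := (Subgroup.mem_normalizer_iff.mp hzH h).mp hh
    have : h⁻¹ * z * h⁻¹⁻¹ * z = h⁻¹ * (z * h * z⁻¹) := by rw [isol_inv hz]; group
    rw [this]
    exact H.mul_mem (H.inv_mem hh) h1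
  have hkx : k ∈ Subgroup.centralizer ({x} : Set G) := by
    apply hH
    apply Subgroup.mul_mem
    · rw [Subgroup.mem_centralizer_singleton_iff]
      have hx : x = h⁻¹ * y * h := by rw [← hconj]; group
      rw [hx]
      calc h⁻¹ * z * h⁻¹⁻¹ * (h⁻¹ * y * h) = h⁻¹ * (z * y) * h := by group
        _ = h⁻¹ * (y * z) * h := by rw [hyz.eq]
        _ = _ := by group
    · rw [Subgroup.mem_centralizer_singleton_iff]
      exact hxz.eq.symm
  rw [Subgroup.mem_centralizer_singleton_iff] at hkx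
  refine ⟨h * k, H.mul_mem hh hkH, ?_, ?_⟩
  · rw [Commute, SemiconjBy]
    calc h * k * z = h * (k * z * k⁻¹) * k := by group
      _ = z * (h * k) := by rw [hk]; group
  · calc h * k * x * (h * k)⁻¹ = h * (k * x) * k⁻¹ * h⁻¹ := by group
      _ = y := by rw [hkx, ← hconj]; group

omit [Finite G] in
/-- An inverted element of odd order is determined by the conjugate of `z` it produces. -/
theorem inverted_unique {k l : G} (hk : Odd (orderOf k)) (hl : Odd (orderOf l))
    (hzk : z * k * z⁻¹ = k⁻¹) (hzl : z * l * z⁻¹ = l⁻¹) (h : k * z * k⁻¹ = l * z * l⁻¹) :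
    k = l := by
  rw [conj_eq_sq_mul hzk, conj_eq_sq_mul hzl] at h
  exact eq_of_sq_eq hk hl (mul_right_cancel h)

/-- The image of an isolated involution under a surjective homomorphism is trivial or
isolated. -/
theorem isol_map (hz : IsIsolatedInvolution z) {G' : Type*} [Group G'] (f : G →* G')
    (hf : Function.Surjective f) (h1 : f z ≠ 1) : IsIsolatedInvolution (f z) := by
  have h2 : f z * f z = 1 := by rw [← map_mul, isol_mul_self hz, map_one]
  refine ⟨orderOf_eq_two_of h1 h2, fun g hg => ?_⟩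
  obtain ⟨g, rfl⟩ := hf g
  have hodd := odd_orderOf_mul hz (isConj_iff.mpr ⟨g, rfl⟩ : IsConj z (g * z * g⁻¹))
    (IsConj.refl z)
  have hodd' : Odd (orderOf (f (g * z * g⁻¹ * z))) := Odd.of_dvd_nat hodd (orderOf_map_dvd f _)
  have h3 : f g * f z * (f g)⁻¹ * (f g * f z * (f g)⁻¹) = 1 := by
    calc _ = f g * (f z * f z) * (f g)⁻¹ := by group
      _ = 1 := by rw [h2]; group
  have := eq_one_of_odd_of_sq hodd' (by
    simp only [map_mul, map_inv]
    calc _ = f g * f z * (f g)⁻¹ * (f z * (f g * f z * (f g)⁻¹)) * f z := by group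
      _ = f g * f z * (f g)⁻¹ * (f g * f z * (f g)⁻¹) * (f z * f z) := by rw [hg.eq]; group
      _ = 1 := by rw [h3, h2, one_mul])
  simp only [map_mul, map_inv] at this
  rw [eq_inv_of_mul_eq_one_left this]
  exact inv_eq_of_mul_eq_one_right h2

/-- The centralizer of the image of an isolated involution is the image of the centralizer. -/
theorem exists_commute_of_map (hz : IsIsolatedInvolution z) {G' : Type*} [Group G'] (f : G →* G')
    {g : G} (hg : Commute (f g) (f z)) : ∃ c : G, Commute c z ∧ f c = f g := by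
  obtain ⟨k, hk, -, -, hH⟩ := exists_conj hz (IsConj.refl z)
    (isConj_iff.mpr ⟨g, rfl⟩ : IsConj z (g * z * g⁻¹))
  have hkK : k ∈ f.ker := by
    apply hH
    rw [MonoidHom.mem_ker]
    simp only [map_mul, map_inv]
    rw [hg.eq, mul_inv_cancel_right, ← map_mul, isol_mul_self hz, map_one]
  refine ⟨k⁻¹ * g, ?_, ?_⟩
  · rw [Commute, SemiconjBy]
    calc k⁻¹ * g * z = k⁻¹ * (g * z * g⁻¹) * g := by group
      _ = z * (k⁻¹ * g) := by rw [← hk]; group
  · rw [map_mul, map_inv, MonoidHom.mem_ker.mp hkK, inv_one, one_mul]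

end Isolated

end CL.Isol
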