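import Cfsg.Agent.TwoFus.Isol

/-!
# Isolated involutions: counting
-/

set_option autoImplicit false

namespace CL.Isol

open Cfsg

variable {G : Type*} [Group G] [Finite G] {z : G}

/-- If a conjugate `a` of an isolated involution commutes with the product of two conjugates
`s`, `t` then `s = t`. -/
theorem eq_of_commute_mul (hz : IsIsolatedInvolution z) {a s t : G} (ha : IsConj z a)
    (hs : IsConj z s) (ht : IsConj z t) (hc : Commute a (s * t)) : s = t := by
  have hs2 := conj_mul_self hz hs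
  have ht2 := conj_mul_self hz ht
  have hinv : (s * a) * (s * t) * (s * a)⁻¹ = (s * t)⁻¹ := by
    calc (s * a) * (s * t) * (s * a)⁻¹ = s * (a * (s * t) * a⁻¹) * s⁻¹ := by group
      _ = s * (s * t) * s⁻¹ := by rw [hc.eq, mul_inv_cancel_right]
      _ = _ := inverts_mul_left hs2 ht2
  have h1 := sq_eq_one_of_odd_inverts (odd_orderOf_mul hz hs ha) hinv
  have h2 := eq_one_of_odd_of_sq (odd_orderOf_mul hz hs ht) h1
  rw [eq_inv_of_mul_eq_one_left h2]
  exact inv_eq_of_mul_eq_one_right ht2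

/-- For a conjugate `a` of the isolated involution `z` and `s` with `s * s = 1` there is a
conjugate `b` of `z`, centralizing `s`, such that `a` centralizes `s * b`; moreover `s * b` is a
power of `a * s` and `b` is conjugate to `a` by a power of `a * s`. -/
theorem exists_conj_commute (hz : IsIsolatedInvolution z) {a s : G} (ha : IsConj z a)
    (hs : s * s = 1) : ∃ b : G, IsConj z b ∧ Commute b s ∧ Commute a (s * b) ∧
      ∃ n : ℕ, Odd n ∧ s * b = (a * s) ^ n ∧ (a * s) ^ (2 * n) = 1 := by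
  have ha2 := conj_mul_self hz ha
  have hs' : s⁻¹ = s := inv_eq_of_mul_eq_one_right hs
  have hodd := odd_orderOf_mul hz ha (ha.trans (isConj_iff.mpr ⟨s, rfl⟩ : IsConj a (s * a * s⁻¹)))
  have hsq : a * (s * a * s⁻¹) = (a * s) ^ 2 := by rw [hs', pow_two]; group
  rw [hsq] at hodd
  obtain ⟨j, hj⟩ := hodd
  set w := a * s with hw
  have hu : w ^ (2 * j + 1) * w ^ (2 * j + 1) = 1 := by
    rw [← pow_add, ← two_mul, pow_mul, ← hj, pow_orderOf_eq_one]
  have hia : a * w * a⁻¹ = w⁻¹ := inverts_mul_left ha2 hs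
  have his : s * w * s⁻¹ = w⁻¹ := inverts_mul_right ha2 hs
  have hca : Commute a (w ^ (2 * j + 1)) := by
    have := inverts_pow hia (2 * j + 1)
    rw [inv_eq_of_mul_eq_one_right hu] at this
    exact mul_inv_eq_iff_eq_mul.mp this
  have hcs : Commute s (w ^ (2 * j + 1)) := by
    have := inverts_pow his (2 * j + 1)
    rw [inv_eq_of_mul_eq_one_right hu] at this
    exact mul_inv_eq_iff_eq_mul.mp this
  have hsb : s * (w ^ (2 * j + 1) * s) = w ^ (2 * j + 1) := by
    rw [← mul_assoc, hcs.eq, mul_assoc, hs, mul_one]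
  refine ⟨w ^ (2 * j + 1) * s, ?_, hcs.symm.mul_left (Commute.refl s), ?_, 2 * j + 1, ⟨j, rfl⟩,
    hsb, ?_⟩
  · refine ha.trans (isConj_iff.mpr ⟨w ^ j, ?_⟩)
    rw [conj_eq_sq_mul (inverts_pow hia j), ← pow_mul, mul_comm j 2, pow_succ, mul_assoc,
      hw, mul_assoc a s s, hs, mul_one]
  · rw [hsb]; exact hca
  · rw [two_mul, pow_add, hu]

/-- `|H| = |K ∩ H| · |C_H(z)|` for a `z`-invariant subgroup `H`. -/
theorem card_eq_card_inverted_mul (hz : IsIsolatedInvolution z) {H : Subgroup G}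
    (hzH : z ∈ Subgroup.normalizer (H : Set G)) :
    Nat.card H = Nat.card {k : G // k ∈ H ∧ Odd (orderOf k) ∧ z * k * z⁻¹ = k⁻¹} *
      Nat.card ↥(H ⊓ Subgroup.centralizer ({z} : Set G)) := by
  rw [← Nat.card_prod]
  symm
  apply Nat.card_eq_of_bijective
    (fun x => (⟨x.1.1 * x.2.1, H.mul_mem x.1.2.1 x.2.2.1⟩ : H))
  constructor
  · rintro ⟨⟨k, hkH, hk, hzk⟩, ⟨c, hcH, hc⟩⟩ ⟨⟨l, hlH, hl, hzl⟩, ⟨d, hdH, hd⟩⟩ h
    have h : k * c = l * d := congrArg Subtype.val h
    have hc' : c * z = z * c := Subgroup.mem_centralizer_singleton_iff.mp hc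
    have hd' : d * z = z * d := Subgroup.mem_centralizer_singleton_iff.mp hd
    have hkl : k = l := by
      apply inverted_unique hk hl hzk hzl
      calc k * z * k⁻¹ = k * (c * z * c⁻¹) * k⁻¹ := by rw [hc', mul_inv_cancel_right]
        _ = (k * c) * z * (k * c)⁻¹ := by group
        _ = l * (d * z * d⁻¹) * l⁻¹ := by rw [h]; group
        _ = l * z * l⁻¹ := by rw [hd', mul_inv_cancel_right]
    subst hkl
    have : c = d := mul_left_cancel h
    subst this
    rfl
  · rintro ⟨g, hg⟩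
    obtain ⟨k, hkH, c, hcH, hodd, hinv, hc, rfl⟩ := exists_inverted_mul hz hzH hg
    exact ⟨⟨⟨k, hkH, hodd, hinv⟩, ⟨c, hcH, Subgroup.mem_centralizer_singleton_iff.mpr hc.eq⟩⟩, rfl⟩

/-- The order formula `|G| = |C| · |C_K(s z)| · |C_K(s)|`. -/
theorem order_formula (hz : IsIsolatedInvolution z) {s : G} (hs : s * s = 1)
    (hsz : Commute s z) :
    Nat.card G = Nat.card (Subgroup.centralizer ({z} : Set G)) *
      Nat.card {k : G // Odd (orderOf k) ∧ z * k * z⁻¹ = k⁻¹ ∧ Commute k (s * z)} *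
      Nat.card {k : G // Odd (orderOf k) ∧ z * k * z⁻¹ = k⁻¹ ∧ Commute k s} := by
  rw [← Nat.card_prod, ← Nat.card_prod]
  symm
  have hs' : s⁻¹ = s := inv_eq_of_mul_eq_one_right hs
  apply Nat.card_eq_of_bijective (fun x => x.2.1 * x.1.2.1 * x.1.1.1)
  constructor
  · rintro ⟨⟨⟨x, hx⟩, ⟨l, hl, hzl, hlc⟩⟩, ⟨c, hc, hzc, hcc⟩⟩
      ⟨⟨⟨x', hx'⟩, ⟨l', hl', hzl', hlc'⟩⟩, ⟨c', hc', hzc', hcc'⟩⟩ h
    have h : c * l * x = c' * l' * x' := h
    have hxz : x * z = z * x := Subgroup.mem_centralizer_singleton_iff.mp hx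
    have hxz' : x' * z = z * x' := Subgroup.mem_centralizer_singleton_iff.mp hx'
    have ha : c * (l * z * l⁻¹) * c⁻¹ = c' * (l' * z * l'⁻¹) * c'⁻¹ := by
      calc c * (l * z * l⁻¹) * c⁻¹ = c * l * (x * z * x⁻¹) * (c * l)⁻¹ := by
            rw [hxz, mul_inv_cancel_right]; group
        _ = (c * l * x) * z * (c * l * x)⁻¹ := by group
        _ = c' * l' * (x' * z * x'⁻¹) * (c' * l')⁻¹ := by rw [h]; group
        _ = _ := by rw [hxz', mul_inv_cancel_right]; group
    have key : ∀ {c l : G}, Commute l (s * z) → Commute c s →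
        Commute (c * (l * z * l⁻¹) * c⁻¹) (s * (c * z * c⁻¹)) := by
      intro c l hl hc
      have h1 : Commute (l * z * l⁻¹) (s * z) :=
        (hl.mul_left (hsz.symm.mul_right (Commute.refl z))).mul_left hl.inv_left
      have h2 := h1.map (MulAut.conj c)
      simp only [MulAut.conj_apply] at h2
      have e : s * (c * z * c⁻¹) = c * (s * z) * c⁻¹ := by
        calc s * (c * z * c⁻¹) = (s * c) * z * c⁻¹ := by group
          _ = _ := by rw [← hc.eq]; group
      rw [e]; exact h2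
    have h1 := key hlc hcc
    have h2 := key hlc' hcc'
    rw [← ha] at h2
    have h3 := h1.inv_right.mul_right h2
    have e : (s * (c * z * c⁻¹))⁻¹ * (s * (c' * z * c'⁻¹)) = (c * z * c⁻¹) * (c' * z * c'⁻¹) := by
      rw [mul_inv_rev, mul_inv_rev, mul_inv_rev, isol_inv hz]; group
    rw [e] at h3
    have h4 := eq_of_commute_mul hz
      (isConj_iff.mpr ⟨c * l, by group⟩ : IsConj z (c * (l * z * l⁻¹) * c⁻¹))
      (isConj_iff.mpr ⟨c, rfl⟩) (isConj_iff.mpr ⟨c', rfl⟩) h3
    have hcc : c = c' := inverted_unique hc hc' hzc hzc' h4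
    subst hcc
    have hll : l = l' := inverted_unique hl hl' hzl hzl' (mul_left_cancel (mul_right_cancel ha))
    subst hll
    have : x = x' := mul_left_cancel h
    subst this
    rfl
  · intro g
    have ha : IsConj z (g * z * g⁻¹) := isConj_iff.mpr ⟨g, rfl⟩
    obtain ⟨b, hb, hbs, hab, -⟩ := exists_conj_commute hz ha hs
    obtain ⟨c, hcb, hc, hzc, hcH⟩ := exists_conj hz (IsConj.refl z) hb
    have hcs : Commute c s := Subgroup.mem_centralizer_singleton_iff.mp
      (hcH (Subgroup.centralizer ({s} : Set G)) (Subgroup.mem_centralizer_singleton_iff.mpr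
        (hbs.mul_left hsz.symm).eq))
    have ha' : IsConj z (c⁻¹ * (g * z * g⁻¹) * c) := isConj_iff.mpr ⟨c⁻¹ * g, by group⟩
    obtain ⟨l, hla, hl, hzl, hlH⟩ := exists_conj hz (IsConj.refl z) ha'
    have hls : Commute l (s * z) := by
      apply Subgroup.mem_centralizer_singleton_iff.mp
      apply hlH (Subgroup.centralizer ({s * z} : Set G))
      apply Subgroup.mem_centralizer_singleton_iff.mpr
      refine (Commute.mul_left ?_ (hsz.symm.mul_right (Commute.refl z))).eq
      have h2 := hab.map (MulAut.conj c⁻¹)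
      simp only [MulAut.conj_apply, inv_inv] at h2
      have e : s * z = c⁻¹ * (s * b) * c := by
        rw [← hcb]
        calc s * z = c⁻¹ * (c * s) * z := by group
          _ = _ := by rw [hcs.eq]; group
      rw [e]; exact h2
    refine ⟨⟨⟨⟨(c * l)⁻¹ * g, ?_⟩, ⟨l, hl, hzl, hls⟩⟩, ⟨c, hc, hzc, hcs⟩⟩,
      mul_inv_cancel_left _ _⟩
    rw [Subgroup.mem_centralizer_singleton_iff]
    calc (c * l)⁻¹ * g * z = l⁻¹ * (c⁻¹ * (g * z * g⁻¹) * c) * c⁻¹ * g := by group
      _ = _ := by rw [← hla]; group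

/-- The centralizer of an isolated involution contains every `2`-subgroup containing it. -/
theorem commute_of_isPGroup (hz : IsIsolatedInvolution z) {S : Subgroup G} (hS : IsPGroup 2 S)
    (hzS : z ∈ Subgroup.normalizer (S : Set G)) {x : G} (hx : x ∈ S) : Commute x z := by
  obtain ⟨k, hkS, c, -, hodd, -, hc, rfl⟩ := exists_inverted_mul hz hzS hx
  obtain ⟨n, hn⟩ := hS ⟨k, hkS⟩
  have h1 : orderOf k ∣ 2 ^ n := orderOf_dvd_of_pow_eq_one (congrArg Subtype.val hn)
  have h2 : orderOf k = 1 :=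
    Nat.Coprime.eq_one_of_dvd (Nat.Coprime.pow_right n hodd.coprime_two_right) h1
  rw [orderOf_eq_one_iff.mp h2, one_mul]
  exact hc

/-- The centralizer of an isolated involution has odd index. -/
theorem odd_index_centralizer (hz : IsIsolatedInvolution z) :
    Odd (Subgroup.centralizer ({z} : Set G)).index := by
  have hp : IsPGroup 2 (Subgroup.zpowers z) :=
    IsPGroup.of_card (n := 1) (by rw [Nat.card_zpowers, hz.1, pow_one])
  obtain ⟨S, hS⟩ := hp.exists_le_sylow
  have hle : (S : Subgroup G) ≤ Subgroup.centralizer ({z} : Set G) := fun x hx =>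
    Subgroup.mem_centralizer_singleton_iff.mpr (commute_of_isPGroup hz S.2
      (Subgroup.le_normalizer (hS (Subgroup.mem_zpowers z))) hx).eq
  have h1 := Subgroup.index_dvd_of_le hle
  have h2 : ¬ 2 ∣ (S : Subgroup G).index := S.not_dvd_index
  rw [← Nat.not_even_iff_odd, even_iff_two_dvd]
  exact fun h => h2 (h.trans h1)

end CL.Isol
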