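import Cfsg.Agent.TwoFus.Isol2
import Cfsg.Agent.TwoFus.StrClosed
import Cfsg.Agent.Solv.Coprime
import Cfsg.Agent.S0225

/-!
# Isolated involutions normalize Sylow subgroups
-/

set_option autoImplicit false

namespace CL.Isol

open Cfsg

universe u

theorem exists_elem_of_invariant {G : Type*} [Group G] [Finite G] {z : G} (hz : z * z = 1)
    {p : ℕ} [hp : Fact p.Prime] {R : Subgroup G} (hR : IsPGroup p R) (hR1 : R ≠ ⊥)
    (hzR : z ∈ Subgroup.normalizer (R : Set G)) :
    ∃ x ∈ R, x ≠ 1 ∧ x ^ p = 1 ∧ (z * x * z⁻¹ = x ∨ z * x * z⁻¹ = x⁻¹) := by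
  have key : ∀ y ∈ R, y ≠ 1 → ∃ n : ℕ, y ^ n ≠ 1 ∧ (y ^ n) ^ p = 1 := by
    intro y hy hy1
    obtain ⟨k, hk⟩ := hR ⟨y, hy⟩
    have hk : y ^ p ^ k = 1 := congrArg Subtype.val hk
    obtain ⟨j, -, hj⟩ := (Nat.dvd_prime_pow hp.out).mp (orderOf_dvd_of_pow_eq_one hk)
    rcases j with _ | j
    · exact absurd (orderOf_eq_one_iff.mp hj) hy1
    · refine ⟨p ^ j, pow_ne_one_of_lt_orderOf (pow_ne_zero _ hp.out.ne_zero) ?_, ?_⟩
      · rw [hj]; exact Nat.pow_lt_pow_right hp.out.one_lt (Nat.lt_succ_self j)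
      · rw [← pow_mul, ← pow_succ, ← hj, pow_orderOf_eq_one]
  obtain ⟨y, hy, hy1⟩ := (Subgroup.bot_or_exists_ne_one R).resolve_left hR1
  have hz' : z⁻¹ = z := inv_eq_of_mul_eq_one_right hz
  by_cases hc : z * y * z⁻¹ = y
  · obtain ⟨n, h1, h2⟩ := key y hy hy1
    exact ⟨y ^ n, R.pow_mem hy n, h1, h2, Or.inl (by rw [← conj_pow, hc])⟩
  · have hk : z * y * z⁻¹ * y⁻¹ ∈ R :=
      R.mul_mem ((Subgroup.mem_normalizer_iff.mp hzR y).mp hy) (R.inv_mem hy)
    obtain ⟨n, h1, h2⟩ := key _ hk (fun h => hc (mul_inv_eq_one.mp h))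
    refine ⟨_, R.pow_mem hk n, h1, h2, Or.inr (inverts_pow ?_ n)⟩
    rw [hz']
    calc z * (z * y * z * y⁻¹) * z = (z * z) * y * z * y⁻¹ * z := by group
      _ = y * z⁻¹ * y⁻¹ * z⁻¹ := by rw [hz, hz', one_mul]
      _ = _ := by group

theorem exists_elem_of_dvd_card_aux {p : ℕ} [hp : Fact p.Prime] (hp2 : p ≠ 2) (n : ℕ) :
    ∀ (G : Type u) [Group G] [Finite G], Nat.card G = n → ∀ z : G, IsIsolatedInvolution z →
      p ∣ Nat.card G → ∃ x : G, x ≠ 1 ∧ x ^ p = 1 ∧ (z * x * z⁻¹ = x ∨ z * x * z⁻¹ = x⁻¹) := by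
  induction n using Nat.strong_induction_on with
  | _ n ih =>
  intro G _ _ hn z hz hpG
  set C := Subgroup.centralizer ({z} : Set G) with hC
  by_cases hpC : p ∣ Nat.card C
  · obtain ⟨x, hx⟩ := exists_prime_orderOf_dvd_card' p hpC
    refine ⟨x, ?_, ?_, Or.inl ?_⟩
    · intro h
      have : x = 1 := Subtype.ext h
      rw [this, orderOf_one] at hx
      exact hp.out.one_lt.ne hx
    · have := pow_orderOf_eq_one x
      rw [hx] at this
      exact congrArg Subtype.val this
    · have := Subgroup.mem_centralizer_singleton_iff.mp x.2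
      rw [← this, mul_inv_cancel_right]
  have hpodd : Odd p := hp.out.odd_of_ne_two hp2
  by_cases hs : ∃ s : G, s * s = 1 ∧ s ≠ 1 ∧ s ≠ z ∧ Commute s z
  · -- a second involution: use the order formula
    obtain ⟨s, hs2, hs1, hsz, hc⟩ := hs
    have ht : ∃ t : G, t * t = 1 ∧ t ≠ 1 ∧ t ≠ z ∧ Commute t z ∧
        p ∣ Nat.card {k : G // Odd (orderOf k) ∧ z * k * z⁻¹ = k⁻¹ ∧ Commute k t} := by
      rw [order_formula hz hs2 hc] at hpG
      rcases (Nat.Prime.dvd_mul hp.out).mp hpG with h | h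
      · rcases (Nat.Prime.dvd_mul hp.out).mp h with h | h
        · exact absurd h hpC
        · refine ⟨s * z, ?_, ?_, ?_, hc.mul_left (Commute.refl z), h⟩
          · calc s * z * (s * z) = s * (z * s) * z := by group
              _ = (s * s) * (z * z) := by rw [← hc.eq]; group
              _ = 1 := by rw [hs2, isol_mul_self hz, one_mul]
          · intro h1
            apply hsz
            rw [eq_inv_of_mul_eq_one_left h1, isol_inv hz]
          · intro h1
            exact hs1 (mul_eq_right.mp h1)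
      · exact ⟨s, hs2, hs1, hsz, hc, h⟩
    obtain ⟨t, ht2, ht1, htz, hct, hpt⟩ := ht
    set H := Subgroup.centralizer ({t} : Set G) with hH
    have hzH : z ∈ H := Subgroup.mem_centralizer_singleton_iff.mpr hct.symm.eq
    have hpH : p ∣ Nat.card H := by
      rw [card_eq_card_inverted_mul hz (Subgroup.le_normalizer hzH)]
      apply Dvd.dvd.mul_right
      refine hpt.trans (dvd_of_eq (Eq.symm ?_))
      apply Nat.card_congr
      apply Equiv.subtypeEquivRight
      intro k
      rw [hH, Subgroup.mem_centralizer_singleton_iff]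
      exact ⟨fun h => ⟨h.2.1, h.2.2, h.1⟩, fun h => ⟨h.2.2, h.1, h.2.1⟩⟩
    by_cases htop : H = ⊤
    · have hcent : ∀ g : G, g * t = t * g := fun g =>
        Subgroup.mem_centralizer_singleton_iff.mp (htop ▸ Subgroup.mem_top g : g ∈ H)
      have hmem : ∀ y ∈ Subgroup.zpowers t, y = 1 ∨ y = t := by
        classical
        intro y hy
        have h2 := orderOf_eq_two_of ht1 ht2
        rw [mem_zpowers_iff_mem_range_orderOf, h2] at hy
        simp only [Finset.mem_image, Finset.mem_range] at hy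
        obtain ⟨j, hj, rfl⟩ := hy
        interval_cases j <;> simp
      set N := Subgroup.zpowers t with hN
      have hNn : N.Normal := ⟨fun y hy g => by
        rcases hmem y hy with rfl | rfl
        · simp
        · rw [hcent, mul_inv_cancel_right]; exact hy⟩
      have hcardN : Nat.card N = 2 := by rw [Nat.card_zpowers, orderOf_eq_two_of ht1 ht2]
      have hcard := Subgroup.card_eq_card_quotient_mul_card_subgroup N
      rw [hcardN] at hcard
      have hpos : 0 < Nat.card (G ⧸ N) := Nat.card_pos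
      have hzN : QuotientGroup.mk' N z ≠ 1 := by
        intro h
        rcases hmem z ((QuotientGroup.eq_one_iff z).mp h) with h | h
        · exact ne_one_of_orderOf_two hz.1 h
        · exact htz h.symm
      obtain ⟨x, hx1, hxp, hxz⟩ := ih (Nat.card (G ⧸ N)) (by omega) (G ⧸ N) rfl _
        (isol_map hz (QuotientGroup.mk' N) (QuotientGroup.mk'_surjective N) hzN) (by
          rw [hcard] at hpG
          exact ((Nat.Prime.dvd_mul hp.out).mp hpG).resolve_right
            (fun h => hp2 ((Nat.prime_dvd_prime_iff_eq hp.out Nat.prime_two).mp h)))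
      obtain ⟨x, rfl⟩ := QuotientGroup.mk'_surjective N x
      have hsq : ∀ a b : G, QuotientGroup.mk' N a = QuotientGroup.mk' N b → a ^ 2 = b ^ 2 := by
        intro a b hab
        have : a * b⁻¹ ∈ N := by
          rw [← QuotientGroup.eq_one_iff]
          change QuotientGroup.mk' N _ = 1
          rw [map_mul, map_inv, hab, mul_inv_cancel]
        rcases hmem _ this with h | h
        · rw [mul_inv_eq_one.mp h]
        · rw [mul_inv_eq_iff_eq_mul.mp h, pow_two, pow_two]
          calc t * b * (t * b) = t * (b * t) * b := by group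
            _ = (t * t) * (b * b) := by rw [hcent]; group
            _ = _ := by rw [ht2, one_mul]
      refine ⟨x ^ 2, ?_, ?_, ?_⟩
      · intro h
        apply hx1
        apply eq_one_of_odd_of_sq (Odd.of_dvd_nat hpodd (orderOf_dvd_of_pow_eq_one hxp))
        rw [← map_mul, ← pow_two, h, map_one]
      · rw [← pow_mul, mul_comm, pow_mul, hsq (x ^ p) 1 (by rw [map_pow, hxp, map_one]), one_pow]
      · rcases hxz with h | h
        · left
          rw [← conj_pow, hsq _ x (by simpa using h)]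
        · right
          rw [← conj_pow, hsq _ x⁻¹ (by simpa using h), inv_pow]
    · have hlt : Nat.card H < n := hn ▸ not_le.mp (fun h => htop (Subgroup.eq_top_of_le_card H h))
      obtain ⟨x, hx1, hxp, hxz⟩ := ih (Nat.card H) hlt H rfl _ (isol_subgroup hz hzH) hpH
      refine ⟨x, fun h => hx1 (Subtype.ext h), congrArg Subtype.val hxp, ?_⟩
      rcases hxz with h | h
      · exact Or.inl (congrArg Subtype.val h)
      · exact Or.inr (congrArg Subtype.val h)
  · -- `z` is the only involution of its centralizer: Brauer-Suzuki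
    push Not at hs
    have hp2' : IsPGroup 2 (Subgroup.zpowers z) :=
      IsPGroup.of_card (n := 1) (by rw [Nat.card_zpowers, hz.1, pow_one])
    obtain ⟨S, hS⟩ := hp2'.exists_le_sylow
    have hSz : ∀ y ∈ S, y * y = 1 → y = 1 ∨ y = z := by
      intro y hy h2
      by_contra h
      push Not at h
      exact hs y h2 h.1 h.2 (commute_of_isPGroup hz S.2
        (Subgroup.le_normalizer (hS (Subgroup.mem_zpowers z))) hy)
    have hconj : ∀ (g y : G), y * y = 1 → (g * y * g⁻¹) * (g * y * g⁻¹) = 1 := by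
      intro g y h
      calc _ = g * (y * y) * g⁻¹ := by group
        _ = 1 := by rw [h]; group
    obtain ⟨t, ht, N, hNn, hNodd, hN⟩ := Cfsg.Agent.S0225.result (G := G)
      (by rw [even_iff_two_dvd, ← hz.1]; exact orderOf_dvd_natCard z) (by
        intro E hE
        have hE2 : IsPGroup 2 E := IsPGroup.of_card (n := 2) hE.card_four
        obtain ⟨g, hg⟩ := CL.StrCl.exists_conj_le_sylow S hE2
        let f : E → ({1, z} : Set G) := fun e => ⟨g * e * g⁻¹,
          hSz _ (hg e e.2) (hconj g e (congrArg Subtype.val (IsKleinFour.mul_self e)))⟩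
        have hf : Function.Injective f := by
          intro a b hab
          have : g * a * g⁻¹ = g * b * g⁻¹ := congrArg Subtype.val hab
          exact Subtype.ext (by simpa using this)
        have h1 := Nat.card_le_card_of_injective f hf
        have h2 : Nat.card ({1, z} : Set G) = 2 :=
          Set.ncard_pair (ne_one_of_orderOf_two hz.1).symm
        rw [hE.card_four] at h1
        omega)
    obtain ⟨g, hg⟩ := CL.StrCl.exists_conj_le_sylow S
      (IsPGroup.of_card (n := 1) (by rw [Nat.card_zpowers, ht, pow_one]) :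
        IsPGroup 2 (Subgroup.zpowers t))
    have hgt : g * t * g⁻¹ = z := by
      rcases hSz _ (hg t (Subgroup.mem_zpowers t)) (hconj g t (mul_self_of_orderOf_two ht))
        with h | h
      · exact absurd (by simpa using h) (ne_one_of_orderOf_two ht)
      · exact h
    have hKN : ∀ k : G, Odd (orderOf k) → z * k * z⁻¹ = k⁻¹ → k ∈ N := by
      intro k hk hzk
      have h1 := hNn.conj_mem _ (hN (g⁻¹ * k * g)) g
      have e : g * (t * (g⁻¹ * k * g) * t⁻¹ * (g⁻¹ * k * g)⁻¹) * g⁻¹ = (k ^ 2)⁻¹ := by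
        calc _ = (g * t * g⁻¹) * k * (g * t * g⁻¹)⁻¹ * k⁻¹ := by group
          _ = _ := by rw [hgt, hzk, pow_two, mul_inv_rev]
      rw [e, inv_mem_iff] at h1
      obtain ⟨m, hm⟩ := exists_pow_sq_eq hk
      rw [← hm, ← pow_mul, mul_comm, pow_mul]
      exact N.pow_mem h1 m
    have hpN : p ∣ Nat.card N := by
      have h1 := card_eq_card_inverted_mul hz (H := ⊤) (Subgroup.le_normalizer (Subgroup.mem_top z))
      rw [Subgroup.card_top, top_inf_eq] at h1
      rw [h1] at hpG
      have h2 := ((Nat.Prime.dvd_mul hp.out).mp hpG).resolve_right hpC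
      rw [card_eq_card_inverted_mul hz (H := N) (by rw [Subgroup.normalizer_eq_top]; trivial)]
      apply Dvd.dvd.mul_right
      refine h2.trans (dvd_of_eq (Eq.symm ?_))
      apply Nat.card_congr
      apply Equiv.subtypeEquivRight
      intro k
      exact ⟨fun h => ⟨trivial, h.2⟩, fun h => ⟨hKN k h.2.1 h.2.2, h.2⟩⟩
    obtain ⟨P, -, hP, hzP⟩ := CL.coprime_exists_invariant_sylow (A := Subgroup.zpowers z) (K := N)
      (by rw [Subgroup.normalizer_eq_top]; exact le_top)
      (by rw [Nat.card_zpowers, hz.1]; exact hNodd.coprime_two_left)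
      (Or.inl inferInstance) p
    obtain ⟨x, -, hx⟩ := exists_elem_of_invariant (isol_mul_self hz) (IsPGroup.of_card hP) (by
      rintro rfl
      rw [Subgroup.card_bot] at hP
      have := (Nat.Prime.factorization_pos_of_dvd hp.out Nat.card_pos.ne' hpN)
      exact (Nat.one_lt_pow this.ne' hp.out.one_lt).ne hP) (hzP (Subgroup.mem_zpowers z))
    exact ⟨x, hx⟩

variable {G : Type*} [Group G] [Finite G] {z : G}

/-- An isolated involution centralizes or inverts an element of order `p`, for every odd prime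
divisor `p` of the group order. -/
theorem exists_elem_of_dvd_card (hz : IsIsolatedInvolution z) {p : ℕ} [Fact p.Prime]
    (hp2 : p ≠ 2) (hpG : p ∣ Nat.card G) :
    ∃ x : G, x ≠ 1 ∧ x ^ p = 1 ∧ (z * x * z⁻¹ = x ∨ z * x * z⁻¹ = x⁻¹) :=
  exists_elem_of_dvd_card_aux hp2 _ G rfl z hz hpG

/-- Maximal `z`-invariant `p`-subgroups are Sylow subgroups. -/
theorem sylow_of_maximal (hz : IsIsolatedInvolution z) {p : ℕ} [hp : Fact p.Prime]
    (Q : Subgroup G) (hQ : IsPGroup p Q) (hzQ : z ∈ Subgroup.normalizer (Q : Set G))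
    (hmax : ∀ R : Subgroup G, IsPGroup p R → z ∈ Subgroup.normalizer (R : Set G) → Q ≤ R →
      R = Q) : ∃ P : Sylow p G, (P : Subgroup G) = Q := by
  by_cases hp2 : p = 2
  · subst hp2
    have hp2' : IsPGroup 2 (Subgroup.zpowers z) :=
      IsPGroup.of_card (n := 1) (by rw [Nat.card_zpowers, hz.1, pow_one])
    obtain ⟨S, hS⟩ := (IsPGroup.to_sup_of_normal_right' hp2' hQ
      (by simpa using hzQ)).exists_le_sylow
    exact ⟨S, hmax S S.2 (Subgroup.le_normalizer (hS (Subgroup.mem_sup_left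
      (Subgroup.mem_zpowers z)))) (le_sup_right.trans hS)⟩
  obtain ⟨S, hS⟩ := hQ.exists_le_sylow
  refine ⟨S, ?_⟩
  by_contra hne
  set M := Subgroup.normalizer (Q : Set G) with hM
  have hpM : p ∣ Nat.card (M ⧸ Q.subgroupOf M) := by
    obtain ⟨k, hk⟩ := IsPGroup.iff_card.mp hQ
    apply Sylow.prime_dvd_card_quotient_normalizer _ hk
    obtain ⟨j, hj⟩ := IsPGroup.iff_card.mp S.2
    have hlt : Nat.card Q < Nat.card S := by
      by_contra h
      exact hne (Subgroup.eq_of_le_of_card_ge hS (not_lt.mp h)).symm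
    rw [hk, hj] at hlt
    have := (Nat.pow_lt_pow_iff_right hp.out.one_lt).mp hlt
    exact (pow_dvd_pow p this).trans (hj ▸ Subgroup.card_subgroup_dvd_card _)
  let f := QuotientGroup.mk' (Q.subgroupOf M)
  have hz1 : f ⟨z, hzQ⟩ ≠ 1 := by
    intro h
    have hzq : z ∈ Q := (QuotientGroup.eq_one_iff (N := Q.subgroupOf M) ⟨z, hzQ⟩).mp h
    obtain ⟨k, hk⟩ := hQ ⟨z, hzq⟩
    have h1 : orderOf z ∣ p ^ k := orderOf_dvd_of_pow_eq_one (congrArg Subtype.val hk)
    rw [hz.1] at h1
    exact hp2 ((Nat.prime_dvd_prime_iff_eq Nat.prime_two hp.out).mp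
      (Nat.prime_two.dvd_of_dvd_pow h1)).symm
  obtain ⟨x, hx1, hxp, hxz⟩ := exists_elem_of_dvd_card
    (isol_map (isol_subgroup hz hzQ) f (QuotientGroup.mk'_surjective _) hz1) hp2 hpM
  set R : Subgroup G := ((Subgroup.zpowers x).comap f).map M.subtype with hR
  have hRp : IsPGroup p R := by
    apply IsPGroup.map
    apply IsPGroup.comap_of_ker_isPGroup (CL.StrCl.isPGroup_zpowers (k := 1) (by simpa using hxp))
    rw [QuotientGroup.ker_mk']
    exact hQ.comap_subtype
  have hQR : Q ≤ R := fun q hq => ⟨⟨q, Subgroup.le_normalizer hq⟩, by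
    have : f ⟨q, Subgroup.le_normalizer hq⟩ = 1 :=
      (QuotientGroup.eq_one_iff (N := Q.subgroupOf M) _).mpr hq
    change f _ ∈ Subgroup.zpowers x
    rw [this]; exact Subgroup.one_mem _, rfl⟩
  have hzR : z ∈ Subgroup.normalizer (R : Set G) := by
    apply Subgroup.mem_normalizer_fintype
    rintro _ ⟨y, ⟨m, hm⟩, rfl⟩
    refine ⟨⟨z, hzQ⟩ * y * ⟨z, hzQ⟩⁻¹, ?_, rfl⟩
    change f _ ∈ Subgroup.zpowers x
    rw [map_mul, map_mul, map_inv, ← hm, ← conj_zpow]
    apply Subgroup.zpow_mem
    rcases hxz with h | h <;> rw [h]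
    · exact Subgroup.mem_zpowers x
    · exact Subgroup.inv_mem _ (Subgroup.mem_zpowers x)
  have hRQ := hmax R hRp hzR hQR
  obtain ⟨y, rfl⟩ := QuotientGroup.mk'_surjective (Q.subgroupOf M) x
  apply hx1
  apply (QuotientGroup.eq_one_iff (N := Q.subgroupOf M) y).mpr
  rw [Subgroup.mem_subgroupOf, ← hRQ]
  exact ⟨y, Subgroup.mem_zpowers _, rfl⟩

/-- Every `z`-invariant `p`-subgroup lies in a `z`-invariant Sylow `p`-subgroup. -/
theorem exists_sylow_ge (hz : IsIsolatedInvolution z) {p : ℕ} [hp : Fact p.Prime]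
    {R : Subgroup G} (hR : IsPGroup p R) (hzR : z ∈ Subgroup.normalizer (R : Set G)) :
    ∃ P : Sylow p G, R ≤ P ∧ z ∈ Subgroup.normalizer ((P : Subgroup G) : Set G) := by
  obtain ⟨Q, hRQ, hQ⟩ := Finite.exists_le_maximal
    (p := fun Q : Subgroup G => IsPGroup p Q ∧ z ∈ Subgroup.normalizer (Q : Set G)) ⟨hR, hzR⟩
  obtain ⟨P, hP⟩ := sylow_of_maximal hz Q hQ.1.1 hQ.1.2
    (fun R h1 h2 h3 => le_antisymm (hQ.2 ⟨h1, h2⟩ h3) h3)
  exact ⟨P, hP ▸ hRQ, hP ▸ hQ.1.2⟩

end CL.Isol
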