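import Cfsg.Agent.TwoFus.QD
import Cfsg.Agent.TwoFus.Q8

/-!
# Subgroups of a quasi-dihedral group
-/

set_option autoImplicit false

namespace CL

open Subgroup
open scoped commutatorElement

variable {G : Type*} [Group G]

namespace IsQDData

variable {S : Subgroup G} {e : ℕ} {x y : G}

theorem z_mem (h : IsQDData S e x y) : x ^ (4 * (e : ℤ)) ∈ S := h.zpow_mem' _

theorem u_mem (h : IsQDData S e x y) : x ^ (2 * (e : ℤ)) ∈ S := h.zpow_mem' _

theorem xy_mem (h : IsQDData S e x y) : x * y ∈ S := mul_mem h.x_mem h.y_mem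

theorem z_ne_y (h : IsQDData S e x y) : x ^ (4 * (e : ℤ)) ≠ y := fun he =>
  h.notMem (he ▸ zpow_mem (mem_zpowers x) _)

/-! ### Four-groups -/

theorem isFourData (h : IsQDData S e x y) :
    IsFourData (closure ({x ^ (4 * (e : ℤ)), y} : Set G)) (x ^ (4 * (e : ℤ))) y :=
  isFourData_closure h.z_mul_z h.sq h.y_mul_z.symm h.z_ne_one h.y_ne_one h.z_ne_y

theorem four_le (h : IsQDData S e x y) {T : Subgroup G}
    (hT : IsFourData T (x ^ (4 * (e : ℤ))) y) : T ≤ S :=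
  hT.isDihData.le_of_mem h.z_mem h.y_mem

/-- Every four-subgroup of `S` is `{1, z, y', z y'}` for an outer involution `y'`. -/
theorem exists_four_data (h : IsQDData S e x y) {T : Subgroup G} (hTS : T ≤ S)
    (hT : IsKleinFour T) :
    ∃ i : ℤ, IsFourData T (x ^ (4 * (e : ℤ))) (x ^ (2 * i) * y) := by
  obtain ⟨a, b, hab⟩ := exists_isFourData hT
  have key : ∀ t ∈ T, t ≠ 1 → t ≠ x ^ (4 * (e : ℤ)) → ∃ i : ℤ, t = x ^ (2 * i) * y := by
    intro t ht h1 h2
    rcases h.sq_eq_one_cases (hTS ht) (hab.sq_eq_one ht) with h3 | h3 | h3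
    · exact absurd h3 h1
    · exact absurd h3 h2
    · exact h3
  have hz : x ^ (4 * (e : ℤ)) ∈ T := by
    by_contra hn
    obtain ⟨i, hi⟩ := key a hab.a_mem hab.a_ne (fun he => hn (he ▸ hab.a_mem))
    obtain ⟨j, hj⟩ := key b hab.b_mem hab.b_ne (fun he => hn (he ▸ hab.b_mem))
    obtain ⟨k, hk⟩ := key _ hab.ab_mem hab.ab_ne_one (fun he => hn (he ▸ hab.ab_mem))
    rw [hi, hj, h.mul_mul] at hk
    exact h.zpow_ne _ _ hk
  obtain ⟨t, ht, h1, h2⟩ : ∃ t ∈ T, t ≠ 1 ∧ t ≠ x ^ (4 * (e : ℤ)) := by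
    by_cases ha : a = x ^ (4 * (e : ℤ))
    · exact ⟨b, hab.b_mem, hab.b_ne, ha ▸ hab.ne.symm⟩
    · exact ⟨a, hab.a_mem, hab.a_ne, ha⟩
  obtain ⟨i, rfl⟩ := key t ht h1 h2
  exact ⟨i, isFourData_of_isKleinFour hT hz ht h.z_ne_one h1 h2.symm⟩

theorem mem_four_of_commute (h : IsQDData S e x y) {T : Subgroup G}
    (hT : IsFourData T (x ^ (4 * (e : ℤ))) y) {g : G} (hg : g ∈ S) (hc : y * g = g * y) :
    g ∈ T := by
  rw [hT.mem]
  obtain ⟨i, rfl | rfl⟩ := (h.mem g).1 hg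
  · rcases h.zpow_eq_of_commute (i := i) (j := 0) (by simpa using hc.symm) with h1 | h1 <;>
      simp [h1]
  · rw [← mul_assoc, mul_left_inj] at hc
    rcases h.zpow_eq_of_commute (i := i) (j := 0) (by simpa using hc.symm) with h1 | h1 <;>
      simp [h1]

theorem u_conj_y (h : IsQDData S e x y) :
    x ^ (2 * (e : ℤ)) * y * (x ^ (2 * (e : ℤ)))⁻¹ = x ^ (4 * (e : ℤ)) * y := by
  have := h.conj_mul 0 (2 * e)
  rw [zpow_zero, one_mul] at this
  rw [this, h.zpow_eq_of (b := 4 * (e : ℤ)) (-e) (by ring)]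

theorem u_mem_normalizer_four (h : IsQDData S e x y) {T : Subgroup G}
    (hT : IsFourData T (x ^ (4 * (e : ℤ))) y) : x ^ (2 * (e : ℤ)) ∈ normalizer (T : Set G) :=
  hT.mem_normalizer_of (by rw [h.conj_z h.u_mem]; exact hT.a_mem)
    (by rw [h.u_conj_y]; exact hT.ab_mem)

/-- The two possibilities for `|N(T) : C(T)|`. -/
theorem four_relIndex_cases (h : IsQDData S e x y) {T : Subgroup G}
    (hT : IsFourData T (x ^ (4 * (e : ℤ))) y) :
    ((centralizer (T : Set G)).relIndex (normalizer (T : Set G)) = 2 ∧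
        ∀ g ∈ normalizer (T : Set G), g * x ^ (4 * (e : ℤ)) * g⁻¹ = x ^ (4 * (e : ℤ))) ∨
      ((centralizer (T : Set G)).relIndex (normalizer (T : Set G)) = 6 ∧
        ∃ g ∈ normalizer (T : Set G), g * x ^ (4 * (e : ℤ)) * g⁻¹ = y) := by
  rcases hT.relIndex_cases (h.u_mem_normalizer_four hT) (h.conj_z h.u_mem)
    (by rw [h.u_conj_y]; exact hT.ab_ne_b) with h1 | h1
  · exact Or.inl h1
  · exact Or.inr ⟨h1.1, h1.2.1⟩

/-! ### Quaternion subgroups of order eight -/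

theorem xy_conj_u (h : IsQDData S e x y) :
    x * y * x ^ (2 * (e : ℤ)) * (x * y)⁻¹ = (x ^ (2 * (e : ℤ)))⁻¹ := by
  rw [mul_assoc x, h.y_mul_u]; group

theorem isQuatData_Q (h : IsQDData S e x y) :
    IsQuatData (closure ({x ^ (2 * (e : ℤ)), x * y} : Set G)) 2 (x ^ (2 * (e : ℤ))) (x * y) :=
  isQuatData_closure h.orderOf_u h.xy_conj_u (by rw [h.xy_sq, pow_two, u_mul_u])
    (fun hm => h.xy_notMem (zpowers_le_of_mem (zpow_mem (mem_zpowers x) _) hm))

theorem quat_le (h : IsQDData S e x y) {Q : Subgroup G}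
    (hQ : IsQuatData Q 2 (x ^ (2 * (e : ℤ))) (x * y)) : Q ≤ S :=
  hQ.le_of_mem h.u_mem h.xy_mem

/-- Every quaternion subgroup of order eight of `S` is `⟨u, x y'⟩` for an outer involution `y'`. -/
theorem exists_quat_data (h : IsQDData S e x y) {Q : Subgroup G} (hQS : Q ≤ S) {i j : G}
    (hQ : IsQuatData Q 2 i j) :
    ∃ k : ℤ, IsQuatData Q 2 (x ^ (2 * (e : ℤ))) (x * (x ^ (2 * k) * y)) := by
  have key : ∀ {a b : G}, IsQuatData Q 2 a b → a ∈ zpowers x →
      ∃ k : ℤ, IsQuatData Q 2 (x ^ (2 * (e : ℤ))) (x * (x ^ (2 * k) * y)) := by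
    intro a b hab ha
    have hb : b ∉ zpowers x := by
      intro hb
      obtain ⟨k, rfl⟩ := mem_zpowers_iff.mp ha
      obtain ⟨l, rfl⟩ := mem_zpowers_iff.mp hb
      exact hab.not_commute (by group)
    have hu : x ^ (2 * (e : ℤ)) ∈ zpowers a := by
      rcases h.order_four_cases (hQS hab.x_mem) hab.ord4 with h1 | h1 | ⟨k, h1⟩
      · rw [h1]; exact mem_zpowers _
      · rw [h1]; simp
      · exact absurd (h1 ▸ ha) (h.zpow_mul_notMem _)
    obtain ⟨k, rfl⟩ : ∃ k : ℤ, b = x ^ (2 * k + 1) * y := by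
      rcases h.order_four_cases (hQS hab.y_mem) hab.orderOf_j with h1 | h1 | h1
      · exact absurd (h1 ▸ zpow_mem (mem_zpowers x) _) hb
      · exact absurd (h1 ▸ inv_mem (zpow_mem (mem_zpowers x) _)) hb
      · exact h1
    have hnb : x ^ (2 * (e : ℤ)) ∉ zpowers (x ^ (2 * k + 1) * y) := by
      intro hm
      obtain ⟨l, hl⟩ := mem_zpowers_iff.mp hm
      have := h.zpow_eq_of_commute (i := 2 * e) (j := 2 * k + 1) (by
        rw [← hl]; exact (Commute.zpow_self _ l).eq)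
      have h4 := h.orderOf_u
      rcases this with h1 | h1
      · rw [h1, orderOf_one] at h4; omega
      · rw [h1, h.orderOf_z] at h4; omega
    refine ⟨k, ?_⟩
    have := (hab.symm.of_notMem' (hab.zpowers_le hu) hnb).symm
    rwa [show x ^ (2 * k + 1) * y = x * (x ^ (2 * k) * y) by group] at this
  by_cases hi : i ∈ zpowers x
  · exact key hQ hi
  · by_cases hj : j ∈ zpowers x
    · exact key hQ.symm hj
    · exact key hQ.ij_data (h.mul_mem_zpowers (hQS hQ.x_mem) (hQS hQ.y_mem) hi hj)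

theorem eq_of_commute_quat (h : IsQDData S e x y) {g : G} (hg : g ∈ S)
    (h1 : x ^ (2 * (e : ℤ)) * g = g * x ^ (2 * (e : ℤ))) (h2 : x * y * g = g * (x * y)) :
    g = 1 ∨ g = x ^ (4 * (e : ℤ)) := by
  obtain ⟨i, rfl | rfl⟩ := (h.mem g).1 hg
  · exact h.zpow_eq_of_commute (i := i) (j := 1) (by simpa using h2.symm)
  · exfalso
    have h4 := h.orderOf_u
    rcases h.zpow_eq_of_commute h1 with h3 | h3
    · rw [h3, orderOf_one] at h4; omega
    · rw [h3, h.orderOf_z] at h4; omega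

theorem s_conj_xy (h : IsQDData S e x y) :
    x ^ ((e : ℤ) * (1 + 2 * e)) * (x * y) * (x ^ ((e : ℤ) * (1 + 2 * e)))⁻¹ =
      x ^ (2 * (e : ℤ)) * (x * y) := by
  have := h.conj_mul' 1 e
  rw [zpow_one] at this
  rw [this]; group

theorem s_mem_normalizer_quat (h : IsQDData S e x y) {Q : Subgroup G}
    (hQ : IsQuatData Q 2 (x ^ (2 * (e : ℤ))) (x * y)) :
    x ^ ((e : ℤ) * (1 + 2 * e)) ∈ normalizer (Q : Set G) :=
  hQ.mem_normalizer_of (by convert hQ.x_mem using 1; group)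
    (by rw [h.s_conj_xy]; exact mul_mem hQ.x_mem hQ.y_mem)

/-- The two possibilities for `|N(Q) : Q C(Q)|`. -/
theorem quat_relIndex_cases (h : IsQDData S e x y) {Q : Subgroup G}
    (hQ : IsQuatData Q 2 (x ^ (2 * (e : ℤ))) (x * y)) :
    ((Q ⊔ centralizer (Q : Set G)).relIndex (normalizer (Q : Set G)) = 2 ∧
        ∀ g ∈ normalizer (Q : Set G), g * x ^ (2 * (e : ℤ)) * g⁻¹ = x ^ (2 * (e : ℤ)) ∨
          g * x ^ (2 * (e : ℤ)) * g⁻¹ = (x ^ (2 * (e : ℤ)))⁻¹) ∨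
      ((Q ⊔ centralizer (Q : Set G)).relIndex (normalizer (Q : Set G)) = 6 ∧
        ∃ g ∈ normalizer (Q : Set G), g * x ^ (2 * (e : ℤ)) * g⁻¹ = x * y) := by
  refine hQ.relIndex_cases (h.s_mem_normalizer_quat hQ) (Or.inl (by group)) ?_
  rw [h.s_conj_xy]
  intro hm
  apply hQ.symm.notMem
  rw [← mul_mem_cancel_right (mem_zpowers (x * y))]
  rcases hm with h1 | h1 <;> rw [h1]
  · exact mem_zpowers _
  · exact inv_mem (mem_zpowers _)

/-! ### The maximal subgroups and the derived subgroup -/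

theorem orderOf_sq (h : IsQDData S e x y) : orderOf (x ^ 2) = 4 * e := by
  rw [orderOf_pow' _ (by norm_num), h.ord, show 8 * e = 4 * e * 2 by ring, Nat.gcd_mul_left_left]
  simp

theorem mem_zpowers_sq_iff {g : G} : g ∈ zpowers (x ^ 2) ↔ ∃ i : ℤ, g = x ^ (2 * i) := by
  rw [mem_zpowers_iff]
  refine exists_congr fun i => ?_
  rw [zpow_mul, eq_comm, zpow_two, pow_two]

theorem zpowers_sq_le (x : G) : zpowers (x ^ 2) ≤ zpowers x :=
  zpowers_le_of_mem (npow_mem_zpowers x 2)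

theorem odd_notMem_zpowers_sq (h : IsQDData S e x y) (i : ℤ) :
    x ^ (2 * i + 1) ∉ zpowers (x ^ 2) := by
  rw [mem_zpowers_sq_iff]
  rintro ⟨j, hj⟩
  obtain ⟨c, hc⟩ := h.zpow_eq_iff.1 hj
  have : 2 * (i - j - 4 * e * c) + 1 = 0 := by linarith
  omega

theorem y_conj_sq (h : IsQDData S e x y) : y * x ^ 2 * y⁻¹ = (x ^ 2)⁻¹ := by
  have := h.y_mul_even 1
  rw [mul_one, zpow_neg, zpow_two, ← pow_two] at this
  rw [this]; group

/-- The dihedral maximal subgroup. -/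
theorem isDihData_D (h : IsQDData S e x y) :
    IsDihData (closure ({x ^ 2, y} : Set G)) (4 * e) (x ^ 2) y := by
  rw [← h.orderOf_sq]
  exact isDihData_closure h.y_conj_sq h.sq (fun hm => h.notMem (zpowers_sq_le x hm))

/-- The quaternion maximal subgroup. -/
theorem isQuatData_M (h : IsQDData S e x y) :
    IsQuatData (closure ({x ^ 2, x * y} : Set G)) (2 * e) (x ^ 2) (x * y) := by
  refine isQuatData_closure (by rw [h.orderOf_sq]; ring) ?_ ?_
    (fun hm => h.xy_notMem (zpowers_sq_le x hm))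
  · calc x * y * x ^ 2 * (x * y)⁻¹ = x * (y * x ^ 2 * y⁻¹) * x⁻¹ := by group
      _ = _ := by rw [h.y_conj_sq]; group
  · rw [h.xy_sq, ← pow_mul, ← zpow_natCast]
    congr 1
    push_cast; ring

theorem mem_D_iff (h : IsQDData S e x y) (g : G) :
    g ∈ closure ({x ^ 2, y} : Set G) ↔ ∃ i : ℤ, g = x ^ (2 * i) ∨ g = x ^ (2 * i) * y := by
  rw [h.isDihData_D.mem]
  refine exists_congr fun i => ?_
  rw [zpow_mul, zpow_two, pow_two]

theorem mem_M_iff (h : IsQDData S e x y) (g : G) :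
    g ∈ closure ({x ^ 2, x * y} : Set G) ↔
      ∃ i : ℤ, g = x ^ (2 * i) ∨ g = x ^ (2 * i + 1) * y := by
  rw [h.isQuatData_M.mem]
  refine exists_congr fun i => ?_
  rw [zpow_add, zpow_one, zpow_mul, zpow_two, pow_two, mul_assoc]

theorem D_le (h : IsQDData S e x y) : closure ({x ^ 2, y} : Set G) ≤ S :=
  h.isDihData_D.le_of_mem (pow_mem h.x_mem 2) h.y_mem

theorem M_le (h : IsQDData S e x y) : closure ({x ^ 2, x * y} : Set G) ≤ S :=
  h.isQuatData_M.le_of_mem (pow_mem h.x_mem 2) h.xy_mem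

theorem x_notMem_D (h : IsQDData S e x y) : x ∉ closure ({x ^ 2, y} : Set G) := by
  rw [h.mem_D_iff]
  rintro ⟨i, h1 | h1⟩
  · exact h.odd_notMem_zpowers_sq 0 (mem_zpowers_sq_iff.2 ⟨i, by simpa using h1⟩)
  · exact h.zpow_ne 1 _ (by simpa using h1)

theorem x_notMem_M (h : IsQDData S e x y) : x ∉ closure ({x ^ 2, x * y} : Set G) := by
  rw [h.mem_M_iff]
  rintro ⟨i, h1 | h1⟩
  · exact h.odd_notMem_zpowers_sq 0 (mem_zpowers_sq_iff.2 ⟨i, by simpa using h1⟩)
  · exact h.zpow_ne 1 _ (by simpa using h1)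

theorem y_notMem_M (h : IsQDData S e x y) : y ∉ closure ({x ^ 2, x * y} : Set G) := by
  intro hy
  apply h.x_notMem_M
  simpa using mul_mem h.isQuatData_M.y_mem (inv_mem hy)

theorem xy_notMem_D (h : IsQDData S e x y) : x * y ∉ closure ({x ^ 2, y} : Set G) := by
  intro hy
  apply h.x_notMem_D
  simpa using mul_mem hy (inv_mem h.isDihData_D.y_mem)

theorem relIndex_D (h : IsQDData S e x y) : (closure ({x ^ 2, y} : Set G)).relIndex S = 2 := by
  have h1 := ((closure ({x ^ 2, y} : Set G)).subgroupOf S).card_mul_index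
  rw [Nat.card_congr (subgroupOfEquivOfLe h.D_le).toEquiv, h.isDihData_D.card_eq, h.orderOf_sq,
    h.card_eq'] at h1
  have := h.pos
  exact Nat.eq_of_mul_eq_mul_left (show 0 < 2 * (4 * e) by omega) (h1.trans (by ring))

theorem relIndex_M (h : IsQDData S e x y) :
    (closure ({x ^ 2, x * y} : Set G)).relIndex S = 2 := by
  have h1 := ((closure ({x ^ 2, x * y} : Set G)).subgroupOf S).card_mul_index
  rw [Nat.card_congr (subgroupOfEquivOfLe h.M_le).toEquiv, h.isQuatData_M.card_eq, h.orderOf_sq,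
    h.card_eq'] at h1
  have := h.pos
  exact Nat.eq_of_mul_eq_mul_left (show 0 < 2 * (4 * e) by omega) (h1.trans (by ring))

theorem relIndex_sq (h : IsQDData S e x y) : (zpowers (x ^ 2)).relIndex S = 4 := by
  have h1 := ((zpowers (x ^ 2)).subgroupOf S).card_mul_index
  rw [Nat.card_congr (subgroupOfEquivOfLe ((zpowers_sq_le x).trans h.zpowers_le)).toEquiv,
    Nat.card_zpowers, h.orderOf_sq, h.card_eq'] at h1
  have := h.pos
  exact Nat.eq_of_mul_eq_mul_left (show 0 < 4 * e by omega) (h1.trans (by ring))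

theorem commutatorElement_mem (h : IsQDData S e x y) {a b : G} (ha : a ∈ S) (hb : b ∈ S) :
    ⁅a, b⁆ ∈ zpowers (x ^ 2) := by
  have key : ∀ i j : ℤ, ⁅x ^ i, x ^ j * y⁆ ∈ zpowers (x ^ 2) := by
    intro i j
    rw [mem_zpowers_sq_iff]
    refine ⟨i * (1 - 2 * e), ?_⟩
    rw [commutatorElement_def, h.conj_mul, mul_inv_rev, mul_assoc, mul_inv_cancel_left,
      ← zpow_neg, ← zpow_add]
    congr 1; ring
  obtain ⟨i, rfl | rfl⟩ := (h.mem a).1 ha <;> obtain ⟨j, rfl | rfl⟩ := (h.mem b).1 hb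
  · rw [commutatorElement_eq_one_iff_commute.2 (Commute.zpow_zpow_self x i j)]
    exact one_mem _
  · exact key i j
  · rw [← commutatorElement_inv]; exact inv_mem (key j i)
  · rw [mem_zpowers_sq_iff]
    refine ⟨(i - j) * (1 - 2 * e), ?_⟩
    rw [commutatorElement_def, mul_assoc, ← mul_inv_rev, h.mul_mul, h.mul_mul, ← zpow_neg,
      ← zpow_add]
    congr 1; ring

theorem commutator_eq (h : IsQDData S e x y) : ⁅S, S⁆ = zpowers (x ^ 2) := by
  apply le_antisymm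
  · rw [commutator_le]
    exact fun a ha b hb => h.commutatorElement_mem ha hb
  · rw [zpowers_le]
    have h1 := commutator_mem_commutator (h.zpow_mem' (1 * (1 + 2 * (e : ℤ)))) h.y_mem
    have h2 := h.conj_mul' 0 1
    rw [zpow_zero, one_mul y] at h2
    rw [commutatorElement_def, h2] at h1
    simpa [zpow_two, pow_two] using h1

/-- A subgroup normalized by `S` and containing an element outside `⟨x⟩` contains `x²`. -/
theorem sq_mem_of_normal (h : IsQDData S e x y) {N : Subgroup G}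
    (hN : ∀ s ∈ S, ∀ n ∈ N, s * n * s⁻¹ ∈ N) {i : ℤ} (hi : x ^ i * y ∈ N) : x ^ 2 ∈ N := by
  have h1 := hN _ (h.zpow_mem' (1 * (1 + 2 * (e : ℤ)))) _ hi
  rw [h.conj_mul'] at h1
  have := mul_mem h1 (inv_mem hi)
  rwa [show x ^ (i + 2 * 1) * y * (x ^ i * y)⁻¹ = x ^ 2 by group] at this

variable {k : ℕ}

theorem x_mem_of_odd (h : IsQDData S (2 ^ k) x y) {H : Subgroup G} {i : ℤ}
    (hi : x ^ (2 * i + 1) ∈ H) : x ∈ H := by
  refine zpowers_le_of_mem hi ?_
  rw [mem_zpowers_zpow_iff, h.ord, ← Int.isCoprime_iff_gcd_eq_one,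
    show ((8 * 2 ^ k : ℕ) : ℤ) = 2 ^ (k + 3) by push_cast; ring]
  exact IsCoprime.pow_right (Int.isCoprime_two_right.2 ⟨i, rfl⟩)

theorem le_sq_of_le_zpowers (h : IsQDData S (2 ^ k) x y) {H : Subgroup G} (hH : H ≤ zpowers x)
    (hx : x ∉ H) : H ≤ zpowers (x ^ 2) := by
  intro g hg
  obtain ⟨i, rfl⟩ := mem_zpowers_iff.mp (hH hg)
  obtain ⟨j, rfl | rfl⟩ := Int.even_or_odd' i
  · exact mem_zpowers_sq_iff.2 ⟨j, rfl⟩
  · exact absurd (h.x_mem_of_odd hg) hx

/-- Every proper subgroup of `S` lies in one of the three maximal subgroups. -/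
theorem le_cases (h : IsQDData S (2 ^ k) x y) {H : Subgroup G} (hH : H ≤ S) :
    H = S ∨ H ≤ zpowers x ∨ H ≤ closure ({x ^ 2, y} : Set G) ∨
      H ≤ closure ({x ^ 2, x * y} : Set G) := by
  by_cases h1 : H ≤ zpowers x
  · exact Or.inr (Or.inl h1)
  obtain ⟨g, hg, hn⟩ := SetLike.not_le_iff_exists.1 h1
  obtain ⟨i, rfl⟩ := h.exists_eq_of_notMem (hH hg) hn
  by_cases hx : x ∈ H
  · left
    refine le_antisymm hH (h.le_of_mem hx ?_)
    exact (mul_mem_cancel_left (zpow_mem hx i)).1 hg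
  have hev : ∀ j : ℤ, x ^ j ∈ H → ∃ l : ℤ, j = 2 * l := by
    intro j hj
    obtain ⟨l, rfl | rfl⟩ := Int.even_or_odd' j
    · exact ⟨l, rfl⟩
    · exact absurd (h.x_mem_of_odd hj) hx
  have hd : ∀ j : ℤ, x ^ j * y ∈ H → ∃ l : ℤ, j = i + 2 * l := by
    intro j hj
    have := mul_mem hj (inv_mem hg)
    rw [show x ^ j * y * (x ^ i * y)⁻¹ = x ^ (j - i) by group] at this
    obtain ⟨l, hl⟩ := hev _ this
    exact ⟨l, by omega⟩
  right; right
  obtain ⟨m, rfl | rfl⟩ := Int.even_or_odd' i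
  · left
    intro t ht
    rw [h.mem_D_iff]
    obtain ⟨j, rfl | rfl⟩ := (h.mem t).1 (hH ht)
    · obtain ⟨l, rfl⟩ := hev j ht
      exact ⟨l, Or.inl rfl⟩
    · obtain ⟨l, rfl⟩ := hd j ht
      exact ⟨m + l, Or.inr (by congr 2; ring)⟩
  · right
    intro t ht
    rw [h.mem_M_iff]
    obtain ⟨j, rfl | rfl⟩ := (h.mem t).1 (hH ht)
    · obtain ⟨l, rfl⟩ := hev j ht
      exact ⟨l, Or.inl rfl⟩
    · obtain ⟨l, rfl⟩ := hd j ht
      exact ⟨m + l, Or.inr (by congr 2; ring)⟩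

/-- The subgroups of `S` normalized by `S`. -/
theorem normal_cases (h : IsQDData S (2 ^ k) x y) {N : Subgroup G} (hNS : N ≤ S)
    (hN : ∀ s ∈ S, ∀ n ∈ N, s * n * s⁻¹ ∈ N) :
    N = S ∨ N = zpowers x ∨ N = closure ({x ^ 2, y} : Set G) ∨
      N = closure ({x ^ 2, x * y} : Set G) ∨ N ≤ zpowers (x ^ 2) := by
  by_cases h1 : N ≤ zpowers x
  · by_cases hx : x ∈ N
    · exact Or.inr (Or.inl (le_antisymm h1 (zpowers_le_of_mem hx)))
    · exact Or.inr (Or.inr (Or.inr (Or.inr (h.le_sq_of_le_zpowers h1 hx))))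
  obtain ⟨g, hg, hn⟩ := SetLike.not_le_iff_exists.1 h1
  obtain ⟨i, rfl⟩ := h.exists_eq_of_notMem (hNS hg) hn
  have h2 := h.sq_mem_of_normal hN hg
  have h3 : ∀ l : ℤ, x ^ (2 * l) ∈ N := fun l =>
    zpowers_le_of_mem h2 (mem_zpowers_sq_iff.2 ⟨l, rfl⟩)
  rcases h.le_cases hNS with h4 | h4 | h4 | h4
  · exact Or.inl h4
  · exact absurd h4 h1
  · refine Or.inr (Or.inr (Or.inl (le_antisymm h4 (h.isDihData_D.le_of_mem h2 ?_))))
    obtain ⟨l, h5 | h5⟩ := (h.mem_D_iff _).1 (h4 hg)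
    · exact absurd h5.symm (h.zpow_ne _ _)
    · exact (mul_mem_cancel_left (h3 l)).1 (h5 ▸ hg)
  · refine Or.inr (Or.inr (Or.inr (Or.inl (le_antisymm h4 (h.isQuatData_M.le_of_mem h2 ?_)))))
    obtain ⟨l, h5 | h5⟩ := (h.mem_M_iff _).1 (h4 hg)
    · exact absurd h5.symm (h.zpow_ne _ _)
    · rw [h5, zpow_add, zpow_one, mul_assoc] at hg
      exact (mul_mem_cancel_left (h3 l)).1 hg

theorem closure_involutions (h : IsQDData S e x y) :
    closure {g : G | g ∈ S ∧ orderOf g = 2} = closure ({x ^ 2, y} : Set G) := by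
  apply le_antisymm
  · rw [closure_le]
    rintro g ⟨hg, h2⟩
    rw [SetLike.mem_coe, h.mem_D_iff]
    rcases h.involution_cases hg h2 with rfl | ⟨i, rfl⟩
    · exact ⟨2 * e, Or.inl (by congr 1; ring)⟩
    · exact ⟨i, Or.inr rfl⟩
  · have hy : y ∈ closure {g : G | g ∈ S ∧ orderOf g = 2} := subset_closure ⟨h.y_mem, h.orderOf_y⟩
    refine h.isDihData_D.le_of_mem ?_ hy
    have h1 : x ^ (2 * (1 : ℤ)) * y ∈ closure {g : G | g ∈ S ∧ orderOf g = 2} :=
      subset_closure ⟨h.zpow_mul_mem _, h.orderOf_even 1⟩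
    simpa [zpow_two, pow_two] using mul_mem h1 (inv_mem hy)

end IsQDData

theorem isCoatom_of_index_two {H : Subgroup G} (h : H.index = 2) : IsCoatom H := by
  refine ⟨fun ht => by rw [ht, index_top] at h; omega, fun K hK => ?_⟩
  obtain ⟨g, hg, hn⟩ := SetLike.exists_of_lt hK
  rw [eq_top_iff]
  intro t _
  by_cases ht : t ∈ H
  · exact hK.le ht
  · have : t * g ∈ H := (mul_mem_iff_of_index_two h).2 (by simp [ht, hn])
    exact (mul_mem_cancel_right hg).1 (hK.le this)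

end CL
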