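import Cfsg.Agent.Base

/-!
# Recognising generalized quaternion subgroups, and elementary facts on `QuaternionGroup`
-/

set_option autoImplicit false

namespace CL.Wr

open QuaternionGroup

variable {G : Type*} [Group G]

theorem pow_val_add_of_orderOf {N : ℕ} [NeZero N] (w : G) (hw : orderOf w = N) (a b : ZMod N) :
    w ^ (a + b).val = w ^ a.val * w ^ b.val := by
  rw [← pow_add, ZMod.val_add]
  generalize a.val + b.val = v
  rw [← hw, pow_mod_orderOf]

theorem pow_val_inj_of_orderOf {N : ℕ} [NeZero N] (w : G) (hw : orderOf w = N) (a b : ZMod N)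
    (h : w ^ a.val = w ^ b.val) : a = b := by
  apply ZMod.val_injective
  exact pow_injOn_Iio_orderOf (by rw [hw]; exact ZMod.val_lt a) (by rw [hw]; exact ZMod.val_lt b) h

theorem pow_val_natCast_of_orderOf {N : ℕ} [NeZero N] (w : G) (hw : orderOf w = N) (k : ℕ) :
    w ^ (k : ZMod N).val = w ^ k := by
  rw [ZMod.val_natCast]
  generalize k = v
  rw [← hw, pow_mod_orderOf]

theorem pow_val_sub_of_orderOf {N : ℕ} [NeZero N] (w : G) (hw : orderOf w = N) (a b : ZMod N) :
    w ^ (a - b).val = w ^ a.val * (w ^ b.val)⁻¹ := by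
  rw [eq_mul_inv_iff_mul_eq, ← pow_val_add_of_orderOf w hw, sub_add_cancel]

/-- A subgroup consisting of the elements `x ^ k` and `y * x ^ k` with the quaternion relations
is generalized quaternion. -/
theorem nonempty_mulEquiv_quaternion (m : ℕ) (hm : 0 < m) (x y : G) (hx : orderOf x = 2 * m)
    (hy : y * y = x ^ m) (hyx : y * x * y⁻¹ = x⁻¹) (hyn : y ∉ Subgroup.zpowers x)
    (Y : Subgroup G) (hxY : x ∈ Y) (hyY : y ∈ Y)
    (hY : ∀ g ∈ Y, (∃ k : ℕ, g = x ^ k) ∨ (∃ k : ℕ, g = y * x ^ k)) :
    Nonempty (Y ≃* QuaternionGroup m) := by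
  have : NeZero (2 * m) := ⟨by omega⟩
  have h1 : ∀ k : ℕ, x ^ k * y = y * (x ^ k)⁻¹ := by
    intro k
    have : y * (x ^ k)⁻¹ * y⁻¹ = x ^ k := by
      rw [← inv_pow, ← conj_pow, ← conj_inv, hyx, inv_inv]
    rw [← this]; nth_rewrite 2 [this]; group
  let f : QuaternionGroup m →* Y := MonoidHom.mk' (fun g => match g with
    | a i => ⟨x ^ i.val, Y.pow_mem hxY _⟩
    | xa i => ⟨y * x ^ i.val, Y.mul_mem hyY (Y.pow_mem hxY _)⟩) (by
      rintro (i | i) (j | j) <;> apply Subtype.ext
      · exact pow_val_add_of_orderOf x hx i j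
      · change y * x ^ (j - i).val = x ^ i.val * (y * x ^ j.val)
        rw [pow_val_sub_of_orderOf x hx, ← mul_assoc (x ^ i.val), h1]
        group
      · change y * x ^ (i + j).val = y * x ^ i.val * x ^ j.val
        rw [pow_val_add_of_orderOf x hx, mul_assoc]
      · change x ^ ((m : ZMod (2 * m)) + j - i).val = y * x ^ i.val * (y * x ^ j.val)
        rw [pow_val_sub_of_orderOf x hx, pow_val_add_of_orderOf x hx,
          pow_val_natCast_of_orderOf x hx, mul_assoc y, ← mul_assoc (x ^ i.val), h1, ← hy]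
        group)
  have hinj : Function.Injective f := by
    rw [injective_iff_map_eq_one]
    rintro (i | i) h
    · have h2 : x ^ i.val = x ^ (0 : ZMod (2 * m)).val := by
        rw [ZMod.val_zero, pow_zero]; exact congrArg Subtype.val h
      rw [pow_val_inj_of_orderOf x hx _ _ h2]; rfl
    · have h2 : y * x ^ i.val = 1 := congrArg Subtype.val h
      exact absurd (by
        rw [eq_inv_of_mul_eq_one_left h2]
        exact Subgroup.inv_mem _ (Subgroup.npow_mem_zpowers _ _)) hyn
  have hsurj : Function.Surjective f := by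
    rintro ⟨g, hg⟩
    rcases hY g hg with ⟨k, rfl⟩ | ⟨k, rfl⟩
    · exact ⟨a k, Subtype.ext (pow_val_natCast_of_orderOf x hx k)⟩
    · exact ⟨xa k, Subtype.ext (congrArg (y * ·) (pow_val_natCast_of_orderOf x hx k))⟩
  exact ⟨(MulEquiv.ofBijective f ⟨hinj, hsurj⟩).symm⟩

theorem zmod_two_mul_add_self_eq_zero {m : ℕ} (hm : 0 < m) (i : ZMod (2 * m)) (h : i + i = 0) :
    i = 0 ∨ i = m := by
  have : NeZero (2 * m) := ⟨by omega⟩
  have h1 : ((i.val + i.val : ℕ) : ZMod (2 * m)) = 0 := by simpa using h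
  rw [ZMod.natCast_eq_zero_iff] at h1
  have h2 : i.val < 2 * m := ZMod.val_lt i
  obtain ⟨k, hk⟩ := h1
  have h5 : i = (i.val : ZMod (2 * m)) := by simp
  generalize i.val = v at *
  have h3 : v = m * k := by nlinarith
  have h4 : k < 2 := by
    rw [h3] at h2
    nlinarith
  interval_cases k
  · left; rw [h5, h3]; simp
  · right; rw [h5, h3]; simp

theorem quat_natCast_ne_zero {m : ℕ} (hm : 0 < m) : (m : ZMod (2 * m)) ≠ 0 := by
  rw [Ne, ZMod.natCast_eq_zero_iff]
  intro h
  have := Nat.le_of_dvd hm h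
  omega

theorem quat_natCast_add_self (m : ℕ) : (m : ZMod (2 * m)) + m = 0 := by
  rw [← Nat.cast_add, ZMod.natCast_eq_zero_iff, two_mul]

/-- in a generalized quaternion group, an element with square one is `1` or `a m` -/
theorem quat_sq_eq_one {m : ℕ} (hm : 0 < m) (g : QuaternionGroup m) (hg : g * g = 1) :
    g = 1 ∨ g = a m := by
  rcases g with i | i
  · rw [a_mul_a, one_def, a.injEq] at hg
    rcases zmod_two_mul_add_self_eq_zero hm i hg with rfl | rfl
    · left; rfl
    · right; rfl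
  · rw [xa_mul_xa, one_def, a.injEq] at hg
    exact absurd (by simpa using hg) (quat_natCast_ne_zero hm)

theorem quat_a_m_comm (m : ℕ) (g : QuaternionGroup m) : a (m : ZMod (2 * m)) * g = g * a m := by
  rcases g with i | i
  · simp [add_comm]
  · simp only [a_mul_xa, xa_mul_a, xa.injEq]
    linear_combination -quat_natCast_add_self m

/-- a central element of a generalized quaternion group of order at least 8 has square one -/
theorem quat_central_sq {m : ℕ} (hm : 2 ≤ m) (g : QuaternionGroup m) (hg : ∀ w, g * w = w * g) :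
    g * g = 1 := by
  rcases g with i | i
  · have := hg (xa 0)
    simp only [a_mul_xa, xa_mul_a, xa.injEq] at this
    rw [a_mul_a, one_def, a.injEq]
    linear_combination -this
  · have := hg (a 1)
    simp only [a_mul_xa, xa_mul_a, xa.injEq] at this
    have h2 : ((2 : ℕ) : ZMod (2 * m)) = 0 := by push_cast; linear_combination this
    rw [ZMod.natCast_eq_zero_iff] at h2
    have := Nat.le_of_dvd (by norm_num) h2
    omega

theorem quat_not_comm {m : ℕ} (hm : 2 ≤ m) :
    (a 1 : QuaternionGroup m) * xa 0 ≠ xa 0 * a 1 := by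
  intro this
  simp only [a_mul_xa, xa_mul_a, xa.injEq] at this
  have h2 : ((2 : ℕ) : ZMod (2 * m)) = 0 := by push_cast; linear_combination -this
  rw [ZMod.natCast_eq_zero_iff] at h2
  have := Nat.le_of_dvd (by norm_num) h2
  omega

/-- Elementwise consequences of being generalized quaternion, for a subgroup of an ambient group. -/
theorem quat_subgroup_facts {m : ℕ} (hm : 2 ≤ m) (Y : Subgroup G) (e : Y ≃* QuaternionGroup m) :
    (∃ u ∈ Y, ∃ v ∈ Y, u * v ≠ v * u) ∧
    (∀ u ∈ Y, (∀ v ∈ Y, u * v = v * u) → u * u = 1) ∧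
    (∀ u ∈ Y, u * u = 1 → ∀ v ∈ Y, u * v = v * u) ∧
    (∀ u ∈ Y, ∀ v ∈ Y, u * u = 1 → v * v = 1 → u ≠ 1 → v ≠ 1 → u = v) ∧
    Nat.card Y = 4 * m := by
  have hm0 : 0 < m := by omega
  refine ⟨⟨e.symm (a 1), (e.symm _).2, e.symm (xa 0), (e.symm _).2, fun h => ?_⟩, ?_, ?_, ?_, ?_⟩
  · apply quat_not_comm hm
    apply e.symm.injective
    rw [map_mul, map_mul]
    exact Subtype.ext h
  · intro u hu h
    have := quat_central_sq hm (e ⟨u, hu⟩) (fun w => by
      obtain ⟨w, rfl⟩ := e.surjective w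
      rw [← map_mul, ← map_mul]
      exact congrArg e (Subtype.ext (h w w.2)))
    rw [← map_mul, map_eq_one_iff e e.injective] at this
    exact congrArg Subtype.val this
  · intro u hu h v hv
    have h1 : e ⟨u, hu⟩ * e ⟨u, hu⟩ = 1 := by
      rw [← map_mul, map_eq_one_iff e e.injective]; exact Subtype.ext h
    have h2 : e ⟨u, hu⟩ * e ⟨v, hv⟩ = e ⟨v, hv⟩ * e ⟨u, hu⟩ := by
      rcases quat_sq_eq_one hm0 _ h1 with h2 | h2 <;> rw [h2]
      · simp
      · exact quat_a_m_comm m _
    rw [← map_mul, ← map_mul] at h2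
    exact congrArg Subtype.val (e.injective h2)
  · intro u hu v hv h h' hu1 hv1
    have h1 : e ⟨u, hu⟩ * e ⟨u, hu⟩ = 1 := by
      rw [← map_mul, map_eq_one_iff e e.injective]; exact Subtype.ext h
    have h2 : e ⟨v, hv⟩ * e ⟨v, hv⟩ = 1 := by
      rw [← map_mul, map_eq_one_iff e e.injective]; exact Subtype.ext h'
    have h3 := (quat_sq_eq_one hm0 _ h1).resolve_left (by
      rw [map_eq_one_iff e e.injective]; exact fun h => hu1 (congrArg Subtype.val h))
    have h4 := (quat_sq_eq_one hm0 _ h2).resolve_left (by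
      rw [map_eq_one_iff e e.injective]; exact fun h => hv1 (congrArg Subtype.val h))
    exact congrArg Subtype.val (e.injective (h3.trans h4.symm))
  · have : NeZero m := ⟨by omega⟩
    rw [Nat.card_congr e.toEquiv, Nat.card_eq_fintype_card, QuaternionGroup.card]

end CL.Wr
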