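import Cfsg.Agent.TwoFus.WrBasic
import Cfsg.Agent.TwoFus.WrQuat

/-!
# Standard subgroups of a wreathed 2-group
-/

set_option autoImplicit false

namespace CL.Wr

/-! ### counting -/

theorem card_pairs_sub {N : ℕ} (B : ZMod N → Prop) :
    Nat.card {p : ZMod N × ZMod N // B (p.1 - p.2)} = N * Nat.card {d // B d} := by
  have h0 : Nat.card (ZMod N × {d // B d}) = N * Nat.card {d // B d} := by
    rw [Nat.card_prod, Nat.card_zmod]
  rw [← h0]
  refine Nat.card_congr ⟨fun p => (p.1.2, ⟨p.1.1 - p.1.2, p.2⟩),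
    fun q => ⟨(q.2.1 + q.1, q.1), by simpa using q.2.2⟩, ?_, ?_⟩
  · rintro ⟨⟨a, b⟩, h⟩; simp
  · rintro ⟨a, ⟨b, h⟩⟩; simp

theorem card_pairs_add {N : ℕ} (B : ZMod N → Prop) :
    Nat.card {p : ZMod N × ZMod N // B (p.1 + p.2)} = N * Nat.card {d // B d} := by
  have h0 : Nat.card (ZMod N × {d // B d}) = N * Nat.card {d // B d} := by
    rw [Nat.card_prod, Nat.card_zmod]
  rw [← h0]
  refine Nat.card_congr ⟨fun p => (p.1.2, ⟨p.1.1 + p.1.2, p.2⟩),
    fun q => ⟨(q.2.1 - q.1, q.1), by simpa using q.2.2⟩, ?_, ?_⟩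
  · rintro ⟨⟨a, b⟩, h⟩; simp
  · rintro ⟨a, ⟨b, h⟩⟩; simp

theorem card_zero_or_hf {n : ℕ} (hn : 1 ≤ n) :
    Nat.card {d : ZMod (2 ^ n) // d = 0 ∨ d = hf n} = 2 := by
  change Nat.card ({0, hf n} : Set (ZMod (2 ^ n))) = 2
  rw [Nat.card_coe_set_eq, Set.ncard_pair (hf_ne_zero hn).symm]

namespace Coord

variable {G : Type*} [Group G] {S : Subgroup G} {n : ℕ} (c : Coord S n)

theorem card_of_no_s (X : Subgroup G) (hX : X ≤ S) (h : ∀ a b, c.s a b ∉ X) :
    Nat.card X = Nat.card {p : ZMod (2 ^ n) × ZMod (2 ^ n) // c.r p.1 p.2 ∈ X} := by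
  symm
  refine Nat.card_congr (Equiv.ofBijective (fun p => ⟨c.r p.1.1 p.1.2, p.2⟩) ⟨?_, ?_⟩)
  · rintro ⟨⟨a, b⟩, h1⟩ ⟨⟨e, f⟩, h2⟩ h3
    simpa [c.r_inj] using h3
  · rintro ⟨g, hg⟩
    rcases c.cases (hX hg) with ⟨a, b, rfl⟩ | ⟨a, b, rfl⟩
    · exact ⟨⟨(a, b), hg⟩, rfl⟩
    · exact absurd hg (h a b)

theorem card_of_s (X : Subgroup G) (hX : X ≤ S) {e f : ZMod (2 ^ n)} (h : c.s e f ∈ X) :
    Nat.card X = 2 * Nat.card {p : ZMod (2 ^ n) × ZMod (2 ^ n) // c.r p.1 p.2 ∈ X} := by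
  rw [two_mul, ← Nat.card_sum]
  symm
  refine Nat.card_congr (Equiv.ofBijective (fun w => match w with
    | Sum.inl p => ⟨c.r p.1.1 p.1.2, p.2⟩
    | Sum.inr p => ⟨c.r p.1.1 p.1.2 * c.s e f, X.mul_mem p.2 h⟩) ⟨?_, ?_⟩)
  · rintro (⟨⟨a, b⟩, h1⟩ | ⟨⟨a, b⟩, h1⟩) (⟨⟨a', b'⟩, h2⟩ | ⟨⟨a', b'⟩, h2⟩) h3
    · simpa [c.r_inj] using h3
    · simp [c.r_mul_s, c.r_eq_s_iff] at h3
    · simp [c.r_mul_s, c.s_eq_r_iff] at h3
    · simpa [c.r_inj] using h3
  · rintro ⟨g, hg⟩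
    rcases c.cases (hX hg) with ⟨a, b, rfl⟩ | ⟨a, b, rfl⟩
    · exact ⟨Sum.inl ⟨(a, b), hg⟩, rfl⟩
    · refine ⟨Sum.inr ⟨(a - e, b - f), ?_⟩, Subtype.ext ?_⟩
      · have := X.mul_mem hg (X.inv_mem h)
        rw [c.s_inv, c.s_mul_s] at this
        simpa [sub_eq_add_neg] using this
      · simp [c.r_mul_s]

/-- A subgroup of `S` given by two predicates on coordinates. -/
def mkSub (P Q : ZMod (2 ^ n) → ZMod (2 ^ n) → Prop) (h0 : P 0 0)
    (hPP : ∀ a b e f, P a b → P e f → P (a + e) (b + f))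
    (hPQ : ∀ a b e f, P a b → Q e f → Q (a + e) (b + f))
    (hQP : ∀ a b e f, Q a b → P e f → Q (a + f) (b + e))
    (hQQ : ∀ a b e f, Q a b → Q e f → P (a + f) (b + e))
    (hP : ∀ a b, P a b → P (-a) (-b)) (hQ : ∀ a b, Q a b → Q (-b) (-a)) : Subgroup G where
  carrier := {g | (∃ a b, P a b ∧ g = c.r a b) ∨ (∃ a b, Q a b ∧ g = c.s a b)}
  one_mem' := Or.inl ⟨0, 0, h0, c.r_zero.symm⟩
  mul_mem' := by
    rintro _ _ (⟨a, b, h, rfl⟩ | ⟨a, b, h, rfl⟩) (⟨e, f, h', rfl⟩ | ⟨e, f, h', rfl⟩)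
    · exact Or.inl ⟨_, _, hPP _ _ _ _ h h', c.r_mul_r _ _ _ _⟩
    · exact Or.inr ⟨_, _, hPQ _ _ _ _ h h', c.r_mul_s _ _ _ _⟩
    · exact Or.inr ⟨_, _, hQP _ _ _ _ h h', c.s_mul_r _ _ _ _⟩
    · exact Or.inl ⟨_, _, hQQ _ _ _ _ h h', c.s_mul_s _ _ _ _⟩
  inv_mem' := by
    rintro _ (⟨a, b, h, rfl⟩ | ⟨a, b, h, rfl⟩)
    · exact Or.inl ⟨_, _, hP _ _ h, c.r_inv _ _⟩
    · exact Or.inr ⟨_, _, hQ _ _ h, c.s_inv _ _⟩

section mkSub
variable {P Q : ZMod (2 ^ n) → ZMod (2 ^ n) → Prop} {h0 : P 0 0}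
    {hPP : ∀ a b e f, P a b → P e f → P (a + e) (b + f)}
    {hPQ : ∀ a b e f, P a b → Q e f → Q (a + e) (b + f)}
    {hQP : ∀ a b e f, Q a b → P e f → Q (a + f) (b + e)}
    {hQQ : ∀ a b e f, Q a b → Q e f → P (a + f) (b + e)}
    {hP : ∀ a b, P a b → P (-a) (-b)} {hQ : ∀ a b, Q a b → Q (-b) (-a)}

theorem mkSub_le : c.mkSub P Q h0 hPP hPQ hQP hQQ hP hQ ≤ S := by
  rintro _ (⟨a, b, -, rfl⟩ | ⟨a, b, -, rfl⟩)
  · exact c.r_mem _ _
  · exact c.s_mem _ _

theorem r_mem_mkSub {a b : ZMod (2 ^ n)} :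
    c.r a b ∈ c.mkSub P Q h0 hPP hPQ hQP hQQ hP hQ ↔ P a b := by
  constructor
  · rintro (⟨a', b', h, h'⟩ | ⟨a', b', h, h'⟩)
    · obtain ⟨rfl, rfl⟩ := c.r_inj.1 h'; exact h
    · exact absurd h' (c.r_ne_s _ _ _ _)
  · exact fun h => Or.inl ⟨a, b, h, rfl⟩

theorem s_mem_mkSub {a b : ZMod (2 ^ n)} :
    c.s a b ∈ c.mkSub P Q h0 hPP hPQ hQP hQQ hP hQ ↔ Q a b := by
  constructor
  · rintro (⟨a', b', h, h'⟩ | ⟨a', b', h, h'⟩)
    · exact absurd h' (c.s_ne_r _ _ _ _)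
    · obtain ⟨rfl, rfl⟩ := c.s_inj.1 h'; exact h
  · exact fun h => Or.inr ⟨a, b, h, rfl⟩

end mkSub

/-- two subgroups of `S` agree when they contain the same coordinate elements -/
theorem ext_sub {X Y : Subgroup G} (hX : X ≤ S) (hY : Y ≤ S)
    (hr : ∀ a b, c.r a b ∈ X ↔ c.r a b ∈ Y) (hs : ∀ a b, c.s a b ∈ X ↔ c.s a b ∈ Y) : X = Y := by
  ext g
  constructor
  · intro hg
    rcases c.cases (hX hg) with ⟨a, b, rfl⟩ | ⟨a, b, rfl⟩
    · exact (hr a b).1 hg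
    · exact (hs a b).1 hg
  · intro hg
    rcases c.cases (hY hg) with ⟨a, b, rfl⟩ | ⟨a, b, rfl⟩
    · exact (hr a b).2 hg
    · exact (hs a b).2 hg

theorem le_sub {X Y : Subgroup G} (hX : X ≤ S)
    (hr : ∀ a b, c.r a b ∈ X → c.r a b ∈ Y) (hs : ∀ a b, c.s a b ∈ X → c.s a b ∈ Y) : X ≤ Y := by
  intro g hg
  rcases c.cases (hX hg) with ⟨a, b, rfl⟩ | ⟨a, b, rfl⟩
  · exact hr a b hg
  · exact hs a b hg

/-! ### the abelian maximal subgroup `U` -/

/-- the abelian maximal subgroup -/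
def U : Subgroup G := c.mkSub (fun _ _ => True) (fun _ _ => False) trivial
  (by simp) (by simp) (by simp) (by simp) (by simp) (by simp)

theorem U_le : c.U ≤ S := c.mkSub_le
theorem r_mem_U (a b : ZMod (2 ^ n)) : c.r a b ∈ c.U := c.r_mem_mkSub.2 trivial
theorem s_not_mem_U (a b : ZMod (2 ^ n)) : c.s a b ∉ c.U := fun h => c.s_mem_mkSub.1 h

theorem mem_U {g : G} : g ∈ c.U ↔ ∃ a b, g = c.r a b := by
  constructor
  · intro hg
    rcases c.cases (c.U_le hg) with h | ⟨a, b, rfl⟩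
    · exact h
    · exact absurd hg (c.s_not_mem_U _ _)
  · rintro ⟨a, b, rfl⟩; exact c.r_mem_U _ _

theorem card_U : Nat.card c.U = 2 ^ (2 * n) := by
  rw [c.card_of_no_s _ c.U_le c.s_not_mem_U]
  simp only [c.r_mem_U]
  rw [Nat.card_congr (Equiv.subtypeUnivEquiv (fun _ => trivial)), Nat.card_prod, Nat.card_zmod]
  ring

theorem U_comm {x y : G} (hx : x ∈ c.U) (hy : y ∈ c.U) : x * y = y * x := by
  obtain ⟨a, b, rfl⟩ := c.mem_U.1 hx
  obtain ⟨e, f, rfl⟩ := c.mem_U.1 hy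
  exact c.r_comm_r _ _ _ _

theorem isMulCommutative_U : IsMulCommutative c.U :=
  ⟨⟨fun x y => Subtype.ext (c.U_comm x.2 y.2)⟩⟩

/-- `U` is homocyclic -/
noncomputable def equivU : Multiplicative (ZMod (2 ^ n) × ZMod (2 ^ n)) ≃* c.U :=
  MulEquiv.ofBijective (MonoidHom.mk' (fun p => ⟨c.r p.toAdd.1 p.toAdd.2, c.r_mem_U _ _⟩)
    (fun p q => Subtype.ext (c.r_mul_r _ _ _ _).symm)) (by
      constructor
      · intro p q h
        have h1 := c.r_inj.1 (congrArg Subtype.val h)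
        exact Multiplicative.toAdd.injective (Prod.ext h1.1 h1.2)
      · rintro ⟨g, hg⟩
        obtain ⟨a, b, rfl⟩ := c.mem_U.1 hg
        exact ⟨Multiplicative.ofAdd (a, b), rfl⟩)

theorem conj_mem_U {g x : G} (hg : g ∈ S) (hx : x ∈ c.U) : g * x * g⁻¹ ∈ c.U := by
  obtain ⟨a, b, rfl⟩ := c.mem_U.1 hx
  rcases c.cases hg with ⟨e, f, rfl⟩ | ⟨e, f, rfl⟩
  · rw [c.r_conj_r]; exact c.r_mem_U _ _
  · rw [c.s_conj_r]; exact c.r_mem_U _ _

/-! ### the centre `Z` -/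

/-- the centre -/
def Z : Subgroup G := c.mkSub (fun a b => a = b) (fun _ _ => False) rfl
  (by rintro a b e f rfl rfl; rfl) (by simp) (by simp) (by simp) (by simp) (by simp)

theorem Z_le : c.Z ≤ S := c.mkSub_le
theorem r_mem_Z {a b : ZMod (2 ^ n)} : c.r a b ∈ c.Z ↔ a = b := c.r_mem_mkSub
theorem s_not_mem_Z (a b : ZMod (2 ^ n)) : c.s a b ∉ c.Z := fun h => c.s_mem_mkSub.1 h

theorem mem_Z {g : G} : g ∈ c.Z ↔ ∃ a, g = c.r a a := by
  constructor
  · intro hg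
    rcases c.cases (c.Z_le hg) with ⟨a, b, rfl⟩ | ⟨a, b, rfl⟩
    · obtain rfl := c.r_mem_Z.1 hg; exact ⟨a, rfl⟩
    · exact absurd hg (c.s_not_mem_Z _ _)
  · rintro ⟨a, rfl⟩; exact c.r_mem_Z.2 rfl

theorem Z_le_U : c.Z ≤ c.U := by
  intro g hg
  obtain ⟨a, rfl⟩ := c.mem_Z.1 hg
  exact c.r_mem_U _ _

theorem Z_comm {x y : G} (hx : x ∈ c.Z) (hy : y ∈ S) : x * y = y * x := by
  obtain ⟨a, rfl⟩ := c.mem_Z.1 hx
  rcases c.cases hy with ⟨e, f, rfl⟩ | ⟨e, f, rfl⟩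
  · exact c.r_comm_r _ _ _ _
  · exact c.r_comm_s_iff.2 rfl

theorem mem_Z_iff_comm {g : G} : g ∈ c.Z ↔ g ∈ S ∧ ∀ y ∈ S, g * y = y * g := by
  constructor
  · exact fun hg => ⟨c.Z_le hg, fun y hy => c.Z_comm hg hy⟩
  · rintro ⟨hg, h⟩
    rcases c.cases hg with ⟨a, b, rfl⟩ | ⟨a, b, rfl⟩
    · exact c.r_mem_Z.2 (c.r_comm_s_iff.1 (h _ (c.s_mem 0 0)))
    · exact absurd (c.s_comm_r_iff.1 (h _ (c.r_mem 1 0))) (one_ne_zero' c.one_le)

theorem center_map_eq : (Subgroup.center S).map S.subtype = c.Z := by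
  ext g
  rw [c.mem_Z_iff_comm]
  constructor
  · rintro ⟨x, hx, rfl⟩
    exact ⟨x.2, fun y hy => congrArg Subtype.val (Subgroup.mem_center_iff.1 hx ⟨y, hy⟩).symm⟩
  · rintro ⟨hg, h⟩
    exact ⟨⟨g, hg⟩, Subgroup.mem_center_iff.2 fun y => Subtype.ext (h y y.2).symm, rfl⟩

theorem center_eq (c : Coord (⊤ : Subgroup G) n) : Subgroup.center G = c.Z := by
  ext g
  rw [c.mem_Z_iff_comm, Subgroup.mem_center_iff]
  exact ⟨fun h => ⟨trivial, fun y _ => (h y).symm⟩, fun h y => (h.2 y trivial).symm⟩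

theorem Z_eq_zpowers : c.Z = Subgroup.zpowers (c.r 1 1) := by
  ext g
  rw [c.mem_Z]
  constructor
  · rintro ⟨a, rfl⟩
    exact ⟨a.val, by simp only [zpow_natCast, c.r_pow]; simp⟩
  · rintro ⟨k, rfl⟩
    exact ⟨k, by simp [c.r_zpow]⟩

theorem card_Z : Nat.card c.Z = 2 ^ n := by
  rw [c.Z_eq_zpowers, Nat.card_zpowers, c.orderOf_r_unit isUnit_one]

theorem isCyclic_Z : IsCyclic c.Z := by
  rw [c.Z_eq_zpowers]; infer_instance

/-! ### the derived subgroup `D` -/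

/-- the derived subgroup -/
def D : Subgroup G := c.mkSub (fun a b => a + b = 0) (fun _ _ => False) (by simp)
  (by intro a b e f h h'; linear_combination h + h') (by simp) (by simp) (by simp)
  (by intro a b h; linear_combination -h) (by simp)

theorem D_le : c.D ≤ S := c.mkSub_le
theorem r_mem_D {a b : ZMod (2 ^ n)} : c.r a b ∈ c.D ↔ a + b = 0 := c.r_mem_mkSub
theorem s_not_mem_D (a b : ZMod (2 ^ n)) : c.s a b ∉ c.D := fun h => c.s_mem_mkSub.1 h

theorem mem_D {g : G} : g ∈ c.D ↔ ∃ a, g = c.r a (-a) := by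
  constructor
  · intro hg
    rcases c.cases (c.D_le hg) with ⟨a, b, rfl⟩ | ⟨a, b, rfl⟩
    · obtain rfl : b = -a := by linear_combination c.r_mem_D.1 hg
      exact ⟨a, rfl⟩
    · exact absurd hg (c.s_not_mem_D _ _)
  · rintro ⟨a, rfl⟩; exact c.r_mem_D.2 (by ring)

theorem D_eq_zpowers : c.D = Subgroup.zpowers (c.r 1 (-1)) := by
  ext g
  rw [c.mem_D]
  constructor
  · rintro ⟨a, rfl⟩
    exact ⟨a.val, by simp only [zpow_natCast, c.r_pow]; simp⟩
  · rintro ⟨k, rfl⟩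
    exact ⟨k, by simp [c.r_zpow]⟩

theorem card_D : Nat.card c.D = 2 ^ n := by
  rw [c.D_eq_zpowers, Nat.card_zpowers, c.orderOf_r_unit isUnit_one]

theorem isCyclic_D : IsCyclic c.D := by
  rw [c.D_eq_zpowers]; infer_instance

theorem commutator_mem_D {x y : G} (hx : x ∈ S) (hy : y ∈ S) : x * y * x⁻¹ * y⁻¹ ∈ c.D := by
  rcases c.cases hx with ⟨a, b, rfl⟩ | ⟨a, b, rfl⟩ <;>
    rcases c.cases hy with ⟨e, f, rfl⟩ | ⟨e, f, rfl⟩
  · rw [c.r_conj_r, c.r_inv, c.r_mul_r, c.r_mem_D]; ring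
  · rw [c.r_conj_s, c.s_inv, c.s_mul_s, c.r_mem_D]; ring
  · rw [c.s_conj_r, c.r_inv, c.r_mul_r, c.r_mem_D]; ring
  · rw [c.s_conj_s, c.s_inv, c.s_mul_s, c.r_mem_D]; ring

theorem commutator_self_eq : ⁅S, S⁆ = c.D := by
  apply le_antisymm
  · rw [Subgroup.commutator_le]
    intro x hx y hy
    exact c.commutator_mem_D hx hy
  · intro g hg
    obtain ⟨a, rfl⟩ := c.mem_D.1 hg
    have : c.r a (-a) = c.r a 0 * c.s 0 0 * (c.r a 0)⁻¹ * (c.s 0 0)⁻¹ := by
      rw [c.r_conj_s, c.s_inv, c.s_mul_s]; congr 1 <;> ring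
    rw [this]
    exact Subgroup.commutator_mem_commutator (c.r_mem _ _) (c.s_mem _ _)

theorem commutator_eq (c : Coord (⊤ : Subgroup G) n) : commutator G = c.D := c.commutator_self_eq

/-! ### the normal four-group `T` -/

/-- the normal four-group -/
def T : Subgroup G := c.mkSub (fun a b => a + a = 0 ∧ b + b = 0) (fun _ _ => False) (by simp)
  (by rintro a b e f ⟨h1, h2⟩ ⟨h3, h4⟩
      exact ⟨by linear_combination h1 + h3, by linear_combination h2 + h4⟩)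
  (by simp) (by simp) (by simp)
  (by rintro a b ⟨h1, h2⟩; exact ⟨by linear_combination -h1, by linear_combination -h2⟩) (by simp)

theorem T_le : c.T ≤ S := c.mkSub_le
theorem r_mem_T {a b : ZMod (2 ^ n)} : c.r a b ∈ c.T ↔ a + a = 0 ∧ b + b = 0 := c.r_mem_mkSub
theorem s_not_mem_T (a b : ZMod (2 ^ n)) : c.s a b ∉ c.T := fun h => c.s_mem_mkSub.1 h

/-! ### the generalized quaternion subgroup `Y` -/

/-- the generalized quaternion subgroup of order `2^(n+1)` -/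
def Y : Subgroup G := c.mkSub (fun a b => a + b = 0) (fun a b => a + b = hf n) (by simp)
  (by intro a b e f h h'; linear_combination h + h')
  (by intro a b e f h h'; linear_combination h + h')
  (by intro a b e f h h'; linear_combination h + h')
  (by intro a b e f h h'; linear_combination h + h' + hf_add_hf c.one_le)
  (by intro a b h; linear_combination -h)
  (by intro a b h; linear_combination -h - hf_add_hf c.one_le)

theorem Y_le : c.Y ≤ S := c.mkSub_le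
theorem r_mem_Y {a b : ZMod (2 ^ n)} : c.r a b ∈ c.Y ↔ a + b = 0 := c.r_mem_mkSub
theorem s_mem_Y {a b : ZMod (2 ^ n)} : c.s a b ∈ c.Y ↔ a + b = hf n := c.s_mem_mkSub

theorem card_Y : Nat.card c.Y = 2 ^ (n + 1) := by
  rw [c.card_of_s _ c.Y_le (e := hf n) (f := 0) (c.s_mem_Y.2 (by simp))]
  simp only [c.r_mem_Y]
  rw [card_pairs_add (fun d => d = 0), Nat.card_unique]
  ring

theorem conj_mem_Y {g x : G} (hg : g ∈ S) (hx : x ∈ c.Y) : g * x * g⁻¹ ∈ c.Y := by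
  rcases c.cases hg with ⟨a, b, rfl⟩ | ⟨a, b, rfl⟩ <;>
    rcases c.cases (c.Y_le hx) with ⟨e, f, rfl⟩ | ⟨e, f, rfl⟩
  · rwa [c.r_conj_r]
  · rw [c.r_conj_s, c.s_mem_Y]; linear_combination c.s_mem_Y.1 hx
  · rw [c.s_conj_r, c.r_mem_Y]; linear_combination c.r_mem_Y.1 hx
  · rw [c.s_conj_s, c.s_mem_Y]; linear_combination c.s_mem_Y.1 hx

theorem Y_quaternion : Nonempty (c.Y ≃* QuaternionGroup (2 ^ (n - 1))) := by
  have h1 := c.one_le
  refine nonempty_mulEquiv_quaternion _ (by positivity) (c.r 1 (-1)) (c.s (hf n) 0) ?_ ?_ ?_ ?_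
    c.Y (c.r_mem_Y.2 (by ring)) (c.s_mem_Y.2 (by ring)) ?_
  · rw [c.orderOf_r_unit isUnit_one, ← pow_succ']; congr 1; omega
  · rw [c.s_mul_s, c.r_pow]
    have := neg_hf h1
    unfold hf at *
    congr 1
    · ring
    · linear_combination -this
  · rw [c.s_conj_r, c.r_inv, neg_neg]
  · rw [← c.D_eq_zpowers]; exact c.s_not_mem_D _ _
  · intro g hg
    rcases c.cases (c.Y_le hg) with ⟨a, b, rfl⟩ | ⟨a, b, rfl⟩
    · left
      refine ⟨a.val, ?_⟩
      rw [c.r_pow]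
      have := c.r_mem_Y.1 hg
      simp only [ZMod.natCast_val, ZMod.cast_id', id_eq]
      congr 1
      · ring
      · linear_combination this
    · right
      refine ⟨b.val, ?_⟩
      rw [c.r_pow, c.s_mul_r]
      have := c.s_mem_Y.1 hg
      simp only [ZMod.natCast_val, ZMod.cast_id', id_eq]
      congr 1
      · linear_combination this
      · ring

/-! ### the subgroup generated by the involutions -/

/-- the subgroup generated by the involutions -/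
def Om : Subgroup G := c.mkSub (fun a b => a + b = 0 ∨ a + b = hf n)
  (fun a b => a + b = 0 ∨ a + b = hf n) (by simp)
  (by simp only [← add_self_eq_zero_iff' c.one_le]
      intro a b e f h h'; linear_combination h + h')
  (by simp only [← add_self_eq_zero_iff' c.one_le]
      intro a b e f h h'; linear_combination h + h')
  (by simp only [← add_self_eq_zero_iff' c.one_le]
      intro a b e f h h'; linear_combination h + h')
  (by simp only [← add_self_eq_zero_iff' c.one_le]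
      intro a b e f h h'; linear_combination h + h')
  (by simp only [← add_self_eq_zero_iff' c.one_le]
      intro a b h; linear_combination -h)
  (by simp only [← add_self_eq_zero_iff' c.one_le]
      intro a b h; linear_combination -h)

theorem Om_le : c.Om ≤ S := c.mkSub_le
theorem r_mem_Om {a b : ZMod (2 ^ n)} : c.r a b ∈ c.Om ↔ (a + b = 0 ∨ a + b = hf n) :=
  c.r_mem_mkSub
theorem s_mem_Om {a b : ZMod (2 ^ n)} : c.s a b ∈ c.Om ↔ (a + b = 0 ∨ a + b = hf n) :=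
  c.s_mem_mkSub

theorem card_Om : Nat.card c.Om = 2 ^ (n + 2) := by
  rw [c.card_of_s _ c.Om_le (e := 0) (f := 0) (c.s_mem_Om.2 (by simp))]
  simp only [c.r_mem_Om]
  rw [card_pairs_add (fun d => d = 0 ∨ d = hf n), card_zero_or_hf c.one_le]
  ring

/-! ### the subgroups `V d = Q ∘ Z` and the centralizers of the elements outside `U` -/

/-- the subgroup of order `2^(n+2)` containing `Z`, `r hf 0` and `s d 0` -/
def V (d : ZMod (2 ^ n)) : Subgroup G := c.mkSub (fun a b => a - b = 0 ∨ a - b = hf n)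
  (fun a b => a - b - d = 0 ∨ a - b - d = hf n) (by simp)
  (by simp only [← add_self_eq_zero_iff' c.one_le]
      intro a b e f h h'; linear_combination h + h')
  (by simp only [← add_self_eq_zero_iff' c.one_le]
      intro a b e f h h'; linear_combination h + h')
  (by simp only [← add_self_eq_zero_iff' c.one_le]
      intro a b e f h h'; linear_combination h - h')
  (by simp only [← add_self_eq_zero_iff' c.one_le]
      intro a b e f h h'; linear_combination h - h')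
  (by simp only [← add_self_eq_zero_iff' c.one_le]
      intro a b h; linear_combination -h)
  (by simp only [← add_self_eq_zero_iff' c.one_le]
      intro a b h; linear_combination h)

theorem V_le (d : ZMod (2 ^ n)) : c.V d ≤ S := c.mkSub_le
theorem r_mem_V {d a b : ZMod (2 ^ n)} : c.r a b ∈ c.V d ↔ (a - b = 0 ∨ a - b = hf n) :=
  c.r_mem_mkSub
theorem s_mem_V {d a b : ZMod (2 ^ n)} : c.s a b ∈ c.V d ↔ (a - b - d = 0 ∨ a - b - d = hf n) :=
  c.s_mem_mkSub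
theorem r_mem_V' {d a b : ZMod (2 ^ n)} : c.r a b ∈ c.V d ↔ (a - b) + (a - b) = 0 := by
  rw [c.r_mem_V, add_self_eq_zero_iff' c.one_le]
theorem s_mem_V' {d a b : ZMod (2 ^ n)} : c.s a b ∈ c.V d ↔ (a - b - d) + (a - b - d) = 0 := by
  rw [c.s_mem_V, add_self_eq_zero_iff' c.one_le]

theorem card_V (d : ZMod (2 ^ n)) : Nat.card (c.V d) = 2 ^ (n + 2) := by
  rw [c.card_of_s _ (c.V_le d) (e := d) (f := 0) (c.s_mem_V.2 (by simp))]
  simp only [c.r_mem_V]
  rw [card_pairs_sub (fun d => d = 0 ∨ d = hf n), card_zero_or_hf c.one_le]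
  ring

theorem Z_le_V (d : ZMod (2 ^ n)) : c.Z ≤ c.V d := by
  intro g hg
  obtain ⟨a, rfl⟩ := c.mem_Z.1 hg
  exact c.r_mem_V.2 (by simp)

/-- the centralizer in `S` of `s d 0` (and of every `s a b` with `a - b = d`) -/
def C (d : ZMod (2 ^ n)) : Subgroup G := c.mkSub (fun a b => a = b)
  (fun a b => a - b = d) rfl
  (by intro a b e f h h'; linear_combination h + h')
  (by intro a b e f h h'; linear_combination h + h')
  (by intro a b e f h h'; linear_combination h - h')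
  (by intro a b e f h h'; linear_combination h - h')
  (by intro a b h; linear_combination -h)
  (by intro a b h; linear_combination h)

theorem C_le (d : ZMod (2 ^ n)) : c.C d ≤ S := c.mkSub_le
theorem r_mem_C {d a b : ZMod (2 ^ n)} : c.r a b ∈ c.C d ↔ a = b := c.r_mem_mkSub
theorem s_mem_C {d a b : ZMod (2 ^ n)} : c.s a b ∈ c.C d ↔ a - b = d := c.s_mem_mkSub

theorem card_C (d : ZMod (2 ^ n)) : Nat.card (c.C d) = 2 ^ (n + 1) := by
  rw [c.card_of_s _ (c.C_le d) (e := d) (f := 0) (c.s_mem_C.2 (by simp))]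
  have : ∀ a b : ZMod (2 ^ n), c.r a b ∈ c.C d ↔ a - b = 0 := fun a b => by
    rw [c.r_mem_C, sub_eq_zero]
  simp only [this]
  rw [card_pairs_sub (fun d => d = 0), Nat.card_unique]
  ring

theorem C_comm {d : ZMod (2 ^ n)} {x y : G} (hx : x ∈ c.C d) (hy : y ∈ c.C d) : x * y = y * x := by
  rcases c.cases (c.C_le d hx) with ⟨a, b, rfl⟩ | ⟨a, b, rfl⟩ <;>
    rcases c.cases (c.C_le d hy) with ⟨e, f, rfl⟩ | ⟨e, f, rfl⟩
  · exact c.r_comm_r _ _ _ _
  · exact c.r_comm_s_iff.2 (c.r_mem_C.1 hx)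
  · exact c.s_comm_r_iff.2 (c.r_mem_C.1 hy)
  · exact c.s_comm_s_iff.2 ((c.s_mem_C.1 hx).trans (c.s_mem_C.1 hy).symm)

theorem mem_C_of_comm {e f : ZMod (2 ^ n)} {x : G} (hx : x ∈ S)
    (h : x * c.s e f = c.s e f * x) : x ∈ c.C (e - f) := by
  rcases c.cases hx with ⟨a, b, rfl⟩ | ⟨a, b, rfl⟩
  · exact c.r_mem_C.2 (c.r_comm_s_iff.1 h)
  · exact c.s_mem_C.2 (c.s_comm_s_iff.1 h)

/-- a subgroup of `S` either lies in `U` or contains some `s e f` -/
theorem le_U_or (X : Subgroup G) (hX : X ≤ S) : X ≤ c.U ∨ ∃ e f, c.s e f ∈ X := by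
  by_cases h : ∃ e f, c.s e f ∈ X
  · exact Or.inr h
  · left
    push Not at h
    exact c.le_sub hX (fun a b _ => c.r_mem_U a b) (fun a b hab => absurd hab (h a b))

/-- central elements of non-abelian subgroups are central in `S` -/
theorem mem_Z_of_central {X : Subgroup G} (hX : X ≤ S) (hna : ∃ u ∈ X, ∃ v ∈ X, u * v ≠ v * u)
    {g : G} (hg : g ∈ S) (h : ∀ y ∈ X, g * y = y * g) : g ∈ c.Z := by
  obtain ⟨u, hu, v, hv, huv⟩ := hna
  rcases c.le_U_or X hX with hU | ⟨e, f, hef⟩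
  · exact absurd (c.U_comm (hU hu) (hU hv)) huv
  rcases c.cases hg with ⟨a, b, rfl⟩ | ⟨a, b, rfl⟩
  · exact c.r_mem_Z.2 (c.r_comm_s_iff.1 (h _ hef))
  · exact absurd (c.C_comm (c.mem_C_of_comm (hX hu) (h u hu).symm)
      (c.mem_C_of_comm (hX hv) (h v hv).symm)) huv

/-- an abelian subgroup of order `2^(2n)` is `U` -/
theorem eq_U_of_comm {X : Subgroup G} (hX : X ≤ S) (hab : ∀ u ∈ X, ∀ v ∈ X, u * v = v * u)
    (hcard : Nat.card X = 2 ^ (2 * n)) : X = c.U := by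
  have hfU : Finite c.U := Nat.finite_of_card_ne_zero (by rw [c.card_U]; positivity)
  rcases c.le_U_or X hX with hU | ⟨e, f, hef⟩
  · exact Subgroup.eq_of_le_of_card_ge hU (by rw [c.card_U, hcard])
  · exfalso
    have h1 : X ≤ c.C (e - f) := fun g hg => c.mem_C_of_comm (hX hg) (hab _ hg _ hef)
    have hfC : Finite (c.C (e - f)) := Nat.finite_of_card_ne_zero (by rw [c.card_C]; positivity)
    have h2 := Subgroup.card_le_of_le h1
    rw [hcard, c.card_C] at h2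
    have := (Nat.pow_le_pow_iff_right (by norm_num : 1 < 2)).1 h2
    have := c.two_le
    omega

/-- a non-abelian subgroup whose involutions are central and whose centre has exponent two
lies in `Y` -/
theorem le_Y_of_quat {X : Subgroup G} (hX : X ≤ S) (hna : ∃ u ∈ X, ∃ v ∈ X, u * v ≠ v * u)
    (h2 : ∀ u ∈ X, (∀ v ∈ X, u * v = v * u) → u * u = 1)
    (h3 : ∀ u ∈ X, u * u = 1 → ∀ v ∈ X, u * v = v * u) : X ≤ c.Y := by
  have hs : ∀ a b, c.s a b ∈ X → a + b = hf n := by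
    intro a b hab
    have h4 : c.r (a + b) (a + b) ∈ X := by rw [← c.s_sq]; exact X.pow_mem hab 2
    have h5 := h2 _ h4 (fun v hv => c.Z_comm (c.r_mem_Z.2 rfl) (hX hv))
    rw [c.r_mul_r, c.r_eq_one_iff, add_self_eq_zero_iff' c.one_le] at h5
    refine h5.1.resolve_left fun h6 => ?_
    have h7 := h3 _ hab (by rw [← sq, c.s_sq, h6, c.r_zero])
    exact c.s_not_mem_Z _ _ (c.mem_Z_of_central hX hna (c.s_mem a b) h7)
  obtain ⟨u, hu, v, hv, huv⟩ := hna
  rcases c.le_U_or X hX with hU | ⟨e, f, hef⟩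
  · exact absurd (c.U_comm (hU hu) (hU hv)) huv
  refine c.le_sub hX (fun a b hab => c.r_mem_Y.2 ?_) (fun a b hab => c.s_mem_Y.2 (hs a b hab))
  have h1 := hs _ _ (by rw [← c.r_mul_s]; exact X.mul_mem hab hef)
  linear_combination h1 - hs e f hef

end Coord

end CL.Wr
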