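import Cfsg.Agent.TwoFus.WrSub

/-!
# Klein four-subgroups of a wreathed 2-group
-/

set_option autoImplicit false

namespace CL.Wr

theorem isKleinFour_of_card_of_sq {G : Type*} [Group G] (X : Subgroup G) (hc : Nat.card X = 4)
    (h : ∀ x ∈ X, x * x = 1) : IsKleinFour X := by
  have hfin : Finite X := Nat.finite_of_card_ne_zero (by omega)
  have hnt : Nontrivial X := Finite.one_lt_card_iff_nontrivial.1 (by omega)
  refine ⟨hc, ?_⟩
  rw [Monoid.exponent_eq_prime_iff Nat.prime_two]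
  intro g hg
  exact orderOf_eq_prime (by rw [sq]; exact Subtype.ext (h g g.2)) hg

theorem kleinFour_mul_self {G : Type*} [Group G] {X : Subgroup G} (h : IsKleinFour X) {x : G}
    (hx : x ∈ X) : x * x = 1 :=
  congrArg Subtype.val (IsKleinFour.mul_self (⟨x, hx⟩ : X))

theorem kleinFour_comm {G : Type*} [Group G] {X : Subgroup G} (h : IsKleinFour X) {x y : G}
    (hx : x ∈ X) (hy : y ∈ X) : x * y = y * x :=
  congrArg Subtype.val (IsKleinFour.isMulCommutative.is_comm.comm (⟨x, hx⟩ : X) ⟨y, hy⟩)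

namespace Coord

variable {G : Type*} [Group G] {S : Subgroup G} {n : ℕ} (c : Coord S n)

theorem card_T : Nat.card c.T = 4 := by
  rw [c.card_of_no_s _ c.T_le c.s_not_mem_T]
  simp only [c.r_mem_T, add_self_eq_zero_iff' c.one_le]
  rw [Nat.card_congr (Equiv.subtypeProdEquivProd (p := fun d => d = 0 ∨ d = hf n)
    (q := fun d => d = 0 ∨ d = hf n)), Nat.card_prod, card_zero_or_hf c.one_le]

theorem mem_T {g : G} : g ∈ c.T ↔ g ∈ c.U ∧ g * g = 1 := by
  constructor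
  · intro hg
    rcases c.cases (c.T_le hg) with ⟨a, b, rfl⟩ | ⟨a, b, rfl⟩
    · exact ⟨c.r_mem_U _ _, by rw [c.r_mul_r, c.r_eq_one_iff]; exact c.r_mem_T.1 hg⟩
    · exact absurd hg (c.s_not_mem_T _ _)
  · rintro ⟨hg, h⟩
    obtain ⟨a, b, rfl⟩ := c.mem_U.1 hg
    rw [c.r_mul_r, c.r_eq_one_iff] at h
    exact c.r_mem_T.2 h

theorem T_le_U : c.T ≤ c.U := fun _ hg => (c.mem_T.1 hg).1

theorem isKleinFour_T : IsKleinFour c.T :=
  isKleinFour_of_card_of_sq _ c.card_T (fun _ hx => (c.mem_T.1 hx).2)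

theorem conj_mem_T {g x : G} (hg : g ∈ S) (hx : x ∈ c.T) : g * x * g⁻¹ ∈ c.T := by
  rw [c.mem_T] at hx ⊢
  refine ⟨c.conj_mem_U hg hx.1, ?_⟩
  calc g * x * g⁻¹ * (g * x * g⁻¹) = g * (x * x) * g⁻¹ := by group
    _ = 1 := by rw [hx.2]; group

/-- the non-normal four-groups -/
def K (e : ZMod (2 ^ n)) : Subgroup G := c.mkSub (fun a b => a = b ∧ a + a = 0)
  (fun a b => a + b = 0 ∧ (a - e) + (a - e) = 0) (by simp)
  (by rintro a b x y ⟨h1, h2⟩ ⟨h3, h4⟩
      exact ⟨by linear_combination h1 + h3, by linear_combination h2 + h4⟩)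
  (by rintro a b x y ⟨h1, h2⟩ ⟨h3, h4⟩
      exact ⟨by linear_combination h2 - h1 + h3, by linear_combination h2 + h4⟩)
  (by rintro a b x y ⟨h1, h2⟩ ⟨h3, h4⟩
      exact ⟨by linear_combination h1 - h3 + h4, by linear_combination h2 + h4 - 2 * h3⟩)
  (by rintro a b x y ⟨h1, h2⟩ ⟨h3, h4⟩
      exact ⟨by linear_combination h2 - h4 - h1 + h3, by linear_combination h2 - h4 + 2 * h3⟩)
  (by rintro a b ⟨h1, h2⟩
      exact ⟨by linear_combination -h1, by linear_combination -h2⟩)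
  (by rintro a b ⟨h1, h2⟩
      exact ⟨by linear_combination -h1, by linear_combination h2 - 2 * h1⟩)

theorem K_le (e : ZMod (2 ^ n)) : c.K e ≤ S := c.mkSub_le
theorem r_mem_K {e a b : ZMod (2 ^ n)} : c.r a b ∈ c.K e ↔ a = b ∧ a + a = 0 := c.r_mem_mkSub
theorem s_mem_K {e a b : ZMod (2 ^ n)} :
    c.s a b ∈ c.K e ↔ a + b = 0 ∧ (a - e) + (a - e) = 0 := c.s_mem_mkSub

theorem card_K (e : ZMod (2 ^ n)) : Nat.card (c.K e) = 4 := by
  rw [c.card_of_s _ (c.K_le e) (e := e) (f := -e) (c.s_mem_K.2 (by simp))]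
  simp only [c.r_mem_K, add_self_eq_zero_iff' c.one_le]
  have : Nat.card {p : ZMod (2 ^ n) × ZMod (2 ^ n) // p.1 = p.2 ∧ (p.1 = 0 ∨ p.1 = hf n)} =
      Nat.card {d : ZMod (2 ^ n) // d = 0 ∨ d = hf n} :=
    Nat.card_congr ⟨fun p => ⟨p.1.1, p.2.2⟩, fun d => ⟨(d.1, d.1), rfl, d.2⟩,
      by rintro ⟨⟨a, b⟩, h, h'⟩; simpa using h, by rintro ⟨a, h⟩; rfl⟩
  rw [this, card_zero_or_hf c.one_le]

theorem isKleinFour_K (e : ZMod (2 ^ n)) : IsKleinFour (c.K e) := by
  refine isKleinFour_of_card_of_sq _ (c.card_K e) (fun x hx => ?_)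
  rcases c.cases (c.K_le e hx) with ⟨a, b, rfl⟩ | ⟨a, b, rfl⟩
  · obtain ⟨rfl, h⟩ := c.r_mem_K.1 hx
    rw [c.r_mul_r, h, c.r_zero]
  · rw [← sq, c.s_sq, (c.s_mem_K.1 hx).1, c.r_zero]

theorem K_ne_T (e : ZMod (2 ^ n)) : c.K e ≠ c.T := fun h =>
  c.s_not_mem_T e (-e) (h ▸ c.s_mem_K.2 (by simp))

/-- classification of the four-subgroups -/
theorem kleinFour_cases {X : Subgroup G} (hX : X ≤ S) (h : IsKleinFour X) :
    X = c.T ∨ ∃ e, X = c.K e := by
  have hc : Nat.card X = 4 := h.card_four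
  rcases c.le_U_or X hX with hU | ⟨e, f, hef⟩
  · left
    have : Finite c.T := Nat.finite_of_card_ne_zero (by rw [c.card_T]; norm_num)
    exact Subgroup.eq_of_le_of_card_ge
      (fun x hx => c.mem_T.2 ⟨hU hx, kleinFour_mul_self h hx⟩) (by rw [c.card_T, hc])
  · right
    refine ⟨e, ?_⟩
    have : Finite (c.K e) := Nat.finite_of_card_ne_zero (by rw [c.card_K]; norm_num)
    have h0 := kleinFour_mul_self h hef
    rw [← sq, c.s_sq, c.r_eq_one_iff] at h0
    refine Subgroup.eq_of_le_of_card_ge (c.le_sub hX (fun a b hab => ?_) (fun a b hab => ?_))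
      (by rw [c.card_K, hc])
    · have h1 := kleinFour_mul_self h hab
      rw [c.r_mul_r, c.r_eq_one_iff] at h1
      exact c.r_mem_K.2 ⟨c.r_comm_s_iff.1 (kleinFour_comm h hab hef), h1.1⟩
    · have h1 := kleinFour_mul_self h hab
      rw [← sq, c.s_sq, c.r_eq_one_iff] at h1
      have h2 := c.s_comm_s_iff.1 (kleinFour_comm h hab hef)
      exact c.s_mem_K.2 ⟨h1.1, by linear_combination h2 + h1.1 - h0.1⟩

theorem mem_map_conj_iff {X : Subgroup G} {g x : G} :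
    x ∈ X.map (MulAut.conj g).toMonoidHom ↔ g⁻¹ * x * g ∈ X := by
  constructor
  · rintro ⟨y, hy, rfl⟩
    simpa [mul_assoc] using hy
  · intro h
    exact ⟨_, h, by simp [mul_assoc]⟩

theorem map_conj_le {X : Subgroup G} (hX : X ≤ S) {g : G} (hg : g ∈ S) :
    X.map (MulAut.conj g).toMonoidHom ≤ S := by
  rintro _ ⟨y, hy, rfl⟩
  exact S.mul_mem (S.mul_mem hg (hX hy)) (S.inv_mem hg)

theorem map_conj_K (e f : ZMod (2 ^ n)) :
    (c.K e).map (MulAut.conj (c.r (f - e) 0)).toMonoidHom = c.K f := by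
  refine c.ext_sub (map_conj_le (c.K_le e) (c.r_mem _ _)) (c.K_le f) (fun a b => ?_) (fun a b => ?_)
  · rw [mem_map_conj_iff, c.r_inv, c.r_mul_r, c.r_mul_r, c.r_mem_K, c.r_mem_K]
    constructor
    · rintro ⟨h1, h2⟩; exact ⟨by linear_combination h1, by linear_combination h2⟩
    · rintro ⟨h1, h2⟩; exact ⟨by linear_combination h1, by linear_combination h2⟩
  · rw [mem_map_conj_iff, c.r_inv, c.r_mul_s, c.s_mul_r, c.s_mem_K, c.s_mem_K]
    constructor
    · rintro ⟨h1, h2⟩; exact ⟨by linear_combination h1, by linear_combination h2⟩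
    · rintro ⟨h1, h2⟩; exact ⟨by linear_combination h1, by linear_combination h2⟩

end Coord

end CL.Wr
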