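import Cfsg.Agent.TwoFus.WrFour
import Cfsg.Agent.TwoFus.OddAut

/-!
# Self-centralizing subgroups of a wreathed 2-group with automorphisms of odd order
-/

set_option autoImplicit false

namespace CL.Wr

open CL.Fus

theorem four_mul_eq_zero_cases {n : ℕ} (hn : 2 ≤ n) {u : ZMod (2 ^ n)}
    (h : (u + u) + (u + u) = 0) : u + u = 0 ∨ u + u = hf n :=
  (add_self_eq_zero_iff' (by omega) _).1 h

theorem exists_natCast_mul_qt {n : ℕ} (hn : 2 ≤ n) {u : ZMod (2 ^ n)}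
    (h : (u + u) + (u + u) = 0) : ∃ k : ℕ, u = k * qt n := by
  have h1 : 1 ≤ n := by omega
  have hq := qt_add_qt hn
  rcases four_mul_eq_zero_cases hn h with h2 | h2
  · rcases (add_self_eq_zero_iff' h1 _).1 h2 with h3 | h3
    · exact ⟨0, by simp [h3]⟩
    · exact ⟨2, by push_cast; linear_combination h3 - hq⟩
  · rcases (add_self_eq_add_self_iff h1 u (qt n)).1 (by rw [h2, hq]) with h3 | h3
    · exact ⟨1, by simp [h3]⟩
    · exact ⟨3, by push_cast; linear_combination h3 - hq⟩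

theorem two_pow_eq_two_mul {n : ℕ} (hn : 1 ≤ n) : 2 ^ n = 2 * 2 ^ (n - 1) := by
  rw [← pow_succ']; congr 1; omega

namespace Coord

variable {G : Type*} [Group G] {S : Subgroup G} {n : ℕ} (c : Coord S n)

theorem s_pow_card (a b : ZMod (2 ^ n)) :
    c.s a b ^ 2 ^ n = c.r (hf n * (a + b)) (hf n * (a + b)) := by
  have : c.s a b ^ 2 ^ n = (c.s a b ^ 2) ^ 2 ^ (n - 1) := by
    rw [← pow_mul, ← two_pow_eq_two_mul c.one_le]
  rw [this, c.s_sq, c.r_pow]; rfl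

theorem eq_hh_of_mem_Z {x : G} (hx : x ∈ c.Z) (h1 : x * x = 1) (h2 : x ≠ 1) :
    x = c.r (hf n) (hf n) := by
  obtain ⟨a, rfl⟩ := c.mem_Z.1 hx
  rw [c.r_mul_r, c.r_eq_one_iff, add_self_eq_zero_iff' c.one_le] at h1
  rcases h1.1 with rfl | rfl
  · exact absurd c.r_zero h2
  · rfl

theorem hh_mul_hh : c.r (hf n) (hf n) * c.r (hf n) (hf n) = 1 := by
  rw [c.r_mul_r, hf_add_hf c.one_le, c.r_zero]

theorem hh_ne_one : c.r (hf n) (hf n) ≠ 1 := fun h => hf_ne_zero c.one_le (c.r_eq_one_iff.1 h).1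

theorem hh_mem_Z : c.r (hf n) (hf n) ∈ c.Z := c.r_mem_Z.2 rfl

section
variable {X : Subgroup G} {φ : G → G}

theorem fix_hh_of_mem_Z (h : OddAut X φ) (hZ : c.r (hf n) (hf n) ∈ X)
    (h1 : φ (c.r (hf n) (hf n)) ∈ c.Z) : φ (c.r (hf n) (hf n)) = c.r (hf n) (hf n) := by
  refine c.eq_hh_of_mem_Z h1 ?_ ?_
  · rw [← h.mul _ hZ _ hZ, c.hh_mul_hh, h.map_one]
  · rw [Ne, h.eq_one_iff hZ]; exact c.hh_ne_one

/-- an odd automorphism of a subgroup of `U` fixing the central involution is trivial -/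
theorem fix_of_le_U (hX : X ≤ c.U) (h : OddAut X φ)
    (hh : c.r (hf n) (hf n) ∈ X → φ (c.r (hf n) (hf n)) = c.r (hf n) (hf n))
    {x : G} (hx : x ∈ X) : φ x = x := by
  have hp : IsPGroup 2 X := c.isPGroup.to_le (hX.trans c.U_le)
  have h1 := c.one_le
  refine h.fix_of_comm_of_fix_involutions hp (fun x hx y hy => c.U_comm (hX hx) (hX hy))
    (fun x hx hxx => ?_) hx
  refine h.fix_of_chain hp (K := fun x => x = 1 ∨ (x ∈ X ∧ x = c.r (hf n) (hf n)))
    (H := fun x => x ∈ X ∧ x * x = 1) (fun _ h => h.1) ?_ ?_ ?_ ?_ ⟨hx, hxx⟩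
  · rintro _ (rfl | ⟨h, -⟩)
    · exact X.one_mem
    · exact h
  · rintro _ (rfl | ⟨h2, rfl⟩)
    · exact h.map_one
    · exact hh h2
  · rintro x ⟨hx, hxx⟩
    exact ⟨h.maps x hx, by rw [← h.mul x hx x hx, hxx, h.map_one]⟩
  · rintro x y ⟨hx, hxx⟩ ⟨hy, hyy⟩ hxK hyK
    have hxy := X.mul_mem (X.inv_mem hx) hy
    obtain ⟨a, b, rfl⟩ := c.mem_U.1 (hX hx)
    obtain ⟨e, f, rfl⟩ := c.mem_U.1 (hX hy)
    rw [c.r_mul_r, c.r_eq_one_iff, add_self_eq_zero_iff' h1, add_self_eq_zero_iff' h1] at hxx hyy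
    rw [c.r_inv, c.r_mul_r] at hxy ⊢
    have h3 := neg_hf h1
    have h4 := hf_add_hf h1
    obtain ⟨rfl | rfl, rfl | rfl⟩ := hxx <;> obtain ⟨rfl | rfl, rfl | rfl⟩ := hyy <;>
      simp_all [c.r_zero]

/-- an odd automorphism of `X ≤ S` normalizing `X ∩ U` and fixing the central involution
is trivial -/
theorem fix_of_U_invariant (hX : X ≤ S) (h : OddAut X φ)
    (hh : φ (c.r (hf n) (hf n)) = c.r (hf n) (hf n))
    (hU : ∀ x ∈ X, x ∈ c.U → φ x ∈ c.U) {x : G} (hx : x ∈ X) : φ x = x := by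
  have hp : IsPGroup 2 X := c.isPGroup.to_le hX
  have h1 : OddAut (X ⊓ c.U) φ := h.restrict inf_le_left
    (fun x hx => ⟨h.maps x hx.1, hU x hx.1 hx.2⟩)
  have h2 : ∀ x ∈ X ⊓ c.U, φ x = x := fun x hx =>
    c.fix_of_le_U inf_le_right h1 (fun _ => hh) hx
  refine h.fix_of_chain hp (K := (· ∈ X ⊓ c.U)) (H := (· ∈ X)) (fun _ h => h) (fun _ h => h.1)
    h2 h.maps (fun x y hx hy hxK hyK => ⟨X.mul_mem (X.inv_mem hx) hy, ?_⟩) hx
  rcases c.cases (hX hx) with ⟨a, b, rfl⟩ | ⟨a, b, rfl⟩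
  · exact absurd ⟨hx, c.r_mem_U _ _⟩ hxK
  rcases c.cases (hX hy) with ⟨e, f, rfl⟩ | ⟨e, f, rfl⟩
  · exact absurd ⟨hy, c.r_mem_U _ _⟩ hyK
  rw [c.s_inv, c.s_mul_s]; exact c.r_mem_U _ _

theorem r_mem_iff_of_Z_le (hZ : c.Z ≤ X) {a b : ZMod (2 ^ n)} :
    c.r a b ∈ X ↔ c.r (a - b) 0 ∈ X := by
  have : c.r a b = c.r (a - b) 0 * c.r b b := by rw [c.r_mul_r]; congr 1 <;> ring
  rw [this, X.mul_mem_cancel_right (hZ (c.r_mem_Z.2 rfl))]

theorem s_mem_iff_of_Z_le (hZ : c.Z ≤ X) {e f : ZMod (2 ^ n)} (hs : c.s e f ∈ X)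
    {a b : ZMod (2 ^ n)} : c.s a b ∈ X ↔ c.r (a - b - (e - f)) 0 ∈ X := by
  have : c.s a b = c.r (a - e) (b - f) * c.s e f := by rw [c.r_mul_s]; congr 1 <;> ring
  rw [this, X.mul_mem_cancel_right hs, c.r_mem_iff_of_Z_le hZ]
  congr! 2; ring

/-- Classification of the subgroups containing `Z`, not contained in `U`, with a nontrivial
automorphism of odd order. -/
theorem oddAut_cases_of_not_le (hX : X ≤ S) (hZ : c.Z ≤ X) {e f : ZMod (2 ^ n)}
    (hs : c.s e f ∈ X) (h : OddAut X φ) : (∀ x ∈ X, φ x = x) ∨ ∃ k, X = c.V (k + k) := by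
  have h1 := c.one_le
  have hp : IsPGroup 2 X := c.isPGroup.to_le hX
  have hhX : c.r (hf n) (hf n) ∈ X := hZ c.hh_mem_Z
  by_cases hA : ∃ d, c.r d 0 ∈ X ∧ d + d ≠ 0
  · -- the large case
    obtain ⟨d, hd, hd2⟩ := hA
    left
    have hna : ∃ u ∈ X, ∃ v ∈ X, u * v ≠ v * u := ⟨_, hd, _, hs, fun h => by
      rw [c.r_comm_s_iff] at h; exact hd2 (by rw [h]; simp)⟩
    have hh : φ (c.r (hf n) (hf n)) = c.r (hf n) (hf n) :=
      c.fix_hh_of_mem_Z h hhX (c.mem_Z_of_central hX hna (hX (h.maps _ hhX))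
        (h.central hhX (fun y hy => c.Z_comm c.hh_mem_Z (hX hy))))
    refine fun x hx => c.fix_of_U_invariant hX h hh (fun x hx hxU => ?_) hx
    obtain ⟨u, hu, hu'⟩ := h.surj hd
    obtain ⟨v, hv, hv'⟩ := h.surj hs
    have hw : u * v * u⁻¹ * v⁻¹ ∈ X :=
      X.mul_mem (X.mul_mem (X.mul_mem hu hv) (X.inv_mem hu)) (X.inv_mem hv)
    have h2 : φ (u * v * u⁻¹ * v⁻¹) = c.r d (-d) := by
      rw [h.mul _ (X.mul_mem (X.mul_mem hu hv) (X.inv_mem hu)) _ (X.inv_mem hv),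
        h.mul _ (X.mul_mem hu hv) _ (X.inv_mem hu), h.mul _ hu _ hv, h.map_inv hu, h.map_inv hv,
        hu', hv', c.r_conj_s, c.s_inv, c.s_mul_s]
      congr 1 <;> ring
    have h3 : u * v * u⁻¹ * v⁻¹ ∈ c.U := by
      obtain ⟨a, ha⟩ := c.mem_D.1 (c.commutator_mem_D (hX hu) (hX hv))
      rw [ha]; exact c.r_mem_U _ _
    have h4 := (h.comm_iff hx hw).2 (c.U_comm hxU h3)
    rw [h2] at h4
    rcases c.cases (hX (h.maps x hx)) with ⟨a, b, hab⟩ | ⟨a, b, hab⟩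
    · rw [hab]; exact c.r_mem_U _ _
    · rw [hab, c.s_comm_r_iff] at h4
      exact absurd (by linear_combination h4) hd2
  push Not at hA
  have hsq : ∀ x ∈ X, x * x ∈ c.Z := by
    intro x hx
    rcases c.cases (hX hx) with ⟨a, b, rfl⟩ | ⟨a, b, rfl⟩
    · rw [c.r_mul_r, c.r_mem_Z]
      linear_combination hA _ ((c.r_mem_iff_of_Z_le hZ).1 hx)
    · rw [c.s_mul_s, c.r_mem_Z, add_comm]
  have hh : φ (c.r (hf n) (hf n)) = c.r (hf n) (hf n) := by
    refine c.fix_hh_of_mem_Z h hhX ?_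
    have hq : c.r (qt n) (qt n) ∈ X := hZ (c.r_mem_Z.2 rfl)
    rw [← qt_add_qt c.two_le, ← c.r_mul_r, h.mul _ hq _ hq]
    exact hsq _ (h.maps _ hq)
  rcases even_or_odd' (e - f) with ⟨k, hk⟩ | ⟨k, hk⟩
  · by_cases hB : c.r (hf n) 0 ∈ X
    · right
      refine ⟨k, c.ext_sub hX (c.V_le _) (fun a b => ?_) (fun a b => ?_)⟩
      · rw [c.r_mem_iff_of_Z_le hZ, c.r_mem_V]
        refine ⟨fun h => (add_self_eq_zero_iff' h1 _).1 (hA _ h), ?_⟩
        rintro (h | h) <;> rw [h]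
        · rw [c.r_zero]; exact X.one_mem
        · exact hB
      · rw [c.s_mem_iff_of_Z_le hZ hs, c.s_mem_V, hk]
        refine ⟨fun h => (add_self_eq_zero_iff' h1 _).1 (hA _ h), ?_⟩
        rintro (h | h) <;> rw [h]
        · rw [c.r_zero]; exact X.one_mem
        · exact hB
    · left
      have hD : ∀ d, c.r d 0 ∈ X → d = 0 := fun d hd =>
        ((add_self_eq_zero_iff' h1 _).1 (hA _ hd)).resolve_right (fun h => hB (h ▸ hd))
      have hC : X ≤ c.C (e - f) := c.le_sub hX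
        (fun a b hab => c.r_mem_C.2 (sub_eq_zero.1 (hD _ ((c.r_mem_iff_of_Z_le hZ).1 hab))))
        (fun a b hab => c.s_mem_C.2 (sub_eq_zero.1 (hD _ ((c.s_mem_iff_of_Z_le hZ hs).1 hab))))
      have hcomm : ∀ x ∈ X, ∀ y ∈ X, x * y = y * x := fun x hx y hy => c.C_comm (hC hx) (hC hy)
      refine fun x hx => h.fix_of_comm_of_fix_involutions hp hcomm (fun x hx hxx => ?_) hx
      have hK : ∀ x ∈ c.Z, x * x = 1 → x = 1 ∨ x = c.r (hf n) (hf n) := fun x hx hxx => by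
        by_cases h1 : x = 1
        · exact Or.inl h1
        · exact Or.inr (c.eq_hh_of_mem_Z hx hxx h1)
      refine h.fix_of_chain hp (K := fun x => x = 1 ∨ x = c.r (hf n) (hf n))
        (H := fun x => x ∈ X ∧ x * x = 1) (fun _ h => h.1) ?_ ?_ ?_ ?_ ⟨hx, hxx⟩
      · rintro _ (rfl | rfl)
        · exact X.one_mem
        · exact hhX
      · rintro _ (rfl | rfl)
        · exact h.map_one
        · exact hh
      · rintro x ⟨hx, hxx⟩
        exact ⟨h.maps x hx, by rw [← h.mul x hx x hx, hxx, h.map_one]⟩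
      · rintro x y ⟨hx, hxx⟩ ⟨hy, hyy⟩ hxK hyK
        have hxy := X.mul_mem (X.inv_mem hx) hy
        have hxy2 : x⁻¹ * y * (x⁻¹ * y) = 1 := by
          have := hcomm y hy x⁻¹ (X.inv_mem hx)
          calc x⁻¹ * y * (x⁻¹ * y) = x⁻¹ * (y * x⁻¹) * y := by group
            _ = (x * x)⁻¹ * (y * y) := by rw [this]; group
            _ = 1 := by rw [hxx, hyy]; simp
        rcases c.cases (hX hx) with ⟨a, b, rfl⟩ | ⟨a, b, rfl⟩
        · exact absurd (hK _ (c.r_mem_Z.2 (c.r_mem_C.1 (hC hx))) hxx) hxK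
        rcases c.cases (hX hy) with ⟨a', b', rfl⟩ | ⟨a', b', rfl⟩
        · exact absurd (hK _ (c.r_mem_Z.2 (c.r_mem_C.1 (hC hy))) hyy) hyK
        refine hK _ ?_ hxy2
        rw [c.s_inv, c.s_mul_s] at hxy ⊢
        exact c.r_mem_Z.2 (c.r_mem_C.1 (hC hxy))
  · left
    refine fun x hx => c.fix_of_U_invariant hX h hh (fun x hx hxU => ?_) hx
    have h2 : φ x ^ 2 ^ n = 1 := by
      rw [h.pow_eq_one_iff hx]
      obtain ⟨a, b, rfl⟩ := c.mem_U.1 hxU
      exact c.r_pow_card _ _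
    rcases c.cases (hX (h.maps x hx)) with ⟨a, b, hab⟩ | ⟨a, b, hab⟩
    · rw [hab]; exact c.r_mem_U _ _
    · exfalso
      have h3 := hA _ ((c.s_mem_iff_of_Z_le hZ hs).1 (hab ▸ h.maps x hx))
      rw [hab, c.s_pow_card, c.r_eq_one_iff] at h2
      have h4 := hf_add_hf h1
      have h5 := qt_add_qt c.two_le
      apply hf_ne_zero h1
      rcases (add_self_eq_zero_iff' h1 _).1 h3 with h6 | h6
      · linear_combination h2.1 - (b + k) * h4 - hf n * h6 - hf n * hk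
      · linear_combination h2.1 - (b + k + qt n) * h4 - hf n * h6 - hf n * hk + hf n * h5

/-- Classification of the self-centralizing subgroups with a nontrivial automorphism of odd
order. -/
theorem oddAut_cases (hX : X ≤ S) (hC : S ⊓ Subgroup.centralizer (X : Set G) ≤ X)
    (h : OddAut X φ) : (∀ x ∈ X, φ x = x) ∨ X = c.U ∨ ∃ k, X = c.V (k + k) := by
  rcases c.le_U_or X hX with hU | ⟨e, f, hs⟩
  · exact Or.inr (Or.inl (le_antisymm hU fun u hu =>
      hC ⟨c.U_le hu, fun x hx => c.U_comm (hU hx) hu⟩))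
  · have hZ : c.Z ≤ X := fun z hz => hC ⟨c.Z_le hz, fun x hx => (c.Z_comm hz (hX hx)).symm⟩
    exact (c.oddAut_cases_of_not_le hX hZ hs h).imp_right Or.inr

end

/-! ### the subgroups `V d` -/

theorem V_not_comm (d : ZMod (2 ^ n)) : ∃ u ∈ c.V d, ∃ v ∈ c.V d, u * v ≠ v * u :=
  ⟨c.r (hf n) 0, c.r_mem_V.2 (by simp), c.s d 0, c.s_mem_V.2 (by simp), fun h =>
    hf_ne_zero c.one_le (c.r_comm_s_iff.1 h)⟩

theorem map_conj_V (d u : ZMod (2 ^ n)) :
    (c.V d).map (MulAut.conj (c.r u 0)).toMonoidHom = c.V (d + (u + u)) := by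
  refine c.ext_sub (map_conj_le (c.V_le d) (c.r_mem _ _)) (c.V_le _) (fun a b => ?_) (fun a b => ?_)
  · rw [mem_map_conj_iff, c.r_inv, c.r_mul_r, c.r_mul_r, c.r_mem_V', c.r_mem_V']
    constructor <;> intro h <;> linear_combination h
  · rw [mem_map_conj_iff, c.r_inv, c.r_mul_s, c.s_mul_r, c.s_mem_V', c.s_mem_V']
    constructor <;> intro h <;> linear_combination h

theorem r_mem_normalizer_V {d a b : ZMod (2 ^ n)} :
    c.r a b ∈ Subgroup.normalizer (c.V d : Set G) ↔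
      ((a - b) + (a - b)) + ((a - b) + (a - b)) = 0 := by
  constructor
  · intro h
    have := (Subgroup.mem_normalizer_iff.1 h (c.s d 0)).1 (c.s_mem_V.2 (by simp))
    rw [c.r_conj_s, c.s_mem_V'] at this
    linear_combination this
  · intro h
    have key : ∀ a b : ZMod (2 ^ n), ((a - b) + (a - b)) + ((a - b) + (a - b)) = 0 →
        ∀ x ∈ c.V d, c.r a b * x * (c.r a b)⁻¹ ∈ c.V d := by
      intro a b h x hx
      rcases c.cases (c.V_le d hx) with ⟨e, f, rfl⟩ | ⟨e, f, rfl⟩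
      · rwa [c.r_conj_r]
      · rw [c.r_conj_s, c.s_mem_V']; linear_combination h + c.s_mem_V'.1 hx
    refine Subgroup.mem_normalizer_iff.2 fun x => ⟨key a b h x, fun hx => ?_⟩
    have := key (-a) (-b) (by linear_combination -h) _ hx
    rw [← c.r_inv] at this
    simpa [mul_assoc] using this

theorem s_mem_normalizer_V {d a b : ZMod (2 ^ n)} :
    c.s a b ∈ Subgroup.normalizer (c.V d : Set G) ↔
      ((a - b - d) + (a - b - d)) + ((a - b - d) + (a - b - d)) = 0 := by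
  have h1 : c.s a b = c.r (a - d) b * c.s d 0 := by rw [c.r_mul_s]; congr 1 <;> ring
  have h2 : c.s d 0 ∈ Subgroup.normalizer (c.V d : Set G) :=
    Subgroup.le_normalizer (c.s_mem_V.2 (by simp))
  rw [h1, Subgroup.mul_mem_cancel_right _ h2, c.r_mem_normalizer_V]
  constructor <;> intro h <;> linear_combination h

theorem qt_mem_normalizer_V (d : ZMod (2 ^ n)) :
    c.r (qt n) 0 ∈ Subgroup.normalizer (c.V d : Set G) := by
  rw [c.r_mem_normalizer_V]
  linear_combination 2 * qt_add_qt c.two_le + hf_add_hf c.one_le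

theorem qt_not_mem_V (d : ZMod (2 ^ n)) : c.r (qt n) 0 ∉ c.V d := by
  rw [c.r_mem_V']
  intro h
  exact hf_ne_zero c.one_le (by linear_combination h - qt_add_qt c.two_le)

theorem mem_V_or_of_mem_normalizer {d : ZMod (2 ^ n)} {g : G} (hg : g ∈ S)
    (hN : g ∈ Subgroup.normalizer (c.V d : Set G)) : g * c.r (qt n) 0 ∈ c.V d ∨ g ∈ c.V d := by
  have h4 := hf_add_hf c.one_le
  have h5 := qt_add_qt c.two_le
  rcases c.cases hg with ⟨a, b, rfl⟩ | ⟨a, b, rfl⟩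
  · rw [c.r_mul_r, c.r_mem_V', c.r_mem_V']
    rcases four_mul_eq_zero_cases c.two_le (c.r_mem_normalizer_V.1 hN) with h | h
    · exact Or.inr h
    · left; linear_combination h + h5 + h4
  · rw [c.s_mul_r, c.s_mem_V', c.s_mem_V']
    rcases four_mul_eq_zero_cases c.two_le (c.s_mem_normalizer_V.1 hN) with h | h
    · exact Or.inr h
    · left; linear_combination h - h5

theorem relIndex_V (d : ZMod (2 ^ n)) :
    (c.V d).relIndex (S ⊓ Subgroup.normalizer (c.V d : Set G)) = 2 := by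
  rw [Subgroup.relIndex_eq_two_iff_exists_notMem_and]
  exact ⟨c.r (qt n) 0, ⟨c.r_mem _ _, c.qt_mem_normalizer_V d⟩, c.qt_not_mem_V d,
    fun g hg => c.mem_V_or_of_mem_normalizer hg.1 hg.2⟩

theorem le_normalizer_U : S ≤ Subgroup.normalizer (c.U : Set G) := by
  intro g hg
  refine Subgroup.mem_normalizer_iff.2 fun x => ⟨c.conj_mem_U hg, fun hx => ?_⟩
  simpa [mul_assoc] using c.conj_mem_U (S.inv_mem hg) hx

theorem relIndex_U : c.U.relIndex S = 2 := by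
  rw [Subgroup.relIndex_eq_two_iff_exists_notMem_and]
  refine ⟨c.s 0 0, c.s_mem _ _, c.s_not_mem_U _ _, fun g hg => ?_⟩
  rcases c.cases hg with ⟨a, b, rfl⟩ | ⟨a, b, rfl⟩
  · exact Or.inr (c.r_mem_U _ _)
  · left; rw [c.s_mul_s]; exact c.r_mem_U _ _

theorem inf_centralizer_V (d : ZMod (2 ^ n)) : S ⊓ Subgroup.centralizer (c.V d : Set G) = c.Z := by
  apply le_antisymm
  · intro g hg
    exact c.mem_Z_of_central (c.V_le d) (c.V_not_comm d) hg.1 (fun y hy => (hg.2 y hy).symm)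
  · exact fun z hz => ⟨c.Z_le hz, fun y hy => (c.Z_comm hz (c.V_le d hy)).symm⟩

theorem inf_centralizer_U : S ⊓ Subgroup.centralizer (c.U : Set G) = c.U := by
  apply le_antisymm
  · intro g hg
    rcases c.cases hg.1 with ⟨a, b, rfl⟩ | ⟨a, b, rfl⟩
    · exact c.r_mem_U _ _
    · exact absurd (c.r_comm_s_iff.1 (hg.2 _ (c.r_mem_U 1 0))) (one_ne_zero' c.one_le)
  · exact fun u hu => ⟨c.U_le hu, fun y hy => c.U_comm hy hu⟩

/-- the quaternion subgroup of order 8 of `V d` (for even `d`) -/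
def Q (d : ZMod (2 ^ n)) : Subgroup G := c.Y ⊓ c.V d

theorem Q_le (d : ZMod (2 ^ n)) : c.Q d ≤ S := inf_le_left.trans c.Y_le
theorem Q_le_Y (d : ZMod (2 ^ n)) : c.Q d ≤ c.Y := inf_le_left
theorem Q_le_V (d : ZMod (2 ^ n)) : c.Q d ≤ c.V d := inf_le_right
theorem r_mem_Q {d a b : ZMod (2 ^ n)} :
    c.r a b ∈ c.Q d ↔ a + b = 0 ∧ (a - b) + (a - b) = 0 := by
  rw [Q, Subgroup.mem_inf, c.r_mem_Y, c.r_mem_V']
theorem s_mem_Q {d a b : ZMod (2 ^ n)} :
    c.s a b ∈ c.Q d ↔ a + b = hf n ∧ (a - b - d) + (a - b - d) = 0 := by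
  rw [Q, Subgroup.mem_inf, c.s_mem_Y, c.s_mem_V']

theorem qt_mem_Q (d : ZMod (2 ^ n)) : c.r (qt n) (-qt n) ∈ c.Q d :=
  c.r_mem_Q.2 ⟨by ring, by linear_combination 2 * qt_add_qt c.two_le + hf_add_hf c.one_le⟩

theorem s_qt_mem_Q (k : ZMod (2 ^ n)) : c.s (qt n + k) (qt n - k) ∈ c.Q (k + k) :=
  c.s_mem_Q.2 ⟨by linear_combination qt_add_qt c.two_le, by ring⟩

theorem orderOf_qt : orderOf (c.r (qt n) (-qt n)) = 2 * 2 := by
  have h4 := hf_add_hf c.one_le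
  have h5 := qt_add_qt c.two_le
  refine (orderOf_eq_prime_pow (p := 2) (n := 1) ?_ ?_).trans (by norm_num)
  · rw [c.r_pow, c.r_eq_one_iff]
    rintro ⟨h, -⟩
    exact hf_ne_zero c.one_le (by push_cast at h; linear_combination h - h5)
  · rw [c.r_pow, c.r_eq_one_iff]
    push_cast
    exact ⟨by linear_combination 2 * h5 + h4, by linear_combination -2 * h5 - h4⟩

theorem Q_quaternion (k : ZMod (2 ^ n)) : Nonempty (c.Q (k + k) ≃* QuaternionGroup 2) := by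
  have h4 := hf_add_hf c.one_le
  have h5 := qt_add_qt c.two_le
  refine nonempty_mulEquiv_quaternion 2 (by norm_num) (c.r (qt n) (-qt n))
    (c.s (qt n + k) (qt n - k)) c.orderOf_qt ?_ ?_ ?_ _ (c.qt_mem_Q _) (c.s_qt_mem_Q k) ?_
  · rw [c.s_mul_s, c.r_pow]
    congr 1
    · push_cast; ring
    · push_cast; linear_combination 2 * h5 + h4
  · rw [c.s_conj_r, c.r_inv, neg_neg]
  · rintro ⟨j, hj⟩
    exact c.r_ne_s _ _ _ _ ((c.r_zpow _ _ j).symm.trans hj)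
  · intro g hg
    rcases c.cases (c.Q_le _ hg) with ⟨a, b, rfl⟩ | ⟨a, b, rfl⟩
    · left
      obtain ⟨h1, h2⟩ := c.r_mem_Q.1 hg
      obtain ⟨j, hj⟩ := exists_natCast_mul_qt c.two_le (u := a) (by linear_combination h2 + 2 * h1)
      refine ⟨j, ?_⟩
      rw [c.r_pow]
      congr 1
      linear_combination h1 - hj
    · right
      obtain ⟨h1, h2⟩ := c.s_mem_Q.1 hg
      obtain ⟨j, hj⟩ := exists_natCast_mul_qt c.two_le (u := b - qt n + k)
        (by linear_combination 2 * h1 - h2 - 2 * h5)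
      refine ⟨j, ?_⟩
      rw [c.r_pow, c.s_mul_r]
      congr 1
      · linear_combination h1 - hj - h5
      · linear_combination hj

theorem exists_Q_mul_Z (k : ZMod (2 ^ n)) {x : G} (hx : x ∈ c.V (k + k)) :
    ∃ y ∈ c.Q (k + k), ∃ z ∈ c.Z, x = y * z := by
  have h4 := hf_add_hf c.one_le
  have h5 := qt_add_qt c.two_le
  have hr : ∀ a b, c.r a b ∈ c.V (k + k) → ∃ y ∈ c.Q (k + k), ∃ z ∈ c.Z, c.r a b = y * z := by
    intro a b hab
    rcases c.r_mem_V.1 hab with h | h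
    · exact ⟨1, Subgroup.one_mem _, _, c.r_mem_Z.2 (sub_eq_zero.1 h), (one_mul _).symm⟩
    · refine ⟨_, c.qt_mem_Q _, c.r (a - qt n) (a - qt n), c.r_mem_Z.2 rfl, ?_⟩
      rw [c.r_mul_r]; congr 1
      · ring
      · linear_combination h5 - h
  rcases c.cases (c.V_le _ hx) with ⟨a, b, rfl⟩ | ⟨a, b, rfl⟩
  · exact hr a b hx
  · have hy := c.s_qt_mem_Q k
    have h1 := (c.V (k + k)).mul_mem ((c.V (k + k)).inv_mem (c.Q_le_V _ hy)) hx
    have h2 := h1
    rw [c.s_inv, c.s_mul_s] at h1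
    obtain ⟨y, hy', z, hz, h⟩ := hr _ _ h1
    rw [← c.s_mul_s, ← c.s_inv, inv_mul_eq_iff_eq_mul] at h
    exact ⟨_, Subgroup.mul_mem _ hy hy', z, hz, by rw [h, mul_assoc]⟩

theorem Q_sup_Z (k : ZMod (2 ^ n)) : c.Q (k + k) ⊔ c.Z = c.V (k + k) := by
  refine le_antisymm (sup_le (c.Q_le_V _) (c.Z_le_V _)) fun x hx => ?_
  obtain ⟨y, hy, z, hz, rfl⟩ := c.exists_Q_mul_Z k hx
  exact Subgroup.mul_mem_sup hy hz

theorem card_Q (k : ZMod (2 ^ n)) : Nat.card (c.Q (k + k)) = 8 := by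
  obtain ⟨e⟩ := c.Q_quaternion k
  exact (quat_subgroup_facts le_rfl _ e).2.2.2.2

/-- every quaternion subgroup of order 8 of `S` is some `Q (k + k)` -/
theorem eq_Q_of_quaternion {X : Subgroup G} (hX : X ≤ S) (e : X ≃* QuaternionGroup 2) :
    ∃ k, X = c.Q (k + k) := by
  obtain ⟨h1, h2, h3, -, h5⟩ := quat_subgroup_facts le_rfl X e
  have hY := c.le_Y_of_quat hX h1 h2 h3
  have h4 : ∀ x ∈ X, x ^ 4 = 1 := by
    intro x hx
    have : (e ⟨x, hx⟩) ^ 4 = 1 := by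
      generalize e ⟨x, hx⟩ = w
      revert w; decide
    rw [← map_pow, map_eq_one_iff e e.injective] at this
    exact congrArg Subtype.val this
  obtain ⟨u, hu, v, hv, huv⟩ := h1
  rcases c.le_U_or X hX with hU | ⟨a, b, hab⟩
  · exact absurd (c.U_comm (hU hu) (hU hv)) huv
  have hq := qt_add_qt c.two_le
  have hs := c.s_mem_Y.1 (hY hab)
  refine ⟨a - qt n, ?_⟩
  have : Finite (c.Q (a - qt n + (a - qt n))) :=
    Nat.finite_of_card_ne_zero (by rw [c.card_Q]; norm_num)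
  have hr : ∀ x y, c.r x y ∈ X → (x - y) + (x - y) = 0 := by
    intro x y hxy
    have h6 := h4 _ hxy
    rw [c.r_pow, c.r_eq_one_iff] at h6
    push_cast at h6
    linear_combination h6.1 - 2 * c.r_mem_Y.1 (hY hxy)
  refine Subgroup.eq_of_le_of_card_ge (c.le_sub hX (fun x y hxy => ?_) (fun x y hxy => ?_))
    (by rw [c.card_Q, h5])
  · exact c.r_mem_Q.2 ⟨c.r_mem_Y.1 (hY hxy), hr x y hxy⟩
  · refine c.s_mem_Q.2 ⟨c.s_mem_Y.1 (hY hxy), ?_⟩
    have h6 := X.mul_mem hxy (X.inv_mem hab)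
    rw [c.s_inv, c.s_mul_s] at h6
    linear_combination hr _ _ h6 - 2 * hs + 2 * hq

end Coord

end CL.Wr
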