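import Cfsg.Agent.Base
import Cfsg.Agent.Transfer.Alperin
import Cfsg.Agent.Transfer.Frobenius

/-!
# Convenient forms of Alperin's fusion theorem and of the focal subgroup theorem
-/

set_option autoImplicit false

namespace CL.Fus

open Subgroup CL.Transfer
open scoped Pointwise

variable {G : Type*} [Group G] [Finite G] {p : ℕ} [hp : Fact p.Prime]

/-- A subgroup containing a Sylow `p`-subgroup of `H` and all `p'`-elements of `H` contains `H`. -/
theorem le_of_isSylowIn_of_coprime {Q H K : Subgroup G} (hQ : IsSylowIn p Q H) (hQK : Q ≤ K)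
    (h : ∀ x ∈ H, (orderOf x).Coprime p → x ∈ K) : H ≤ K := by
  intro x hx
  obtain ⟨y, hy, z, hz, rfl⟩ := hQ.exists_mul_pResidual hx
  refine K.mul_mem (hQK hy) ?_
  rw [map_pResidual_subtype_eq_closure] at hz
  exact (closure_le K).2 (fun g hg => h g hg.1 hg.2) hz

/-- If a prime `q` divides the index of `K` in `N`, some `q`-element of `N` lies outside `K`. -/
theorem exists_not_mem_of_prime_dvd_relIndex {K N : Subgroup G} {q : ℕ} (hq : q.Prime)
    (h : q ∣ K.relIndex N) : ∃ g ∈ N, g ∉ K ∧ ∃ k, orderOf g = q ^ k := by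
  have : Fact q.Prime := ⟨hq⟩
  obtain ⟨Q, hQ⟩ := exists_isSylowIn (p := q) N
  by_contra h'
  push Not at h'
  have hQK : Q ≤ K := by
    intro g hg
    by_contra hgK
    obtain ⟨k, hk⟩ := IsPGroup.iff_orderOf.1 hQ.isPGroup ⟨g, hg⟩
    exact h' g (hQ.le hg) hgK k (by rw [← hk, Subgroup.orderOf_mk])
  exact hQ.not_dvd (h.trans (relIndex_dvd_of_le_left N hQK))

omit [Finite G] hp in
theorem IsExtremal_smul_of_mem {P : Sylow p G} {D : Subgroup G} (hD : IsExtremal P D) {s : G}
    (hs : s ∈ (P : Subgroup G)) : IsExtremal P (MulAut.conj s • D) := by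
  refine ⟨?_, ?_⟩
  · rw [← conj_smul_eq_of_mem hs]; exact conj_smul_mono s hD.1
  · have := hD.2.smul s
    rwa [conj_smul_inf, conj_smul_normalizer, conj_smul_eq_of_mem hs] at this

/-- Alperin's fusion theorem: a function invariant under conjugation in `P` and under the
`p'`-elements of the normalizers of the extremal self-centralizing subgroups of `P` is invariant
under `G`-fusion in `P`. -/
theorem apply_conj_eq_of_coprime {α : Type*} (P : Sylow p G) (f : G → α)
    (hP : ∀ s ∈ (P : Subgroup G), ∀ a ∈ (P : Subgroup G), f (s * a * s⁻¹) = f a)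
    (hodd : ∀ D : Subgroup G, IsExtremal P D → (P : Subgroup G) ⊓ centralizer (D : Set G) ≤ D →
      ∀ x ∈ normalizer (D : Set G), (orderOf x).Coprime p → ∀ a ∈ D, f (x * a * x⁻¹) = f a)
    (a g : G) (ha : a ∈ (P : Subgroup G)) (hg : g * a * g⁻¹ ∈ (P : Subgroup G)) :
    f (g * a * g⁻¹) = f a := by
  have key : ∀ D : Subgroup G, IsExtremal P D → (P : Subgroup G) ⊓ centralizer (D : Set G) ≤ D →
      ∀ x ∈ normalizer (D : Set G), ∀ a ∈ D, f (x * a * x⁻¹) = f a := by
    intro D hD hC
    let H : Subgroup G :=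
      { carrier := {x | x ∈ normalizer (D : Set G) ∧ ∀ a ∈ D, f (x * a * x⁻¹) = f a}
        one_mem' := ⟨one_mem _, fun a _ => by simp⟩
        mul_mem' := by
          rintro x y ⟨hx, hx'⟩ ⟨hy, hy'⟩
          refine ⟨mul_mem hx hy, fun a ha => ?_⟩
          have := hx' _ ((mem_normalizer_iff.1 hy a).1 ha)
          rw [hy' a ha] at this
          rw [← this]; congr 1; group
        inv_mem' := by
          rintro x ⟨hx, hx'⟩
          refine ⟨inv_mem hx, fun a ha => ?_⟩
          have := hx' _ ((mem_normalizer_iff.1 (inv_mem hx) a).1 ha)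
          rw [← this]; congr 1; group }
    have : normalizer (D : Set G) ≤ H := le_of_isSylowIn_of_coprime hD.2
      (fun x hx => ⟨hx.2, fun a ha => hP x hx.1 a (hD.1 ha)⟩)
      (fun x hx hc => ⟨hx, hodd D hD hC x hx hc⟩)
    exact fun x hx => (this hx).2
  exact apply_conj_eq_of_essential P f (key P (isExtremal_self P) inf_le_left)
    (fun D x hD hx => key D hD.1 hD.inf_centralizer_le x hx) a g ha hg

/-- Subgroup-level version: if `H ≥ P` realises the action of every `p'`-element of the normalizers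
of the extremal self-centralizing subgroups of `P`, then `H` controls strong fusion in `P`. -/
theorem control_fusion_of_coprime (P : Sylow p G) (H : Subgroup G) (hPH : (P : Subgroup G) ≤ H)
    (hodd : ∀ D : Subgroup G, IsExtremal P D → (P : Subgroup G) ⊓ centralizer (D : Set G) ≤ D →
      ∀ x ∈ normalizer (D : Set G), (orderOf x).Coprime p →
        ∃ h ∈ H, ∀ a ∈ D, h * a * h⁻¹ = x * a * x⁻¹)
    (A : Subgroup G) (g : G) (hA : A ≤ P) (hg : MulAut.conj g • A ≤ P) :
    ∃ h ∈ H, ∀ a ∈ A, h * a * h⁻¹ = g * a * g⁻¹ := by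
  have key : ∀ D : Subgroup G, IsExtremal P D → (P : Subgroup G) ⊓ centralizer (D : Set G) ≤ D →
      ∀ x ∈ normalizer (D : Set G), ∃ h ∈ H, ∀ a ∈ D, h * a * h⁻¹ = x * a * x⁻¹ := by
    intro D hD hC
    let M : Subgroup G :=
      { carrier := {x | x ∈ normalizer (D : Set G) ∧ ∃ h ∈ H, ∀ a ∈ D, h * a * h⁻¹ = x * a * x⁻¹}
        one_mem' := ⟨one_mem _, 1, one_mem _, fun a _ => rfl⟩
        mul_mem' := by
          rintro x y ⟨hx, h, hh, hx'⟩ ⟨hy, k, hk, hy'⟩
          refine ⟨mul_mem hx hy, h * k, mul_mem hh hk, fun a ha => ?_⟩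
          have := hx' _ ((mem_normalizer_iff.1 hy a).1 ha)
          calc h * k * a * (h * k)⁻¹ = h * (k * a * k⁻¹) * h⁻¹ := by group
            _ = x * (y * a * y⁻¹) * x⁻¹ := by rw [hy' a ha, this]
            _ = _ := by group
        inv_mem' := by
          rintro x ⟨hx, h, hh, hx'⟩
          refine ⟨inv_mem hx, h⁻¹, inv_mem hh, fun a ha => ?_⟩
          have := hx' _ ((mem_normalizer_iff.1 (inv_mem hx) a).1 ha)
          calc h⁻¹ * a * h⁻¹⁻¹ = h⁻¹ * (x * (x⁻¹ * a * x⁻¹⁻¹) * x⁻¹) * h := by group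
            _ = _ := by rw [← this]; group }
    have : normalizer (D : Set G) ≤ M := le_of_isSylowIn_of_coprime hD.2
      (fun x hx => ⟨hx.2, x, hPH hx.1, fun a _ => rfl⟩)
      (fun x hx hc => ⟨hx, hodd D hD hC x hx hc⟩)
    exact fun x hx => (this hx).2
  exact control_fusion_of_essential P H (key P (isExtremal_self P) inf_le_left)
    (fun D x hD hx => key D hD.1 hD.inf_centralizer_le x hx) A g hA hg

/-- A subgroup `W` of a Sylow subgroup `P` containing the focal subgroup is cut out by a normal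
subgroup of index `|P : W|`. -/
theorem exists_normal_inf_eq_of_focal (P : Sylow p G) (W : Subgroup G) (hW : W ≤ P)
    (h : ∀ x ∈ (P : Subgroup G), ∀ g : G, g * x * g⁻¹ ∈ (P : Subgroup G) →
      x⁻¹ * (g * x * g⁻¹) ∈ W) :
    ∃ K : Subgroup G, K.Normal ∧ (P : Subgroup G) ⊓ K = W ∧ K.index = W.relIndex P ∧
      commutator G ≤ K := by
  have hfoc : (P : Subgroup G).focalSubgroup ≤ W := by
    rw [focalSubgroup_def, closure_le]
    rintro _ ⟨h1, x, hx, u, rfl⟩
    have h2 : u * x⁻¹ * u⁻¹ ∈ (P : Subgroup G) := by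
      have := mul_mem (inv_mem hx) h1
      simpa [commutatorElement_def, mul_assoc] using this
    have := h x⁻¹ (inv_mem hx) u h2
    simpa [commutatorElement_def, mul_assoc] using this
  set K₀ := (P : Subgroup G).transferFocal.ker with hK₀
  have hcomm : commutator G ≤ K₀ := by
    open scoped IsMulCommutative in
    exact Abelianization.commutator_subset_ker (P : Subgroup G).transferFocal
  have hinf : K₀ ⊓ P = (P : Subgroup G).focalSubgroup := ker_transferFocal_inf_eq_focalSubgroup P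
  have hN : (K₀ ⊔ W).Normal := Normal.of_commutator_le G (hcomm.trans le_sup_left)
  have hPK : (P : Subgroup G) ⊓ (K₀ ⊔ W) = W := by
    refine le_antisymm ?_ (le_inf hW le_sup_right)
    rintro x ⟨hxP, hx⟩
    obtain ⟨k, hk, w, hw, rfl⟩ := mem_sup_of_normal_left.1 hx
    refine W.mul_mem (hfoc ?_) hw
    rw [← hinf]
    exact ⟨hk, (mul_mem_cancel_right (hW hw)).1 hxP⟩
  refine ⟨K₀ ⊔ W, hN, hPK, ?_, hcomm.trans le_sup_left⟩
  have h1 : IsPGroup p (G ⧸ K₀) := (P.isPGroup'.to_quotient _).of_equiv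
    (transferFocal.quotientKerMulEquivQuotientFocalSubroupOf P).symm
  obtain ⟨k, hk⟩ := exists_index_eq_pow_of_pResidual_le
    ((pResidual_le_of_isPGroup_quotient K₀ h1).trans (le_sup_left (b := W)))
  rw [← relIndex_top_right, ← sup_eq_top_of_not_dvd_index P.not_dvd_index hk, relIndex_sup_right,
    ← inf_relIndex_left, hPK]

/-- The Sylow subgroups of a subgroup `K` are isomorphic to any ambient Sylow subgroup of `K`. -/
theorem nonempty_sylow_equiv {W K : Subgroup G} (hW : IsSylowIn p W K) (P : Sylow p K) :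
    Nonempty ((P : Subgroup K) ≃* W) :=
  ⟨(P.equiv hW.toSylow).trans (subgroupOfEquivOfLe hW.le)⟩

omit hp [Finite G] in
/-- Criterion for `K` to have no subgroup of index 2. -/
theorem index_ne_two_of_sylow_le {W K : Subgroup G} (hW : IsSylowIn 2 W K)
    (h : ∀ M : Subgroup G, M ≤ K → M.relIndex K = 2 → W ≤ M) (H : Subgroup K) : H.index ≠ 2 := by
  intro h2
  have h3 : (H.map K.subtype).relIndex K = 2 := by
    rw [relIndex, subgroupOf, comap_map_eq_self_of_injective K.subtype_injective, h2]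
  exact hW.not_dvd (h3 ▸ relIndex_dvd_of_le_left K (h _ (map_subtype_le H) h3))

omit hp [Finite G] in
theorem conj_mem_of_relIndex_two {M K : Subgroup G} (h : M.relIndex K = 2) {g x : G} (hg : g ∈ K)
    (hx : x ∈ K) : g * x * g⁻¹ ∈ M ↔ x ∈ M := by
  have := (normal_of_index_eq_two h).mem_comm_iff (a := (⟨g, hg⟩ : K) * ⟨x, hx⟩) (b := ⟨g, hg⟩⁻¹)
  simpa [mem_subgroupOf] using this

omit hp [Finite G] in
theorem mul_mem_iff_of_relIndex_two {M K : Subgroup G} (h : M.relIndex K = 2) {x y : G}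
    (hx : x ∈ K) (hy : y ∈ K) : x * y ∈ M ↔ (x ∈ M ↔ y ∈ M) := by
  simpa [mem_subgroupOf] using mul_mem_iff_of_index_two h (a := (⟨x, hx⟩ : K)) (b := ⟨y, hy⟩)

omit hp [Finite G] in
theorem inv_mul_conj_mem_of_relIndex_two {M K : Subgroup G} (h : M.relIndex K = 2) {g x : G}
    (hg : g ∈ K) (hx : x ∈ K) : x⁻¹ * (g * x * g⁻¹) ∈ M := by
  rw [mul_mem_iff_of_relIndex_two h (inv_mem hx) (mul_mem (mul_mem hg hx) (inv_mem hg)),
    conj_mem_of_relIndex_two h hg hx, inv_mem_iff]

omit hp [Finite G] in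
theorem mem_of_odd_of_relIndex_two {M K : Subgroup G} (h : M.relIndex K = 2) {g : G} (hg : g ∈ K)
    (ho : Odd (orderOf g)) : g ∈ M := by
  obtain ⟨k, hk⟩ := ho
  have h1 : g * g ∈ M := (mul_mem_iff_of_relIndex_two h hg hg).2 Iff.rfl
  have h2 : g = (g * g) ^ (k + 1) := by
    rw [← sq, ← pow_mul, show 2 * (k + 1) = orderOf g + 1 by omega, pow_succ, pow_orderOf_eq_one,
      one_mul]
  rw [h2]; exact M.pow_mem h1 _

omit hp [Finite G] in
/-- elements of odd order lie in normal subgroups of 2-power index -/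
theorem mem_of_odd_of_index_eq_pow (K : Subgroup G) [K.Normal] {k : ℕ} (h : K.index = 2 ^ k)
    {g : G} (ho : Odd (orderOf g)) : g ∈ K :=
  pResidual_le_of_index_eq_pow K h (mem_pResidual_of_coprime (Nat.coprime_two_right.2 ho))

end CL.Fus
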