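import Cfsg.Agent.TwoFus.WrAut
import Cfsg.Agent.TwoFus.AFT
import Cfsg.Agent.TwoFus.Three

/-!
# Groups with a wreathed Sylow 2-subgroup: the automizers of `U` and `V`
-/

set_option autoImplicit false

namespace CL.Wr

open CL.Fus CL.Transfer Subgroup
open scoped Pointwise

namespace Coord

section general

variable {G : Type*} [Group G] {S : Subgroup G} {n : ℕ} (c : Coord S n)

include c in
theorem finite_S : Finite S := Nat.finite_of_card_ne_zero (by rw [c.card_S]; positivity)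

theorem normalizer_U_le_normalizer_T :
    normalizer (c.U : Set G) ≤ normalizer (c.T : Set G) := by
  intro g hg
  rw [mem_normalizer_iff] at hg ⊢
  intro x
  rw [c.mem_T, c.mem_T, ← hg x]
  have : g * x * g⁻¹ * (g * x * g⁻¹) = g * (x * x) * g⁻¹ := by group
  rw [this, conj_eq_one_iff]

theorem mem_T_cases {x : G} (hx : x ∈ c.T) :
    x = 1 ∨ x = c.r (hf n) (hf n) ∨ x = c.r (hf n) 0 ∨ x = c.r 0 (hf n) := by
  obtain ⟨a, b, rfl⟩ := c.mem_U.1 (c.T_le_U hx)
  have h := c.r_mem_T.1 hx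
  rw [add_self_eq_zero_iff' c.one_le, add_self_eq_zero_iff' c.one_le] at h
  obtain ⟨rfl | rfl, rfl | rfl⟩ := h <;> simp [c.r_zero]

theorem h0_mem_T : c.r (hf n) 0 ∈ c.T := c.r_mem_T.2 ⟨hf_add_hf c.one_le, by simp⟩
theorem zh_mem_T : c.r 0 (hf n) ∈ c.T := c.r_mem_T.2 ⟨by simp, hf_add_hf c.one_le⟩
theorem hh_mem_T : c.r (hf n) (hf n) ∈ c.T := c.r_mem_T.2 ⟨hf_add_hf c.one_le, hf_add_hf c.one_le⟩

theorem inf_centralizer_T_le : S ⊓ centralizer (c.T : Set G) ≤ c.U := by
  intro g hg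
  rcases c.cases hg.1 with ⟨a, b, rfl⟩ | ⟨a, b, rfl⟩
  · exact c.r_mem_U _ _
  · exact absurd (c.r_comm_s_iff.1 (hg.2 _ c.h0_mem_T)) (hf_ne_zero c.one_le)

theorem U_le_centralizer : c.U ≤ centralizer (c.U : Set G) := fun _ hu _ hx => c.U_comm hx hu

/-- an element of odd order normalizing `U` and fixing the central involution centralizes `U` -/
theorem mem_centralizer_U_of_odd {g : G} (hg : g ∈ normalizer (c.U : Set G))
    (ho : Odd (orderOf g)) (hh : g * c.r (hf n) (hf n) * g⁻¹ = c.r (hf n) (hf n)) :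
    g ∈ centralizer (c.U : Set G) := by
  intro x hx
  have := c.fix_of_le_U le_rfl (oddAut_conj hg ho) (fun _ => hh) hx
  exact (mul_inv_eq_iff_eq_mul.1 this).symm

/-- the normalizer of `V d` normalizes `Z` -/
theorem conj_mem_Z_of_mem_normalizer_V {d : ZMod (2 ^ n)} {g x : G}
    (hg : g ∈ normalizer (c.V d : Set G)) (hx : x ∈ c.Z) : g * x * g⁻¹ ∈ c.Z := by
  refine c.mem_Z_of_central (c.V_le d) (c.V_not_comm d)
    (c.V_le d ((mem_normalizer_iff.1 hg x).1 (c.Z_le_V d hx))) (fun y hy => ?_)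
  have h1 := c.Z_comm hx (c.V_le d ((mem_normalizer_iff''.1 hg y).1 hy))
  calc g * x * g⁻¹ * y = g * (x * (g⁻¹ * y * g)) * g⁻¹ := by group
    _ = y * (g * x * g⁻¹) := by rw [h1]; group

/-- an element of odd order normalizing `V d` centralizes `Z` -/
theorem conj_eq_of_odd_of_mem_Z {d : ZMod (2 ^ n)} {g x : G}
    (hg : g ∈ normalizer (c.V d : Set G)) (ho : Odd (orderOf g)) (hx : x ∈ c.Z) :
    g * x * g⁻¹ = x :=
  (oddAut_conj hg ho).fix_of_isCyclic (c.isPGroup.to_le (c.V_le d)) (c.Z_le_V d) c.isCyclic_Z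
    (fun _ hx => c.conj_mem_Z_of_mem_normalizer_V hg hx) hx

/-- an element of odd order normalizing `V d` and `V d ⊓ U` centralizes `V d` -/
theorem mem_centralizer_V_of_odd {d : ZMod (2 ^ n)} {g : G}
    (hg : g ∈ normalizer (c.V d : Set G)) (ho : Odd (orderOf g))
    (hU : ∀ x ∈ c.V d, x ∈ c.U → g * x * g⁻¹ ∈ c.U) : g ∈ centralizer (c.V d : Set G) := by
  intro x hx
  have := c.fix_of_U_invariant (c.V_le d) (oddAut_conj hg ho)
    (c.conj_eq_of_odd_of_mem_Z hg ho c.hh_mem_Z) hU hx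
  exact (mul_inv_eq_iff_eq_mul.1 this).symm

/-- a conjugate of a quaternion subgroup of order 8 lying in `S` -/
theorem conj_Q_eq {k : ZMod (2 ^ n)} {g : G} (h : MulAut.conj g • c.Q (k + k) ≤ S) :
    ∃ l, MulAut.conj g • c.Q (k + k) = c.Q (l + l) := by
  obtain ⟨e⟩ := c.Q_quaternion k
  exact c.eq_Q_of_quaternion h (((c.Q (k + k)).equivSMul (MulAut.conj g)).symm.trans e)

/-- the normalizer of `V (k + k)` normalizes `Q (k + k)` -/
theorem conj_mem_Q_of_mem_normalizer_V {k : ZMod (2 ^ n)} {g x : G}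
    (hg : g ∈ normalizer (c.V (k + k) : Set G)) (hx : x ∈ c.Q (k + k)) :
    g * x * g⁻¹ ∈ c.Q (k + k) := by
  have h1 : MulAut.conj g • c.Q (k + k) ≤ c.V (k + k) := by
    rw [← conj_smul_eq_iff_mem_normalizer.2 hg]
    exact conj_smul_mono g (c.Q_le_V _)
  obtain ⟨l, hl⟩ := c.conj_Q_eq (h1.trans (c.V_le _))
  have h2 : g * x * g⁻¹ ∈ MulAut.conj g • c.Q (k + k) := conj_mem_conj_smul.2 hx
  exact ⟨c.Q_le_Y _ (hl ▸ h2), h1 h2⟩

theorem conj_V_eq {k : ZMod (2 ^ n)} {g : G} (h : MulAut.conj g • c.V (k + k) ≤ S) :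
    ∃ l, MulAut.conj g • c.V (k + k) = c.V (l + l) := by
  obtain ⟨l, hl⟩ := c.conj_Q_eq ((conj_smul_mono g (c.Q_le_V (k + k))).trans h)
  have h1 : MulAut.conj g • c.Z ≤ c.Z := by
    rw [conj_smul_le_iff]
    intro x hx
    obtain ⟨u, hu, v, hv, huv⟩ := c.V_not_comm (k + k)
    refine c.mem_Z_of_central h ⟨_, conj_mem_conj_smul.2 hu, _, conj_mem_conj_smul.2 hv, ?_⟩
      (h (conj_mem_conj_smul.2 (c.Z_le_V _ hx))) (fun y hy => ?_)
    · intro h'
      apply huv
      calc u * v = g⁻¹ * (g * u * g⁻¹ * (g * v * g⁻¹)) * g := by group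
        _ = v * u := by rw [h']; group
    · have h1 := c.Z_comm hx (c.V_le _ (mem_conj_smul.1 hy))
      calc g * x * g⁻¹ * y = g * (x * (g⁻¹ * y * g)) * g⁻¹ := by group
        _ = y * (g * x * g⁻¹) := by rw [h1]; group
  have : Finite c.Z := Nat.finite_of_card_ne_zero (by rw [c.card_Z]; positivity)
  have h2 : MulAut.conj g • c.Z = c.Z := eq_of_le_of_card_ge h1 (card_conj_smul g _).ge
  exact ⟨l, by rw [← c.Q_sup_Z, conj_smul_sup, hl, h2, c.Q_sup_Z]⟩

theorem conj_smul_V (k l : ZMod (2 ^ n)) :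
    MulAut.conj (c.r (l - k) 0) • c.V (k + k) = c.V (l + l) := by
  rw [conj_smul_eq_map, c.map_conj_V]; congr 1; ring

theorem card_V_inf_U (d : ZMod (2 ^ n)) : Nat.card (c.V d ⊓ c.U : Subgroup G) = 2 ^ (n + 1) := by
  rw [c.card_of_no_s _ (inf_le_right.trans c.U_le) (fun a b h => c.s_not_mem_U _ _ h.2)]
  simp only [mem_inf, c.r_mem_V, c.r_mem_U, and_true]
  rw [card_pairs_sub (fun d => d = 0 ∨ d = hf n), card_zero_or_hf c.one_le]
  ring

theorem C_le_V (d : ZMod (2 ^ n)) : c.C d ≤ c.V d :=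
  c.le_sub (c.C_le d) (fun _ _ h => c.r_mem_V.2 (Or.inl (sub_eq_zero.2 (c.r_mem_C.1 h))))
    (fun _ _ h => c.s_mem_V.2 (Or.inl (sub_eq_zero.2 (c.s_mem_C.1 h))))

theorem C_add_hf_le_V (d : ZMod (2 ^ n)) : c.C (d + hf n) ≤ c.V d :=
  c.le_sub (c.C_le _) (fun a b h => c.r_mem_V.2 (Or.inl (sub_eq_zero.2 (c.r_mem_C.1 h))))
    (fun a b h => c.s_mem_V.2 (Or.inr (by linear_combination c.s_mem_C.1 h)))

/-- the three abelian maximal subgroups of `V d` -/
theorem abelian_le_V_cases {d : ZMod (2 ^ n)} {X : Subgroup G} (hX : X ≤ c.V d)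
    (hab : ∀ u ∈ X, ∀ v ∈ X, u * v = v * u) (hc : Nat.card X = 2 ^ (n + 1)) :
    X = c.V d ⊓ c.U ∨ X = c.C d ∨ X = c.C (d + hf n) := by
  have hS := hX.trans (c.V_le d)
  rcases c.le_U_or X hS with hU | ⟨e, f, hef⟩
  · left
    have : Finite (c.V d ⊓ c.U : Subgroup G) :=
      Nat.finite_of_card_ne_zero (by rw [c.card_V_inf_U]; positivity)
    exact eq_of_le_of_card_ge (le_inf hX hU) (by rw [c.card_V_inf_U, hc])
  · right
    have : Finite (c.C (e - f)) := Nat.finite_of_card_ne_zero (by rw [c.card_C]; positivity)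
    have h1 : X = c.C (e - f) := eq_of_le_of_card_ge
      (fun g hg => c.mem_C_of_comm (hS hg) (hab _ hg _ hef)) (by rw [c.card_C, hc])
    rcases c.s_mem_V.1 (hX hef) with h | h
    · left; rw [h1]; congr 1; linear_combination h
    · right; rw [h1]; congr 1; linear_combination h

theorem conj_smul_C_r (d a b : ZMod (2 ^ n)) :
    MulAut.conj (c.r a b) • c.C d = c.C (d + ((a - b) + (a - b))) := by
  refine c.ext_sub (map_conj_le (c.C_le d) (c.r_mem _ _)) (c.C_le _) (fun x y => ?_) (fun x y => ?_)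
  · rw [mem_conj_smul, c.r_inv, c.r_mul_r, c.r_mul_r, c.r_mem_C, c.r_mem_C]
    constructor <;> intro h <;> linear_combination h
  · rw [mem_conj_smul, c.r_inv, c.r_mul_s, c.s_mul_r, c.s_mem_C, c.s_mem_C]
    constructor <;> intro h <;> linear_combination h

theorem conj_smul_C_s (d a b : ZMod (2 ^ n)) :
    MulAut.conj (c.s a b) • c.C d = c.C (((a - b) + (a - b)) - d) := by
  refine c.ext_sub (map_conj_le (c.C_le d) (c.s_mem _ _)) (c.C_le _) (fun x y => ?_) (fun x y => ?_)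
  · rw [mem_conj_smul, c.s_inv, c.s_mul_r, c.s_mul_s, c.r_mem_C, c.r_mem_C]
    constructor <;> intro h <;> linear_combination -h
  · rw [mem_conj_smul, c.s_inv, c.s_mul_s, c.r_mul_s, c.s_mem_C, c.s_mem_C]
    constructor <;> intro h <;> linear_combination -h

theorem C_inj {d e : ZMod (2 ^ n)} (h : c.C d = c.C e) : d = e := by
  have : c.s d 0 ∈ c.C e := h ▸ c.s_mem_C.2 (by simp)
  simpa using c.s_mem_C.1 this

theorem V_le_normalizer_C {d e : ZMod (2 ^ n)} (he : (e - d) + (e - d) = 0) :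
    c.V d ≤ normalizer (c.C e : Set G) := by
  refine c.le_sub (c.V_le d) (fun a b h => ?_) (fun a b h => ?_)
  · rw [← conj_smul_eq_iff_mem_normalizer, c.conj_smul_C_r, c.r_mem_V'.1 h, add_zero]
  · rw [← conj_smul_eq_iff_mem_normalizer, c.conj_smul_C_s]
    congr 1
    linear_combination c.s_mem_V'.1 h - he

theorem mem_V_of_mem_normalizer_C {d : ZMod (2 ^ n)} {g : G} (hg : g ∈ S)
    (h : g ∈ normalizer (c.C d : Set G)) : g ∈ c.V d := by
  rw [← conj_smul_eq_iff_mem_normalizer] at h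
  rcases c.cases hg with ⟨a, b, rfl⟩ | ⟨a, b, rfl⟩
  · rw [c.conj_smul_C_r] at h
    exact c.r_mem_V'.2 (by linear_combination c.C_inj h)
  · rw [c.conj_smul_C_s] at h
    exact c.s_mem_V'.2 (by linear_combination c.C_inj h)

theorem centralizer_le_normalizer_of_le {X W : Subgroup G} (h : X ≤ W) :
    centralizer (W : Set G) ≤ normalizer (X : Set G) :=
  (centralizer_le (SetLike.coe_subset_coe.2 h)).trans (centralizer_le_normalizer _)

theorem sup_centralizer_le_normalizer_inf_U (d : ZMod (2 ^ n)) :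
    c.V d ⊔ centralizer (c.V d : Set G) ≤ normalizer ((c.V d ⊓ c.U : Subgroup G) : Set G) :=
  sup_le ((le_inf le_normalizer ((c.V_le d).trans c.le_normalizer_U)).trans
    (normalizer_inf_le_normalizer_inf _ _)) (centralizer_le_normalizer_of_le inf_le_left)

/-- every element of odd order of `N(U)` centralizes `U` -/
def UTriv : Prop :=
  ∀ g ∈ normalizer (c.U : Set G), Odd (orderOf g) → g ∈ centralizer (c.U : Set G)

/-- every element of odd order of `N(V)` centralizes `V`, for `V = Q ∘ Z` -/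
def VTriv : Prop :=
  ∀ k, ∀ g ∈ normalizer (c.V (k + k) : Set G), Odd (orderOf g) →
    g ∈ centralizer (c.V (k + k) : Set G)

theorem VTriv_of_one (k : ZMod (2 ^ n)) (h : ∀ g ∈ normalizer (c.V (k + k) : Set G),
    Odd (orderOf g) → g ∈ centralizer (c.V (k + k) : Set G)) : c.VTriv := by
  intro l g hg ho
  rw [← c.conj_smul_V k l, ← conj_smul_normalizer, mem_conj_smul] at hg
  rw [← c.conj_smul_V k l, ← conj_smul_centralizer, mem_conj_smul]
  refine h _ hg ?_
  rwa [← orderOf_eq_of_isConj' (isConj_iff.2 ⟨(c.r (l - k) 0)⁻¹, by rw [inv_inv]⟩)]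

theorem exists_of_not_VTriv (h : ¬ c.VTriv) (k : ZMod (2 ^ n)) :
    ∃ g ∈ normalizer (c.V (k + k) : Set G), Odd (orderOf g) ∧
      g ∉ centralizer (c.V (k + k) : Set G) := by
  by_contra h'
  push Not at h'
  exact h (c.VTriv_of_one k h')

theorem UTriv_of_two (h : (centralizer (c.U : Set G)).relIndex (normalizer (c.U : Set G)) = 2) :
    c.UTriv := fun _ hg ho => mem_of_odd_of_relIndex_two h hg ho

theorem VTriv_of_two (k : ZMod (2 ^ n))
    (h : (c.V (k + k) ⊔ centralizer (c.V (k + k) : Set G)).relIndex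
      (normalizer (c.V (k + k) : Set G)) = 2) : c.VTriv := by
  refine c.VTriv_of_one k fun g hg ho => c.mem_centralizer_V_of_odd hg ho fun x hx hxU => ?_
  have := c.sup_centralizer_le_normalizer_inf_U _ (mem_of_odd_of_relIndex_two h hg ho)
  exact ((mem_normalizer_iff.1 this x).1 ⟨hx, hxU⟩).2

theorem not_UTriv_of_six [Finite G]
    (h : (centralizer (c.U : Set G)).relIndex (normalizer (c.U : Set G)) = 6) : ¬ c.UTriv := by
  intro hU
  obtain ⟨g, hg, hg', k, hk⟩ := exists_not_mem_of_prime_dvd_relIndex Nat.prime_three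
    (h ▸ (by norm_num : 3 ∣ 6))
  exact hg' (hU g hg (hk ▸ Odd.pow (by decide)))

theorem not_VTriv_of_six [Finite G] (k : ZMod (2 ^ n))
    (h : (c.V (k + k) ⊔ centralizer (c.V (k + k) : Set G)).relIndex
      (normalizer (c.V (k + k) : Set G)) = 6) : ¬ c.VTriv := by
  intro hV
  obtain ⟨g, hg, hg', j, hj⟩ := exists_not_mem_of_prime_dvd_relIndex Nat.prime_three
    (h ▸ (by norm_num : 3 ∣ 6))
  exact hg' (mem_sup_right (hV k g hg (hj ▸ Odd.pow (by decide))))

end general

section sylow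

variable {G : Type*} [Group G] [Finite G] {S : Sylow 2 G} {n : ℕ} (c : Coord (S : Subgroup G) n)

theorem isExtremal_U : IsExtremal S c.U :=
  ⟨c.U_le, by rw [inf_of_le_left c.le_normalizer_U]; exact isSylowIn_of_le S c.le_normalizer_U⟩

theorem isExtremal_V (k : ZMod (2 ^ n)) : IsExtremal S (c.V (k + k)) := by
  obtain ⟨g, hg, -⟩ := exists_conj_isExtremal S (le_refl (c.V (k + k)))
    (c.isPGroup.to_le (c.V_le _)) le_normalizer
  obtain ⟨l, hl⟩ := c.conj_V_eq hg.1
  rw [hl] at hg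
  rw [← c.conj_smul_V l k]
  exact IsExtremal_smul_of_mem hg (c.r_mem _ _)

theorem normalizer_U_inf_centralizer_T_le :
    normalizer (c.U : Set G) ⊓ centralizer (c.T : Set G) ≤ centralizer (c.U : Set G) := by
  have h1 := c.isExtremal_U.2.inf_normal (N := normalizer (c.U : Set G) ⊓ centralizer (c.T : Set G))
    inf_le_left ((le_inf le_normalizer (c.normalizer_U_le_normalizer_T.trans
      (normalizer_le_normalizer_centralizer _))).trans (normalizer_inf_le_normalizer_inf _ _))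
  refine le_of_isSylowIn_of_coprime h1
    (fun g hg => c.U_le_centralizer (c.inf_centralizer_T_le ⟨hg.1.1, hg.2.2⟩)) (fun g hg ho => ?_)
  refine c.mem_centralizer_U_of_odd hg.1 (Nat.coprime_two_right.1 ho) ?_
  rw [← hg.2 _ c.hh_mem_T]; group

theorem relIndex_centralizer_U :
    (centralizer (c.U : Set G)).relIndex (normalizer (c.U : Set G)) = 2 ∨
      (centralizer (c.U : Set G)).relIndex (normalizer (c.U : Set G)) = 6 := by
  have hh := hf_ne_zero c.one_le
  refine (relIndex_three (fun g x : G => g * x * g⁻¹) (by simp) (fun g h t => by group)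
    (normalizer (c.U : Set G)) (centralizer (c.U : Set G))
    ![c.r (hf n) (hf n), c.r (hf n) 0, c.r 0 (hf n)] ?_ ?_ ?_ (s := c.s 0 0)
    (c.le_normalizer_U (c.s_mem _ _)) ?_ ?_).imp And.left And.left
  · exact injective_vec_three (by simp [c.r_inj, hh]) (by simp [c.r_inj, hh])
      (by simp [c.r_inj, hh])
  · have key : ∀ g ∈ normalizer (c.U : Set G), ∀ x ∈ c.T, x ≠ 1 → ∃ j : Fin 3,
        g * x * g⁻¹ = ![c.r (hf n) (hf n), c.r (hf n) 0, c.r 0 (hf n)] j := by
      intro g hg x hx hx1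
      rcases c.mem_T_cases ((mem_normalizer_iff.1 (c.normalizer_U_le_normalizer_T hg) x).1 hx)
        with h | h | h | h
      · exact absurd (conj_eq_one_iff.1 h) hx1
      · exact ⟨0, h⟩
      · exact ⟨1, h⟩
      · exact ⟨2, h⟩
    intro g hg i
    fin_cases i
    · exact key g hg _ c.hh_mem_T c.hh_ne_one
    · exact key g hg _ c.h0_mem_T (by simp [c.r_eq_one_iff, hh])
    · exact key g hg _ c.zh_mem_T (by simp [c.r_eq_one_iff, hh])
  · intro g hg
    constructor
    · intro h i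
      fin_cases i <;> exact mul_inv_eq_iff_eq_mul.2 (h _ (c.r_mem_U _ _)).symm
    · intro h
      refine c.normalizer_U_inf_centralizer_T_le ⟨hg, fun x hx => ?_⟩
      rcases c.mem_T_cases hx with rfl | rfl | rfl | rfl
      · simp
      · exact (mul_inv_eq_iff_eq_mul.1 (h 0)).symm
      · exact (mul_inv_eq_iff_eq_mul.1 (h 1)).symm
      · exact (mul_inv_eq_iff_eq_mul.1 (h 2)).symm
  · exact c.s_conj_r _ _ _ _
  · change c.s 0 0 * c.r (hf n) 0 * (c.s 0 0)⁻¹ ≠ c.r (hf n) 0
    rw [c.s_conj_r]; simp [c.r_inj, hh]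

theorem relIndex_sup_centralizer_V (k : ZMod (2 ^ n)) :
    (c.V (k + k) ⊔ centralizer (c.V (k + k) : Set G)).relIndex
      (normalizer (c.V (k + k) : Set G)) = 2 ∨
    (c.V (k + k) ⊔ centralizer (c.V (k + k) : Set G)).relIndex
      (normalizer (c.V (k + k) : Set G)) = 6 := by
  have hh := hf_ne_zero c.one_le
  have h4 := hf_add_hf c.one_le
  set d := k + k with hd
  let A : Fin 3 → Subgroup G := ![c.V d ⊓ c.U, c.C d, c.C (d + hf n)]
  have hA : ∀ i, A i ≤ c.V d ∧ (∀ u ∈ A i, ∀ v ∈ A i, u * v = v * u) ∧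
      Nat.card (A i) = 2 ^ (n + 1) := by
    intro i
    fin_cases i
    · exact ⟨inf_le_left, fun u hu v hv => c.U_comm hu.2 hv.2, c.card_V_inf_U d⟩
    · exact ⟨c.C_le_V d, fun u hu v hv => c.C_comm hu hv, c.card_C _⟩
    · exact ⟨c.C_add_hf_le_V d, fun u hu v hv => c.C_comm hu hv, c.card_C _⟩
  have hN : ∀ g ∈ normalizer (c.V d : Set G), ∀ i, ∃ j, MulAut.conj g • A i = A j := by
    intro g hg i
    obtain ⟨h1, h2, h3⟩ := hA i
    have h5 : MulAut.conj g • A i ≤ c.V d := by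
      rw [← conj_smul_eq_iff_mem_normalizer.2 hg]; exact conj_smul_mono g h1
    rcases c.abelian_le_V_cases h5 (fun u hu v hv => by
      have := h2 _ (mem_conj_smul.1 hu) _ (mem_conj_smul.1 hv)
      calc u * v = g * (g⁻¹ * u * g * (g⁻¹ * v * g)) * g⁻¹ := by group
        _ = v * u := by rw [this]; group) ((card_conj_smul g _).trans h3) with h | h | h
    · exact ⟨0, h⟩
    · exact ⟨1, h⟩
    · exact ⟨2, h⟩
  refine (relIndex_three (fun (g : G) (X : Subgroup G) => MulAut.conj g • X) conj_one_smul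
    (fun g h t => (conj_smul_conj_smul g h t).symm)
    (normalizer (c.V d : Set G)) (c.V d ⊔ centralizer (c.V d : Set G)) A ?_ hN ?_
    (s := c.r (qt n) 0) (c.qt_mem_normalizer_V d) ?_ ?_).imp And.left And.left
  · refine injective_vec_three (fun h => ?_) (fun h => ?_) (fun h => ?_)
    · exact c.s_not_mem_U d 0 (h.ge (c.s_mem_C.2 (by simp))).2
    · exact c.s_not_mem_U (d + hf n) 0 (h.ge (c.s_mem_C.2 (by simp))).2
    · exact hh (by linear_combination -c.C_inj h)
  · intro g hg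
    constructor
    · intro h i
      refine conj_smul_eq_iff_mem_normalizer.2 ?_
      fin_cases i
      · exact c.sup_centralizer_le_normalizer_inf_U d h
      · exact sup_le (c.V_le_normalizer_C (by ring)) (centralizer_le_normalizer_of_le (c.C_le_V d)) h
      · exact sup_le (c.V_le_normalizer_C (by linear_combination h4))
          (centralizer_le_normalizer_of_le (c.C_add_hf_le_V d)) h
    · intro h
      let M : Subgroup G := normalizer (c.V d : Set G) ⊓ ⨅ i, normalizer (A i : Set G)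
      have hM : normalizer (c.V d : Set G) ≤ normalizer (M : Set G) := by
        have key : ∀ x ∈ normalizer (c.V d : Set G), ∀ y ∈ M, x * y * x⁻¹ ∈ M := by
          intro x hx y hy
          refine mem_inf.2 ⟨mul_mem (mul_mem hx hy.1) (inv_mem hx), mem_iInf.2 fun i => ?_⟩
          obtain ⟨j, hj⟩ := hN x⁻¹ (inv_mem hx) i
          rw [← conj_smul_eq_iff_mem_normalizer, ← conj_smul_conj_smul, ← conj_smul_conj_smul, hj,
            conj_smul_eq_iff_mem_normalizer.2 (mem_iInf.1 hy.2 j), ← hj, conj_smul_conj_inv_smul]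
        intro x hx
        refine mem_normalizer_iff.2 fun y => ⟨key x hx y, fun hy => ?_⟩
        simpa [mul_assoc] using key x⁻¹ (inv_mem hx) _ hy
      have h1 := (c.isExtremal_V k).2.inf_normal (N := M) inf_le_left hM
      refine le_of_isSylowIn_of_coprime h1 (fun x hx => mem_sup_left ?_)
        (fun x hx ho => mem_sup_right ?_)
        ⟨hg, mem_iInf.2 fun i => conj_smul_eq_iff_mem_normalizer.1 (h i)⟩
      · exact c.mem_V_of_mem_normalizer_C hx.1.1 (mem_iInf.1 hx.2.2 1)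
      · refine c.mem_centralizer_V_of_odd hx.1 (Nat.coprime_two_right.1 ho) fun y hy hyU => ?_
        exact ((mem_normalizer_iff.1 (mem_iInf.1 hx.2 0) y).1 ⟨hy, hyU⟩).2
  · exact conj_smul_eq_iff_mem_normalizer.2 (normalizer_inf_le_normalizer_inf _ _
      ⟨c.qt_mem_normalizer_V d, c.le_normalizer_U (c.r_mem _ _)⟩)
  · change MulAut.conj (c.r (qt n) 0) • c.C d ≠ c.C d
    rw [c.conj_smul_C_r]
    intro h
    exact hh (by linear_combination c.C_inj h - qt_add_qt c.two_le)

/-- Alperin's fusion theorem for a wreathed Sylow 2-subgroup -/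
theorem fusion_invariant {α : Type*} (f : G → α)
    (hS : ∀ s ∈ (S : Subgroup G), ∀ a ∈ (S : Subgroup G), f (s * a * s⁻¹) = f a)
    (hU : ∀ g ∈ normalizer (c.U : Set G), Odd (orderOf g) → ∀ a ∈ c.U, f (g * a * g⁻¹) = f a)
    (hV : ∀ k, ∀ g ∈ normalizer (c.V (k + k) : Set G), Odd (orderOf g) →
      ∀ a ∈ c.V (k + k), f (g * a * g⁻¹) = f a)
    (a g : G) (ha : a ∈ (S : Subgroup G)) (hg : g * a * g⁻¹ ∈ (S : Subgroup G)) :
    f (g * a * g⁻¹) = f a := by
  refine apply_conj_eq_of_coprime S f hS (fun D hD hC x hx ho b hb => ?_) a g ha hg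
  have ho' := Nat.coprime_two_right.1 ho
  rcases c.oddAut_cases hD.1 hC (oddAut_conj hx ho') with h | rfl | ⟨k, rfl⟩
  · exact congrArg f (h b hb)
  · exact hU x hx ho' b hb
  · exact hV k x hx ho' b hb

end sylow

end Coord

/-- translation of the data of the statements into coordinates -/
theorem exists_coord_data {G : Type*} [Group G] (S : Subgroup G) (hS : Cfsg.IsWreathed S) (n : ℕ)
    (hn : Nat.card S = 2 ^ (2 * n + 1)) (U : Subgroup G) (hUS : U ≤ S) (hUab : IsMulCommutative U)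
    (hUcard : Nat.card U = 2 ^ (2 * n)) (Q : Subgroup G) (hQS : Q ≤ S)
    (eQ : Q ≃* QuaternionGroup 2) :
    ∃ (c : Coord S n) (k : ZMod (2 ^ n)), U = c.U ∧
      Q ⊔ (Subgroup.center S).map S.subtype = c.V (k + k) := by
  obtain ⟨c⟩ := exists_coord' S hS n hn
  obtain ⟨k, rfl⟩ := c.eq_Q_of_quaternion hQS eQ
  exact ⟨c, k, c.eq_U_of_comm hUS
    (fun u hu v hv => congrArg Subtype.val (hUab.is_comm.comm ⟨u, hu⟩ ⟨v, hv⟩)) hUcard,
    by rw [c.center_map_eq, c.Q_sup_Z]⟩

end CL.Wr
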