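import Cfsg.Agent.TwoFus.QDW
import Cfsg.Agent.TwoFus.ZStar
import Cfsg.Agent.Solv.Coprime

/-!
# The Z*-theorem for elements all of whose powers are weakly closed in a Sylow 2-subgroup
-/

set_option autoImplicit false

open Cfsg Subgroup

namespace CL.TF

variable {G : Type*} [Group G] [Finite G]

/-- Factoring out a central `p`-subgroup creates no normal `p'`-subgroup. -/
theorem pPrimeCore_quotient_eq_bot_of_le_center {p : ℕ} [Fact p.Prime] {N : Subgroup G} [N.Normal]
    (hN : N ≤ center G) (hp : IsPGroup p N) (hO : pPrimeCore p G = ⊥) :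
    pPrimeCore p (G ⧸ N) = ⊥ := by
  set M := (pPrimeCore p (G ⧸ N)).comap (QuotientGroup.mk' N) with hM
  have hNM : N ≤ M := by
    have := ker_le_comap (QuotientGroup.mk' N) (pPrimeCore p (G ⧸ N))
    rwa [QuotientGroup.ker_mk'] at this
  have hcard : Nat.card M = Nat.card N * Nat.card (pPrimeCore p (G ⧸ N)) := by
    rw [hM, card_comap_of_surjective (QuotientGroup.mk'_surjective _), QuotientGroup.ker_mk']
  have hc1 : Nat.card (N.subgroupOf M) = Nat.card N := card_subgroupOf_eq_of_le hNM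
  have hidx : (N.subgroupOf M).index = Nat.card (pPrimeCore p (G ⧸ N)) := by
    have := (N.subgroupOf M).card_mul_index
    rw [hc1, hcard] at this
    exact Nat.eq_of_mul_eq_mul_left Nat.card_pos this
  obtain ⟨k, hk⟩ := IsPGroup.iff_card.1 hp
  obtain ⟨H, hH⟩ := exists_right_complement'_of_coprime (N := N.subgroupOf M) (by
    rw [hc1, hidx, hk]
    exact (pPrimeCore_coprime p _).symm.pow_left k)
  have hHn : H.Normal := by
    rw [← normalizer_eq_top_iff, eq_top_iff, ← hH.sup_eq_top]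
    refine sup_le (fun n hn => centralizer_le_normalizer _ fun h _ => ?_) le_normalizer
    exact Subtype.ext (mem_center_iff.1 (hN hn) h)
  have hHO : H ≤ pPrimeCore p M := le_pPrimeCore (by
    rw [← hH.symm.index_eq_card, hidx]
    exact pPrimeCore_coprime p _)
  rw [pPrimeCore_eq_subgroupOf, hO, bot_subgroupOf, le_bot_iff] at hHO
  have h1 := hH.symm.index_eq_card
  rw [hHO, card_bot, hidx] at h1
  exact Subgroup.card_eq_one.1 h1

/-- The property of being conjugate to no other element of `S` passes to quotients. -/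
theorem conj_eq_map {H : Type*} [Group H] {p : ℕ} [Fact p.Prime] (S : Sylow p G) {f : G →* H}
    (hf : Function.Surjective f) {w : G} (hw : w ∈ (S : Subgroup G))
    (h : ∀ g : G, g * w * g⁻¹ ∈ (S : Subgroup G) → g * w * g⁻¹ = w) (g : H)
    (hg : g * f w * g⁻¹ ∈ (S.mapSurjective hf : Subgroup H)) : g * f w * g⁻¹ = f w := by
  obtain ⟨g, rfl⟩ := hf g
  have h1 : g * w * g⁻¹ ∈ (S : Subgroup G) ⊔ f.ker := by
    rw [← comap_map_eq, mem_comap, map_mul, map_mul, map_inv]
    exact hg
  obtain ⟨k, hk⟩ := S.2 ⟨w, hw⟩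
  have hP : IsPGroup p (zpowers (g * w * g⁻¹)) := by
    rintro ⟨_, i, rfl⟩
    refine ⟨k, Subtype.ext ?_⟩
    have h2 : w ^ p ^ k = 1 := congrArg Subtype.val hk
    change ((g * w * g⁻¹) ^ i) ^ p ^ k = 1
    rw [← zpow_natCast, ← zpow_mul, mul_comm, zpow_mul, zpow_natCast, conj_pow, h2]
    simp
  obtain ⟨c, hc, hcS⟩ := exists_conj_le_sylow_of_le S le_sup_left hP (zpowers_le.2 h1)
  have h3 := h (c * g) (by
    have := hcS ⟨_, mem_zpowers _, rfl⟩
    simpa [mul_assoc] using this)
  rw [← SetLike.mem_coe, mul_normal] at hc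
  obtain ⟨s, hs, n, hn, rfl⟩ := hc
  have h4 := h s⁻¹ (mul_mem (mul_mem (inv_mem hs) hw) (inv_mem (inv_mem hs)))
  have h5 : g * w * g⁻¹ = n⁻¹ * w * n := by
    calc g * w * g⁻¹ = n⁻¹ * (s⁻¹ * (s * n * g * w * (s * n * g)⁻¹) * s⁻¹⁻¹) * n := by group
      _ = _ := by rw [h3, h4]
  have hn1 : f n = 1 := hn
  rw [← map_inv, ← map_mul, ← map_mul, h5, map_mul, map_mul, map_inv, hn1]
  simp

theorem mem_center_of_sq_mem_center (S : Sylow 2 G) (hO : oddCore G = ⊥) {w : G}
    (hw : w ∈ (S : Subgroup G))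
    (h : ∀ g : G, g * w * g⁻¹ ∈ (S : Subgroup G) → g * w * g⁻¹ = w) (h2 : w ^ 2 ∈ center G) :
    w ∈ center G := by
  have hN : zpowers (w ^ 2) ≤ center G := zpowers_le.2 h2
  have := normal_of_le_center hN
  have hNS : zpowers (w ^ 2) ≤ (S : Subgroup G) := zpowers_le.2 (pow_mem hw 2)
  by_cases hwN : w ∈ zpowers (w ^ 2)
  · exact hN hwN
  have hsurj := QuotientGroup.mk'_surjective (zpowers (w ^ 2))
  have hiso := CL.Isol.isol_of_sylow (S.mapSurjective hsurj) (z := QuotientGroup.mk' _ w)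
    (orderOf_eq_prime (by
      rw [← map_pow]; exact (QuotientGroup.eq_one_iff _).2 (mem_zpowers _))
      (fun h1 => hwN ((QuotientGroup.eq_one_iff _).1 h1)))
    (conj_eq_map S hsurj hw h)
  have hc := CL.Isol.zstar_center hiso
    (pPrimeCore_quotient_eq_bot_of_le_center hN (S.2.to_le hNS) hO)
  rw [mem_center_iff]
  intro g
  have h3 : w⁻¹ * (g * w * g⁻¹) ∈ zpowers (w ^ 2) := by
    rw [← QuotientGroup.eq]
    have := mem_center_iff.1 hc (QuotientGroup.mk' _ g)
    simp only [QuotientGroup.mk'_apply] at this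
    rw [QuotientGroup.mk_mul, QuotientGroup.mk_mul, this, QuotientGroup.mk_inv,
      mul_inv_cancel_right]
  have h4 := h g (by simpa using mul_mem hw (hNS h3))
  rw [← h4, inv_mul_cancel_right, h4]

/-- The Z*-theorem for a subgroup `A ≤ S` no element of which is fused to another element of `S`
(case `O(G) = 1`). -/
theorem le_center_of_conj_eq (S : Sylow 2 G) (hO : oddCore G = ⊥) {A : Subgroup G}
    (hA : A ≤ S) (h : ∀ w ∈ A, ∀ g : G, g * w * g⁻¹ ∈ (S : Subgroup G) → g * w * g⁻¹ = w) :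
    A ≤ center G := by
  intro w hw
  obtain ⟨k, hk⟩ := S.2 ⟨w, hA hw⟩
  replace hk : w ^ 2 ^ k ∈ center G := by
    have : w ^ 2 ^ k = 1 := congrArg Subtype.val hk
    rw [this]; exact one_mem _
  induction k with
  | zero => simpa using hk
  | succ k ih =>
    refine ih (mem_center_of_sq_mem_center S hO (hA (pow_mem hw _)) (h _ (pow_mem hw _)) ?_)
    rwa [← pow_mul, ← pow_succ]

/-- The Z*-theorem for a subgroup `A ≤ S` no element of which is fused to another element
of `S`. -/
theorem map_le_center_of_conj_eq (S : Sylow 2 G) {A : Subgroup G}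
    (hA : A ≤ S) (h : ∀ w ∈ A, ∀ g : G, g * w * g⁻¹ ∈ (S : Subgroup G) → g * w * g⁻¹ = w) :
    A.map (QuotientGroup.mk' (oddCore G)) ≤ center (G ⧸ oddCore G) := by
  have hsurj := QuotientGroup.mk'_surjective (oddCore G)
  refine le_center_of_conj_eq (S.mapSurjective hsurj) (pPrimeCore_quotient_pPrimeCore 2 G)
    (map_mono hA) ?_
  rintro _ ⟨w, hw, rfl⟩
  exact conj_eq_map S hsurj (hA hw) (h w hw)

omit [Finite G] in
theorem normal_sup_of_map_le_center {N A : Subgroup G} [N.Normal]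
    (h : A.map (QuotientGroup.mk' N) ≤ center (G ⧸ N)) : (N ⊔ A).Normal := by
  have := normal_of_le_center h
  have h1 : N ⊔ A = (A.map (QuotientGroup.mk' N)).comap (QuotientGroup.mk' N) := by
    rw [comap_map_eq, QuotientGroup.ker_mk', sup_comm]
  rw [h1]
  infer_instance

theorem exists_mul_of_map_le_center {A : Subgroup G} (hA : IsPGroup 2 A)
    (h : A.map (QuotientGroup.mk' (oddCore G)) ≤ center (G ⧸ oddCore G)) (g : G) :
    ∃ o ∈ oddCore G, ∃ c ∈ centralizer (A : Set G), g = o * c := by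
  obtain ⟨k, hk⟩ := IsPGroup.iff_card.1 hA
  have := hA.isNilpotent
  have h1 := centralizer_map_mk'_of_coprime A (oddCore G)
    (by rw [hk]; exact (pPrimeCore_coprime 2 G).symm.pow_left k) (Or.inl inferInstance)
  have h2 : QuotientGroup.mk' (oddCore G) g ∈
      (centralizer (A : Set G)).map (QuotientGroup.mk' (oddCore G)) := by
    rw [← h1]
    exact fun a ha => (mem_center_iff.1 (h ha) _).symm
  obtain ⟨c, hc, hcg⟩ := h2
  refine ⟨g * c⁻¹, ?_, c, hc, by group⟩
  rw [← QuotientGroup.eq_one_iff, QuotientGroup.mk_mul, QuotientGroup.mk_inv]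
  exact mul_inv_eq_one.2 hcg.symm

/-- With a quasi-dihedral or wreathed Sylow subgroup `S` and an involution of `S` conjugate to no
other element of `S`, the centre of `S` is central modulo `O(G)`. -/
theorem map_center_le_center_of_qdw (S : Sylow 2 G)
    (hS : IsQuasiDihedral (S : Subgroup G) ∨ IsWreathed (S : Subgroup G)) {z : G}
    (hzS : z ∈ (S : Subgroup G)) (hz : orderOf z = 2)
    (hiso : ∀ g : G, g * z * g⁻¹ ∈ (S : Subgroup G) → g * z * g⁻¹ = z) :
    ((center (S : Subgroup G)).map (S : Subgroup G).subtype).map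
      (QuotientGroup.mk' (oddCore G)) ≤ center (G ⧸ oddCore G) :=
  map_le_center_of_conj_eq S (map_subtype_le _) fun _ hw _ hg =>
    conj_eq_of_qdw S hS hzS hz hiso hw hg

omit [Finite G] in
theorem conj_eq_of_isWeaklyClosed_zpowers {S : Subgroup G} {z : G} (hz : orderOf z = 2)
    (h : IsWeaklyClosed (zpowers z) S) (g : G) (hg : g * z * g⁻¹ ∈ S) : g * z * g⁻¹ = z := by
  have h1 := h.2 g (by rw [MonoidHom.map_zpowers, zpowers_le]; exact hg)
  have h2 : g * z * g⁻¹ ∈ zpowers z := by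
    rw [← h1]; exact ⟨z, mem_zpowers z, rfl⟩
  have hzz := CL.Isol.mul_self_of_orderOf_two hz
  have hz1 := CL.Isol.ne_one_of_orderOf_two hz
  refine eq_of_mem_zpowers_of_sq h2 (mem_zpowers z) ?_ hzz (by simpa using hz1) hz1
  calc g * z * g⁻¹ * (g * z * g⁻¹) = g * (z * z) * g⁻¹ := by group
    _ = 1 := by rw [hzz]; simp

end CL.TF
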