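import Cfsg.Agent.Base
import Cfsg.Agent.TwoFus.SEBasic

/-!
# Small Sylow tools (subgroups of an ambient group)

Namespace `CL.SE`.
-/

set_option autoImplicit false

namespace CL.SE

open Subgroup

variable {G : Type*} [Group G]

/-- The normalizer condition for a pair of subgroups of an ambient group. -/
theorem exists_mem_normalizer_not_mem [Finite G] {p : ℕ} [Fact p.Prime] {X Q : Subgroup G}
    (hQ : IsPGroup p Q) (hXQ : X ≤ Q) (hne : X ≠ Q) :
    ∃ y ∈ Q, y ∉ X ∧ y ∈ normalizer (X : Set G) := by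
  have := hQ.isNilpotent
  have hlt : X.subgroupOf Q < ⊤ := by
    rw [lt_top_iff_ne_top, Ne, subgroupOf_eq_top]
    exact fun h => hne (le_antisymm hXQ h)
  obtain ⟨y, hy, hyX⟩ := SetLike.exists_of_lt (Group.normalizerCondition_of_isNilpotent _ hlt)
  refine ⟨y, y.2, hyX, ?_⟩
  apply Subgroup.mem_normalizer_fintype
  intro x hx
  exact (Subgroup.mem_normalizer_iff.1 hy ⟨x, hXQ hx⟩).1 hx

theorem isPGroup_map_conj {p : ℕ} {X : Subgroup G} (hX : IsPGroup p X) (g : G) :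
    IsPGroup p (X.map (MulAut.conj g).toMonoidHom) := hX.map _

theorem conj_mem_map_conj {X : Subgroup G} {g x : G} (hx : x ∈ X) :
    g * x * g⁻¹ ∈ X.map (MulAut.conj g).toMonoidHom :=
  mem_map_conj.2 (by simpa [mul_assoc] using hx)

theorem card_map_conj (X : Subgroup G) (g : G) :
    Nat.card (X.map (MulAut.conj g).toMonoidHom) = Nat.card X :=
  Nat.card_congr ((MulAut.conj g).subgroupMap X).toEquiv.symm

theorem mem_normalizer_of_conj_mem [Finite G] {X : Subgroup G} {g : G}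
    (h : ∀ x ∈ X, g * x * g⁻¹ ∈ X) : g ∈ normalizer (X : Set G) :=
  Subgroup.mem_normalizer_fintype h

theorem conj_mem_of_mem_normalizer {X : Subgroup G} {g x : G} (hg : g ∈ normalizer (X : Set G))
    (hx : x ∈ X) : g * x * g⁻¹ ∈ X := (Subgroup.mem_normalizer_iff.1 hg x).1 hx

theorem conj_mem_of_mem_normalizer' {X : Subgroup G} {g x : G} (hg : g ∈ normalizer (X : Set G))
    (hx : x ∈ X) : g⁻¹ * x * g ∈ X := (Subgroup.mem_normalizer_iff''.1 hg x).1 hx

theorem mem_normalizer_map_conj {X : Subgroup G} {g n : G} :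
    n ∈ normalizer (X.map (MulAut.conj g).toMonoidHom : Set G) ↔
      g⁻¹ * n * g ∈ normalizer (X : Set G) := by
  simp only [Subgroup.mem_normalizer_iff, mem_map_conj]
  constructor
  · intro h x
    have := h (g * x * g⁻¹)
    convert this using 2 <;> group
  · intro h x
    have := h (g⁻¹ * x * g)
    convert this using 2
    group

/-- A `p`-subgroup of `H` is conjugate in `H` into a given Sylow `p`-subgroup of `H`. -/
theorem exists_conj_le_sylow [Finite G] {p : ℕ} [Fact p.Prime] {H X : Subgroup G}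
    (hX : IsPGroup p X) (hXH : X ≤ H) (P : Sylow p H) :
    ∃ h ∈ H, ∀ x ∈ X, h * x * h⁻¹ ∈ (P : Subgroup H).map H.subtype := by
  have h1 : IsPGroup p (X.subgroupOf H) := hX.of_equiv (subgroupOfEquivOfLe hXH).symm
  obtain ⟨Q, hQ⟩ := h1.exists_le_sylow
  obtain ⟨h, hh⟩ := MulAction.exists_smul_eq H Q P
  refine ⟨h, h.2, fun x hx => ⟨h * ⟨x, hXH hx⟩ * h⁻¹, ?_, rfl⟩⟩
  rw [← hh]
  have hxQ : (⟨x, hXH hx⟩ : H) ∈ (Q : Subgroup H) := hQ hx
  exact Subgroup.smul_mem_pointwise_smul _ (MulAut.conj h) _ hxQ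

/-- A `p`-subgroup of `G` is conjugate into a given Sylow `p`-subgroup. -/
theorem exists_conj_le_sylow' [Finite G] {p : ℕ} [Fact p.Prime] {X : Subgroup G}
    (hX : IsPGroup p X) (P : Sylow p G) :
    ∃ h : G, ∀ x ∈ X, h * x * h⁻¹ ∈ (P : Subgroup G) := by
  obtain ⟨Q, hQ⟩ := hX.exists_le_sylow
  obtain ⟨h, hh⟩ := MulAction.exists_smul_eq G Q P
  refine ⟨h, fun x hx => ?_⟩
  rw [← hh]
  exact Subgroup.smul_mem_pointwise_smul _ (MulAut.conj h) _ (hQ hx)

/-- A `p`-subgroup of `K` lies in a maximal `p`-subgroup of `K`. -/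
theorem exists_maximal_pSubgroup {p : ℕ} {K A : Subgroup G} (hA : IsPGroup p A) (hAK : A ≤ K) :
    ∃ X : Subgroup G, IsPGroup p X ∧ A ≤ X ∧ X ≤ K ∧
      ∀ Y : Subgroup G, IsPGroup p Y → X ≤ Y → Y ≤ K → Y = X := by
  have h1 : IsPGroup p (A.subgroupOf K) := hA.of_equiv (subgroupOfEquivOfLe hAK).symm
  obtain ⟨Q, hQ⟩ := h1.exists_le_sylow
  refine ⟨(Q : Subgroup K).map K.subtype, Q.isPGroup'.map _, ?_, map_subtype_le _, ?_⟩
  · intro a ha
    exact ⟨⟨a, hAK ha⟩, hQ ha, rfl⟩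
  · intro Y hY hXY hYK
    have h2 : IsPGroup p (Y.subgroupOf K) := hY.of_equiv (subgroupOfEquivOfLe hYK).symm
    have := Q.is_maximal' h2 (fun q hq => hXY ⟨q, hq, rfl⟩)
    rw [← this, subgroupOf_map_subtype, inf_eq_left.2 hYK]

/-- A `p`-subgroup `X` that is a maximal `p`-subgroup of an overgroup of `N(X)` is a Sylow
subgroup. -/
theorem exists_sylow_eq_of_normalizer_le [Finite G] {p : ℕ} [Fact p.Prime] {K X : Subgroup G}
    (hX : IsPGroup p X) (hN : normalizer (X : Set G) ≤ K)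
    (hmax : ∀ Y : Subgroup G, IsPGroup p Y → X ≤ Y → Y ≤ K → Y = X) :
    ∃ Q : Sylow p G, (Q : Subgroup G) = X := by
  obtain ⟨Q, hQ⟩ := hX.exists_le_sylow
  refine ⟨Q, ?_⟩
  by_contra hne
  obtain ⟨y, hyQ, hyX, hyN⟩ := exists_mem_normalizer_not_mem Q.isPGroup' hQ (Ne.symm hne)
  have := hmax ((Q : Subgroup G) ⊓ normalizer (X : Set G)) (Q.isPGroup'.to_inf_left)
    (le_inf hQ le_normalizer) (inf_le_right.trans hN)
  exact hyX (this ▸ (⟨hyQ, hyN⟩ : y ∈ (Q : Subgroup G) ⊓ normalizer (X : Set G)))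

theorem isPGroup_zpowers_of_ord2 {s : G} (hs : orderOf s = 2) : IsPGroup 2 (zpowers s) := by
  apply IsPGroup.of_card (n := 1)
  rw [Nat.card_zpowers, hs]; rfl

end CL.SE
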