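import Cfsg.Agent.TwoFus.SelfE8a

/-!
# Harada: 2-groups with a self-centralizing `E₈`, the local analysis
-/

set_option autoImplicit false

namespace CL.SelfE8

open Subgroup CL.HaradaDB
open scoped commutatorElement Pointwise

variable {G : Type*} [Group G] [Finite G]

/-- `A` is a self-centralizing `E₈` of the 2-group `G`. -/
structure HypA (A : Subgroup G) : Prop where
  pG : IsPGroup 2 G
  sq : ∀ a ∈ A, a * a = 1
  card : Nat.card A = 8
  cent : centralizer (A : Set G) = A

omit [Finite G] in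
theorem le_cent_of_sq {T : Subgroup G} (h : ∀ t ∈ T, t * t = 1) {F : Subgroup G} (hF : F ≤ T) :
    T ≤ centralizer (F : Set G) := fun _ ht _ hf => comm_of_sq h (hF hf) ht

omit [Finite G] in
theorem mem_cent_of_sq {T : Subgroup G} (h : ∀ t ∈ T, t * t = 1) {x y : G} (hx : x ∈ T)
    (hy : y ∈ T) : x ∈ centralizer {y} :=
  mem_centralizer_singleton_iff.2 (comm_of_sq h hx hy)

theorem card_le_two_of_lt (hG : IsPGroup 2 G) {H : Subgroup G} (h : Nat.card H < 4) :
    Nat.card H ≤ 2 := by
  obtain ⟨n, hn⟩ := card_pow hG H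
  rw [hn] at h ⊢
  have : n < 2 := (Nat.pow_lt_pow_iff_right one_lt_two).1 h
  interval_cases n <;> norm_num

namespace HypA
variable {A : Subgroup G} (h : HypA A)
include h

omit [Finite G] in
theorem center_le : center G ≤ A := h.cent ▸ center_le_centralizer _

theorem cent_le {B : Subgroup G} (hB : B ≤ A) (h4 : 4 ≤ Nat.card B) {a : G} (ha : a ∈ A)
    (haB : a ∉ B) : centralizer (B : Set G) ⊓ centralizer {a} ≤ A :=
  (cent_eq_of_hyp h.card hB h4 ha haB).trans h.cent.le

theorem exists_gen {p a : G} (hp : p ∈ A) (hp1 : p ≠ 1) (ha : a ∈ A) (hap : a ∉ zpowers p) :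
    ∃ b ∈ A, b ∉ zpowers p ∧ a * b ∉ zpowers p ∧
      centralizer {p} ⊓ centralizer {a} ⊓ centralizer {b} ≤ A := by
  have ha1 : a ≠ 1 := fun e => hap (e ▸ one_mem _)
  have h1 := card_zpowers_two hp1 (h.sq p hp)
  have h2 := card_zpowers_two ha1 (h.sq a ha)
  have hB : zpowers p ⊔ zpowers a ≤ A := sup_le (zpowers_le.2 hp) (zpowers_le.2 ha)
  have h3 := EA.card_mul_card_eq (H := zpowers p) (N := zpowers a)
    (EA.le_normalizer_of_le_centralizer ((zpowers_le.2 hp).trans
      (le_cent_of_sq h.sq (zpowers_le.2 ha))))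
  have h4 := two_mul_le_of_not_le (le_sup_left : zpowers p ≤ zpowers p ⊔ zpowers a)
    fun e => hap (e (mem_sup_right (mem_zpowers a)))
  have h5 : 0 < Nat.card (zpowers p ⊓ zpowers a : Subgroup G) := Nat.card_pos
  have h6 : Nat.card (zpowers p ⊔ zpowers a : Subgroup G) ≤ 4 := by nlinarith
  obtain ⟨b, hb, hbB⟩ := exists_not_mem (H := zpowers p ⊔ zpowers a) (K := A)
    (by rw [h.card]; omega)
  refine ⟨b, hb, fun e => hbB (mem_sup_left e), fun e => hbB ?_,
    le_trans ?_ (h.cent_le hB (by omega) hb hbB)⟩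
  · exact (mul_mem_cancel_left (mem_sup_right (mem_zpowers a))).1 (mem_sup_left e)
  · rw [EA.centralizer_sup, PGrp.centralizer_zpowers_eq, PGrp.centralizer_zpowers_eq]

theorem card_inf_le {V : Subgroup G} (hV : ¬ A ≤ V) : Nat.card (V ⊓ A : Subgroup G) ≤ 4 := by
  have := two_mul_le_of_not_le (inf_le_right : V ⊓ A ≤ A) fun e => hV (e.trans inf_le_left)
  rw [h.card] at this
  omega

/-- Normal elementary abelian subgroups have order at most 16. -/
theorem card_le_sixteen {V : Subgroup G} [V.Normal] (hV : ∀ v ∈ V, v * v = 1) :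
    Nat.card V ≤ 16 := by
  by_cases h0 : V = ⊥
  · rw [h0, card_bot]; omega
  by_cases hAV : A ≤ V
  · have := card_le_of_le ((le_cent_of_sq hV hAV).trans h.cent.le)
    rw [h.card] at this
    omega
  have h4 := h.card_inf_le hAV
  have hn : ∀ g : G, g ∈ normalizer (V : Set G) := fun g => le_normalizer_of_normal (mem_top g)
  by_cases h4' : 4 ≤ Nat.card (V ⊓ A : Subgroup G)
  · obtain ⟨a, ha, haV⟩ := SetLike.not_le_iff_exists.1 hAV
    have h1 := card_le_sq hV (hn a) (h.sq a ha)
    have h2 : Nat.card (V ⊓ centralizer {a} : Subgroup G) ≤ Nat.card (V ⊓ A : Subgroup G) :=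
      card_le_of_le (le_inf inf_le_left ((inf_le_inf_right _ (le_cent_of_sq hV inf_le_left)).trans
        (h.cent_le inf_le_right h4' ha fun e => haV e.1)))
    nlinarith
  · have h2 := card_le_two_of_lt h.pG (not_le.1 h4')
    obtain ⟨p, hpV, hp1, hpZ, -⟩ := PGrp.exists_mem_center_of_normal h.pG V h0
    have hz := card_zpowers_two hp1 (hV p hpV)
    obtain ⟨a, ha, hap⟩ := exists_not_mem (H := zpowers p) (K := A) (by rw [h.card]; omega)
    obtain ⟨b, hb, -, -, hle⟩ := h.exists_gen (h.center_le hpZ) hp1 ha hap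
    have h1 := card_le_sq hV (hn a) (h.sq a ha)
    have h3 := card_le_sq (T := V ⊓ centralizer {a}) (fun v hv => hV v hv.1) (a := b)
      (inf_normalizer_le_normalizer_inf ⟨hn b, le_normalizer (mem_cent_of_sq h.sq hb ha)⟩)
      (h.sq b hb)
    have h5 : Nat.card (V ⊓ centralizer {a} ⊓ centralizer {b} : Subgroup G) ≤
        Nat.card (V ⊓ A : Subgroup G) :=
      card_le_of_le (le_inf (inf_le_left.trans inf_le_left) (le_trans (inf_le_inf_right _
        (inf_le_inf_right _ fun v hv => mem_cent_of_sq hV hv hpV)) hle))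
    have h6 : Nat.card (V ⊓ centralizer {a} : Subgroup G) ≤ 4 := by nlinarith
    nlinarith

variable {E : Subgroup G} [hEn : E.Normal] (hE : ∀ e ∈ E, e * e = 1) (hE8 : Nat.card E = 8)
include hE hE8

omit hEn hE in
theorem eq_of_le (hle : E ≤ A) : E = A :=
  eq_of_le_of_card_ge hle (by rw [h.card, hE8])

omit hEn hE in
theorem not_le_cent {a : G} (ha : a ∈ A) (haE : a ∉ E) : ¬ A ≤ centralizer (E : Set G) := by
  intro e
  have := h.eq_of_le hE8 ((le_centralizer_iff.1 e).trans h.cent.le)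
  exact haE (this ▸ ha)

/-- The case `|A ∩ E| = 2`: elements of `A \ E` do not centralize `E`. -/
theorem not_mem_cent_of_two (h2 : Nat.card (E ⊓ A : Subgroup G) ≤ 2) {a : G} (ha : a ∈ A)
    (haE : a ∉ E) : a ∉ centralizer (E : Set G) := by
  intro haC
  obtain ⟨p, hpE, hp1, hpZ, -⟩ := PGrp.exists_mem_center_of_normal h.pG E (by
    rintro rfl; simp at hE8)
  obtain ⟨b, hb, -, -, hle⟩ := h.exists_gen (h.center_le hpZ) hp1 ha
    fun e => haE (zpowers_le.2 hpE e)
  have h1 := card_le_sq hE (le_normalizer_of_normal (mem_top b)) (h.sq b hb)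
  have h3 : Nat.card (E ⊓ centralizer {b} : Subgroup G) ≤ Nat.card (E ⊓ A : Subgroup G) :=
    card_le_of_le (le_inf inf_le_left (le_trans (inf_le_inf_right _ (le_inf
      (fun v hv => mem_cent_of_sq hE hv hpE)
      fun v hv => mem_centralizer_singleton_iff.2 (haC v hv))) hle))
  nlinarith

omit h hE hEn in
theorem card_E_cent_le {a : G} (ha : a ∉ centralizer (E : Set G)) :
    Nat.card (E ⊓ centralizer {a} : Subgroup G) ≤ 4 := by
  have := two_mul_le_of_not_le (inf_le_left : E ⊓ centralizer {a} ≤ E) fun e => ha fun v hv =>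
    mem_centralizer_singleton_iff.1 (e hv).2
  omega

theorem not_mem_cent {a : G} (ha : a ∈ A) (haE : a ∉ E) : a ∉ centralizer (E : Set G) := by
  by_cases h4 : 4 ≤ Nat.card (E ⊓ A : Subgroup G)
  · intro haC
    refine h.not_le_cent hE8 ha haE (le_of_mem_of_card (H := E ⊓ A) inf_le_right
      (by rw [h.card]; omega) ha (fun e => haE e.1) (inf_le_left.trans (le_cent_of_sq hE le_rfl))
      haC)
  · exact h.not_mem_cent_of_two hE hE8 (card_le_two_of_lt h.pG (not_le.1 h4)) ha haE

theorem cent_inf_le {a : G} (ha : a ∈ A) (haE : a ∉ E) :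
    centralizer (E : Set G) ⊓ centralizer {a} ≤ E := by
  have hAC : A ⊓ centralizer (E : Set G) ≤ E := fun x hx => by
    by_contra e
    exact h.not_mem_cent hE hE8 hx.1 e hx.2
  by_cases h4 : 4 ≤ Nat.card (E ⊓ A : Subgroup G)
  · refine le_trans (le_inf ?_ inf_le_left) hAC
    exact (inf_le_inf_right _ (centralizer_le (SetLike.coe_subset_coe.2 inf_le_left))).trans
      (h.cent_le inf_le_right h4 ha fun e => haE e.1)
  have h2 := card_le_two_of_lt h.pG (not_le.1 h4)
  obtain ⟨p, hpE, hp1, hpZ, -⟩ := PGrp.exists_mem_center_of_normal h.pG E (by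
    rintro rfl; simp at hE8)
  obtain ⟨b, hb, -, -, hle⟩ := h.exists_gen (h.center_le hpZ) hp1 ha
    fun e => haE (zpowers_le.2 hpE e)
  have hfix : ∀ y ∈ centralizer (E : Set G) ⊓ centralizer {a}, y ∈ centralizer {b} → y ∈ E :=
    fun y hy hyb => hAC ⟨hle ⟨⟨mem_centralizer_singleton_iff.2 (hy.1 p hpE).symm, hy.2⟩, hyb⟩, hy.1⟩
  by_contra hc
  obtain ⟨y, hy, hyF, -, hcomm⟩ := exists_central_mod_in h.pG (M := centralizer {a})
    (K := E ⊓ centralizer {a}) (N := centralizer (E : Set G) ⊓ centralizer {a}) inf_le_right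
    (EA.le_normalizer_inf le_normalizer_of_normal le_normalizer)
    (EA.le_normalizer_inf le_normalizer_of_normal le_normalizer)
    fun e => hc (e.trans inf_le_left)
  have hba := mem_cent_of_sq h.sq hb ha
  have hEA : ∀ x : G, ⁅b, x⁆ ∈ E ⊓ centralizer {a} → ⁅b, x⁆ ∈ E ⊓ A := fun x hx =>
    ⟨hx.1, hle ⟨⟨mem_cent_of_sq hE hx.1 hpE, hx.2⟩, comm_mem_cent (h.sq b hb) (hE _ hx.1)⟩⟩
  have h5 := card_le_sq hE (le_normalizer_of_normal (mem_top a)) (h.sq a ha)
  obtain ⟨f, hf, hfA⟩ := exists_not_mem (H := E ⊓ A) (K := E ⊓ centralizer {a}) (by nlinarith)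
  have hfC : f ∈ centralizer (E : Set G) ⊓ centralizer {a} := ⟨le_cent_of_sq hE le_rfl hf.1, hf.2⟩
  have hf1 : ⁅b, f⁆ ≠ 1 := fun e => hfA ⟨hf.1, hle ⟨⟨mem_cent_of_sq hE hf.1 hpE, hf.2⟩,
    mem_centralizer_singleton_iff.2 (commutatorElement_eq_one_iff_mul_comm.1 e).symm⟩⟩
  have hf2 : ⁅b, f⁆ ∈ E ⊓ A := hEA f ⟨comm_mem_of_normal b hf.1,
    show _ ∈ centralizer {a} from
      mul_mem (mul_mem (mul_mem hba (mem_inf.1 hf).2) (inv_mem hba)) (inv_mem (mem_inf.1 hf).2)⟩
  by_cases hy1 : ⁅b, y⁆ = 1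
  · exact hyF ⟨hfix y hy (mem_centralizer_singleton_iff.2
      (commutatorElement_eq_one_iff_mul_comm.1 hy1).symm), hy.2⟩
  · have h6 := eq_of_card_le_two h2 (hEA y (hcomm b hba)) hf2 hy1 hf1
    have h7 : ⁅b, y * f⁆ = 1 := by
      rw [commutatorElement_mul_right_eq_mul_conj, h6, mul_assoc ⁅b, f⁆, ← hy.1 _ hf2.1,
        ← mul_assoc, mul_inv_cancel_right, hE _ hf2.1]
    have h8 := hfix _ (mul_mem hy hfC) (mem_centralizer_singleton_iff.2
      (commutatorElement_eq_one_iff_mul_comm.1 h7).symm)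
    exact hyF ⟨(mul_mem_cancel_right (mem_inf.1 hf).1).1 h8, hy.2⟩

theorem card_cent_le {a : G} (ha : a ∈ A) (haE : a ∉ E) :
    Nat.card (centralizer (E : Set G) ⊓ centralizer {a} : Subgroup G) ≤ 4 :=
  (card_le_of_le (le_inf (h.cent_inf_le hE hE8 ha haE) inf_le_right)).trans
    (card_E_cent_le hE8 (h.not_mem_cent hE hE8 ha haE))

theorem card_fixMod_le' {a : G} (ha : a ∈ A) (haE : a ∉ E) :
    Nat.card (fixMod (centralizer (E : Set G)) E a) ≤ 16 :=
  (card_fixMod_le hE (h.sq a ha)).trans (Nat.mul_le_mul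
    (card_E_cent_le hE8 (h.not_mem_cent hE hE8 ha haE)) (h.card_cent_le hE hE8 ha haE))

omit hE8 in
/-- Two steps of a chief series above `E` inside `C(E)`. -/
theorem exists_steps (hE8 : Nat.card E = 8) (h16 : 16 < Nat.card (centralizer (E : Set G))) :
    ∃ M : Subgroup G, M.Normal ∧ E ≤ M ∧ M ≤ centralizer (E : Set G) ∧ Nat.card M = 16 ∧
      (∀ g : G, ∀ x ∈ M, ⁅g, x⁆ ∈ E) ∧
      ∃ m ∈ centralizer (E : Set G), m ∉ M ∧ ∀ g : G, ⁅g, m⁆ ∈ M := by
  obtain ⟨x, hx, hxE, hx2, hxc⟩ := PGrp.exists_central_mod h.pG E (centralizer (E : Set G))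
    fun e => by have := card_le_of_le e; omega
  have hn := PGrp.normal_sup_zpowers hxc
  have hc := PGrp.card_sup_zpowers hxE hx2
  obtain ⟨m, hm, hmM, -, hmc⟩ := PGrp.exists_central_mod h.pG (E ⊔ zpowers x)
    (centralizer (E : Set G)) fun e => by have := card_le_of_le e; omega
  exact ⟨_, hn, le_sup_left, sup_le (le_cent_of_sq hE le_rfl) (zpowers_le.2 hx), by omega,
    fun g y hy => PGrp.commutator_mem_of_mem_sup_zpowers hxc hy g, m, hm, hmM, hmc⟩

theorem comm_not_mem {a : G} (ha : a ∈ A) (haE : a ∉ E) {M : Subgroup G}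
    (hM : M ≤ centralizer (E : Set G)) (hc : Nat.card M = 16) (h1 : ∀ g : G, ∀ x ∈ M, ⁅g, x⁆ ∈ E) :
    fixMod (centralizer (E : Set G)) E a = M := by
  refine (eq_of_le_of_card_ge (fun x hx => mem_fixMod.2 ⟨hM hx, ?_⟩)
    (hc ▸ h.card_fixMod_le' hE hE8 ha haE)).symm
  rw [← commutatorElement_inv]
  exact inv_mem (h1 a x hx)

theorem card_cent_le_of_two (h2 : Nat.card (E ⊓ A : Subgroup G) ≤ 2) :
    Nat.card (centralizer (E : Set G)) ≤ 16 := by
  by_contra hc
  obtain ⟨M, hMn, hEM, hM, hcM, h1, m, hm, hmM, h3⟩ := h.exists_steps hE hE8 (not_le.1 hc)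
  have key : ∀ a ∈ A, a ∉ E → ⁅a, m⁆ ∉ E := fun a ha haE e => hmM (by
    rw [← h.comm_not_mem hE hE8 ha haE hM hcM h1, mem_fixMod, ← commutatorElement_inv]
    exact ⟨hm, inv_mem e⟩)
  obtain ⟨p, hpE, hp1, hpZ, -⟩ := PGrp.exists_mem_center_of_normal h.pG E (by
    rintro rfl; simp at hE8)
  have hz := card_zpowers_two hp1 (hE p hpE)
  have hpA := h.center_le hpZ
  have hEA : zpowers p = E ⊓ A := eq_of_le_of_card_ge (zpowers_le.2 ⟨hpE, hpA⟩) (by omega)
  obtain ⟨a, ha, hap⟩ := exists_not_mem (H := zpowers p) (K := A) (by rw [h.card]; omega)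
  obtain ⟨b, hb, hbp, habp, -⟩ := h.exists_gen hpA hp1 ha hap
  rw [hEA] at hap hbp habp
  refine key _ (mul_mem ha hb) (fun e => habp ⟨e, mul_mem ha hb⟩) ?_
  rw [commutatorElement_mul_left_eq_conj_mul]
  refine mul_mem_of_card hEM (by omega) (hMn.conj_mem _ (h3 b) a) (fun e => ?_) (h3 a)
    (key a ha fun e => hap ⟨e, ha⟩)
  exact key b hb (fun e => hbp ⟨e, hb⟩) (by simpa using hEn.mem_comm e)

/-- The case `|C(E)| ≤ 16`. -/
theorem small (h16 : Nat.card (centralizer (E : Set G)) ≤ 16) {X K : Subgroup G} (hKX : K ≤ X)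
    (hK : SqIn X K) : ¬ 32 * Nat.card K ≤ Nat.card X := by
  intro h32
  have h1 := eight_mul_le hE hE8 h.pG hK h32
  have hG := card_le_eight_mul hE8 h.pG
  have hEC : E ≤ centralizer (E : Set G) := le_cent_of_sq hE le_rfl
  have hKpos : 0 < Nat.card K := Nat.card_pos
  have hXC : ¬ X ≤ centralizer (E : Set G) := fun e => by have := card_le_of_le e; omega
  have hD16 := (card_le_of_le (inf_le_right : X ⊓ centralizer (E : Set G) ≤ _)).trans h16
  have hcomm : ∀ x ∈ X, ∀ d ∈ X ⊓ centralizer (E : Set G),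
      ⁅x, d⁆ ∈ K ⊓ centralizer (E : Set G) :=
    fun x hx d hd => ⟨comm_mem hK hx hd.1, comm_mem_of_normal x hd.2⟩
  by_cases hK1 : K ⊓ centralizer (E : Set G) = ⊥
  · have hXD : X ≤ centralizer ((X ⊓ centralizer (E : Set G) : Subgroup G) : Set G) := by
      intro x hx d hd
      have := hcomm x hx d hd
      rw [hK1, mem_bot, commutatorElement_eq_one_iff_mul_comm] at this
      exact this.symm
    have hED : ¬ E ≤ X := fun e =>
      hXC (hXD.trans (centralizer_le (SetLike.coe_subset_coe.2 (le_inf e hEC))))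
    have h2 := two_mul_le_of_not_le (inf_le_right : X ⊓ centralizer (E : Set G) ≤ _)
      fun e => hED (hEC.trans (e.trans inf_le_left))
    rw [hK1, card_bot] at h1
    have h3 := EA.card_mul_card_le (X ⊓ centralizer (E : Set G)) E
    have h4 := (card_le_of_le (sup_le inf_le_right hEC :
      X ⊓ centralizer (E : Set G) ⊔ E ≤ centralizer (E : Set G))).trans h16
    have h5 : 4 ≤ Nat.card (X ⊓ centralizer (E : Set G) ⊓ E : Subgroup G) := by nlinarith
    have h6 := card_le_of_hyp hE8 (X := X) inf_le_right h5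
      (hXD.trans (centralizer_le (SetLike.coe_subset_coe.2 inf_le_left)))
    have h7 : K = ⊥ := card_eq_one.1 (by omega)
    have hsq : ∀ x ∈ X, x * x = 1 := fun x hx => by
      have := hK x hx
      rwa [h7, mem_bot] at this
    have h8 := EA.card_mul_card_eq (H := X) (N := centralizer (E : Set G)) le_normalizer_of_normal
    have h9 : Nat.card (X ⊔ centralizer (E : Set G) : Subgroup G) = 64 := by
      have e1 : Nat.card X = 32 := by omega
      have e2 : Nat.card (centralizer (E : Set G)) = 16 := by omega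
      have e3 : Nat.card (X ⊓ centralizer (E : Set G) : Subgroup G) = 8 := by omega
      rw [e1, e2, e3] at h8
      omega
    have hN : (X ⊔ centralizer (E : Set G)).Normal := normal_of_card h.pG (by omega)
    have hXn : X.Normal := by
      refine ⟨fun x hx g => ?_⟩
      by_contra hc
      have hX' : MulAut.conj g • X ≤ X ⊔ centralizer (E : Set G) := by
        rintro _ ⟨y, hy, rfl⟩
        exact hN.conj_mem y (mem_sup_left hy) g
      have hc' : Nat.card (MulAut.conj g • X : Subgroup G) = Nat.card X :=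
        card_map_of_injective (MulAut.conj g).injective
      have hsq' : ∀ y ∈ MulAut.conj g • X, y * y = 1 := by
        rintro _ ⟨y, hy, rfl⟩
        change MulAut.conj g y * MulAut.conj g y = 1
        rw [← map_mul, hsq y hy, map_one]
      have hx' : g * x * g⁻¹ ∈ MulAut.conj g • X := ⟨x, hx, rfl⟩
      have h10 : X ⊔ centralizer (E : Set G) ≤
          centralizer ((X ⊓ MulAut.conj g • X : Subgroup G) : Set G) :=
        le_of_mem_of_card le_sup_left (by omega) (hX' hx') hc (le_cent_of_sq hsq inf_le_left)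
          (le_cent_of_sq hsq' inf_le_right hx')
      have h11 := card_le_of_le (le_inf inf_le_left
        (le_centralizer_iff.1 ((hEC.trans le_sup_right).trans h10)))
      have h12 := EA.card_mul_card_le X (MulAut.conj g • X)
      have h13 := card_le_of_le (sup_le le_sup_left hX')
      have e1 : Nat.card X = 32 := by omega
      rw [hc', e1] at h12
      nlinarith
    have := h.card_le_sixteen hsq
    omega
  · have h2 := two_mul_le_of_not_le bot_le fun e => hK1 (le_bot_iff.1 e)
    rw [card_bot] at h2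
    have hCX : centralizer (E : Set G) ≤ X :=
      (eq_of_le_of_card_ge (inf_le_right : X ⊓ centralizer (E : Set G) ≤ _) (by omega)).ge.trans
        inf_le_left
    rw [inf_eq_right.2 hCX] at h1 hcomm
    have h3 := card_le_of_pt hE hE8 (X := X) (P := K ⊓ centralizer (E : Set G)) (by omega)
      fun x hx e he => hcomm x hx e (hEC he)
    rw [inf_eq_right.2 hCX] at h3
    have h4 := card_le_of_le (inf_le_left : K ⊓ centralizer (E : Set G) ≤ K)
    have hK2 : Nat.card K = 2 := by omega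
    have hX64 : Nat.card X = 64 := by omega
    have hXn : X.Normal := normal_of_card h.pG (by omega)
    have hXE : ⁅X, E⁆ = K := by
      have h5 : ⁅X, E⁆ ≤ K := commutator_le.2 fun x hx e he => (hcomm x hx e (hEC he)).1
      have h6 := two_mul_le_of_not_le (bot_le : ⊥ ≤ ⁅X, E⁆) fun e =>
        hXC (commutator_eq_bot_iff_le_centralizer.1 (le_bot_iff.1 e))
      rw [card_bot] at h6
      exact eq_of_le_of_card_ge h5 (by omega)
    have hKn : K.Normal := hXE ▸ inferInstance
    have hKZ := PGrp.le_center_of_card_eq_prime h.pG K hK2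
    have hKE : K ≤ E := hXE ▸ commutator_le_right X E
    have hAX : A ⊓ X ≤ E := fun a ha => by
      by_contra haE
      have h5 := h.card_cent_le hE hE8 ha.1 haE
      have h6 := card_le_cent_mul (centralizer (E : Set G)) a K fun c hc => by
        rw [← commutatorElement_inv]; exact inv_mem (hcomm a ha.2 c hc).1
      rw [hK2] at h6
      omega
    have h5 := EA.card_mul_card_le A X
    have h6 : Nat.card (A ⊔ X : Subgroup G) ≤ Nat.card G := card_le_card_group _
    have h7 : 4 ≤ Nat.card (A ⊓ X : Subgroup G) := by rw [h.card, hX64] at h5; nlinarith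
    obtain ⟨a, ha, haE⟩ : ∃ a ∈ A, a ∉ E := by
      by_contra hc
      push Not at hc
      have h8 : A = E := eq_of_le_of_card_ge hc (by rw [h.card, hE8])
      have h9 : Nat.card (centralizer (E : Set G)) = 8 := by rw [← h8, h.cent, h.card]
      omega
    have haX : a ∉ X := fun e => haE (hAX ⟨ha, e⟩)
    have h8 := h.card_inf_le (V := X) fun e => haX (e ha)
    rw [inf_comm] at h8
    obtain ⟨e, he, hae⟩ : ∃ e ∈ E, ⁅a, e⁆ ∉ K := by
      by_contra hc
      push Not at hc
      have h9 := card_le_of_pt hE hE8 (P := K) (X := (centralizer ((E.map (QuotientGroup.mk' K) :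
        Subgroup _) : Set (G ⧸ K))).comap (QuotientGroup.mk' K)) hK2.le fun x hx e he => by
          rw [← QuotientGroup.eq_one_iff]
          change QuotientGroup.mk' K _ = 1
          rw [map_commutatorElement, commutatorElement_eq_one_iff_mul_comm]
          exact (hx _ ⟨e, he, rfl⟩).symm
      have key : ∀ x : G, (∀ e ∈ E, ⁅x, e⁆ ∈ K) → x ∈ (centralizer ((E.map (QuotientGroup.mk' K) :
          Subgroup _) : Set (G ⧸ K))).comap (QuotientGroup.mk' K) := by
        rintro x hx _ ⟨e, he, rfl⟩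
        symm
        rw [← commutatorElement_eq_one_iff_mul_comm, ← map_commutatorElement,
          QuotientGroup.mk'_apply, QuotientGroup.eq_one_iff]
        exact hx e he
      have h10 := two_mul_le_of_not_le (fun x hx => key x fun e he => (hcomm x hx e (hEC he)).1)
        fun e => haX (e (key a hc))
      have h11 := (card_le_of_le (inf_le_right : (centralizer ((E.map (QuotientGroup.mk' K) :
        Subgroup _) : Set (G ⧸ K))).comap (QuotientGroup.mk' K) ⊓ centralizer (E : Set G) ≤ _))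
      omega
    have hzE := comm_mem_of_normal a he
    have hzA : ⁅a, e⁆ ∈ A ⊓ X := ⟨h.cent_le inf_le_left h7 ha (fun e => haX e.2)
      ⟨le_cent_of_sq hE hAX hzE, comm_mem_cent (h.sq a ha) (hE _ hzE)⟩, hCX (hEC hzE)⟩
    have h9 : X ⊓ centralizer {a} ≤ A ⊓ X := fun x hx => by
      refine ⟨h.cent_le inf_le_left h7 ha (fun e => haX e.2) ⟨?_, hx.2⟩, hx.1⟩
      have hz : ⁅a, e⁆ ∈ centralizer {x} := by
        have hk := mem_center_iff.1 (hKZ (hcomm x hx.1 e (hEC he)).1)
        have hxa : x * a * x⁻¹ = a := by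
          rw [mem_centralizer_singleton_iff.1 hx.2, mul_inv_cancel_right]
        have hxe : x * e * x⁻¹ = ⁅x, e⁆ * e := by rw [commutatorElement_def]; group
        have h10 : x * ⁅a, e⁆ * x⁻¹ = ⁅a, e⁆ := by
          rw [conjugate_commutatorElement, hxa, hxe, commutatorElement_mul_right_eq_mul_conj,
            commutatorElement_eq_one_iff_mul_comm.2 (hk a), one_mul, ← hk, mul_inv_cancel_right]
        rw [mem_centralizer_singleton_iff, ← mul_inv_eq_iff_eq_mul.1 h10]
      have h10 : A ⊓ X ≤ centralizer {x} := le_of_mem_of_card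
        (le_inf (hKZ.trans h.center_le) hKX) (by omega) hzA hae
        (hKZ.trans (center_le_centralizer _)) hz
      exact fun y hy => mem_centralizer_singleton_iff.1 (h10 hy)
    have h10 := card_le_sq_mul hKX hK (a := a) (le_normalizer_of_normal (mem_top a)) (h.sq a ha)
    have h11 := (card_le_of_le h9).trans h8
    rw [hK2, hX64] at h10
    nlinarith

/-- The case `|C(E)| > 16`. -/
theorem large (h16 : 16 < Nat.card (centralizer (E : Set G))) {X K : Subgroup G}
    (hK : SqIn X K) : ¬ 32 * Nat.card K ≤ Nat.card X := by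
  intro h32
  have hEC : E ≤ centralizer (E : Set G) := le_cent_of_sq hE le_rfl
  have h4 : 4 ≤ Nat.card (E ⊓ A : Subgroup G) := by
    by_contra hc
    have := h.card_cent_le_of_two hE hE8 (card_le_two_of_lt h.pG (not_le.1 hc))
    omega
  obtain ⟨a, ha, haE⟩ : ∃ a ∈ A, a ∉ E := by
    by_contra hc
    push Not at hc
    have h8 : A = E := eq_of_le_of_card_ge hc (by rw [h.card, hE8])
    have h9 : Nat.card (centralizer (E : Set G)) = 8 := by rw [← h8, h.cent, h.card]
    omega
  have ha2 := h.sq a ha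
  have haC := h.not_mem_cent hE hE8 ha haE
  have h4' := h.card_inf_le (V := E) fun e => haE (e ha)
  have hCa := h.cent_inf_le hE hE8 ha haE
  have hEa : E ⊓ centralizer {a} ≤ E ⊓ A := le_inf inf_le_left
    ((inf_le_inf_right _ (le_cent_of_sq hE inf_le_left)).trans
      (h.cent_le inf_le_right h4 ha fun e => haE e.1))
  obtain ⟨M, hMn, hEM, hM, hcM, h1, m, hm, hmM, h3⟩ := h.exists_steps hE hE8 h16
  have hfix := h.comm_not_mem hE hE8 ha haE hM hcM h1
  have huM := h3 a
  have huE : ⁅a, m⁆ ∉ E := fun e => hmM (by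
    rw [← hfix, mem_fixMod, ← commutatorElement_inv]; exact ⟨hm, inv_mem e⟩)
  have hu := conj_comm_inv (x := m) ha2
  generalize ⁅a, m⁆ = u at huM huE hu
  have hsqM : ∀ c ∈ M, c ∉ E → c * c = u * u := fun c hc hcE => by
    have h5 := mul_mem_of_card hEM (by omega) (inv_mem huM) (by rwa [inv_mem_iff]) hc hcE
    have h6 : c = u * (u⁻¹ * c) := by group
    rw [h6]
    generalize u⁻¹ * c = e at h5
    rw [mul_assoc, ← mul_assoc e, hM huM e h5, mul_assoc, hE e h5, mul_one]
  have hy1 : u * u ≠ 1 := fun e => huE (hCa ⟨hM huM, mem_centralizer_singleton_iff.2 (by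
    rw [inv_eq_of_mul_eq_one_right e, mul_inv_eq_iff_eq_mul] at hu
    exact hu.symm)⟩)
  have hyE : u * u ∈ E := mul_mem_of_card hEM (by omega) huM huE huM huE
  have hyZ : u * u ∈ center G := mem_center_iff.2 fun g => by
    have h5 := hsqM _ (hMn.conj_mem u huM g) fun e => huE (by simpa using hEn.mem_comm e)
    rw [← mul_inv_eq_iff_eq_mul, ← conj_mul]
    exact h5
  obtain ⟨e, he, hae⟩ : ∃ e ∈ E, ⁅a, e⁆ ≠ 1 := by
    by_contra hc
    push Not at hc
    exact haC fun e he => (commutatorElement_eq_one_iff_mul_comm.1 (hc e he)).symm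
  have hzE := comm_mem_of_normal a he
  have hzA : ⁅a, e⁆ ∈ E ⊓ A := hEa ⟨hzE, comm_mem_cent ha2 (hE _ hzE)⟩
  have hzy : ⁅a, e⁆ ∉ zpowers (u * u) := fun hc => by
    have h5 := eq_of_card_le_two (card_zpowers_two hy1 (hE _ hyE)).le hc (mem_zpowers _) hae hy1
    have h6 : ⁅a, u * e⁆ = 1 := by
      rw [commutatorElement_mul_right_eq_mul_conj, h5, commutatorElement_def, hu]
      group
    have h7 := hCa ⟨mul_mem (hM huM) (hEC he), mem_centralizer_singleton_iff.2
      (commutatorElement_eq_one_iff_mul_comm.1 h6).symm⟩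
    exact huE ((mul_mem_cancel_right he).1 h7)
  have hae' : ∀ f ∈ E, ⁅a, f⁆ ≠ 1 → ⁅a, f⁆ = ⁅a, e⁆ := fun f hf hf1 => by
    have key : ∀ f ∈ E, ⁅a, f⁆ ≠ 1 → f ∉ E ⊓ A := fun f _ h1 h2 =>
      h1 (commutatorElement_eq_one_iff_mul_comm.2 (comm_of_sq h.sq ha h2.2))
    have h5 := mul_mem_of_card (inf_le_left : E ⊓ A ≤ E) (by omega) hf (key f hf hf1) he
      (key e he hae)
    have h6 : ⁅a, f * e⁆ = 1 := commutatorElement_eq_one_iff_mul_comm.2 (comm_of_sq h.sq ha h5.2)
    rw [commutatorElement_mul_right_eq_mul_conj, mul_assoc ⁅a, f⁆, comm_of_sq hE hf hzE,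
      ← mul_assoc, mul_inv_cancel_right, ← hE _ hzE] at h6
    exact mul_right_cancel h6
  have hN : Nat.card (fixMod ⊤ E a) ≤ 32 := by
    have h5 := card_le_cent_mul (fixMod ⊤ E a) a (E ⊓ A) fun g hg =>
      hEa ⟨(mem_fixMod.1 hg).2, comm_mem_cent' ha2 (hE _ (mem_fixMod.1 hg).2)⟩
    have h6 : fixMod ⊤ E a ⊓ centralizer {a} ≤ A := fun x hx => by
      refine h.cent_le inf_le_right h4 ha (fun e => haE e.1) ⟨?_, hx.2⟩
      have hxa : x * a * x⁻¹ = a := by
        rw [mem_centralizer_singleton_iff.1 hx.2, mul_inv_cancel_right]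
      have h7 : x * ⁅a, e⁆ * x⁻¹ = ⁅a, e⁆ := by
        have h8 : x * ⁅a, e⁆ * x⁻¹ ≠ 1 := by simpa using hae
        rw [conjugate_commutatorElement, hxa] at h8 ⊢
        exact hae' _ (hEn.conj_mem e he x) h8
      have h8 : E ⊓ A ≤ centralizer {x} := le_of_mem_of_card (H := zpowers (u * u))
        (zpowers_le.2 ⟨hyE, h.center_le hyZ⟩) (by rw [card_zpowers_two hy1 (hE _ hyE)]; omega)
        hzA hzy (zpowers_le.2 (center_le_centralizer _ hyZ))
        (by rw [mem_centralizer_singleton_iff, ← mul_inv_eq_iff_eq_mul.1 h7])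
      exact fun y hy => mem_centralizer_singleton_iff.1 (h8 hy)
    have h7 := card_le_of_le h6
    rw [h.card] at h7
    nlinarith
  let π := QuotientGroup.mk' E
  have hπ : ∀ x : G, π x = 1 ↔ x ∈ E := fun x => QuotientGroup.eq_one_iff x
  have hQ : IsPGroup 2 (G ⧸ E) := h.pG.to_quotient E
  have hB : Nat.card (centralizer {π a}) ≤ 4 := by
    have h5 := PGrp.card_comap_mk' E (centralizer {π a})
    rw [fixMod, top_inf_eq] at hN
    rw [h5, hE8] at hN
    omega
  have ha1 : π a ≠ 1 := fun e => haE ((hπ a).1 e)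
  have haz := card_zpowers_two ha1 (by rw [← map_mul, ha2, map_one])
  have huZ : π u ∈ center (G ⧸ E) := mem_center_iff.2 fun g => by
    obtain ⟨g, rfl⟩ := QuotientGroup.mk'_surjective E g
    rw [← commutatorElement_eq_one_iff_mul_comm, ← map_commutatorElement, hπ]
    exact h1 g u huM
  have hua : π u ∉ zpowers (π a) := fun hc => by
    have h5 := eq_of_card_le_two haz.le hc (mem_zpowers _) (fun e => huE ((hπ u).1 e)) ha1
    rw [← mul_inv_eq_one, ← map_inv, ← map_mul, hπ] at h5
    exact haC ((inv_mem_iff).1 ((mul_mem_cancel_left (hM huM)).1 (hEC h5)))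
  have hle : zpowers (π a) ≤ centralizer {π a} :=
    zpowers_le.2 (mem_centralizer_singleton_iff.2 rfl)
  have huB : π u ∈ centralizer {π a} := center_le_centralizer _ huZ
  have hB4 := two_mul_le_of_not_le hle fun e => hua (e huB)
  have hBB : centralizer ((centralizer {π a} : Subgroup (G ⧸ E)) : Set (G ⧸ E)) =
      centralizer {π a} := by
    refine le_antisymm (centralizer_le (Set.singleton_subset_iff.2 (hle (mem_zpowers _)))) ?_
    refine le_of_mem_of_card hle (by omega) huB hua (zpowers_le.2 fun g hg =>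
      mem_centralizer_singleton_iff.1 hg) (center_le_centralizer _ huZ)
  obtain ⟨n, hn⟩ := IsPGroup.iff_card.1 hQ
  have hcG := card_eq_card_quotient_mul_card_subgroup E
  rw [hE8] at hcG
  have hC2 := two_mul_le_of_not_le (le_top : centralizer (E : Set G) ≤ ⊤) fun e => haC (e trivial)
  rw [card_top] at hC2
  obtain ⟨k, rfl⟩ : ∃ k, n = k + 3 := by
    refine Nat.exists_eq_add_of_le' ?_
    by_contra hc
    have : 2 ^ n ≤ 2 ^ 2 := Nat.pow_le_pow_right two_pos (by omega)
    omega
  obtain ⟨ρ, hρ⟩ := PGrp.exists_index_zpowers_eq_two k (G ⧸ E) hn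
    (PGrp.index_commutator_of_maximal_class hn
      (PGrp.nilpotencyClass_of_self_centralizing (k + 1) (G ⧸ E) hn _ (by omega) hBB))
  have h5 := card_le_relIndex_mul (X := X.map π) (zpowers ρ) le_top
  rw [relIndex_top_right, hρ] at h5
  have h6 := card_inf_zpowers_le (sqIn_map π hK) ρ
  have h7 := card_eq_map_mul π X
  have h8 := card_eq_map_mul π K
  rw [QuotientGroup.ker_mk'] at h7 h8
  have h9 : Nat.card (X ⊓ E : Subgroup G) ≤ 8 := hE8 ▸ card_le_of_le inf_le_right
  have h10 : 0 < Nat.card (K.map π) := Nat.card_pos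
  have h11 : 0 < Nat.card (K ⊓ E : Subgroup G) := Nat.card_pos
  have h12 : 8 * Nat.card (K ⊓ E : Subgroup G) ≤ Nat.card (X ⊓ E : Subgroup G) := by
    have : Nat.card (X.map π) ≤ 4 * Nat.card (K.map π) := by omega
    have := Nat.mul_le_mul_right (Nat.card (X ⊓ E : Subgroup G)) this
    nlinarith
  have hKE : K ⊓ E = ⊥ := card_eq_one.1 (by omega)
  have hEX : E ≤ X := (eq_of_le_of_card_ge (inf_le_right : X ⊓ E ≤ E) (by omega)).ge.trans
    inf_le_left
  have hXC : X ≤ centralizer (E : Set G) := fun x hx f hf => by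
    have : ⁅x, f⁆ ∈ K ⊓ E := ⟨comm_mem hK hx (hEX hf), comm_mem_of_normal x hf⟩
    rw [hKE, mem_bot, commutatorElement_eq_one_iff_mul_comm] at this
    exact this.symm
  have hKpos : 0 < Nat.card K := Nat.card_pos
  obtain ⟨w, hw, hw1⟩ := exists_not_mem (H := ⊥) (K := X.map π ⊓ zpowers ρ) (by
    rw [card_bot]; nlinarith)
  obtain ⟨j, hj1, hj2⟩ := PGrp.exists_pow_ne_one_pow_eq_one hQ (mt mem_bot.2 hw1)
  have hw' := pow_mem hw (2 ^ j)
  rw [pow_two] at hj2
  generalize w ^ 2 ^ j = v at hj1 hj2 hw'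
  obtain ⟨⟨x, hx, rfl⟩, hv⟩ := hw'
  have hρn : (zpowers ρ).Normal := normal_of_index_eq_two hρ
  have h13 := eq_of_sq_of_mem_zpowers (hρn.conj_mem _ hv (π a)) hv (by simpa using hj1) hj1
    (by rw [conj_mul, hj2]; simp) hj2
  have h14 : x ∈ M := by
    rw [← hfix]
    exact ⟨hXC hx, mem_centralizer_singleton_iff.2 (mul_inv_eq_iff_eq_mul.1 h13).symm⟩
  have h15 := hsqM x h14 fun e => hj1 ((hπ x).2 e)
  have h17 : x * x ∈ K ⊓ E := ⟨hK x hx, h15 ▸ hyE⟩
  rw [hKE, mem_bot, h15] at h17
  exact hy1 h17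

theorem bound {X K : Subgroup G} (hKX : K ≤ X) (hK : SqIn X K) :
    Nat.card X ≤ 2 ^ 4 * Nat.card K := by
  by_contra hc
  have h32 := two_mul_le_of_lt h.pG (not_le.1 hc)
  rcases le_or_gt (Nat.card (centralizer (E : Set G))) 16 with h16 | h16
  · exact h.small hE hE8 h16 hKX hK h32
  · exact h.large hE hE8 h16 hK h32

end HypA

end CL.SelfE8
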