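import Cfsg.Agent.TwoFus.Rank2Struct
import Cfsg.Agent.TwoFus.U3Transport

/-!
The 2-group of order 64 and exponent 4 with three involutions permuted cyclically by an
automorphism of order 3 is unique up to isomorphism: it is the Sylow 2-subgroup of `PSU 3 F 4`.
-/

set_option autoImplicit false

namespace CL.Rank2

variable {T : Type*} [Group T]

namespace Setup

variable {σ : MulAut T} {z : T}

theorem mul_mul_self (h : Setup σ z) (h4 : ∀ x : T, x * x * (x * x) = 1) (x u : T) :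
    x * u * (x * u) = (x * u * x⁻¹ * u⁻¹) * (x * x) * (u * u) := by
  have e1 := h.central (h4 x)
  calc x * u * (x * u) = x * u * x⁻¹ * (x * x * u⁻¹) * (u * u) := by group
    _ = x * u * x⁻¹ * (u⁻¹ * (x * x)) * (u * u) := by rw [e1]
    _ = _ := by simp only [mul_assoc]

theorem cm_sq (h : Setup σ z) (h4 : ∀ x : T, x * x * (x * x) = 1) (x u : T) :
    (x * u * x⁻¹ * u⁻¹) * (x * u * x⁻¹ * u⁻¹) = 1 := by
  have e : x * u * x⁻¹ * u⁻¹ = x * u * (x * u) * (u * u) * (x * x) := by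
    rw [h.mul_mul_self h4, mul_assoc _ (u * u) (u * u), h4 u, mul_one, mul_assoc _ (x * x) (x * x),
      h4 x, mul_one]
  rw [e]
  exact h.mul_invol (h.mul_invol (h4 _) (h4 u)) (h4 x)

theorem cm_mul_left (h : Setup σ z) (h4 : ∀ x : T, x * x * (x * x) = 1) (x y u : T) :
    x * y * u * (x * y)⁻¹ * u⁻¹ = (x * u * x⁻¹ * u⁻¹) * (y * u * y⁻¹ * u⁻¹) := by
  have e := h.central (h.cm_sq h4 y u)
  calc x * y * u * (x * y)⁻¹ * u⁻¹ = x * ((y * u * y⁻¹ * u⁻¹) * (u * x⁻¹ * u⁻¹)) := by group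
    _ = x * ((u * x⁻¹ * u⁻¹) * (y * u * y⁻¹ * u⁻¹)) := by rw [e]
    _ = _ := by simp only [mul_assoc]

theorem cm_symm (h : Setup σ z) (h4 : ∀ x : T, x * x * (x * x) = 1) (x u : T) :
    u * x * u⁻¹ * x⁻¹ = x * u * x⁻¹ * u⁻¹ := by
  rw [eq_inv_of_mul_eq_one_left (h.cm_sq h4 x u)]; group

theorem cm_mul_right (h : Setup σ z) (h4 : ∀ x : T, x * x * (x * x) = 1) (x y u : T) :
    u * (x * y) * u⁻¹ * (x * y)⁻¹ = (u * x * u⁻¹ * x⁻¹) * (u * y * u⁻¹ * y⁻¹) := by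
  rw [h.cm_symm h4 (x * y) u, h.cm_mul_left h4, h.cm_symm h4 x u, h.cm_symm h4 y u]

variable [Finite T]

theorem cm_map_right (h : Setup σ z) (hT : IsPGroup 2 T) (h3 : ∀ x, σ (σ (σ x)) = x)
    (h4 : ∀ x : T, x * x * (x * x) = 1) (x y : T) :
    x * σ y * x⁻¹ * (σ y)⁻¹ = σ x * y * (σ x)⁻¹ * y⁻¹ := by
  have c : ∀ a : T, a * σ a * a⁻¹ * (σ a)⁻¹ = 1 := fun a => by
    rw [(h.commute_map hT h3 a).eq]; group
  have e := c (x * y)
  rw [h.cm_mul_left h4, map_mul, h.cm_mul_right h4, h.cm_mul_right h4, c, c, one_mul, mul_one,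
    h.cm_symm h4 (σ x) y] at e
  rw [eq_inv_of_mul_eq_one_left e, eq_comm]
  exact eq_inv_of_mul_eq_one_left (h.cm_sq h4 _ _)

theorem cm_map_left (h : Setup σ z) (hT : IsPGroup 2 T) (h3 : ∀ x, σ (σ (σ x)) = x)
    (h4 : ∀ x : T, x * x * (x * x) = 1) (x y : T) :
    σ x * y * (σ x)⁻¹ * y⁻¹ = σ (σ (x * y * x⁻¹ * y⁻¹)) := by
  have e := h.cm_map_right hT h3 h4 (σ (σ x)) (σ y)
  have e2 := h.cm_map_right hT h3 h4 x (σ y)
  have e3 := h.cm_map_right hT h3 h4 (σ x) (σ (σ y))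
  rw [h3] at e e3
  simp only [map_mul, map_inv]
  rw [e, h.cm_map_right hT h3 h4]

omit [Finite T] in
theorem orderOf_eq_four (h : Setup σ z) {x : T} (hx : x * x = z) : orderOf x = 2 ^ (1 + 1) := by
  have : Fact (Nat.Prime 2) := ⟨Nat.prime_two⟩
  apply orderOf_eq_prime_pow
  · rw [pow_one, pow_two, hx]; exact h.ne_one
  · rw [show 2 ^ (1 + 1) = 2 * 2 from rfl, pow_mul, pow_two, pow_two, hx, h.sq]

theorem cm_cases (h : Setup σ z) (hT : IsPGroup 2 T) (h3 : ∀ x, σ (σ (σ x)) = x)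
    (h4 : ∀ x : T, x * x * (x * x) = 1) {x y : T} (hx : x * x = z) (hy : y * y = z)
    (hyA : y ∉ Subgroup.closure ({x, σ x} : Set T)) :
    x * y * x⁻¹ * y⁻¹ = σ z ∨ x * y * x⁻¹ * y⁻¹ = z * σ z := by
  have ho := h.orderOf_eq_four hx
  rcases h.cases _ (h.cm_sq h4 x y) with e | e | e | e
  · exfalso
    have : x * y * (x * y) = 1 := by rw [h.mul_mul_self h4, e, hx, hy, one_mul, h.sq]
    have h1 := h.invol_mem_closure ho this
    exact hyA ((Subgroup.mul_mem_cancel_left _ (Subgroup.subset_closure (by simp))).1 h1)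
  · exfalso
    have : σ x * y * (σ x * y) = 1 := by
      rw [h.mul_mul_self h4, h.cm_map_left hT h3 h4, e, ← map_mul, hx, hy, h.map_map,
        mul_assoc z, h.map_sq, mul_one, h.sq]
    have h1 := h.invol_mem_closure ho this
    exact hyA ((Subgroup.mul_mem_cancel_left _ (Subgroup.subset_closure (by simp))).1 h1)
  · exact Or.inl e
  · exact Or.inr e

/-- There is no quaternion subgroup. -/
theorem no_quaternion (h : Setup σ z) (hT : IsPGroup 2 T) (h3 : ∀ x, σ (σ (σ x)) = x)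
    (h4 : ∀ x : T, x * x * (x * x) = 1) {a b : T} (hab : a * a = b * b)
    (hab2 : a * b * (a * b) = a * a) : a * a = 1 := by
  by_contra h1
  have h' := h.of_invol (h4 a) h1
  have hc : a * b * a⁻¹ * b⁻¹ = a * a := by
    rw [h.mul_mul_self h4, ← hab, mul_assoc _ (a * a), h4, mul_one] at hab2
    exact hab2
  by_cases hb : b ∈ Subgroup.closure ({a, σ a} : Set T)
  · have hcm := h.commute_map hT h3 a
    obtain ⟨i, j, rfl⟩ := (mem_closure_pair_of_commute hcm).1 hb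
    have : Commute a (a ^ i * σ a ^ j) :=
      ((Commute.refl a).zpow_right i).mul_right (hcm.zpow_right j)
    rw [this.eq] at hc
    apply h1
    rw [← hc]; group
  · rcases h'.cm_cases hT h3 h4 rfl hab.symm hb with e | e <;> rw [hc] at e
    · exact h'.map_ne e.symm
    · exact h'.mul_ne e.symm

theorem closure_invariant (h : Setup σ z) (hT : IsPGroup 2 T) (h3 : ∀ x, σ (σ (σ x)) = x)
    (s : Set T) (hs : ∀ a ∈ s, σ a ∈ s ∨ ∃ b ∈ s, a = σ b) :
    ∀ g ∈ Subgroup.closure s, σ g ∈ Subgroup.closure s := by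
  have : Subgroup.closure s ≤ (Subgroup.closure s).comap σ.toMonoidHom := by
    rw [Subgroup.closure_le]
    intro a ha
    change σ a ∈ Subgroup.closure s
    rcases hs a ha with h1 | ⟨b, hb, rfl⟩
    · exact Subgroup.subset_closure h1
    · rw [h.map_map_eq hT h3]
      exact inv_mem (mul_mem (Subgroup.subset_closure hb) (Subgroup.subset_closure ha))
  exact fun g hg => this hg

omit [Finite T] in
theorem exists_sq_eq (h : Setup σ z) (h4 : ∀ x : T, x * x * (x * x) = 1) (A : Subgroup T)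
    (hA : ∀ g, σ g ∈ A → g ∈ A) {y : T} (hy : y ∉ A) (hy2 : y * y ≠ 1) :
    ∃ y', y' ∉ A ∧ y' * y' = z := by
  rcases h.cases _ (h4 y) with e | e | e | e
  · exact absurd e hy2
  · exact ⟨y, hy, e⟩
  · exact ⟨σ (σ y), fun h' => hy (hA _ (hA _ h')), by
      rw [← map_mul, ← map_mul, e, h.map3 h.sq]⟩
  · exact ⟨σ y, fun h' => hy (hA _ h'), by rw [← map_mul, e, h.map_mul']⟩

theorem normal_form (h : Setup σ z) (hT : IsPGroup 2 T) (h3 : ∀ x, σ (σ (σ x)) = x)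
    (h64 : Nat.card T = 64) (h4 : ∀ x : T, x * x * (x * x) = 1) :
    ∃ x y : T, x * x = z ∧ y * y = z ∧ x * y * x⁻¹ * y⁻¹ = σ z ∧
      Subgroup.closure ({x, σ x, y, σ y} : Set T) = ⊤ := by
  obtain ⟨x0, hx0⟩ : ∃ x0 : T, x0 * x0 ≠ 1 := by
    by_contra hcon
    push Not at hcon
    have : Nat.card T ≤ Nat.card ({1, z, σ z, z * σ z} : Set T) :=
      Nat.card_le_card_of_injective (fun t => ⟨t, h.cases t (hcon t)⟩)
        (fun s t e => congrArg Subtype.val e)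
    have h2 : ({1, z, σ z, z * σ z} : Set T).ncard ≤ 4 :=
      (Set.ncard_insert_le _ _).trans (Nat.succ_le_succ ((Set.ncard_insert_le _ _).trans
        (Nat.succ_le_succ ((Set.ncard_insert_le _ _).trans (by simp)))))
    rw [Nat.card_coe_set_eq] at this
    omega
  obtain ⟨x, -, hx⟩ := h.exists_sq_eq h4 ⊥ (fun g hg => by simpa using hg) (y := x0)
    (by rw [Subgroup.mem_bot]; rintro rfl; exact hx0 (one_mul 1)) hx0
  have ho := h.orderOf_eq_four hx
  set A := Subgroup.closure ({x, σ x} : Set T) with hA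
  have hAc : Nat.card A = 16 := card_closure_pair _ x (σ x) ho (by rw [MulEquiv.orderOf_eq, ho])
      (h.commute_map hT h3 x) (h.zpowers_inf hT ho)
  have hAi : ∀ g ∈ A, σ g ∈ A := h.closure_invariant hT h3 _ (by
    rintro a (rfl | rfl)
    · exact Or.inl (by simp)
    · exact Or.inr ⟨x, by simp, rfl⟩)
  have hAi' : ∀ g, σ g ∈ A → g ∈ A := fun g hg => by
    have := hAi _ (hAi _ hg)
    rwa [h3] at this
  obtain ⟨y0, hy0⟩ : ∃ y0, y0 ∉ A := by
    by_contra hcon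
    push Not at hcon
    rw [show A = ⊤ from eq_top_iff.2 fun y _ => hcon y, Subgroup.card_top] at hAc
    omega
  obtain ⟨y1, hy1A, hy1⟩ := h.exists_sq_eq h4 A hAi' hy0
    (fun e => hy0 (h.invol_mem_closure ho e))
  obtain ⟨y, hyA, hy, hc⟩ : ∃ y, y ∉ A ∧ y * y = z ∧ x * y * x⁻¹ * y⁻¹ = σ z := by
    rcases h.cm_cases hT h3 h4 hx hy1 hy1A with e | e
    · exact ⟨y1, hy1A, hy1, e⟩
    · have e1 : x * σ y1 * x⁻¹ * (σ y1)⁻¹ = σ z := by
        rw [h.cm_map_right hT h3 h4, h.cm_map_left hT h3 h4, e, h.map_mul']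
      refine ⟨x * σ y1, fun h' => hy1A (hAi' _ ?_), ?_, ?_⟩
      · exact (Subgroup.mul_mem_cancel_left _ (Subgroup.subset_closure (by simp))).1 h'
      · rw [h.mul_mul_self h4, e1, hx, ← map_mul, hy1, ← h.comm, mul_assoc, h.map_sq, mul_one]
      · rw [h.cm_mul_right h4, e1]; group
  refine ⟨x, y, hx, hy, hc, ?_⟩
  set R := Subgroup.closure ({x, σ x, y, σ y} : Set T) with hR
  have hAR : A ≤ R := Subgroup.closure_mono (by
    rintro a (rfl | rfl) <;> simp)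
  have hRi : ∀ g ∈ R, σ g ∈ R := h.closure_invariant hT h3 _ (by
    rintro a (rfl | rfl | rfl | rfl)
    · exact Or.inl (by simp)
    · exact Or.inr ⟨x, by simp, rfl⟩
    · exact Or.inl (by simp)
    · exact Or.inr ⟨y, by simp, rfl⟩)
  have h1 := h.card_eq hT R (hAR (h.invol_mem_closure ho h.sq)) hRi (fun y _ => h4 y)
  have h2 := Subgroup.card_le_of_le hAR
  have h5 : Nat.card R ≠ Nat.card A := fun e =>
    hyA (Subgroup.eq_of_le_of_card_ge hAR e.le ▸ (Subgroup.subset_closure (by simp) : y ∈ R))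
  apply Subgroup.eq_top_of_card_eq
  omega

end Setup

/-- Uniqueness of the group of order 64. -/
theorem nonempty_equiv_of_setup {T₁ T₂ : Type*} [Group T₁] [Group T₂] [Finite T₁] [Finite T₂]
    {σ₁ : MulAut T₁} {z₁ : T₁} (h₁ : Setup σ₁ z₁) (hT₁ : IsPGroup 2 T₁)
    (h3₁ : ∀ x, σ₁ (σ₁ (σ₁ x)) = x) (h64₁ : Nat.card T₁ = 64) (h4₁ : ∀ x : T₁, x * x * (x * x) = 1)
    {σ₂ : MulAut T₂} {z₂ : T₂} (h₂ : Setup σ₂ z₂) (hT₂ : IsPGroup 2 T₂)
    (h3₂ : ∀ x, σ₂ (σ₂ (σ₂ x)) = x) (h64₂ : Nat.card T₂ = 64) (h4₂ : ∀ x : T₂, x * x * (x * x) = 1) :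
    Nonempty (T₁ ≃* T₂) := by
  classical
  obtain ⟨x₁, y₁, hx₁, hy₁, hc₁, ht₁⟩ := h₁.normal_form hT₁ h3₁ h64₁ h4₁
  obtain ⟨x₂, y₂, hx₂, hy₂, hc₂, ht₂⟩ := h₂.normal_form hT₂ h3₂ h64₂ h4₂
  let σ : MulAut (T₁ × T₂) := MulEquiv.prodCongr σ₁ σ₂
  have hσ : ∀ p : T₁ × T₂, σ p = (σ₁ p.1, σ₂ p.2) := fun _ => rfl
  let x : T₁ × T₂ := (x₁, x₂)
  let y : T₁ × T₂ := (y₁, y₂)
  let z : T₁ × T₂ := (z₁, z₂)
  let D : Subgroup (T₁ × T₂) := Subgroup.closure {z, σ z}
  have hzc : ∀ g, z * g = g * z := fun g => Prod.ext (h₁.comm _) (h₂.comm _)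
  have hzc' : ∀ g, σ z * g = g * σ z := fun g => Prod.ext (h₁.map_comm _) (h₂.map_comm _)
  have hDc : D ≤ Subgroup.center _ := by
    rw [Subgroup.closure_le]
    rintro a (rfl | rfl)
    · exact Subgroup.mem_center_iff.2 fun g => (hzc g).symm
    · exact Subgroup.mem_center_iff.2 fun g => (hzc' g).symm
  have : D.Normal := ⟨fun a ha g => by
    rw [Subgroup.mem_center_iff.1 (hDc ha) g, mul_inv_cancel_right]; exact ha⟩
  have hD4 : Nat.card D ≤ 4 := by
    have := card_closure_le ({z, σ z} : Finset (T₁ × T₂)) ⊥ (by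
      intro a ha
      simp only [Finset.mem_insert, Finset.mem_singleton] at ha
      rcases ha with rfl | rfl
      · exact Prod.ext h₁.sq h₂.sq
      · exact Prod.ext h₁.map_sq h₂.map_sq) (by
      intro a ha b _
      simp only [Finset.mem_insert, Finset.mem_singleton] at ha
      rw [Subgroup.mem_bot]
      rcases ha with rfl | rfl
      · rw [hzc]; group
      · rw [hzc']; group)
    rw [Subgroup.card_bot, mul_one, Finset.coe_pair] at this
    exact this.trans (Nat.pow_le_pow_right (by norm_num) Finset.card_le_two)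
  have mz : z ∈ D := Subgroup.subset_closure (by simp)
  have mσz : σ z ∈ D := Subgroup.subset_closure (by simp)
  have c0 : ∀ a : T₁ × T₂, a * a * a⁻¹ * a⁻¹ ∈ D := fun a => by
    rw [show a * a * a⁻¹ * a⁻¹ = 1 by group]; exact one_mem _
  have csymm : ∀ a b : T₁ × T₂, a * b * a⁻¹ * b⁻¹ ∈ D → b * a * b⁻¹ * a⁻¹ ∈ D := fun a b hab => by
    rw [show b * a * b⁻¹ * a⁻¹ = (a * b * a⁻¹ * b⁻¹)⁻¹ by group]; exact inv_mem hab
  have c1 : ∀ a : T₁ × T₂, a * σ a * a⁻¹ * (σ a)⁻¹ ∈ D := fun a => by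
    have : a * σ a = σ a * a :=
      Prod.ext (h₁.commute_map hT₁ h3₁ _).eq (h₂.commute_map hT₂ h3₂ _).eq
    rw [this, show σ a * a * a⁻¹ * (σ a)⁻¹ = 1 by group]; exact one_mem _
  have c2 : x * y * x⁻¹ * y⁻¹ = σ z := Prod.ext hc₁ hc₂
  have c3 : σ x * y * (σ x)⁻¹ * y⁻¹ = z := by
    refine Prod.ext ?_ ?_
    · exact (h₁.cm_map_left hT₁ h3₁ h4₁ x₁ y₁).trans (by rw [hc₁, h3₁])
    · exact (h₂.cm_map_left hT₂ h3₂ h4₂ x₂ y₂).trans (by rw [hc₂, h3₂])
  have c4 : x * σ y * x⁻¹ * (σ y)⁻¹ = z := by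
    rw [← c3]
    exact Prod.ext (h₁.cm_map_right hT₁ h3₁ h4₁ x₁ y₁) (h₂.cm_map_right hT₂ h3₂ h4₂ x₂ y₂)
  have c5 : σ x * σ y * (σ x)⁻¹ * (σ y)⁻¹ = z * σ z := by
    rw [← map_inv, ← map_inv, ← map_mul, ← map_mul, ← map_mul, c2]
    exact Prod.ext h₁.map_map h₂.map_map
  have s1 : x * x = z := Prod.ext hx₁ hx₂
  have s2 : y * y = z := Prod.ext hy₁ hy₂
  have hH := card_closure_le ({x, σ x, y, σ y} : Finset (T₁ × T₂)) D (by
    intro a ha
    simp only [Finset.mem_insert, Finset.mem_singleton] at ha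
    rcases ha with rfl | rfl | rfl | rfl
    · rw [s1]; exact mz
    · rw [← map_mul, s1]; exact mσz
    · rw [s2]; exact mz
    · rw [← map_mul, s2]; exact mσz) (by
    intro a ha b hb
    simp only [Finset.mem_insert, Finset.mem_singleton] at ha hb
    have m2 : x * y * x⁻¹ * y⁻¹ ∈ D := by rw [c2]; exact mσz
    have m3 : σ x * y * (σ x)⁻¹ * y⁻¹ ∈ D := by rw [c3]; exact mz
    have m4 : x * σ y * x⁻¹ * (σ y)⁻¹ ∈ D := by rw [c4]; exact mz
    have m5 : σ x * σ y * (σ x)⁻¹ * (σ y)⁻¹ ∈ D := by rw [c5]; exact mul_mem mz mσz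
    rcases ha with e | e | e | e <;> rcases hb with e' | e' | e' | e' <;> rw [e, e']
    exacts [c0 _, c1 _, m2, m4, csymm _ _ (c1 _), c0 _, m3, m5, csymm _ _ m2, csymm _ _ m3, c0 _,
      c1 _, csymm _ _ m4, csymm _ _ m5, csymm _ _ (c1 _), c0 _])
  set H := Subgroup.closure (({x, σ x, y, σ y} : Finset (T₁ × T₂)) : Set (T₁ × T₂)) with hHdef
  have hH64 : Nat.card H ≤ 64 := by
    have : 2 ^ ({x, σ x, y, σ y} : Finset (T₁ × T₂)).card ≤ 2 ^ 4 :=
      Nat.pow_le_pow_right (by norm_num) Finset.card_le_four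
    nlinarith
  have hs1 : Function.Surjective ((MonoidHom.fst T₁ T₂).domRestrict H) := by
    rw [← MonoidHom.range_eq_top, MonoidHom.domRestrict_range, hHdef, MonoidHom.map_closure, ← ht₁]
    simp [Set.image_insert_eq, x, y, hσ]
  have hs2 : Function.Surjective ((MonoidHom.snd T₁ T₂).domRestrict H) := by
    rw [← MonoidHom.range_eq_top, MonoidHom.domRestrict_range, hHdef, MonoidHom.map_closure, ← ht₂]
    simp [Set.image_insert_eq, x, y, hσ]
  exact ⟨(MulEquiv.ofBijective _ (hs1.bijective_of_nat_card_le (by omega))).symm.trans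
    (MulEquiv.ofBijective _ (hs2.bijective_of_nat_card_le (by omega)))⟩

/-- The Sylow 2-subgroup of `PSU 3 F 4` satisfies the set-up. -/
theorem exists_setup_psu {F : Type*} [Field F] [Fintype F] (hF : Fintype.card F = 16)
    (P : Sylow 2 (Cfsg.PSU 3 F 4)) :
    ∃ (σ : MulAut (P : Subgroup (Cfsg.PSU 3 F 4))) (z : (P : Subgroup (Cfsg.PSU 3 F 4))),
      Setup σ z ∧ (∀ x, σ (σ (σ x)) = x) ∧ Nat.card (P : Subgroup (Cfsg.PSU 3 F 4)) = 64 ∧
      ∀ x : (P : Subgroup (Cfsg.PSU 3 F 4)), x * x * (x * x) = 1 := by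
  obtain ⟨h1, h2, ⟨-, -, -, -, K, hK, hreg⟩, h4, h5, -⟩ :=
    CL.U3.sylow_psu_structure (n := 2) le_rfl hF P
  change Nat.card (Subgroup.center (P : Subgroup (Cfsg.PSU 3 F 4))) = 4 at h2
  obtain ⟨φ, hφ⟩ := hK.exists_monoid_generator
  obtain ⟨σ, z, hS, h3⟩ := exists_setup (T := (P : Subgroup (Cfsg.PSU 3 F 4))) P.isPGroup' (by
    intro A _ hA
    refine le_trans (Subgroup.card_le_of_le (K := Subgroup.center _) fun a ha => (h4 a).2 ?_) h2.le
    rw [← pow_two]; exact hA a ha) (by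
    intro hr
    have := hr (Subgroup.center _) inferInstance (fun a ha => by rw [pow_two]; exact (h4 a).1 ha)
    omega) (φ : MulAut _) (by
    intro s t hs ht
    have key : ∀ u : (P : Subgroup (Cfsg.PSU 3 F 4)), orderOf u = 2 → u ≠ 1 ∧ u * u = 1 := by
      intro u hu
      refine ⟨fun e => by simp [e] at hu, ?_⟩
      have := pow_orderOf_eq_one u
      rwa [hu, pow_two] at this
    obtain ⟨k, hk, -⟩ := hreg s t (key s hs).1 (key s hs).2 (key t ht).1 (key t ht).2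
    obtain ⟨n, rfl⟩ := hφ k
    exact ⟨n, by simpa using hk⟩)
  exact ⟨σ, z, hS, h3, h1, fun x => (h4 _).1 (h5 x)⟩

end CL.Rank2
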