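import Cfsg.Agent.Base

/-!
# Coordinates for a wreathed 2-subgroup `S` of an ambient group `G`

`c.r a b = x^a y^b`, `c.s a b = x^a y^b z`, with `a b : ZMod (2^n)`.
-/

set_option autoImplicit false

namespace CL.Wr

/-! ### arithmetic in `ZMod (2^n)` -/

/-- the element of order two of `ZMod (2^n)` -/
def hf (n : ℕ) : ZMod (2 ^ n) := ((2 ^ (n - 1) : ℕ) : ZMod (2 ^ n))

/-- an element of order four of `ZMod (2^n)` -/
def qt (n : ℕ) : ZMod (2 ^ n) := ((2 ^ (n - 2) : ℕ) : ZMod (2 ^ n))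

theorem hf_ne_zero {n : ℕ} (hn : 1 ≤ n) : hf n ≠ 0 := by
  unfold hf
  rw [Ne, ZMod.natCast_eq_zero_iff]
  intro h
  have := Nat.le_of_dvd (by positivity) h
  have h2 : 2 ^ (n - 1) < 2 ^ n := Nat.pow_lt_pow_right (by norm_num) (by omega)
  omega

theorem hf_add_hf {n : ℕ} (hn : 1 ≤ n) : hf n + hf n = 0 := by
  unfold hf
  rw [← Nat.cast_add, ZMod.natCast_eq_zero_iff]
  obtain ⟨m, rfl⟩ : ∃ m, n = m + 1 := ⟨n - 1, by omega⟩
  simp [pow_succ, mul_two]

theorem neg_hf {n : ℕ} (hn : 1 ≤ n) : -hf n = hf n :=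
  neg_eq_of_add_eq_zero_left (hf_add_hf hn)

theorem qt_add_qt {n : ℕ} (hn : 2 ≤ n) : qt n + qt n = hf n := by
  unfold hf qt
  rw [← Nat.cast_add]
  obtain ⟨m, rfl⟩ : ∃ m, n = m + 2 := ⟨n - 2, by omega⟩
  congr 1
  simp [pow_succ, mul_two]

theorem add_self_eq_zero_iff' {n : ℕ} (hn : 1 ≤ n) (a : ZMod (2 ^ n)) :
    a + a = 0 ↔ a = 0 ∨ a = hf n := by
  constructor
  · intro h
    obtain ⟨m, rfl⟩ : ∃ m, n = m + 1 := ⟨n - 1, by omega⟩
    have h1 : ((a.val + a.val : ℕ) : ZMod (2 ^ (m + 1))) = 0 := by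
      simpa using h
    rw [ZMod.natCast_eq_zero_iff] at h1
    have h2 : a.val < 2 ^ (m + 1) := ZMod.val_lt a
    obtain ⟨k, hk⟩ := h1
    have hp : 2 ^ (m + 1) = 2 ^ m * 2 := pow_succ _ _
    have h3 : a.val = 2 ^ m * k := by
      generalize a.val = v at hk
      rw [hp] at hk; nlinarith
    have h4 : k < 2 := by
      generalize a.val = v at h2 h3
      rw [h3, hp] at h2
      exact lt_of_mul_lt_mul_left h2 (by positivity)
    have h5 : a = ((2 ^ m * k : ℕ) : ZMod (2 ^ (m + 1))) := by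
      rw [← h3]; simp
    interval_cases k
    · left; simpa using h5
    · right; simpa [hf] using h5
  · rintro (rfl | rfl)
    · simp
    · exact hf_add_hf hn

theorem add_self_eq_add_self_iff {n : ℕ} (hn : 1 ≤ n) (a b : ZMod (2 ^ n)) :
    a + a = b + b ↔ a = b ∨ a = b + hf n := by
  have := add_self_eq_zero_iff' hn (a - b)
  constructor
  · intro h
    rcases this.1 (by linear_combination h) with h1 | h1
    · left; linear_combination h1
    · right; linear_combination h1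
  · rintro (h | h)
    · rw [h]
    · rw [h]; linear_combination hf_add_hf hn

theorem one_add_one_ne_zero' {n : ℕ} (hn : 2 ≤ n) : (1 : ZMod (2 ^ n)) + 1 ≠ 0 := by
  intro h
  have h1 : ((2 : ℕ) : ZMod (2 ^ n)) = 0 := by
    rw [← h]; norm_num
  rw [ZMod.natCast_eq_zero_iff] at h1
  have := Nat.le_of_dvd (by norm_num) h1
  have h2 : 2 ^ 2 ≤ 2 ^ n := Nat.pow_le_pow_right (by norm_num) hn
  omega

theorem one_ne_zero' {n : ℕ} (hn : 1 ≤ n) : (1 : ZMod (2 ^ n)) ≠ 0 := by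
  intro h
  have h1 : ((1 : ℕ) : ZMod (2 ^ n)) = 0 := by simpa using h
  rw [ZMod.natCast_eq_zero_iff] at h1
  have := Nat.le_of_dvd (by norm_num) h1
  have h2 : 2 ^ 1 ≤ 2 ^ n := Nat.pow_le_pow_right (by norm_num) hn
  omega

/-- every element of `ZMod (2^n)` is even or odd -/
theorem even_or_odd' {n : ℕ} (a : ZMod (2 ^ n)) : (∃ b, a = b + b) ∨ (∃ b, a = b + b + 1) := by
  rcases Nat.even_or_odd' a.val with ⟨k, hk | hk⟩
  · left; refine ⟨k, ?_⟩
    have : a = (a.val : ZMod (2 ^ n)) := by simp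
    rw [this, hk]; push_cast; ring
  · right; refine ⟨k, ?_⟩
    have : a = (a.val : ZMod (2 ^ n)) := by simp
    rw [this, hk]; push_cast; ring

theorem hf_mul_two {n : ℕ} (hn : 1 ≤ n) (b : ZMod (2 ^ n)) : hf n * (b + b) = 0 := by
  linear_combination b * hf_add_hf hn

theorem not_even_and_odd {n : ℕ} (hn : 1 ≤ n) (a b : ZMod (2 ^ n)) : a + a ≠ b + b + 1 := by
  intro h
  apply hf_ne_zero hn
  have h1 := hf_mul_two hn a
  have h2 := hf_mul_two hn b
  rw [h] at h1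
  linear_combination h1 - h2

theorem isUnit_odd {n : ℕ} (b : ZMod (2 ^ n)) : IsUnit (b + b + 1) := by
  have hb : IsNilpotent (b + b) := by
    refine ⟨n, ?_⟩
    have : b + b = 2 * b := by ring
    rw [this, mul_pow]
    have h2 : (2 : ZMod (2 ^ n)) ^ n = 0 := by
      have : ((2 ^ n : ℕ) : ZMod (2 ^ n)) = 0 := ZMod.natCast_self _
      exact_mod_cast this
    rw [h2, zero_mul]
  exact hb.isUnit_add_one

/-! ### coordinates -/

/-- Coordinates on a wreathed subgroup `S` of `G`. -/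
structure Coord {G : Type*} [Group G] (S : Subgroup G) (n : ℕ) where
  two_le : 2 ≤ n
  r : ZMod (2 ^ n) → ZMod (2 ^ n) → G
  z : G
  r_mul_r' : ∀ a b c d, r a b * r c d = r (a + c) (b + d)
  r_inj' : ∀ a b c d, r a b = r c d → a = c ∧ b = d
  z_mul_z' : z * z = 1
  z_mul_r' : ∀ a b, z * r a b = r b a * z
  mem_iff' : ∀ g, g ∈ S ↔ (∃ a b, g = r a b) ∨ (∃ a b, g = r a b * z)

namespace Coord

variable {G : Type*} [Group G] {S : Subgroup G} {n : ℕ} (c : Coord S n)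

/-- the elements outside the abelian maximal subgroup -/
def s (a b : ZMod (2 ^ n)) : G := c.r a b * c.z

include c in
theorem one_le : 1 ≤ n := le_trans (by norm_num) c.two_le

theorem r_mul_r (a b e f : ZMod (2 ^ n)) : c.r a b * c.r e f = c.r (a + e) (b + f) :=
  c.r_mul_r' a b e f

theorem r_inj {a b e f : ZMod (2 ^ n)} : c.r a b = c.r e f ↔ a = e ∧ b = f :=
  ⟨c.r_inj' a b e f, by rintro ⟨rfl, rfl⟩; rfl⟩

theorem s_inj {a b e f : ZMod (2 ^ n)} : c.s a b = c.s e f ↔ a = e ∧ b = f := by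
  unfold s; rw [mul_left_inj, r_inj]

theorem r_zero : c.r 0 0 = 1 := by
  have := c.r_mul_r 0 0 0 0
  simpa using this

theorem r_mul_s (a b e f : ZMod (2 ^ n)) : c.r a b * c.s e f = c.s (a + e) (b + f) := by
  unfold s; rw [← mul_assoc, r_mul_r]

theorem s_mul_r (a b e f : ZMod (2 ^ n)) : c.s a b * c.r e f = c.s (a + f) (b + e) := by
  unfold s; rw [mul_assoc, c.z_mul_r', ← mul_assoc, r_mul_r]

theorem s_mul_s (a b e f : ZMod (2 ^ n)) : c.s a b * c.s e f = c.r (a + f) (b + e) := by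
  have : c.s a b * c.s e f = c.s a b * c.r e f * c.z := by
    simp only [s, mul_assoc]
  rw [this, s_mul_r, s, mul_assoc, c.z_mul_z', mul_one]

theorem r_inv (a b : ZMod (2 ^ n)) : (c.r a b)⁻¹ = c.r (-a) (-b) := by
  rw [inv_eq_iff_mul_eq_one, r_mul_r]; simp [r_zero]

theorem s_inv (a b : ZMod (2 ^ n)) : (c.s a b)⁻¹ = c.s (-b) (-a) := by
  rw [inv_eq_iff_mul_eq_one, s_mul_s]; simp [r_zero]

theorem r_ne_s (a b e f : ZMod (2 ^ n)) : c.r a b ≠ c.s e f := by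
  intro h
  have h1 : c.r a b * c.r 1 0 = c.r 1 0 * c.r a b := by
    rw [r_mul_r, r_mul_r, add_comm a, add_comm b]
  rw [h, s_mul_r, r_mul_s, s_inj] at h1
  exact one_ne_zero' c.one_le (by linear_combination h1.2)

theorem s_ne_r (a b e f : ZMod (2 ^ n)) : c.s a b ≠ c.r e f := (c.r_ne_s e f a b).symm

theorem r_eq_s_iff {a b e f : ZMod (2 ^ n)} : c.r a b = c.s e f ↔ False :=
  ⟨c.r_ne_s a b e f, False.elim⟩

theorem s_eq_r_iff {a b e f : ZMod (2 ^ n)} : c.s a b = c.r e f ↔ False :=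
  ⟨c.s_ne_r a b e f, False.elim⟩

theorem r_eq_one_iff {a b : ZMod (2 ^ n)} : c.r a b = 1 ↔ a = 0 ∧ b = 0 := by
  rw [← c.r_zero, r_inj]

theorem s_ne_one (a b : ZMod (2 ^ n)) : c.s a b ≠ 1 := by
  rw [← c.r_zero]; exact c.s_ne_r _ _ _ _

theorem s_eq_one_iff {a b : ZMod (2 ^ n)} : c.s a b = 1 ↔ False :=
  ⟨c.s_ne_one a b, False.elim⟩

theorem mem_iff (g : G) : g ∈ S ↔ (∃ a b, g = c.r a b) ∨ (∃ a b, g = c.s a b) := c.mem_iff' g

theorem r_mem (a b : ZMod (2 ^ n)) : c.r a b ∈ S := (c.mem_iff _).2 (Or.inl ⟨a, b, rfl⟩)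

theorem s_mem (a b : ZMod (2 ^ n)) : c.s a b ∈ S := (c.mem_iff _).2 (Or.inr ⟨a, b, rfl⟩)

theorem cases {g : G} (hg : g ∈ S) : (∃ a b, g = c.r a b) ∨ (∃ a b, g = c.s a b) :=
  (c.mem_iff g).1 hg

theorem r_pow (a b : ZMod (2 ^ n)) (k : ℕ) : c.r a b ^ k = c.r (k * a) (k * b) := by
  induction k with
  | zero => simp [r_zero]
  | succ k ih => rw [pow_succ, ih, r_mul_r]; congr 1 <;> push_cast <;> ring

theorem r_zpow (a b : ZMod (2 ^ n)) (k : ℤ) : c.r a b ^ k = c.r (k * a) (k * b) := by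
  cases k with
  | ofNat k => simp [r_pow]
  | negSucc k =>
    rw [zpow_negSucc, r_pow, r_inv]; congr 1 <;> push_cast <;> ring

theorem s_sq (a b : ZMod (2 ^ n)) : c.s a b ^ 2 = c.r (a + b) (a + b) := by
  rw [sq, s_mul_s, add_comm b a]

theorem r_sq (a b : ZMod (2 ^ n)) : c.r a b ^ 2 = c.r (a + a) (b + b) := by
  rw [sq, r_mul_r]

theorem r_conj_r (a b e f : ZMod (2 ^ n)) : c.r a b * c.r e f * (c.r a b)⁻¹ = c.r e f := by
  rw [r_inv, r_mul_r, r_mul_r]; congr 1 <;> ring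

theorem s_conj_r (a b e f : ZMod (2 ^ n)) : c.s a b * c.r e f * (c.s a b)⁻¹ = c.r f e := by
  rw [s_inv, s_mul_r, s_mul_s]; congr 1 <;> ring

theorem r_conj_s (a b e f : ZMod (2 ^ n)) :
    c.r a b * c.s e f * (c.r a b)⁻¹ = c.s (e + (a - b)) (f - (a - b)) := by
  rw [r_inv, r_mul_s, s_mul_r]; congr 1 <;> ring

theorem s_conj_s (a b e f : ZMod (2 ^ n)) :
    c.s a b * c.s e f * (c.s a b)⁻¹ = c.s (f + (a - b)) (e - (a - b)) := by
  rw [s_inv, s_mul_s, r_mul_s]; congr 1 <;> ring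

theorem r_comm_r (a b e f : ZMod (2 ^ n)) : c.r a b * c.r e f = c.r e f * c.r a b := by
  rw [r_mul_r, r_mul_r, add_comm a, add_comm b]

theorem r_comm_s_iff {a b e f : ZMod (2 ^ n)} :
    c.r a b * c.s e f = c.s e f * c.r a b ↔ a = b := by
  rw [r_mul_s, s_mul_r, s_inj]
  constructor
  · rintro ⟨h, -⟩; linear_combination h
  · rintro rfl; constructor <;> ring

theorem s_comm_r_iff {a b e f : ZMod (2 ^ n)} :
    c.s e f * c.r a b = c.r a b * c.s e f ↔ a = b := by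
  rw [eq_comm, r_comm_s_iff]

theorem s_comm_s_iff {a b e f : ZMod (2 ^ n)} :
    c.s a b * c.s e f = c.s e f * c.s a b ↔ a - b = e - f := by
  rw [s_mul_s, s_mul_s, r_inj]
  constructor
  · rintro ⟨h, -⟩; linear_combination h
  · intro h; constructor
    · linear_combination h
    · linear_combination -h

theorem orderOf_s_eq_two_iff {a b : ZMod (2 ^ n)} : orderOf (c.s a b) = 2 ↔ a + b = 0 := by
  rw [orderOf_eq_prime_iff, s_sq, r_eq_one_iff]
  simp [c.s_ne_one]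

theorem orderOf_r_eq_two_iff {a b : ZMod (2 ^ n)} : orderOf (c.r a b) = 2 ↔
    (a = hf n ∧ b = 0) ∨ (a = 0 ∧ b = hf n) ∨ (a = hf n ∧ b = hf n) := by
  rw [orderOf_eq_prime_iff, r_sq, r_eq_one_iff, Ne, r_eq_one_iff, add_self_eq_zero_iff' c.one_le,
    add_self_eq_zero_iff' c.one_le]
  have := hf_ne_zero c.one_le
  constructor
  · rintro ⟨⟨rfl | rfl, rfl | rfl⟩, h⟩ <;> simp_all
  · rintro (⟨rfl, rfl⟩ | ⟨rfl, rfl⟩ | ⟨rfl, rfl⟩) <;> simp_all

theorem orderOf_r_unit {a b : ZMod (2 ^ n)} (ha : IsUnit a) : orderOf (c.r a b) = 2 ^ n := by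
  rw [orderOf_eq_iff (by positivity)]
  refine ⟨by rw [r_pow, ZMod.natCast_self]; simp [r_zero], fun m hm hm0 => ?_⟩
  rw [r_pow, Ne, r_eq_one_iff]
  rintro ⟨h, -⟩
  rw [ha.mul_left_eq_zero, ZMod.natCast_eq_zero_iff] at h
  exact absurd (Nat.le_of_dvd hm0 h) (by omega)

theorem r_pow_card (a b : ZMod (2 ^ n)) : c.r a b ^ (2 ^ n) = 1 := by
  rw [r_pow, ZMod.natCast_self]; simp [r_zero]

/-- The equivalence between the two copies of `ZMod (2^n) × ZMod (2^n)` and `S`. -/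
noncomputable def equivS :
    (ZMod (2 ^ n) × ZMod (2 ^ n)) ⊕ (ZMod (2 ^ n) × ZMod (2 ^ n)) ≃ S :=
  Equiv.ofBijective (fun x => match x with
    | Sum.inl p => ⟨c.r p.1 p.2, c.r_mem _ _⟩
    | Sum.inr p => ⟨c.s p.1 p.2, c.s_mem _ _⟩) (by
    constructor
    · rintro (⟨a, b⟩ | ⟨a, b⟩) (⟨e, f⟩ | ⟨e, f⟩) h <;>
        simp only [Subtype.mk.injEq, c.r_inj, c.s_inj, c.r_eq_s_iff, c.s_eq_r_iff] at h <;>
        simp [h]
    · rintro ⟨g, hg⟩
      rcases c.cases hg with ⟨a, b, rfl⟩ | ⟨a, b, rfl⟩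
      · exact ⟨Sum.inl (a, b), rfl⟩
      · exact ⟨Sum.inr (a, b), rfl⟩)

include c in
theorem card_S : Nat.card S = 2 ^ (2 * n + 1) := by
  rw [← Nat.card_congr c.equivS]
  simp
  ring

include c in
theorem isPGroup : IsPGroup 2 S := IsPGroup.of_card c.card_S

end Coord

/-- A wreathed subgroup has coordinates. -/
theorem exists_coord_of_gen {G : Type*} [Group G] (S : Subgroup G) (n : ℕ) (hn : 2 ≤ n)
    (hcard : Nat.card S = 2 ^ (2 * n + 1)) (x y z : G) (hxS : x ∈ S) (hzS : z ∈ S)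
    (hx : orderOf x = 2 ^ n) (hxy : x * y = y * x)
    (hdisj : Subgroup.zpowers x ⊓ Subgroup.zpowers y = ⊥) (hz : orderOf z = 2)
    (hzx : z * x * z⁻¹ = y) : ∃ c : Coord S n, c.r 1 0 = x ∧ c.r 0 1 = y ∧ c.z = z := by
  have hyS : y ∈ S := hzx ▸ S.mul_mem (S.mul_mem hzS hxS) (S.inv_mem hzS)
  have hy : orderOf y = 2 ^ n := by
    rw [← hzx, ← hx]
    exact (MulAut.conj z).orderOf_eq x
  have hzz : z * z = 1 := by rw [← sq, ← hz, pow_orderOf_eq_one]
  have hzinv : z⁻¹ = z := inv_eq_of_mul_eq_one_left hzz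
  have hzy : z * y * z⁻¹ = x := by
    rw [← hzx, hzinv]
    calc z * (z * x * z) * z = (z * z) * x * (z * z) := by group
      _ = x := by rw [hzz]; simp
  have hC : Commute x y := hxy
  have : NeZero (2 ^ n) := ⟨by positivity⟩
  have padd : ∀ (w : G), orderOf w = 2 ^ n → ∀ a b : ZMod (2 ^ n),
      w ^ (a + b).val = w ^ a.val * w ^ b.val := by
    intro w hw a b
    rw [← pow_add, ZMod.val_add]
    generalize a.val + b.val = v
    rw [← hw, pow_mod_orderOf]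
  have pinj : ∀ (w : G), orderOf w = 2 ^ n → ∀ a b : ZMod (2 ^ n),
      w ^ a.val = w ^ b.val → a = b := by
    intro w hw a b h
    apply ZMod.val_injective
    exact pow_injOn_Iio_orderOf (by rw [hw]; exact ZMod.val_lt a) (by rw [hw]; exact ZMod.val_lt b) h
  let r : ZMod (2 ^ n) → ZMod (2 ^ n) → G := fun a b => x ^ a.val * y ^ b.val
  have hrr : ∀ a b c d, r a b * r c d = r (a + c) (b + d) := by
    intro a b c d
    simp only [r, padd x hx, padd y hy]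
    have := (hC.pow_pow c.val b.val).eq
    calc x ^ a.val * y ^ b.val * (x ^ c.val * y ^ d.val)
        = x ^ a.val * (y ^ b.val * x ^ c.val) * y ^ d.val := by group
      _ = _ := by rw [← this]; group
  have hrinj : ∀ a b c d, r a b = r c d → a = c ∧ b = d := by
    intro a b c d h
    simp only [r] at h
    have h1 : (x ^ c.val)⁻¹ * x ^ a.val = y ^ d.val * (y ^ b.val)⁻¹ := by
      calc (x ^ c.val)⁻¹ * x ^ a.val = (x ^ c.val)⁻¹ * (x ^ a.val * y ^ b.val) * (y ^ b.val)⁻¹ := by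
            group
        _ = _ := by rw [h]; group
    have h2 : (x ^ c.val)⁻¹ * x ^ a.val ∈ Subgroup.zpowers x ⊓ Subgroup.zpowers y := by
      constructor
      · exact Subgroup.mul_mem _ (Subgroup.inv_mem _ (Subgroup.npow_mem_zpowers _ _))
          (Subgroup.npow_mem_zpowers _ _)
      · rw [h1]
        exact Subgroup.mul_mem _ (Subgroup.npow_mem_zpowers _ _)
          (Subgroup.inv_mem _ (Subgroup.npow_mem_zpowers _ _))
    rw [hdisj, Subgroup.mem_bot] at h2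
    have h3 := h1 ▸ h2
    exact ⟨(pinj x hx _ _ (inv_mul_eq_one.1 h2)).symm, (pinj y hy _ _ (mul_inv_eq_one.1 h3)).symm⟩
  have hzr : ∀ a b, z * r a b = r b a * z := by
    intro a b
    simp only [r]
    have h1 : z * x ^ a.val * z⁻¹ = y ^ a.val := by rw [← hzx, conj_pow]
    have h2 : z * y ^ b.val * z⁻¹ = x ^ b.val := by rw [← hzy, conj_pow]
    calc z * (x ^ a.val * y ^ b.val) = (z * x ^ a.val * z⁻¹) * (z * y ^ b.val * z⁻¹) * z := by group
      _ = _ := by rw [h1, h2, (hC.pow_pow b.val a.val).eq]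
  have hrS : ∀ a b, r a b ∈ S := fun a b => S.mul_mem (S.pow_mem hxS _) (S.pow_mem hyS _)
  have hrs : ∀ a b e f, r a b ≠ r e f * z := by
    intro a b e f h
    have h1 : r a b * r 1 0 = r 1 0 * r a b := by
      rw [hrr, hrr, add_comm a, add_comm b]
    rw [h, mul_assoc (r e f), hzr, ← mul_assoc (r e f), ← mul_assoc (r 1 0), hrr, hrr,
      mul_left_inj] at h1
    exact one_ne_zero' (n := n) (by omega) (by linear_combination (hrinj _ _ _ _ h1).2)
  have hfin : Finite S := Nat.finite_of_card_ne_zero (by rw [hcard]; positivity)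
  let F : (ZMod (2 ^ n) × ZMod (2 ^ n)) ⊕ (ZMod (2 ^ n) × ZMod (2 ^ n)) → S := fun w => match w with
    | Sum.inl p => ⟨r p.1 p.2, hrS _ _⟩
    | Sum.inr p => ⟨r p.1 p.2 * z, S.mul_mem (hrS _ _) hzS⟩
  have hFinj : Function.Injective F := by
    rintro (⟨a, b⟩ | ⟨a, b⟩) (⟨e, f⟩ | ⟨e, f⟩) h <;> simp only [F, Subtype.mk.injEq] at h
    · obtain ⟨rfl, rfl⟩ := hrinj _ _ _ _ h; rfl
    · exact absurd h (hrs _ _ _ _)
    · exact absurd h.symm (hrs _ _ _ _)
    · obtain ⟨rfl, rfl⟩ := hrinj _ _ _ _ (mul_right_cancel h); rfl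
  have hFbij : Function.Bijective F := by
    rw [Nat.bijective_iff_injective_and_card]
    refine ⟨hFinj, ?_⟩
    rw [hcard]
    simp
    ring
  have : Fact (1 < 2 ^ n) := ⟨Nat.one_lt_two_pow (by omega)⟩
  refine ⟨⟨hn, r, z, hrr, hrinj, hzz, hzr, fun g => ⟨fun hg => ?_, ?_⟩⟩, ?_, ?_, rfl⟩
  · obtain ⟨⟨a, b⟩ | ⟨a, b⟩, h⟩ := hFbij.2 ⟨g, hg⟩
    · exact Or.inl ⟨a, b, (congrArg Subtype.val h).symm⟩
    · exact Or.inr ⟨a, b, (congrArg Subtype.val h).symm⟩
  · rintro (⟨a, b, rfl⟩ | ⟨a, b, rfl⟩)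
    · exact hrS _ _
    · exact S.mul_mem (hrS _ _) hzS
  · simp [r, ZMod.val_one]
  · simp [r, ZMod.val_one]

/-- A wreathed subgroup has coordinates. -/
theorem exists_coord {G : Type*} [Group G] (S : Subgroup G) (hS : Cfsg.IsWreathed S) :
    ∃ n, Nonempty (Coord S n) := by
  obtain ⟨n, hn, hcard, x, y, z, hx, hxy, hdisj, hz, hzx⟩ := hS
  obtain ⟨c, -⟩ := exists_coord_of_gen S n hn hcard x y z x.2 z.2
    (by rw [← hx]; exact Subgroup.orderOf_coe x) (by exact_mod_cast hxy)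
    (by
      rw [eq_bot_iff]
      rintro g ⟨⟨k, hk⟩, ⟨l, hl⟩⟩
      have : x ^ k ∈ Subgroup.zpowers x ⊓ Subgroup.zpowers y :=
        ⟨⟨k, rfl⟩, ⟨l, Subtype.ext (by simp only [SubgroupClass.coe_zpow]; exact hl.trans hk.symm)⟩⟩
      rw [hdisj, Subgroup.mem_bot] at this
      rw [Subgroup.mem_bot, ← hk]
      simpa using congrArg Subtype.val this)
    (by rw [← hz]; exact Subgroup.orderOf_coe z) (by exact_mod_cast hzx)
  exact ⟨n, ⟨c⟩⟩

/-- A wreathed group has coordinates on `⊤`. -/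
theorem exists_coord_top {S : Type*} [Group S] (hS : Cfsg.IsWreathed S) :
    ∃ n, Nonempty (Coord (⊤ : Subgroup S) n) := by
  obtain ⟨n, hn, hcard, x, y, z, hx, hxy, hdisj, hz, hzx⟩ := hS
  obtain ⟨c, -⟩ := exists_coord_of_gen ⊤ n hn (by simpa using hcard) x y z trivial trivial
    hx hxy hdisj hz hzx
  exact ⟨n, ⟨c⟩⟩

theorem exists_coord' {G : Type*} [Group G] (S : Subgroup G) (hS : Cfsg.IsWreathed S) (n : ℕ)
    (hn : Nat.card S = 2 ^ (2 * n + 1)) : Nonempty (Coord S n) := by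
  obtain ⟨m, ⟨c⟩⟩ := exists_coord S hS
  have := c.card_S
  rw [hn] at this
  have h2 := Nat.pow_right_injective (le_refl 2) this
  obtain rfl : n = m := by omega
  exact ⟨c⟩

theorem exists_coord_top' {S : Type*} [Group S] (hS : Cfsg.IsWreathed S) (n : ℕ)
    (hn : Nat.card S = 2 ^ (2 * n + 1)) : Nonempty (Coord (⊤ : Subgroup S) n) := by
  obtain ⟨m, ⟨c⟩⟩ := exists_coord_top hS
  have := c.card_S
  rw [Subgroup.card_top, hn] at this
  have h2 := Nat.pow_right_injective (le_refl 2) this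
  obtain rfl : n = m := by omega
  exact ⟨c⟩

/-- Coordinates make a subgroup wreathed. -/
theorem Coord.isWreathed {G : Type*} [Group G] {S : Subgroup G} {n : ℕ} (c : Coord S n) :
    Cfsg.IsWreathed S := by
  refine ⟨n, c.two_le, c.card_S, ⟨c.r 1 0, c.r_mem _ _⟩, ⟨c.r 0 1, c.r_mem _ _⟩,
    ⟨c.s 0 0, c.s_mem _ _⟩, ?_, ?_, ?_, ?_, ?_⟩
  · rw [Subgroup.orderOf_mk]; exact c.orderOf_r_unit isUnit_one
  · exact Subtype.ext (c.r_comm_r _ _ _ _)
  · rw [eq_bot_iff]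
    rintro g ⟨⟨k, hk⟩, ⟨l, hl⟩⟩
    have h1 := congrArg Subtype.val (hk.trans hl.symm)
    simp only [SubgroupClass.coe_zpow, c.r_zpow, c.r_inj] at h1
    rw [Subgroup.mem_bot, ← hk]
    apply Subtype.ext
    simp only [SubgroupClass.coe_zpow, c.r_zpow, h1.1]
    simp [c.r_zero]
  · rw [Subgroup.orderOf_mk, c.orderOf_s_eq_two_iff]; simp
  · exact Subtype.ext (c.s_conj_r _ _ _ _)

end CL.Wr
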