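import Cfsg.Agent.TwoFus.DQ
import Cfsg.Agent.Transfer.Focal
import Cfsg.Agent.Solv.Core
import Cfsg.Agent.GLn.AutPSL2

/-!
# Double covers of groups with dihedral Sylow 2-subgroups; outer automorphisms of `PSL(2,q)`, `A₇`

* `isCyclic_ker_of_isCycExt`: the 2-part of the Schur multiplier is cyclic when a Sylow 2-subgroup
  has a cyclic subgroup of index two;
* `nonempty_equiv_of_double_cover`: hence perfect double covers are unique;
* `exists_conj_eq_commutator_psl_two`: `Out(PSL(2,q))` is abelian;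
* `alternating_seven_sq_ne_conj`: no automorphism of `A₇` squares to conjugation by an element of
  order four.
-/

set_option autoImplicit false

open Subgroup
open scoped commutatorElement

namespace CL.TF

section cover

variable {G X : Type*} [Group G] [Group X]

theorem isCyclic_ker_of_isCycExt [Finite G] (ρ : G →* X) (hρ : Function.Surjective ρ)
    (hc : ρ.ker ≤ center G) (hd : ρ.ker ≤ commutator G) (h2 : IsPGroup 2 ρ.ker) (T : Sylow 2 X)
    {x y : X} (h : IsCycExt (T : Subgroup X) x y) : IsCyclic ρ.ker := by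
  have : Finite X := Finite.of_surjective ρ hρ
  obtain ⟨x, rfl⟩ := hρ x
  obtain ⟨y, rfl⟩ := hρ y
  set R := (T : Subgroup X).comap ρ with hR
  have hRp : IsPGroup 2 R := T.2.comap_of_ker_isPGroup ρ h2
  have hcop : (Nat.card R).Coprime R.index := by
    obtain ⟨k, hk⟩ := IsPGroup.iff_card.1 hRp
    rw [hk, hR, index_comap_of_surjective _ hρ]
    exact (Nat.coprime_two_left.2 (Nat.not_even_iff_odd.1 fun he =>
      T.not_dvd_index he.two_dvd)).pow_left k
  have h1 : ρ.ker ≤ ⁅R, R⁆ := fun a ha =>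
    CL.Focal.inf_commutator_inf_center_le R hcop ⟨⟨ker_le_comap ρ _ ha, hd ha⟩, hc ha⟩
  -- elements over `⟨x⟩`
  have hB : ∀ g : G, ρ g ∈ zpowers (ρ x) → ∃ (i : ℤ) (a : G), a ∈ center G ∧ g = x ^ i * a := by
    rintro g ⟨i, hi⟩
    refine ⟨i, (x ^ i)⁻¹ * g, hc ?_, by group⟩
    simp only at hi
    rw [MonoidHom.mem_ker, map_mul, map_inv, map_zpow, hi, inv_mul_cancel]
  have hcomm : ∀ g g' : G, ρ g ∈ zpowers (ρ x) → ρ g' ∈ zpowers (ρ x) → g * g' = g' * g := by
    intro g g' hg hg'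
    obtain ⟨i, a, ha, rfl⟩ := hB g hg
    obtain ⟨j, b, hb, rfl⟩ := hB g' hg'
    have e1 := mem_center_iff.1 ha
    have e2 := mem_center_iff.1 hb
    calc x ^ i * a * (x ^ j * b) = x ^ i * (x ^ j * b * a) := by rw [mul_assoc, ← e1]
      _ = x ^ j * (x ^ i * b) * a := by group
      _ = _ := by rw [e2]; group
  have hyx : ρ (y * x * y⁻¹) ∈ zpowers (ρ x) := by
    have := normal_of_index_eq_two (H := (zpowers (ρ x)).subgroupOf T) h.relIndex_eq
    have h3 := this.conj_mem ⟨ρ x, h.x_mem⟩ (mem_zpowers _) ⟨ρ y, h.y_mem⟩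
    simpa [mem_subgroupOf] using h3
  set c := y * x * y⁻¹ * x⁻¹ with hcdef
  have hcx : Commute c x := hcomm _ _ (by
    rw [hcdef, map_mul, map_inv]; exact mul_mem hyx (inv_mem (mem_zpowers _))) (mem_zpowers _)
  have hyB : ∀ g : G, ρ g ∈ zpowers (ρ x) → y * g * y⁻¹ * g⁻¹ ∈ zpowers c := by
    intro g hg
    obtain ⟨i, a, ha, rfl⟩ := hB g hg
    have e1 := mem_center_iff.1 ha
    have e2 : y * x * y⁻¹ = c * x := by rw [hcdef]; group
    have : y * (x ^ i * a) * y⁻¹ * (x ^ i * a)⁻¹ = c ^ i := by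
      calc y * (x ^ i * a) * y⁻¹ * (x ^ i * a)⁻¹
          = (y * x ^ i * y⁻¹) * (y * a * y⁻¹ * a⁻¹) * (x ^ i)⁻¹ := by group
        _ = (y * x * y⁻¹) ^ i * (x ^ i)⁻¹ := by rw [e1 y, conj_zpow]; group
        _ = c ^ i := by rw [e2, hcx.mul_zpow]; group
    rw [this]; exact zpow_mem_zpowers c i
  have hyB' : ∀ g : G, ρ g ∈ zpowers (ρ x) → ρ (y * g * y⁻¹) ∈ zpowers (ρ x) := by
    intro g hg
    have h3 : y * g * y⁻¹ = (y * g * y⁻¹ * g⁻¹) * g := by group
    obtain ⟨i, hi⟩ := hyB g hg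
    simp only at hi
    rw [h3, ← hi, map_mul, map_zpow, hcdef, map_mul, map_inv]
    exact mul_mem (zpow_mem (mul_mem hyx (inv_mem (mem_zpowers _))) _) hg
  have hRc : ∀ g ∈ R, ρ g ∈ zpowers (ρ x) ∨ ∃ b, ρ b ∈ zpowers (ρ x) ∧ g = b * y := by
    intro g hg
    obtain ⟨i, hi | hi⟩ := (h.mem _).1 hg
    · exact Or.inl (hi ▸ zpow_mem_zpowers _ _)
    · refine Or.inr ⟨g * y⁻¹, ?_, by group⟩
      rw [map_mul, map_inv, hi, mul_inv_cancel_right]
      exact zpow_mem_zpowers _ _
  have key : ∀ b g : G, ρ b ∈ zpowers (ρ x) → ρ g ∈ zpowers (ρ x) →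
      b * y * g * (b * y)⁻¹ * g⁻¹ ∈ zpowers c := by
    intro b g hb hg
    have h3 : b * y * g * (b * y)⁻¹ = y * g * y⁻¹ := by
      calc b * y * g * (b * y)⁻¹ = b * (y * g * y⁻¹) * b⁻¹ := by group
        _ = _ := by rw [hcomm _ _ hb (hyB' g hg), mul_inv_cancel_right]
    rw [h3]; exact hyB g hg
  refine Subgroup.isCyclic_of_le (H' := zpowers c) (h1.trans (commutator_le.2 fun g hg g' hg' => ?_))
  rw [commutatorElement_def]
  rcases hRc g hg with h3 | ⟨b, hb, rfl⟩ <;> rcases hRc g' hg' with h4 | ⟨b', hb', rfl⟩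
  · rw [hcomm _ _ h3 h4]; simp
  · have := inv_mem (key b' g hb' h3)
    simpa [mul_assoc] using this
  · exact key b g' hb h4
  · have := key b (b' * b⁻¹) hb (by rw [map_mul, map_inv]; exact mul_mem hb' (inv_mem hb))
    simpa [mul_assoc] using this

/-- The derived subgroup of a central extension of a perfect group is perfect. -/
theorem isPerfect_commutator_of_ker_le_center (ρ : G →* X) (hρ : Function.Surjective ρ)
    [Group.IsPerfect X] (hc : ρ.ker ≤ center G) : Group.IsPerfect (commutator G) := by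
  have h1 : ∀ g : G, ∃ d ∈ commutator G, ∃ a ∈ center G, g = d * a := by
    intro g
    have h2 : ρ g ∈ (commutator G).map ρ := by
      rw [map_commutator_eq, MonoidHom.range_eq_top.2 hρ]
      exact Group.IsPerfect.mem_commutator
    obtain ⟨d, hd, e⟩ := h2
    exact ⟨d, hd, d⁻¹ * g, hc (by rw [MonoidHom.mem_ker, map_mul, map_inv, e, inv_mul_cancel]),
      by group⟩
  rw [Subgroup.isPerfect_iff]
  refine le_antisymm (commutator_le_self _) (commutator_le.2 fun g _ g' _ => ?_)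
  obtain ⟨d, hd, a, ha, rfl⟩ := h1 g
  obtain ⟨d', hd', a', ha', rfl⟩ := h1 g'
  have e1 := mem_center_iff.1 ha
  have e2 := mem_center_iff.1 ha'
  have : ⁅d * a, d' * a'⁆ = ⁅d, d'⁆ := by
    simp only [commutatorElement_def]
    calc d * a * (d' * a') * (d * a)⁻¹ * (d' * a')⁻¹
        = d * (a * (d' * a') * a⁻¹) * d⁻¹ * a'⁻¹ * d'⁻¹ := by group
      _ = d * d' * (a' * d⁻¹ * a'⁻¹) * d'⁻¹ := by rw [← e1]; group
      _ = _ := by rw [← e2]; group
  rw [this]
  exact commutator_mem_commutator hd hd'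

theorem surjective_comp_commutator_subtype [Group.IsPerfect X] (p : G →* X)
    (hp : Function.Surjective p) : Function.Surjective (p.comp (commutator G).subtype) := by
  intro a
  have h2 : a ∈ (commutator G).map p := by
    rw [map_commutator_eq, MonoidHom.range_eq_top.2 hp]
    exact Group.IsPerfect.mem_commutator
  obtain ⟨d, hd, e⟩ := h2
  exact ⟨⟨d, hd⟩, e⟩

theorem card_eq_card_ker_mul (π : G →* X) (hπ : Function.Surjective π) :
    Nat.card G = Nat.card π.ker * Nat.card X := by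
  rw [← π.ker.card_mul_index, index_ker, MonoidHom.range_eq_top.2 hπ, card_top]

/-- Perfect double covers of a group whose Sylow 2-subgroup has a cyclic subgroup of index two are
unique up to isomorphism. -/
theorem nonempty_equiv_of_double_cover {L₁ L₂ : Type*} [Group L₁] [Group L₂] [Finite L₁]
    [Finite L₂] [Group.IsPerfect L₁] [Group.IsPerfect L₂] (π₁ : L₁ →* X) (π₂ : L₂ →* X)
    (h₁ : Function.Surjective π₁) (h₂ : Function.Surjective π₂) (c₁ : π₁.ker ≤ center L₁)
    (c₂ : π₂.ker ≤ center L₂) (k₁ : Nat.card π₁.ker = 2) (k₂ : Nat.card π₂.ker = 2)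
    (T : Sylow 2 X) {x y : X} (h : IsCycExt (T : Subgroup X) x y) : Nonempty (L₁ ≃* L₂) := by
  have : Finite X := Finite.of_surjective π₁ h₁
  have : Group.IsPerfect X := Group.IsPerfect.ofSurjective h₁
  let P : Subgroup (L₁ × L₂) :=
    (π₁.comp (MonoidHom.fst L₁ L₂)).eqLocus (π₂.comp (MonoidHom.snd L₁ L₂))
  let p₁ : P →* L₁ := (MonoidHom.fst L₁ L₂).comp P.subtype
  let p₂ : P →* L₂ := (MonoidHom.snd L₁ L₂).comp P.subtype
  have hp : ∀ g : P, π₁ (p₁ g) = π₂ (p₂ g) := fun g => g.2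
  have s₁ : Function.Surjective p₁ := fun a => by
    obtain ⟨b, hb⟩ := h₂ (π₁ a)
    exact ⟨⟨(a, b), hb.symm⟩, rfl⟩
  have s₂ : Function.Surjective p₂ := fun b => by
    obtain ⟨a, ha⟩ := h₁ (π₂ b)
    exact ⟨⟨(a, b), ha⟩, rfl⟩
  have hk : (π₁.comp p₁).ker ≤ center P := fun g hg => mem_center_iff.2 fun u =>
    Subtype.ext (Prod.ext (mem_center_iff.1 (c₁ hg) _)
      (mem_center_iff.1 (c₂ ((hp g).symm.trans hg)) _))
  have := isPerfect_commutator_of_ker_le_center (π₁.comp p₁) (h₁.comp s₁) hk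
  let ρ : commutator P →* X := (π₁.comp p₁).comp (commutator P).subtype
  have hρ : Function.Surjective ρ := surjective_comp_commutator_subtype _ (h₁.comp s₁)
  have hsq : ∀ a : ρ.ker, a ^ 2 = 1 := fun a => by
    have e₁ : (⟨p₁ a.1.1, a.2⟩ : π₁.ker) ^ 2 = 1 := by rw [← k₁]; exact pow_card_eq_one'
    have e₂ : (⟨p₂ a.1.1, (hp _).symm.trans a.2⟩ : π₂.ker) ^ 2 = 1 := by
      rw [← k₂]; exact pow_card_eq_one'
    exact Subtype.ext (Subtype.ext (Subtype.ext
      (Prod.ext (congrArg Subtype.val e₁) (congrArg Subtype.val e₂))))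
  have hcyc := isCyclic_ker_of_isCycExt ρ hρ
    (fun g hg => mem_center_iff.2 fun u => Subtype.ext (mem_center_iff.1 (hk hg) u))
    (fun _ _ => Group.IsPerfect.mem_commutator) (fun a => ⟨1, hsq a⟩) T h
  have hle : Nat.card ρ.ker ≤ 2 := by
    rw [← IsCyclic.exponent_eq_card]
    exact Nat.le_of_dvd two_pos (Monoid.exponent_dvd_of_forall_pow_eq_one hsq)
  have hG : Nat.card (commutator P) ≤ 2 * Nat.card X := by
    rw [card_eq_card_ker_mul ρ hρ]; exact Nat.mul_le_mul_right _ hle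
  have b₁ := (surjective_comp_commutator_subtype p₁ s₁).bijective_of_nat_card_le (by rw [card_eq_card_ker_mul π₁ h₁, k₁]; exact hG)
  have b₂ := (surjective_comp_commutator_subtype p₂ s₂).bijective_of_nat_card_le (by rw [card_eq_card_ker_mul π₂ h₂, k₂]; exact hG)
  exact ⟨(MulEquiv.ofBijective _ b₁).symm.trans (MulEquiv.ofBijective _ b₂)⟩

end cover

section psl

open Matrix MulAction CL.AutPerm CL.GLn
open scoped LinearAlgebra.Projectivization MatrixGroups

variable {F : Type*} [Field F] [Fintype F]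

theorem ringEquiv_comm (φ ψ : F ≃+* F) (a : F) : φ (ψ a) = ψ (φ a) := by
  obtain ⟨p, hp⟩ := CharP.exists F
  have : Fact p.Prime := ⟨CharP.char_is_prime F p⟩
  let _ : Algebra (ZMod p) F := ZMod.algebra F p
  let φ' : F ≃ₐ[ZMod p] F := AlgEquiv.ofRingEquiv (f := φ) fun x =>
    DFunLike.congr_fun (RingHom.ext_zmod ((φ : F →+* F).comp (algebraMap _ F)) (algebraMap _ F)) x
  let ψ' : F ≃ₐ[ZMod p] F := AlgEquiv.ofRingEquiv (f := ψ) fun x =>
    DFunLike.congr_fun (RingHom.ext_zmod ((ψ : F →+* F).comp (algebraMap _ F)) (algebraMap _ F)) x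
  have hc : φ' * ψ' = ψ' * φ' := (IsCyclic.isMulCommutative (α := F ≃ₐ[ZMod p] F)).is_comm.comm φ' ψ'
  exact DFunLike.congr_fun hc a

theorem isSquare_map_mul (φ : F ≃+* F) (d : F) : IsSquare (φ d * d) := by
  classical
  by_cases hd : d = 0
  · simp [hd]
  have hφ : IsSquare (φ d) ↔ IsSquare d := by
    refine ⟨fun ⟨r, hr⟩ => ⟨φ.symm r, ?_⟩, fun ⟨r, hr⟩ => ⟨φ r, by rw [hr, map_mul]⟩⟩
    rw [← map_mul, ← hr, RingEquiv.symm_apply_apply]
  have hd' : φ d ≠ 0 := by simpa using hd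
  rw [← quadraticChar_one_iff_isSquare (mul_ne_zero hd' hd), map_mul]
  by_cases h : IsSquare d
  · rw [(quadraticChar_one_iff_isSquare hd).2 h, (quadraticChar_one_iff_isSquare hd').2 (hφ.2 h),
      mul_one]
  · rw [quadraticChar_neg_one_iff_not_isSquare.2 h,
      quadraticChar_neg_one_iff_not_isSquare.2 (mt hφ.1 h)]
    norm_num

/-- The outer automorphism group of `PSL(2,F)` is abelian. -/
theorem exists_conj_eq_commutator_psl_two (θ₁ θ₂ : MulAut PSL(2, F)) :
    ∃ g : PSL(2, F), θ₁ * θ₂ * θ₁⁻¹ * θ₂⁻¹ = MulAut.conj g := by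
  obtain ⟨σ₁, h₁⟩ := (mem_permAut_or θ₁).resolve_right (by simp)
  obtain ⟨σ₂, h₂⟩ := (mem_permAut_or θ₂).resolve_right (by simp)
  obtain ⟨φ₁, A₁, rfl⟩ := exists_semiPerm_of_mem_permNorm_two ⟨θ₁, h₁⟩
  obtain ⟨φ₂, A₂, rfl⟩ := exists_semiPerm_of_mem_permNorm_two ⟨θ₂, h₂⟩
  set M₁ := (A₁ : Matrix (Fin 2) (Fin 2) F) * (A₂ : Matrix (Fin 2) (Fin 2) F).map φ₁ with hM₁
  set M₂ := (A₂ : Matrix (Fin 2) (Fin 2) F) * (A₁ : Matrix (Fin 2) (Fin 2) F).map φ₂ with hM₂
  have hmap : ∀ (φ : F ≃+* F) (A : Matrix (Fin 2) (Fin 2) F), (A.map φ).det = φ A.det :=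
    fun φ A => ((φ : F →+* F).map_det A).symm
  have d₁ : (A₁ : Matrix (Fin 2) (Fin 2) F).det ≠ 0 := A₁.det_ne_zero
  have d₂ : (A₂ : Matrix (Fin 2) (Fin 2) F).det ≠ 0 := A₂.det_ne_zero
  have e₁ : M₁.det ≠ 0 := by rw [hM₁, det_mul, hmap]; simp [d₁, d₂]
  have e₂ : M₂.det ≠ 0 := by rw [hM₂, det_mul, hmap]; simp [d₁, d₂]
  obtain ⟨r, hr⟩ : IsSquare (M₁.det * M₂.det) := by
    have : M₁.det * M₂.det = (φ₂ (A₁ : Matrix (Fin 2) (Fin 2) F).det *
        (A₁ : Matrix (Fin 2) (Fin 2) F).det) * (φ₁ (A₂ : Matrix (Fin 2) (Fin 2) F).det *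
        (A₂ : Matrix (Fin 2) (Fin 2) F).det) := by
      rw [hM₁, hM₂, det_mul, det_mul, hmap, hmap]; ring
    rw [this]
    exact (isSquare_map_mul _ _).mul (isSquare_map_mul _ _)
  have hr0 : r ≠ 0 := by
    rintro rfl
    exact mul_ne_zero e₁ e₂ (by simpa using hr)
  let g : SL(2, F) := ⟨(M₂.det / r) • (M₁ * M₂⁻¹), by
    rw [det_smul, det_mul M₁, det_nonsing_inv, Ring.inverse_eq_inv', Fintype.card_fin]
    field_simp
    linear_combination hr⟩
  refine ⟨g, (((h₁.mul h₂).mul h₁.inv).mul h₂.inv).aut_unique ?_⟩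
  have key : semiPerm φ₁ (ProjGenLinGroup.mk A₁) * semiPerm φ₂ (ProjGenLinGroup.mk A₂) =
      toPerm (g : PSL(2, F)) * semiPerm φ₂ (ProjGenLinGroup.mk A₂) *
        semiPerm φ₁ (ProjGenLinGroup.mk A₁) := by
    ext x
    induction x using Projectivization.ind with | _ v hv =>
    simp only [Equiv.Perm.mul_apply, semiPerm_mk, toPerm_apply]
    rw [eq_comm, psl_smul_mk_eq_iff]
    refine ⟨M₂.det / r, ?_⟩
    have hw : fieldMap (Fin 2) φ₂ (fieldMap (Fin 2) φ₁ v) =
        fieldMap (Fin 2) φ₁ (fieldMap (Fin 2) φ₂ v) := by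
      ext i; exact ringEquiv_comm _ _ _
    rw [fieldMap_mulVec, fieldMap_mulVec, hw, mulVec_mulVec, mulVec_mulVec, mulVec_mulVec, ← hM₁,
      mul_assoc, ← hM₂]
    change _ = ((M₂.det / r) • (M₁ * M₂⁻¹) * M₂) *ᵥ _
    rw [smul_mul_assoc, nonsing_inv_mul_cancel_right _ _ (Ne.isUnit e₂), smul_mulVec]
  rw [key]
  simpa [mul_assoc] using compat_conj (X := ℙ F (Fin 2 → F)) (g : PSL(2, F))

end psl

section alt

open Equiv Equiv.Perm

theorem cycleType_of_orderOf_four (t : Perm (Fin 7)) (h4 : orderOf t = 4) (hs : sign t = 1) :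
    t.cycleType = {4, 2} := by
  have h1 : ∀ n ∈ t.cycleType, n = 2 ∨ n = 4 := fun n hn => by
    have h2 := two_le_of_mem_cycleType hn
    have h3 : n ∣ 4 := h4 ▸ dvd_of_mem_cycleType hn
    have := Nat.le_of_dvd (by norm_num) h3
    interval_cases n <;> simp_all
  have hsum : t.cycleType.sum ≤ 7 := by simpa using t.sum_cycleType_le
  have hl : t.cycleType.lcm = 4 := by rw [lcm_cycleType, h4]
  rw [sign_of_cycleType] at hs
  have h4m : 4 ∈ t.cycleType := by
    by_contra hn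
    have : t.cycleType.lcm ∣ 2 := Multiset.lcm_dvd.2 fun n hn' => by
      rcases h1 n hn' with rfl | rfl
      · rfl
      · exact absurd hn' hn
    rw [hl] at this
    omega
  obtain ⟨m, hm⟩ := Multiset.exists_cons_of_mem h4m
  rw [hm] at h1 hsum hs ⊢
  rw [Multiset.sum_cons] at hsum
  rcases m.empty_or_exists_mem with rfl | ⟨a, ha⟩
  · exact absurd hs (by decide)
  obtain ⟨m, rfl⟩ := Multiset.exists_cons_of_mem ha
  rw [Multiset.sum_cons] at hsum
  obtain rfl : a = 2 := by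
    rcases h1 a (by simp) with h | h <;> omega
  rcases m.empty_or_exists_mem with rfl | ⟨b, hb⟩
  · rfl
  obtain ⟨m, rfl⟩ := Multiset.exists_cons_of_mem hb
  rw [Multiset.sum_cons] at hsum
  rcases h1 b (by simp) with h | h <;> omega

/-- The standard even permutation of order four. -/
def altT : Perm (Fin 7) := swap 0 1 * swap 1 2 * swap 2 3 * swap 4 5

/-- A three-cycle inverted by `altT`. -/
def altC : Perm (Fin 7) := swap 4 5 * swap 5 6

/-- The square of `altT` as a function. -/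
def altU : Fin 7 → Fin 7 := ![2, 3, 0, 1, 4, 5, 6]

theorem altT_sq (i : Fin 7) : (altT * altT) i = altU i := by
  revert i; decide

theorem altU_aux₁ : ∀ a b : Fin 7, altU a ≠ a → altU b ≠ b →
    (∀ i : Fin 7, i = 0 ∨ i = 1 → ![a, b, altU a, altU b, 4, 5, 6]
      (![a, b, altU a, altU b, 4, 5, 6] (![a, b, altU a, altU b, 4, 5, 6] i)) = i) →
    a = 0 ∧ b = 1 := by
  decide +kernel

theorem altU_aux₂ : ∀ a b c : Fin 7, altU a = a → altU b = b → altU c = c →
    (∀ i : Fin 7, ![0, 1, 2, 3, a, b, c] (![0, 1, 2, 3, a, b, c] (![0, 1, 2, 3, a, b, c] i)) = i) →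
    (a = 4 ∧ b = 5 ∧ c = 6) ∨ (a = 5 ∧ b = 6 ∧ c = 4) ∨ (a = 6 ∧ b = 4 ∧ c = 5) := by
  decide +kernel

theorem eq_of_commute_altT (d : Perm (Fin 7)) (h3 : d * d * d = 1)
    (hc : d * (altT * altT) = altT * altT * d) : d = 1 ∨ d = altC ∨ d = altC⁻¹ := by
  have e : ∀ i, d (altU i) = altU (d i) := fun i => by
    rw [← altT_sq, ← altT_sq, ← Perm.mul_apply, hc, Perm.mul_apply]
  have f : ∀ i, d (d (d i)) = i := fun i => by
    rw [← Perm.mul_apply, ← Perm.mul_apply, h3, Perm.one_apply]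
  have hm : ∀ i, altU (d i) = d i ↔ altU i = i := fun i => by rw [← e, d.injective.eq_iff]
  have e2 : d 2 = altU (d 0) := e 0
  have e3 : d 3 = altU (d 1) := e 1
  have hD : ∀ i, altU i ≠ i → ![d 0, d 1, altU (d 0), altU (d 1), 4, 5, 6] i = d i := by
    intro i hi
    fin_cases i
    · rfl
    · rfl
    · exact e2.symm
    · exact e3.symm
    all_goals exact absurd rfl hi
  obtain ⟨h0, h1⟩ := altU_aux₁ (d 0) (d 1) (by rw [Ne, hm]; decide) (by rw [Ne, hm]; decide)
    fun i hi => by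
      have hi' : altU i ≠ i := by rcases hi with rfl | rfl <;> decide
      rw [hD i hi', hD (d i) (by rwa [Ne, hm]), hD (d (d i)) (by rwa [Ne, hm, hm]), f]
  rw [h0] at e2
  rw [h1] at e3
  have hE : ∀ i, ![0, 1, 2, 3, d 4, d 5, d 6] i = d i := by
    intro i
    fin_cases i
    · exact h0.symm
    · exact h1.symm
    · exact e2.symm
    · exact e3.symm
    all_goals rfl
  have key := altU_aux₂ (d 4) (d 5) (d 6) (by rw [hm]; decide) (by rw [hm]; decide)
    (by rw [hm]; decide) fun i => by rw [hE, hE, hE, f]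
  rcases key with ⟨k4, k5, k6⟩ | ⟨k4, k5, k6⟩ | ⟨k4, k5, k6⟩
  · left
    ext i
    rw [← hE, k4, k5, k6]
    revert i; decide
  · right; left
    ext i
    rw [← hE, k4, k5, k6]
    revert i; decide
  · right; right
    ext i
    rw [← hE, k4, k5, k6]
    revert i; decide

theorem altT_mem : altT ∈ alternatingGroup (Fin 7) := by
  rw [mem_alternatingGroup]; decide

theorem altC_mem : altC ∈ alternatingGroup (Fin 7) := by
  rw [mem_alternatingGroup]; decide

theorem orderOf_altT : orderOf altT = 4 :=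
  orderOf_eq_prime_pow (p := 2) (n := 1) (by decide) (by decide)

theorem alternating_seven_sq_ne_conj_aux (α : MulAut (alternatingGroup (Fin 7))) :
    α * α ≠ MulAut.conj ⟨altT, altT_mem⟩ := by
  intro h
  set t : alternatingGroup (Fin 7) := ⟨altT, altT_mem⟩ with ht
  set c : alternatingGroup (Fin 7) := ⟨altC, altC_mem⟩ with hc
  have h1 : MulAut.conj (α t) = MulAut.conj t := by
    ext1 g
    obtain ⟨g, rfl⟩ := α.surjective g
    have e1 : α (α (α g)) = α (t * g * t⁻¹) := congrArg α (DFunLike.congr_fun h g)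
    have e2 : α (α (α g)) = t * α g * t⁻¹ := DFunLike.congr_fun h (α g)
    rw [MulAut.conj_apply, MulAut.conj_apply, ← e2, e1, map_mul, map_mul, map_inv]
  have h2 : α t = t := by
    have h3 : t⁻¹ * α t ∈ center (alternatingGroup (Fin 7)) := by
      rw [mem_center_iff]
      intro g
      have := DFunLike.congr_fun h1 g
      simp only [MulAut.conj_apply] at this
      calc g * (t⁻¹ * α t) = t⁻¹ * (t * g * t⁻¹) * α t := by group
        _ = _ := by rw [← this]; group
    rw [alternatingGroup.center_eq_bot (by simp), mem_bot, inv_mul_eq_one] at h3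
    exact h3.symm
  have c3 : c * c * c = 1 := Subtype.ext (by
    simp only [Subgroup.coe_mul, Subgroup.coe_one, hc]; decide)
  have cc : c * (t * t) = t * t * c := Subtype.ext (by
    simp only [Subgroup.coe_mul, hc, ht]; decide)
  have ci : t * c * t⁻¹ ≠ c := fun e => by
    have := congrArg Subtype.val e
    simp only [Subgroup.coe_mul, Subgroup.coe_inv, hc, ht] at this
    revert this; decide
  have d3 : α c * α c * α c = 1 := by rw [← map_mul, ← map_mul, c3, map_one]
  have dc : α c * (t * t) = t * t * α c := by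
    conv_lhs => rw [← h2]
    conv_rhs => rw [← h2]
    simp only [← map_mul, cc]
  have e : α (α c) = t * c * t⁻¹ := DFunLike.congr_fun h c
  have d3' := congrArg Subtype.val d3
  have dc' := congrArg Subtype.val dc
  simp only [Subgroup.coe_mul, Subgroup.coe_one] at d3' dc'
  rcases eq_of_commute_altT (α c) d3' dc' with k | k | k
  · have k' : α c = 1 := Subtype.ext k
    rw [MulEquiv.map_eq_one_iff] at k'
    rw [k'] at ci
    simp at ci
  · have k' : α c = c := Subtype.ext k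
    rw [k', k'] at e
    exact ci e.symm
  · have k' : α c = c⁻¹ := Subtype.ext k
    rw [k', map_inv, k', inv_inv] at e
    exact ci e.symm

/-- No automorphism of `A₇` has as its square the conjugation by an element of order four. -/
theorem alternating_seven_sq_ne_conj (α : MulAut (alternatingGroup (Fin 7)))
    (t : alternatingGroup (Fin 7)) (ht : orderOf t = 4) : α * α ≠ MulAut.conj t := by
  intro h
  have h1 : IsConj (t : Perm (Fin 7)) altT := by
    rw [isConj_iff_cycleType_eq,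
      cycleType_of_orderOf_four _ ((Subgroup.orderOf_coe t).trans ht) t.2,
      cycleType_of_orderOf_four _ orderOf_altT altT_mem]
  obtain ⟨σ, hσ⟩ := isConj_iff.1 h1
  let β : MulAut (alternatingGroup (Fin 7)) := MulAut.conjNormal σ
  refine alternating_seven_sq_ne_conj_aux (β * α * β⁻¹) ?_
  have h2 : β * α * β⁻¹ * (β * α * β⁻¹) = β * (α * α) * β⁻¹ := by group
  have h3 : (⟨altT, altT_mem⟩ : alternatingGroup (Fin 7)) = β t := Subtype.ext hσ.symm
  rw [h2, h, h3]
  ext1 g
  simp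

end alt

end CL.TF
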