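import Cfsg.Agent.TwoFus.NoNormalFour
import Cfsg.Agent.PGrp.Basic

/-!
# Counting involutions modulo four (Herzog)
-/

set_option autoImplicit false

namespace CL.Herzog

open Subgroup
open scoped commutatorElement

section Counting

variable {α : Type*} [DecidableEq α]

theorem dvd_card_of_blocks (d : ℕ) (s : Finset α) (B : α → Finset α) (h1 : ∀ x ∈ s, B x ⊆ s)
    (h2 : ∀ x ∈ s, x ∈ B x) (h3 : ∀ x ∈ s, ∀ y ∈ B x, B y = B x)
    (h4 : ∀ x ∈ s, d ∣ (B x).card) : d ∣ s.card := by
  rw [Finset.card_eq_sum_card_image B s]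
  refine Finset.dvd_sum fun b hb => ?_
  obtain ⟨x, hx, rfl⟩ := Finset.mem_image.1 hb
  have : s.filter (fun y => B y = B x) = B x := by
    ext y
    rw [Finset.mem_filter]
    exact ⟨fun h => h.2 ▸ h2 y h.1, fun h => ⟨h1 x hx h, h3 x hx y h⟩⟩
  rw [this]
  exact h4 x hx

theorem four_dvd_card_of_maps (s : Finset α) (a b : α → α) (ha : ∀ x ∈ s, a x ∈ s)
    (hb : ∀ x ∈ s, b x ∈ s) (haa : ∀ x ∈ s, a (a x) = x)
    (hbb : ∀ x ∈ s, b (b x) = x ∨ b (b x) = a x) (hab : ∀ x ∈ s, b (a x) = a (b x))
    (h1 : ∀ x ∈ s, a x ≠ x) (h2 : ∀ x ∈ s, b x ≠ x) (h3 : ∀ x ∈ s, b x ≠ a x) : 4 ∣ s.card := by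
  have hA : ∀ x ∈ s, ({a x, a (a x), b (a x), a (b (a x))} : Finset α) =
      {x, a x, b x, a (b x)} := fun x hx => by
    rw [haa x hx, hab x hx, haa _ (hb x hx)]
    ext y; simp only [Finset.mem_insert, Finset.mem_singleton]; tauto
  have hB : ∀ x ∈ s, ({b x, a (b x), b (b x), a (b (b x))} : Finset α) =
      {x, a x, b x, a (b x)} := fun x hx => by
    rcases hbb x hx with h | h
    · rw [h]; ext y; simp only [Finset.mem_insert, Finset.mem_singleton]; tauto
    · rw [h, haa x hx]; ext y; simp only [Finset.mem_insert, Finset.mem_singleton]; tauto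
  refine dvd_card_of_blocks 4 s (fun x => {x, a x, b x, a (b x)}) ?_ ?_ ?_ ?_
  · intro x hx y hy
    simp only [Finset.mem_insert, Finset.mem_singleton] at hy
    rcases hy with rfl | rfl | rfl | rfl
    exacts [hx, ha x hx, hb x hx, ha _ (hb x hx)]
  · intro x _; simp
  · intro x hx y hy
    simp only [Finset.mem_insert, Finset.mem_singleton] at hy
    rcases hy with rfl | rfl | rfl | rfl
    · rfl
    · exact hA x hx
    · exact hB x hx
    · exact (hA _ (hb x hx)).trans (hB x hx)
  · intro x hx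
    have e1 : a (b x) ≠ x := fun h => h3 x hx (by rw [← haa _ (hb x hx), h])
    have e2 : a (b x) ≠ a x := fun h => h2 x hx (by rw [← haa _ (hb x hx), h, haa x hx])
    rw [Finset.card_insert_of_notMem (by simp [(h1 x hx).symm, (h2 x hx).symm, e1.symm]),
      Finset.card_insert_of_notMem (by simp [(h3 x hx).symm, e2.symm]),
      Finset.card_pair (h1 _ (hb x hx)).symm]

end Counting

variable {G : Type*} [Group G]

theorem four_dvd_card_of_relIndex [Finite G] [DecidableEq G] {P : Subgroup G} (hP : IsPGroup 2 P)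
    (s : Finset G) (hs : ∀ g ∈ P, ∀ x ∈ s, g * x * g⁻¹ ∈ s)
    (h : ∀ x ∈ s, (centralizer {x}).relIndex P ≠ 1 ∧ (centralizer {x}).relIndex P ≠ 2) :
    4 ∣ s.card := by
  have : Fact (Nat.Prime 2) := ⟨Nat.prime_two⟩
  let : MulAction P G := MulAction.compHom G ((MulAut.conj : G →* MulAut G).comp P.subtype)
  have hsm : ∀ (n : P) (g : G), n • g = n * g * (n : G)⁻¹ := fun _ _ => rfl
  refine dvd_card_of_blocks 4 s (fun x => (MulAction.orbit P x).toFinite.toFinset) ?_ ?_ ?_ ?_
  · intro x hx y hy
    obtain ⟨g, rfl⟩ := (Set.Finite.mem_toFinset _).1 hy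
    exact hs g g.2 x hx
  · intro x _
    exact (Set.Finite.mem_toFinset _).2 (MulAction.mem_orbit_self x)
  · intro x _ y hy
    simp only [MulAction.orbit_eq_iff.2 ((Set.Finite.mem_toFinset _).1 hy)]
  · intro x hx
    rw [← Set.ncard_eq_toFinset_card, ← MulAction.index_stabilizer]
    have e : MulAction.stabilizer P x = (centralizer {x}).subgroupOf P := by
      ext g
      rw [MulAction.mem_stabilizer_iff, hsm, mem_subgroupOf, mem_centralizer_singleton_iff,
        mul_inv_eq_iff_eq_mul]
    obtain ⟨k, hk⟩ := hP.index (MulAction.stabilizer P x)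
    have h1 := h x hx
    rw [relIndex, ← e, hk] at h1
    rw [hk]
    match k, h1 with
    | 0, h1 => exact absurd rfl h1.1
    | 1, h1 => exact absurd rfl h1.2
    | k + 2, _ => exact ⟨2 ^ k, by ring⟩

theorem mem_sylow_of_mem_normalizer [Finite G] (S : Sylow 2 G) {y : G} (hy : y * y = 1)
    (hn : ∀ g ∈ (S : Subgroup G), y * g * y⁻¹ ∈ (S : Subgroup G)) : y ∈ (S : Subgroup G) := by
  have : Fact (Nat.Prime 2) := ⟨Nat.prime_two⟩
  have h1 : IsPGroup 2 (zpowers y) := IsPGroup.of_card_dvd_pow (n := 1) (by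
    rw [Nat.card_zpowers, pow_one]; exact orderOf_dvd_of_pow_eq_one (by rw [sq, hy]))
  have h2 : y ∈ zpowers y ⊓ normalizer ((S : Subgroup G) : Set G) :=
    ⟨mem_zpowers y, mem_normalizer_fintype hn⟩
  exact ((h1.inf_normalizer_sylow S).le h2).2

open Classical in
/-- The number of involutions outside a Sylow 2-subgroup of order at least four is divisible by
four. -/
theorem four_dvd_card_outside [Fintype G] (S : Sylow 2 G) (h4 : 2 < Nat.card S) :
    4 ∣ (Finset.univ.filter fun y : G => y * y = 1 ∧ y ∉ (S : Subgroup G)).card := by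
  have : Fact (Nat.Prime 2) := ⟨Nat.prime_two⟩
  set Y := Finset.univ.filter fun y : G => y * y = 1 ∧ y ∉ (S : Subgroup G) with hY
  have hmem : ∀ y, y ∈ Y ↔ y * y = 1 ∧ y ∉ (S : Subgroup G) := fun y => by simp [hY]
  have hconj : ∀ g ∈ (S : Subgroup G), ∀ y ∈ Y, g * y * g⁻¹ ∈ Y := fun g hg y hy => by
    rw [hmem] at hy ⊢
    refine ⟨by rw [show g * y * g⁻¹ * (g * y * g⁻¹) = g * (y * y) * g⁻¹ by group, hy.1]; group,
      fun h => hy.2 ?_⟩
    have := mul_mem (mul_mem (inv_mem hg) h) hg
    simpa [mul_assoc] using this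
  have hidx : ∀ g ∈ (S : Subgroup G), ∀ y : G, (centralizer {g * y * g⁻¹}).relIndex S =
      (centralizer {y}).relIndex (S : Subgroup G) := fun g hg y => by
    have e : (centralizer {g * y * g⁻¹}).subgroupOf S = ((centralizer {y}).subgroupOf S).map
        (MulAut.conj (⟨g, hg⟩ : (S : Subgroup G))).toMonoidHom := by
      ext c
      rw [mem_map_equiv, mem_subgroupOf, mem_subgroupOf, mem_centralizer_singleton_iff,
        mem_centralizer_singleton_iff]
      change _ ↔ g⁻¹ * c * g * y = y * (g⁻¹ * c * g)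
      constructor
      · intro h
        calc g⁻¹ * c * g * y = g⁻¹ * (c * (g * y * g⁻¹)) * g := by group
          _ = _ := by rw [h]; group
      · intro h
        calc (c : G) * (g * y * g⁻¹) = g * (g⁻¹ * c * g * y) * g⁻¹ := by group
          _ = _ := by rw [h]; group
    rw [relIndex, relIndex, e, index_map_of_bijective (MulAut.conj _).bijective]
  rw [← Finset.card_filter_add_card_filter_not
    (p := fun y => (centralizer {y}).relIndex (S : Subgroup G) = 2)]
  refine dvd_add ?_ (four_dvd_card_of_relIndex S.isPGroup' _ ?_ ?_)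
  · rw [Finset.card_eq_sum_card_image (fun y => (centralizer {y}).subgroupOf (S : Subgroup G))]
    refine Finset.dvd_sum fun M hM => ?_
    obtain ⟨y₀, hy₀, hM₀⟩ := Finset.mem_image.1 hM
    have hM2 : M.index = 2 := hM₀ ▸ (Finset.mem_filter.1 hy₀).2
    have := normal_of_index_eq_two hM2
    obtain ⟨z, hzM, hz1, hzc, hz2⟩ := CL.PGrp.exists_mem_center_of_normal S.isPGroup' M (by
      rintro rfl
      rw [index_bot] at hM2
      omega)
    obtain ⟨s, hs⟩ : ∃ s, s ∉ M := by
      by_contra! h
      rw [(eq_top_iff' _).2 h, index_top] at hM2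
      omega
    have hzz : (z : G) * z = 1 := by rw [← sq]; exact congrArg Subtype.val hz2
    have hzS : ∀ g : (S : Subgroup G), (g : G) * z = z * g := fun g =>
      congrArg Subtype.val (mem_center_iff.1 hzc g)
    have hT : ∀ y, y ∈ (Y.filter fun y => (centralizer {y}).relIndex (S : Subgroup G) = 2).filter
        (fun y => (centralizer {y}).subgroupOf (S : Subgroup G) = M) ↔
        y ∈ Y ∧ ∀ g : (S : Subgroup G), g * y = y * g ↔ g ∈ M := fun y => by
      rw [Finset.mem_filter, Finset.mem_filter, and_assoc]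
      refine and_congr_right fun _ => ⟨fun h g => ?_, fun h => ?_⟩
      · rw [← h.2, mem_subgroupOf, mem_centralizer_singleton_iff]
      · have e : (centralizer {y}).subgroupOf (S : Subgroup G) = M := by
          ext g
          rw [← h, mem_subgroupOf, mem_centralizer_singleton_iff]
        exact ⟨by rw [relIndex, e, hM2], e⟩
    refine four_dvd_card_of_maps _ (fun y => y * z) (fun y => s * y * (s : G)⁻¹)
      ?_ ?_ ?_ ?_ ?_ ?_ ?_ ?_
    · intro y hy
      rw [hT, hmem] at hy ⊢
      have hzy := (hy.2 z).2 hzM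
      refine ⟨⟨?_, fun h => hy.1.2 ?_⟩, fun g => ?_⟩
      · calc y * z * (y * z) = y * (z * y) * z := by group
          _ = y * y * (z * z) := by rw [hzy]; group
          _ = 1 := by rw [hy.1.1, hzz, one_mul]
      · simpa using mul_mem h (inv_mem z.2)
      · rw [← hy.2, mul_assoc, ← hzS, ← mul_assoc, ← mul_assoc, mul_left_inj]
    · intro y hy
      rw [hT] at hy ⊢
      refine ⟨hconj s s.2 y hy.1, fun g => ?_⟩
      have e : g ∈ M ↔ s⁻¹ * (g * s) ∈ M := by
        rw [this.mem_comm_iff, mul_inv_cancel_right]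
      rw [e, ← hy.2]
      simp only [coe_mul, coe_inv]
      constructor
      · intro h
        calc (s : G)⁻¹ * (g * s) * y = (s : G)⁻¹ * (g * (s * y * (s : G)⁻¹)) * s := by group
          _ = _ := by rw [h]; group
      · intro h
        calc (g : G) * (s * y * (s : G)⁻¹) = s * ((s : G)⁻¹ * (g * s) * y) * (s : G)⁻¹ := by group
          _ = _ := by rw [h]; group
    · intro y _
      simp only [mul_assoc, hzz, mul_one]
    · intro y hy
      rw [hT] at hy
      have h1 := (hy.2 (s * s)).2 (mul_self_mem_of_index_two hM2 s)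
      left
      calc (s : G) * (s * y * (s : G)⁻¹) * (s : G)⁻¹ = (s * s * y) * ((s : G) * s)⁻¹ := by group
        _ = y := by rw [← coe_mul, h1]; group
    · intro y _
      have h1 := hzS s⁻¹
      calc (s : G) * (y * z) * (s : G)⁻¹ = s * y * (z * (s⁻¹ : (S : Subgroup G))) := by
            simp only [coe_inv]; group
        _ = _ := by rw [← h1]; simp only [coe_inv]; group
    · intro y _ h
      exact hz1 (Subtype.ext (mul_eq_left.1 h))
    · intro y hy h
      rw [hT] at hy
      exact hs ((hy.2 s).1 (mul_inv_eq_iff_eq_mul.1 h))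
    · intro y hy h
      rw [hT, hmem] at hy
      refine hy.1.2 (mem_sylow_of_mem_normalizer S hy.1.1 fun g hg => ?_)
      have hyi : y⁻¹ = y := inv_eq_of_mul_eq_one_right hy.1.1
      have h1 : y * s * y⁻¹ = z * s := by
        calc y * s * y⁻¹ = y⁻¹ * (s * y * (s : G)⁻¹) * s := by rw [hyi]; group
          _ = _ := by rw [h]; group
      by_cases hgM : (⟨g, hg⟩ : (S : Subgroup G)) ∈ M
      · have h2 : g * y = y * g := (hy.2 _).2 hgM
        rw [← h2, mul_inv_cancel_right]
        exact hg
      · have h2 : (⟨g, hg⟩ : (S : Subgroup G)) * s⁻¹ ∈ M := by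
          rw [mul_mem_iff_of_index_two hM2, inv_mem_iff]
          tauto
        have h3 : g * (s : G)⁻¹ * y = y * (g * (s : G)⁻¹) := (hy.2 _).2 h2
        have h5 : y * g * y⁻¹ = g * (s : G)⁻¹ * (z * s) := by
          calc y * g * y⁻¹ = y * (g * (s : G)⁻¹) * y⁻¹ * (y * s * y⁻¹) := by group
            _ = _ := by rw [← h3, h1]; group
        rw [h5]
        exact mul_mem (mul_mem hg (inv_mem s.2)) (mul_mem z.2 s.2)
  · intro g hg y hy
    rw [Finset.mem_filter] at hy ⊢
    exact ⟨hconj g hg y hy.1, by rw [hidx g hg]; exact hy.2⟩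
  · intro y hy
    rw [Finset.mem_filter, hmem] at hy
    refine ⟨fun h => hy.1.2 (mem_sylow_of_mem_normalizer S hy.1.1 fun g hg => ?_), hy.2⟩
    rw [relIndex_eq_one] at h
    rw [← mem_centralizer_singleton_iff.1 (h hg), mul_inv_cancel_right]
    exact hg

open Classical in
/-- A 2-group with a normal four-subgroup is dihedral of order eight or has a number of solutions
of `x² = 1` divisible by four. -/
theorem four_dvd_card_of_normal_four [Fintype G] (hG : IsPGroup 2 G) (V : Subgroup G) [V.Normal]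
    (hV : IsKleinFour V) :
    4 ∣ (Finset.univ.filter fun y : G => y * y = 1).card ∨ Nonempty (G ≃* DihedralGroup 4) := by
  have : Fact (Nat.Prime 2) := ⟨Nat.prime_two⟩
  obtain ⟨z, hzV, hz1, hzc, -⟩ := CL.PGrp.exists_mem_center_of_normal hG V (by
    rintro rfl
    have := hV.card_four
    rw [card_bot] at this
    omega)
  obtain ⟨s, hsV, hs1, hsz⟩ : ∃ s ∈ V, s ≠ 1 ∧ z ≠ s := by
    obtain ⟨a, b, h⟩ := exists_isFourData hV
    by_cases h1 : z = a
    · exact ⟨b, h.b_mem, h.b_ne, h1 ▸ h.ne⟩
    · exact ⟨a, h.a_mem, h.a_ne, h1⟩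
  have h := isFourData_of_isKleinFour hV hzV hsV hz1 hs1 hsz
  have hz : ∀ g, g * z = z * g := mem_center_iff.1 hzc
  have hzz := h.a_sq
  have hss := h.b_sq
  have hs : ∀ g, g * s ≠ s * g → g * s = z * s * g := fun g hg => by
    rcases (h.mem _).1 (Normal.conj_mem inferInstance s hsV g) with h1 | h1 | h1 | h1
    · exact absurd (by simpa using h1) hs1
    · rw [mul_inv_eq_iff_eq_mul, ← hz] at h1
      exact absurd (mul_left_cancel h1).symm hsz
    · exact absurd (mul_inv_eq_iff_eq_mul.1 h1) hg
    · exact mul_inv_eq_iff_eq_mul.1 h1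
  have hzp : ∀ c ∈ zpowers z, c = 1 ∨ c = z := fun c hc => by
    rw [mem_zpowers_iff_mem_range_orderOf, orderOf_eq_prime (by rw [sq, hzz]) hz1] at hc
    obtain ⟨k, hk, rfl⟩ := Finset.mem_image.1 hc
    rw [Finset.mem_range] at hk
    interval_cases k <;> simp
  rw [← Finset.card_filter_add_card_filter_not (p := fun y => y * s = s * y)]
  have hin : 4 ∣ ((Finset.univ.filter fun y : G => y * y = 1).filter
      fun y => y * s = s * y).card := by
    refine four_dvd_card_of_maps _ (fun y => y * z) (fun y => y * s) ?_ ?_ ?_ ?_ ?_ ?_ ?_ ?_ <;>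
      intro y hy <;> simp only [Finset.mem_filter, Finset.mem_univ, true_and] at hy ⊢
    · refine ⟨?_, by rw [mul_assoc, ← hz, ← mul_assoc, hy.2, mul_assoc]⟩
      calc y * z * (y * z) = y * (z * y) * z := by group
        _ = y * y * (z * z) := by rw [← hz]; group
        _ = 1 := by rw [hy.1, hzz, one_mul]
    · refine ⟨?_, by rw [← mul_assoc, hy.2]⟩
      calc y * s * (y * s) = y * (s * y) * s := by group
        _ = y * y * (s * s) := by rw [← hy.2]; group
        _ = 1 := by rw [hy.1, hss, one_mul]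
    · rw [mul_assoc, hzz, mul_one]
    · left; rw [mul_assoc, hss, mul_one]
    · rw [mul_assoc, ← hz, mul_assoc]
    · exact fun h1 => hz1 (mul_eq_left.1 h1)
    · exact fun h1 => hs1 (mul_eq_left.1 h1)
    · exact fun h1 => hsz (mul_left_cancel h1).symm
  set W := (Finset.univ.filter fun y : G => y * y = 1).filter fun y => ¬ y * s = s * y with hW
  have hmem : ∀ y, y ∈ W ↔ y * y = 1 ∧ y * s ≠ s * y := fun y => by simp [hW]
  by_cases hidx : ∀ x ∈ W, (centralizer {x}).index ≠ 2
  · refine Or.inl (dvd_add hin (four_dvd_card_of_relIndex (P := ⊤) (hG.to_subgroup ⊤) W ?_ ?_))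
    · intro g _ x hx
      rw [hmem] at hx ⊢
      refine ⟨by rw [show g * x * g⁻¹ * (g * x * g⁻¹) = g * (x * x) * g⁻¹ by group, hx.1]; group,
        fun h1 => hx.2 ?_⟩
      have h2 : x * (g⁻¹ * s * g) = g⁻¹ * s * g * x := by
        calc x * (g⁻¹ * s * g) = g⁻¹ * (g * x * g⁻¹ * s) * g := by group
          _ = _ := by rw [h1]; group
      by_cases h3 : g⁻¹ * s = s * g⁻¹
      · rwa [h3, inv_mul_cancel_right] at h2
      · rw [hs _ h3, inv_mul_cancel_right, ← mul_assoc, hz, mul_assoc, mul_assoc] at h2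
        exact mul_left_cancel h2
    · intro x hx
      rw [relIndex_top_right]
      refine ⟨fun h1 => ((hmem x).1 hx).2 ?_, hidx x hx⟩
      rw [index_eq_one] at h1
      exact (mem_centralizer_singleton_iff.1 (h1 ▸ mem_top s)).symm
  push Not at hidx
  obtain ⟨x, hx, hx2⟩ := hidx
  rw [hmem] at hx
  have hs2 : (centralizer {s}).index = 2 := by
    rw [index_eq_two_iff']
    refine ⟨x, fun b => ?_⟩
    simp only [mem_centralizer_singleton_iff]
    by_cases hb : b * s = s * b
    · refine Or.inr ⟨hb, fun h1 => hx.2 ?_⟩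
      rw [mul_assoc, hb, ← mul_assoc, ← mul_assoc] at h1
      exact mul_right_cancel h1
    · refine Or.inl ⟨?_, hb⟩
      calc x * b * s = x * z * s * b := by rw [mul_assoc, hs b hb]; group
        _ = z * (x * s) * b := by rw [hz]; group
        _ = z * z * (s * (x * b)) := by rw [hs x hx.2]; group
        _ = _ := by rw [hzz, one_mul]
  have := normal_of_index_eq_two hx2
  have := normal_of_index_eq_two hs2
  have hzn : (zpowers z).Normal := ⟨fun n hn g => by
    rwa [mem_center_iff.1 (zpowers_le.2 hzc hn) g, mul_inv_cancel_right]⟩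
  have hxs : x * s * (x * s) = z := by
    calc x * s * (x * s) = z * s * (x * x) * s := by rw [hs x hx.2]; nth_rw 2 [← hs x hx.2]; group
      _ = z * (s * s) := by rw [hx.1]; group
      _ = z := by rw [hss, mul_one]
  by_cases hE : centralizer {x} ⊓ centralizer {s} ≤ zpowers z
  · right
    have ho : orderOf (x * s) = 4 := by
      refine (orderOf_eq_prime_pow (p := 2) (n := 1) ?_ ?_).trans (by norm_num)
      · rw [pow_one, sq, hxs]; exact hz1
      · rw [show 2 ^ (1 + 1) = 2 * 2 from rfl, pow_mul, sq (x * s), hxs, sq, hzz]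
    have hD := isDihData_closure (x := x * s) (y := x) (by
      rw [mul_inv_rev, inv_eq_of_mul_eq_one_right hx.1, inv_eq_of_mul_eq_one_right hss,
        ← mul_assoc, hx.1, one_mul]) hx.1 (fun h1 => hx.2 (by
      have h2 : Commute x (x * s) := by
        obtain ⟨k, hk⟩ := h1
        have h4 : Commute ((x * s) ^ k) (x * s) := (Commute.refl _).zpow_left k
        rwa [show (x * s) ^ k = x from hk] at h4
      have h3 : x * (x * s) = x * (s * x) := by rw [h2.eq, mul_assoc]
      exact mul_left_cancel h3))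
    have hc := hD.toIsCycExt.card_eq
    rw [ho] at hD hc
    have h8 : Nat.card G ≤ 8 := by
      have h1 := (centralizer {x} ⊓ centralizer {s}).card_mul_index
      have h2 : (centralizer {x} ⊓ centralizer {s}).index ≤ 2 * 2 := by
        have := index_inf_le (H := centralizer {x}) (K := centralizer {s})
        rwa [hx2, hs2] at this
      have h3 : Nat.card (centralizer {x} ⊓ centralizer {s} : Subgroup G) ≤ 2 := by
        have := card_le_of_le hE
        rwa [Nat.card_zpowers, orderOf_eq_prime (by rw [sq, hzz]) hz1] at this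
      rw [← h1]
      exact Nat.mul_le_mul h3 h2
    have htop : closure ({x * s, x} : Set G) = ⊤ := eq_top_of_le_card _ (by omega)
    rw [htop] at hD
    obtain ⟨e⟩ := hD.nonempty_equiv
    exact ⟨topEquiv.symm.trans e⟩
  left
  refine dvd_add hin ?_
  obtain ⟨e, ⟨hex, hes⟩, hez, he2, hec⟩ := CL.PGrp.exists_central_mod hG _ _ hE
  replace hex : e * x = x * e := mem_centralizer_singleton_iff.1 hex
  replace hes : e * s = s * e := mem_centralizer_singleton_iff.1 hes
  have hzy : ∀ y, y * z * (y * z) = y * y := fun y => by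
    calc y * z * (y * z) = y * (z * y) * z := by group
      _ = y * y * (z * z) := by rw [← hz]; group
      _ = _ := by rw [hzz, mul_one]
  have hWz : ∀ y ∈ W, y * z ∈ W := fun y hy => by
    rw [hmem] at hy ⊢
    refine ⟨by rw [hzy, hy.1], fun h1 => hy.2 ?_⟩
    rw [mul_assoc, ← hz, ← mul_assoc, ← mul_assoc] at h1
    exact mul_right_cancel h1
  have hsq : ∀ y, y * s ≠ s * y → y * s * (y * s) = z * (y * y) := fun y hy => by
    calc y * s * (y * s) = y * (s * (y * s)) := by group
      _ = y * (s * z) * s * y := by rw [hs y hy]; group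
      _ = (y * z) * (s * s) * y := by rw [hz s]; group
      _ = _ := by rw [hss, hz y]; group
  have hne : ∀ y, y * s ≠ s * y → y * e * s ≠ s * (y * e) := fun y hy h1 => by
    rw [mul_assoc, hes, ← mul_assoc, ← mul_assoc] at h1
    exact hy (mul_right_cancel h1)
  have hee : ∀ y ∈ W, y * e * (y * e) = 1 ∨ y * e * (y * e) = z := fun y hy => by
    rw [hmem] at hy
    apply hzp
    have h1 : y * e * (y * e) = ⁅y, e⁆ * e ^ 2 := by
      rw [commutatorElement_def, inv_eq_of_mul_eq_one_right hy.1, sq]; group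
    rw [h1]
    exact mul_mem (hec y) he2
  have he2' : e * e = 1 ∨ e * e = z := hzp _ (sq e ▸ he2)
  let b : G → G := fun y => if y * e * (y * e) = 1 then y * e else y * e * s
  have hb : ∀ y ∈ W, (y * e * (y * e) = 1 ∧ b y = y * e) ∨
      (y * e * (y * e) = z ∧ b y = y * e * s) := fun y hy => by
    by_cases h1 : y * e * (y * e) = 1
    · exact Or.inl ⟨h1, if_pos h1⟩
    · exact Or.inr ⟨(hee y hy).resolve_left h1, if_neg h1⟩
  have hbW : ∀ y ∈ W, b y ∈ W := fun y hy => by
    have hy' := (hmem y).1 hy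
    rw [hmem]
    rcases hb y hy with ⟨h1, h2⟩ | ⟨h1, h2⟩ <;> rw [h2]
    · exact ⟨h1, hne y hy'.2⟩
    · refine ⟨by rw [hsq _ (hne y hy'.2), h1, hzz], fun h3 => hne y hy'.2 ?_⟩
      rw [← mul_assoc s] at h3
      exact mul_right_cancel h3
  have he1 : e ≠ 1 := fun h1 => hez (h1 ▸ one_mem _)
  have hez' : e ≠ z := fun h1 => hez (h1 ▸ mem_zpowers z)
  refine four_dvd_card_of_maps W (fun y => y * z) b hWz hbW ?_ ?_ ?_ ?_ ?_ ?_ <;> intro y hy
  · simp only [mul_assoc, hzz, mul_one]
  · have hy' := (hmem y).1 hy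
    have hyee : y * e * e * (y * e * e) = 1 := by
      rcases he2' with h1 | h1 <;> rw [mul_assoc y, h1]
      · simpa using hy'.1
      · rw [hzy, hy'.1]
    have hfin : y * e * e = y ∨ y * e * e = y * z := by
      rcases he2' with h1 | h1 <;> rw [mul_assoc y, h1] <;> simp
    rcases hb y hy with ⟨h1, h2⟩ | ⟨h1, h2⟩
    · rw [h2, show b (y * e) = y * e * e from if_pos hyee]
      exact hfin
    · have h3 : y * e * s * e = y * e * e * s := by rw [mul_assoc _ s, ← hes, ← mul_assoc]
      have h4 : b (y * e * s) = y * e * s * e * s := if_neg (by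
        rw [h3, hsq _ (hne _ (hne _ hy'.2)), hyee, mul_one]; exact hz1)
      rw [h2, h4, h3, mul_assoc _ s, hss, mul_one]
      exact hfin
  · have h3 : y * z * e = y * e * z := by rw [mul_assoc, ← hz, mul_assoc]
    simp only [b, h3, hzy]
    split_ifs
    · rfl
    · rw [mul_assoc _ z, ← hz, ← mul_assoc]
  · exact fun h1 => hz1 (mul_eq_left.1 h1)
  · intro h3
    rcases hb y hy with ⟨-, h2⟩ | ⟨-, h2⟩ <;> rw [h2] at h3
    · exact he1 (mul_eq_left.1 h3)
    · rw [mul_assoc, mul_eq_left, mul_eq_one_iff_eq_inv, inv_eq_of_mul_eq_one_right hss] at h3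
      exact hx.2 (h3 ▸ hex.symm)
  · intro h3
    rcases hb y hy with ⟨-, h2⟩ | ⟨-, h2⟩ <;> rw [h2] at h3
    · exact hez' (mul_left_cancel h3)
    · rw [mul_assoc, mul_right_inj, ← eq_mul_inv_iff_mul_eq, inv_eq_of_mul_eq_one_right hss] at h3
      rw [h3, ← mul_assoc, hz, mul_assoc, mul_assoc] at hex
      exact hx.2 (mul_left_cancel hex).symm

/-- Herzog: if the number of involutions is `1` modulo `4`, a Sylow 2-subgroup is cyclic or of
maximal class. -/
theorem sylow_of_card_involutions [Finite G] (hI : Nat.card {t : G // orderOf t = 2} % 4 = 1)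
    (S : Sylow 2 G) :
    IsCyclic S ∨ (∃ m : ℕ, 1 ≤ m ∧ Nonempty ((S : Subgroup G) ≃* QuaternionGroup (2 ^ m))) ∨
      (∃ m : ℕ, 2 ≤ m ∧ Nonempty ((S : Subgroup G) ≃* DihedralGroup (2 ^ m))) ∨
      Cfsg.IsQuasiDihedral (S : Subgroup G) := by
  classical
  have : Fact (Nat.Prime 2) := ⟨Nat.prime_two⟩
  by_cases hn : ∀ V : Subgroup (S : Subgroup G), V.Normal → ¬ IsKleinFour V
  · rcases CL.Rank2.classify_no_normal_four S.isPGroup' hn with h | h | ⟨m, hm, h⟩ | h
    · exact Or.inl h
    · exact Or.inr (Or.inl h)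
    · exact Or.inr (Or.inr (Or.inl ⟨m, by omega, h⟩))
    · exact Or.inr (Or.inr (Or.inr h))
  push Not at hn
  obtain ⟨V, _, hV⟩ := hn
  have := Fintype.ofFinite G
  rcases four_dvd_card_of_normal_four S.isPGroup' V hV with h | h
  swap
  · exact Or.inr (Or.inr (Or.inl ⟨2, le_rfl, h⟩))
  exfalso
  have h1 := four_dvd_card_outside S (by
    have := card_le_card_group V
    rw [hV.card_four] at this
    omega)
  have h2 : (Finset.univ.filter fun y : (S : Subgroup G) => y * y = 1).card =
      ((Finset.univ.filter fun y : G => y * y = 1).filter fun y => y ∈ (S : Subgroup G)).card := by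
    refine Finset.card_bij (fun y _ => (y : G)) ?_ ?_ ?_
    · intro y hy
      simp only [Finset.mem_filter, Finset.mem_univ, true_and] at hy ⊢
      exact ⟨congrArg Subtype.val hy, y.2⟩
    · intro a _ b _ h
      exact Subtype.ext h
    · intro y hy
      simp only [Finset.mem_filter, Finset.mem_univ, true_and] at hy
      exact ⟨⟨y, hy.2⟩, Finset.mem_filter.2 ⟨Finset.mem_univ _, Subtype.ext hy.1⟩, rfl⟩
  have h3 := Finset.card_filter_add_card_filter_not (s := Finset.univ.filter fun y : G => y * y = 1)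
    (p := fun y => y ∈ (S : Subgroup G))
  rw [← h2, Finset.filter_filter] at h3
  have h4 : (Finset.univ.filter fun y : G => y * y = 1) =
      insert 1 (Finset.univ.filter fun y : G => orderOf y = 2) := by
    ext y
    simp only [Finset.mem_filter, Finset.mem_univ, true_and, Finset.mem_insert]
    constructor
    · intro h
      by_cases h1 : y = 1
      · exact Or.inl h1
      · exact Or.inr (orderOf_eq_prime (by rw [sq, h]) h1)
    · rintro (rfl | h)
      · simp
      · rw [← sq, ← h, pow_orderOf_eq_one]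
  rw [h4, Finset.card_insert_of_notMem (by simp)] at h3
  rw [Nat.card_eq_fintype_card, Fintype.card_subtype] at hI
  have h5 : 4 ∣ (Finset.univ.filter fun y : G => orderOf y = 2).card + 1 := by
    rw [← h3]
    exact Nat.dvd_add (by convert h) (by convert h1)
  omega

end CL.Herzog
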