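import Cfsg.Agent.TwoFus.DQ

/-!
# Quasi-dihedral subgroups of an ambient group: elements and conjugacy classes

`IsQDData S e x y` says that `S = ⟨x, y⟩` has order `16 e`, `x` has order `8 e`, `y² = 1` and
`y x y⁻¹ = x ^ (4 e - 1)`. Throughout `z = x ^ (4 e)` is the central involution and
`u = x ^ (2 e)` the element of order four in `⟨x⟩`.
-/

set_option autoImplicit false

namespace CL

open Subgroup

variable {G : Type*} [Group G]

/-- Generators and relations of a quasi-dihedral subgroup of order `16 e`. -/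
structure IsQDData (S : Subgroup G) (e : ℕ) (x y : G) : Prop extends IsCycExt S x y where
  pos : 0 < e
  ord : orderOf x = 8 * e
  sq : y * y = 1
  conj : y * x * y⁻¹ = x ^ (4 * (e : ℤ) - 1)

theorem IsQDData.map {H : Type*} [Group H] {S : Subgroup G} {e : ℕ} {x y : G}
    (h : IsQDData S e x y) (f : G →* H) (hf : Function.Injective f) :
    IsQDData (S.map f) e (f x) (f y) where
  toIsCycExt := h.toIsCycExt.map f hf
  pos := h.pos
  ord := by rw [orderOf_injective f hf, h.ord]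
  sq := by rw [← map_mul, h.sq, map_one]
  conj := by rw [← map_inv, ← map_mul, ← map_mul, h.conj, map_zpow]

theorem exists_isQDData_top {S : Type*} [Group S] [Finite S] (hS : Cfsg.IsQuasiDihedral S) :
    ∃ (k : ℕ) (x y : S), IsQDData (⊤ : Subgroup S) (2 ^ k) x y := by
  obtain ⟨n, hn, hc, x, y, hx, hy, hxy⟩ := hS
  obtain ⟨k, rfl⟩ : ∃ k, n = k + 3 := ⟨n - 3, by omega⟩
  have hk : 0 < 2 ^ k := by positivity
  have h8 : 2 ^ (k + 3) = 8 * 2 ^ k := by ring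
  have h4 : 2 ^ (k + 3 - 1) = 4 * 2 ^ k := by
    rw [show k + 3 - 1 = k + 2 by omega]; ring
  have hconj : y * x * y⁻¹ = x ^ (4 * ((2 ^ k : ℕ) : ℤ) - 1) := by
    rw [hxy, h4, ← zpow_natCast]
    congr 1
    omega
  have hn : y ∉ zpowers x := by
    intro hm
    obtain ⟨j, rfl⟩ := mem_zpowers_iff.mp hm
    have : x ^ (4 * ((2 ^ k : ℕ) : ℤ) - 1) = x ^ (1 : ℤ) := by
      rw [← hconj]; group
    rw [zpow_eq_zpow_iff_modEq, hx, h8, Int.modEq_iff_dvd] at this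
    have := Int.le_of_dvd (by omega) (dvd_neg.2 this)
    push_cast at this hk
    have hk' : (0 : ℤ) < 2 ^ k := by positivity
    omega
  refine ⟨k, x, y, isCycExt_of_card (mem_top x) (mem_top y) hn ?_, hk, by rw [hx, h8], ?_, hconj⟩
  · rw [Subgroup.card_top, hc, hx]; ring
  · rw [← pow_two, ← hy, pow_orderOf_eq_one]

theorem exists_isQDData {S : Subgroup G} [Finite S] (hS : Cfsg.IsQuasiDihedral S) :
    ∃ (k : ℕ) (x y : G), IsQDData S (2 ^ k) x y := by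
  obtain ⟨k, x, y, h⟩ := exists_isQDData_top hS
  have := h.map S.subtype S.subtype_injective
  rw [← MonoidHom.range_eq_map, S.range_subtype] at this
  exact ⟨k, _, _, this⟩

namespace IsQDData

variable {S : Subgroup G} {e : ℕ} {x y : G}

theorem card_eq' (h : IsQDData S e x y) : Nat.card S = 16 * e := by
  rw [h.card_eq, h.ord]; ring

theorem isQuasiDihedral {k : ℕ} (h : IsQDData S (2 ^ k) x y) : Cfsg.IsQuasiDihedral S := by
  refine ⟨k + 3, by omega, by rw [h.card_eq']; ring, ⟨x, h.x_mem⟩, ⟨y, h.y_mem⟩, ?_, ?_, ?_⟩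
  · rw [Subgroup.orderOf_mk, h.ord]; ring
  · rw [Subgroup.orderOf_mk]
    refine orderOf_eq_prime (by rw [pow_two, h.sq]) ?_
    rintro rfl
    exact h.notMem (one_mem _)
  · apply Subtype.ext
    simp only [coe_mul, coe_inv, SubgroupClass.coe_pow]
    rw [h.conj, ← zpow_natCast]
    congr 1
    have hk : 0 < 2 ^ k := by positivity
    have h4 : 2 ^ (k + 3 - 1) = 4 * 2 ^ k := by
      rw [show k + 3 - 1 = k + 2 by omega]; ring
    omega

theorem epos (h : IsQDData S e x y) : (0 : ℤ) < e := by exact_mod_cast h.pos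

theorem zpow_eq_iff (h : IsQDData S e x y) {a b : ℤ} :
    x ^ a = x ^ b ↔ 8 * (e : ℤ) ∣ a - b := by
  rw [eq_comm, zpow_eq_zpow_iff_modEq, h.ord, Int.modEq_iff_dvd]
  simp

theorem zpow_eq_of (h : IsQDData S e x y) {a b : ℤ} (c : ℤ) (hc : a - b = 8 * (e : ℤ) * c) :
    x ^ a = x ^ b := h.zpow_eq_iff.2 ⟨c, hc⟩

theorem zpow_eq_one_iff (h : IsQDData S e x y) {a : ℤ} : x ^ a = 1 ↔ 8 * (e : ℤ) ∣ a := by
  rw [← zpow_zero x, h.zpow_eq_iff, sub_zero]

theorem y_inv (h : IsQDData S e x y) : y⁻¹ = y := inv_eq_of_mul_eq_one_right h.sq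

theorem y_ne_one (h : IsQDData S e x y) : y ≠ 1 := by
  rintro rfl
  exact h.notMem (one_mem _)

theorem orderOf_y (h : IsQDData S e x y) : orderOf y = 2 :=
  orderOf_eq_prime (by rw [pow_two, h.sq]) h.y_ne_one

theorem y_mul (h : IsQDData S e x y) (i : ℤ) : y * x ^ i = x ^ ((4 * (e : ℤ) - 1) * i) * y := by
  rw [zpow_mul, ← h.conj, conj_zpow]; group

theorem y_mul_even (h : IsQDData S e x y) (i : ℤ) : y * x ^ (2 * i) = x ^ (-(2 * i)) * y := by
  rw [h.y_mul, h.zpow_eq_of (b := -(2 * i)) i (by ring)]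

theorem y_mul_odd (h : IsQDData S e x y) (i : ℤ) :
    y * x ^ (2 * i + 1) = x ^ (4 * (e : ℤ) - (2 * i + 1)) * y := by
  rw [h.y_mul, h.zpow_eq_of (b := 4 * (e : ℤ) - (2 * i + 1)) i (by ring)]

theorem mul_mul (h : IsQDData S e x y) (i j : ℤ) :
    x ^ i * y * (x ^ j * y) = x ^ (i + (4 * (e : ℤ) - 1) * j) := by
  calc x ^ i * y * (x ^ j * y) = x ^ i * (y * x ^ j) * y := by group
    _ = x ^ i * x ^ ((4 * (e : ℤ) - 1) * j) * (y * y) := by rw [h.y_mul]; group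
    _ = _ := by rw [h.sq, mul_one, zpow_add]

theorem sq_even (h : IsQDData S e x y) (i : ℤ) : x ^ (2 * i) * y * (x ^ (2 * i) * y) = 1 := by
  rw [h.mul_mul, h.zpow_eq_one_iff]; exact ⟨i, by ring⟩

theorem sq_odd (h : IsQDData S e x y) (i : ℤ) :
    x ^ (2 * i + 1) * y * (x ^ (2 * i + 1) * y) = x ^ (4 * (e : ℤ)) := by
  rw [h.mul_mul]; exact h.zpow_eq_of i (by ring)

theorem z_ne_one (h : IsQDData S e x y) : x ^ (4 * (e : ℤ)) ≠ 1 := by
  rw [Ne, h.zpow_eq_one_iff]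
  intro hd
  have := Int.le_of_dvd (by have := h.epos; omega) hd
  have := h.epos
  omega

theorem z_mul_z (h : IsQDData S e x y) : x ^ (4 * (e : ℤ)) * x ^ (4 * (e : ℤ)) = 1 := by
  rw [← zpow_add, h.zpow_eq_one_iff]; exact ⟨1, by ring⟩

theorem z_inv (h : IsQDData S e x y) : (x ^ (4 * (e : ℤ)))⁻¹ = x ^ (4 * (e : ℤ)) :=
  inv_eq_of_mul_eq_one_right h.z_mul_z

theorem orderOf_z (h : IsQDData S e x y) : orderOf (x ^ (4 * (e : ℤ))) = 2 :=
  orderOf_eq_prime (by rw [pow_two, h.z_mul_z]) h.z_ne_one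

theorem u_mul_u (x : G) (e : ℕ) :
    x ^ (2 * (e : ℤ)) * x ^ (2 * (e : ℤ)) = x ^ (4 * (e : ℤ)) := by
  rw [← zpow_add]; congr 1; ring

theorem y_mul_z (h : IsQDData S e x y) : y * x ^ (4 * (e : ℤ)) = x ^ (4 * (e : ℤ)) * y := by
  rw [h.y_mul, h.zpow_eq_of (b := 4 * (e : ℤ)) (2 * e - 1) (by ring)]

theorem y_mul_u (h : IsQDData S e x y) : y * x ^ (2 * (e : ℤ)) = (x ^ (2 * (e : ℤ)))⁻¹ * y := by
  rw [h.y_mul_even, zpow_neg]

theorem u_inv (h : IsQDData S e x y) :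
    (x ^ (2 * (e : ℤ)))⁻¹ = x ^ (2 * (e : ℤ)) * x ^ (4 * (e : ℤ)) := by
  rw [← zpow_neg, ← zpow_add]; exact h.zpow_eq_of (-1) (by ring)

theorem commute_z (h : IsQDData S e x y) {g : G} (hg : g ∈ S) :
    g * x ^ (4 * (e : ℤ)) = x ^ (4 * (e : ℤ)) * g := by
  obtain ⟨i, rfl | rfl⟩ := (h.mem g).1 hg
  · group
  · rw [mul_assoc, h.y_mul_z]; group

theorem conj_z (h : IsQDData S e x y) {g : G} (hg : g ∈ S) :
    g * x ^ (4 * (e : ℤ)) * g⁻¹ = x ^ (4 * (e : ℤ)) := by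
  rw [h.commute_z hg]; group

theorem orderOf_eq_four_of_sq (h : IsQDData S e x y) {g : G}
    (hg : g * g = x ^ (4 * (e : ℤ))) : orderOf g = 4 := by
  have : orderOf g = 2 ^ 2 := by
    apply orderOf_eq_prime_pow
    · rw [pow_one, pow_two, hg]; exact h.z_ne_one
    · rw [show 2 ^ (1 + 1) = 2 * 2 by norm_num, pow_mul, pow_two, pow_two, hg, h.z_mul_z]
  simpa using this

theorem orderOf_u (h : IsQDData S e x y) : orderOf (x ^ (2 * (e : ℤ))) = 4 :=
  h.orderOf_eq_four_of_sq (u_mul_u x e)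

theorem orderOf_odd (h : IsQDData S e x y) (i : ℤ) : orderOf (x ^ (2 * i + 1) * y) = 4 :=
  h.orderOf_eq_four_of_sq (h.sq_odd i)

theorem orderOf_xy (h : IsQDData S e x y) : orderOf (x * y) = 4 := by
  simpa using h.orderOf_odd 0

theorem xy_sq (h : IsQDData S e x y) : x * y * (x * y) = x ^ (4 * (e : ℤ)) := by
  simpa using h.sq_odd 0

theorem orderOf_even (h : IsQDData S e x y) (i : ℤ) : orderOf (x ^ (2 * i) * y) = 2 := by
  refine orderOf_eq_prime (by rw [pow_two, h.sq_even]) ?_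
  intro h1
  exact h.zpow_ne 0 (2 * i) (by rw [h1, zpow_zero])

/-- Change of the outer involution. -/
theorem of_even (h : IsQDData S e x y) (i : ℤ) : IsQDData S e x (x ^ (2 * i) * y) where
  toIsCycExt := h.toIsCycExt.of_notMem (h.zpow_mul_mem _) (h.zpow_mul_notMem _)
  pos := h.pos
  ord := h.ord
  sq := h.sq_even i
  conj := by
    calc x ^ (2 * i) * y * x * (x ^ (2 * i) * y)⁻¹
        = x ^ (2 * i) * (y * x * y⁻¹) * (x ^ (2 * i))⁻¹ := by group
      _ = _ := by rw [h.conj]; group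

theorem mem_cases (h : IsQDData S e x y) {g : G} (hg : g ∈ S) :
    ∃ i : ℤ, g = x ^ i ∨ g = x ^ (2 * i) * y ∨ g = x ^ (2 * i + 1) * y := by
  obtain ⟨i, rfl | rfl⟩ := (h.mem g).1 hg
  · exact ⟨i, Or.inl rfl⟩
  · obtain ⟨j, rfl | rfl⟩ := Int.even_or_odd' i
    · exact ⟨j, Or.inr (Or.inl rfl)⟩
    · exact ⟨j, Or.inr (Or.inr rfl)⟩

theorem zpow_sq_eq_one (h : IsQDData S e x y) {i : ℤ} (hi : x ^ i * x ^ i = 1) :
    x ^ i = 1 ∨ x ^ i = x ^ (4 * (e : ℤ)) := by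
  rw [← zpow_add, h.zpow_eq_one_iff] at hi
  obtain ⟨k, hk⟩ := hi
  obtain ⟨l, rfl | rfl⟩ := Int.even_or_odd' k
  · exact Or.inl (h.zpow_eq_one_iff.2 ⟨l, by linarith⟩)
  · exact Or.inr (h.zpow_eq_of l (by linarith))

theorem zpow_sq_eq_z (h : IsQDData S e x y) {i : ℤ} (hi : x ^ i * x ^ i = x ^ (4 * (e : ℤ))) :
    x ^ i = x ^ (2 * (e : ℤ)) ∨ x ^ i = (x ^ (2 * (e : ℤ)))⁻¹ := by
  rw [← zpow_add, h.zpow_eq_iff] at hi
  obtain ⟨k, hk⟩ := hi
  obtain ⟨l, rfl | rfl⟩ := Int.even_or_odd' k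
  · exact Or.inl (h.zpow_eq_of l (by linarith))
  · refine Or.inr ?_
    rw [← zpow_neg]
    exact h.zpow_eq_of (l + 1) (by linarith)

/-- The elements of `S` with square one. -/
theorem sq_eq_one_cases (h : IsQDData S e x y) {g : G} (hg : g ∈ S) (h2 : g * g = 1) :
    g = 1 ∨ g = x ^ (4 * (e : ℤ)) ∨ ∃ i : ℤ, g = x ^ (2 * i) * y := by
  obtain ⟨i, rfl | rfl | rfl⟩ := h.mem_cases hg
  · rcases h.zpow_sq_eq_one h2 with h1 | h1
    · exact Or.inl h1
    · exact Or.inr (Or.inl h1)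
  · exact Or.inr (Or.inr ⟨i, rfl⟩)
  · rw [h.sq_odd] at h2
    exact absurd h2 h.z_ne_one

/-- The involutions of `S`. -/
theorem involution_cases (h : IsQDData S e x y) {g : G} (hg : g ∈ S) (h2 : orderOf g = 2) :
    g = x ^ (4 * (e : ℤ)) ∨ ∃ i : ℤ, g = x ^ (2 * i) * y := by
  rcases h.sq_eq_one_cases hg (by rw [← pow_two, ← h2, pow_orderOf_eq_one]) with rfl | h1
  · simp at h2
  · exact h1

/-- An element of order four of `S` has square `z`. -/
theorem sq_eq_z_of_orderOf (h : IsQDData S e x y) {g : G} (hg : g ∈ S) (h4 : orderOf g = 4) :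
    g * g = x ^ (4 * (e : ℤ)) := by
  have h2 : orderOf (g * g) = 2 := by
    rw [← pow_two, orderOf_pow' _ (by norm_num), h4]; norm_num
  obtain ⟨i, rfl | rfl | rfl⟩ := h.mem_cases hg
  · rcases h.involution_cases (mul_mem hg hg) h2 with h1 | ⟨j, h1⟩
    · exact h1
    · rw [← zpow_add] at h1
      exact absurd h1 (h.zpow_ne _ _)
  · rw [h.orderOf_even] at h4; omega
  · exact h.sq_odd i

/-- The elements of order four of `S`. -/
theorem order_four_cases (h : IsQDData S e x y) {g : G} (hg : g ∈ S) (h4 : orderOf g = 4) :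
    g = x ^ (2 * (e : ℤ)) ∨ g = (x ^ (2 * (e : ℤ)))⁻¹ ∨ ∃ i : ℤ, g = x ^ (2 * i + 1) * y := by
  have h2 := h.sq_eq_z_of_orderOf hg h4
  obtain ⟨i, rfl | rfl | rfl⟩ := h.mem_cases hg
  · rcases h.zpow_sq_eq_z h2 with h1 | h1
    · exact Or.inl h1
    · exact Or.inr (Or.inl h1)
  · rw [h.orderOf_even] at h4; omega
  · exact Or.inr (Or.inr ⟨i, rfl⟩)

theorem conj_mul (h : IsQDData S e x y) (i j : ℤ) :
    x ^ j * (x ^ i * y) * (x ^ j)⁻¹ = x ^ (i + j * (2 - 4 * (e : ℤ))) * y := by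
  calc x ^ j * (x ^ i * y) * (x ^ j)⁻¹ = x ^ (j + i) * (y * x ^ (-j)) := by group
    _ = _ := by rw [h.y_mul, ← mul_assoc, ← zpow_add]; congr 2; ring

theorem conj_mul' (h : IsQDData S e x y) (i j : ℤ) :
    x ^ (j * (1 + 2 * (e : ℤ))) * (x ^ i * y) * (x ^ (j * (1 + 2 * (e : ℤ))))⁻¹ =
      x ^ (i + 2 * j) * y := by
  rw [h.conj_mul, h.zpow_eq_of (b := i + 2 * j) (-(j * e)) (by ring)]

theorem exists_conj_even (h : IsQDData S e x y) (i : ℤ) :
    ∃ s ∈ zpowers x, s * y * s⁻¹ = x ^ (2 * i) * y :=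
  ⟨_, zpow_mem (mem_zpowers x) _, by simpa using h.conj_mul' 0 i⟩

theorem exists_conj_odd (h : IsQDData S e x y) (i : ℤ) :
    ∃ s ∈ zpowers x, s * (x * y) * s⁻¹ = x ^ (2 * i + 1) * y :=
  ⟨_, zpow_mem (mem_zpowers x) _, by simpa [add_comm] using h.conj_mul' 1 i⟩

theorem conj_u (h : IsQDData S e x y) : y * x ^ (2 * (e : ℤ)) * y⁻¹ = (x ^ (2 * (e : ℤ)))⁻¹ := by
  rw [h.y_mul_u]; group

/-- Conjugation by an element of `S` maps `x ^ i` to `x ^ i` or to `y x ^ i y⁻¹`. -/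
theorem conj_zpow_cases (h : IsQDData S e x y) {g : G} (hg : g ∈ S) (i : ℤ) :
    g * x ^ i * g⁻¹ = x ^ i ∨ g * x ^ i * g⁻¹ = x ^ ((4 * (e : ℤ) - 1) * i) := by
  obtain ⟨j, rfl | rfl⟩ := (h.mem g).1 hg
  · left; group
  · right
    rw [mul_assoc (x ^ j), h.y_mul]; group

theorem conj_mem_zpowers (h : IsQDData S e x y) {g : G} (hg : g ∈ S) {c : G}
    (hc : c ∈ zpowers x) : g * c * g⁻¹ ∈ zpowers x := by
  obtain ⟨i, rfl⟩ := mem_zpowers_iff.mp hc
  rcases h.conj_zpow_cases hg i with h1 | h1 <;> rw [h1] <;> exact zpow_mem (mem_zpowers x) _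

theorem conj_u_cases (h : IsQDData S e x y) {g : G} (hg : g ∈ S) :
    g * x ^ (2 * (e : ℤ)) * g⁻¹ = x ^ (2 * (e : ℤ)) ∨
      g * x ^ (2 * (e : ℤ)) * g⁻¹ = (x ^ (2 * (e : ℤ)))⁻¹ := by
  rcases h.conj_zpow_cases hg (2 * e) with h1 | h1
  · exact Or.inl h1
  · right
    rw [h1, ← zpow_neg]
    exact h.zpow_eq_of e (by ring)

/-- Every involution of `S` is `z` or conjugate in `S` to `y`. -/
theorem involution_conj (h : IsQDData S e x y) {g : G} (hg : g ∈ S) (h2 : orderOf g = 2) :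
    g = x ^ (4 * (e : ℤ)) ∨ ∃ s ∈ S, s * y * s⁻¹ = g := by
  rcases h.involution_cases hg h2 with h1 | ⟨i, rfl⟩
  · exact Or.inl h1
  · obtain ⟨s, hs, h1⟩ := h.exists_conj_even i
    exact Or.inr ⟨s, h.zpowers_le hs, h1⟩

/-- Every element of order four of `S` is conjugate in `S` to `u` or to `x y`. -/
theorem order_four_conj (h : IsQDData S e x y) {g : G} (hg : g ∈ S) (h4 : orderOf g = 4) :
    (∃ s ∈ S, s * x ^ (2 * (e : ℤ)) * s⁻¹ = g) ∨ ∃ s ∈ S, s * (x * y) * s⁻¹ = g := by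
  rcases h.order_four_cases hg h4 with rfl | rfl | ⟨i, rfl⟩
  · exact Or.inl ⟨1, one_mem _, by simp⟩
  · exact Or.inl ⟨y, h.y_mem, h.conj_u⟩
  · obtain ⟨s, hs, h1⟩ := h.exists_conj_odd i
    exact Or.inr ⟨s, h.zpowers_le hs, h1⟩

theorem xy_notMem (h : IsQDData S e x y) : x * y ∉ zpowers x := by
  simpa using h.zpow_mul_notMem 1

/-- An element `x ^ i` commuting with an element outside `⟨x⟩` is `1` or `z`. -/
theorem zpow_eq_of_commute (h : IsQDData S e x y) {i j : ℤ}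
    (hc : x ^ i * (x ^ j * y) = x ^ j * y * x ^ i) :
    x ^ i = 1 ∨ x ^ i = x ^ (4 * (e : ℤ)) := by
  rw [mul_assoc, h.y_mul, ← mul_assoc, ← mul_assoc, mul_left_inj, ← zpow_add, ← zpow_add,
    h.zpow_eq_iff] at hc
  obtain ⟨k, hk⟩ := hc
  apply h.zpow_sq_eq_one
  rw [← zpow_add, h.zpow_eq_one_iff]
  refine ⟨i * e + (1 + 2 * e) * k, ?_⟩
  have : (i + i) = 8 * e * (i * e) + (1 + 2 * e) * (i + j - (j + (4 * e - 1) * i)) := by ring
  rw [this, hk]; ring

theorem mem_center_iff (h : IsQDData S e x y) {g : G} (hg : g ∈ S) :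
    (∀ s ∈ S, s * g = g * s) ↔ g = 1 ∨ g = x ^ (4 * (e : ℤ)) := by
  constructor
  · intro hc
    obtain ⟨i, rfl | rfl⟩ := (h.mem g).1 hg
    · exact h.zpow_eq_of_commute (j := 0) (by simpa using (hc y h.y_mem).symm)
    · exfalso
      have := h.zpow_eq_of_commute (i := 1) (j := i) (by simpa using hc x h.x_mem)
      have he := h.epos
      rw [h.zpow_eq_one_iff, h.zpow_eq_iff] at this
      rcases this with h1 | h1
      · have := Int.le_of_dvd (by omega) h1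
        omega
      · have := Int.le_of_dvd (by omega) (dvd_neg.2 h1)
        omega
  · rintro (rfl | rfl) s hs
    · simp
    · exact h.commute_z hs

end IsQDData

end CL
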