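import Cfsg.Agent.Base

/-!
Small general lemmas used for 2-groups of small rank.
-/

set_option autoImplicit false

namespace CL.Rank2

open scoped IsMulCommutative

/-- A group generated by `k` elements whose squares and commutators lie in a normal subgroup `D`
has order at most `2 ^ k * #D`. -/
theorem card_closure_le {K : Type*} [Group K] [Finite K] (s : Finset K) (D : Subgroup K) [D.Normal]
    (hsq : ∀ a ∈ s, a * a ∈ D) (hcomm : ∀ a ∈ s, ∀ b ∈ s, a * b * a⁻¹ * b⁻¹ ∈ D) :
    Nat.card (Subgroup.closure (s : Set K)) ≤ 2 ^ s.card * Nat.card D := by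
  classical
  let π := QuotientGroup.mk' D
  let s' : Finset (K ⧸ D) := s.image π
  have hmap : (Subgroup.closure (s : Set K)).map π = Subgroup.closure (s' : Set (K ⧸ D)) := by
    rw [MonoidHom.map_closure]; simp [s']
  have hc : ∀ a ∈ (s' : Set (K ⧸ D)), ∀ b ∈ (s' : Set (K ⧸ D)), a * b = b * a := by
    intro a ha b hb
    obtain ⟨a, ha', rfl⟩ := Finset.mem_image.1 ha
    obtain ⟨b, hb', rfl⟩ := Finset.mem_image.1 hb
    have := (QuotientGroup.eq_one_iff _).2 (hcomm a ha' b hb')
    rw [← mul_inv_eq_one, mul_inv_rev, ← mul_assoc]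
    exact this
  have hcm : IsMulCommutative (Subgroup.closure (s' : Set (K ⧸ D))) :=
    Subgroup.isMulCommutative_closure hc
  have hexp : Monoid.exponent (Subgroup.closure (s' : Set (K ⧸ D))) ∣ 2 := by
    rw [Monoid.exponent_dvd_iff_forall_pow_eq_one]
    rintro ⟨g, hg⟩
    induction hg using Subgroup.closure_induction with
    | mem x hx =>
      obtain ⟨a, ha, rfl⟩ := Finset.mem_image.1 hx
      apply Subtype.ext
      have := (QuotientGroup.eq_one_iff _).2 (hsq a ha)
      rw [pow_two]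
      exact this
    | one => exact one_pow 2
    | mul x y hx hy ihx ihy =>
      have : (⟨x * y, mul_mem hx hy⟩ : Subgroup.closure (s' : Set (K ⧸ D))) = ⟨x, hx⟩ * ⟨y, hy⟩ := rfl
      rw [this, mul_pow, ihx, ihy, one_mul]
    | inv x hx ihx =>
      have : (⟨x⁻¹, inv_mem hx⟩ : Subgroup.closure (s' : Set (K ⧸ D))) = ⟨x, hx⟩⁻¹ := rfl
      rw [this, inv_pow, ihx, inv_one]
  have h1 : Nat.card (Subgroup.closure (s' : Set (K ⧸ D))) ≤ 2 ^ s.card := by
    have h2 := card_dvd_exponent_pow_rank (Subgroup.closure (s' : Set (K ⧸ D)))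
    have h3 : Group.rank (Subgroup.closure (s' : Set (K ⧸ D))) ≤ s.card :=
      (Subgroup.rank_closure_finset_le_card s').trans Finset.card_image_le
    exact Nat.le_of_dvd (by positivity)
      (h2.trans ((pow_dvd_pow_of_dvd hexp _).trans (pow_dvd_pow 2 h3)))
  set H := Subgroup.closure (s : Set K)
  have h4 : Nat.card H = Nat.card (H.map π) * Nat.card (D.subgroupOf H) := by
    have := Subgroup.index_mul_card (D.subgroupOf H)
    rw [← this]
    congr 1
    have h5 := Subgroup.relIndex_ker H π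
    rw [QuotientGroup.ker_mk'] at h5
    exact h5
  rw [h4, hmap]
  refine Nat.mul_le_mul h1 ?_
  exact Nat.card_le_card_of_injective (fun x : D.subgroupOf H => (⟨x.1.1, x.2⟩ : D))
    (fun x y h => Subtype.ext (Subtype.ext (congrArg (fun d : D => (d : K)) h)))

/-- The homomorphism from `Multiplicative (ZMod n)` given by an element with `x ^ n = 1`. -/
noncomputable def zmodHom {G : Type*} [Group G] (n : ℕ) (x : G) (hx : x ^ n = 1) :
    Multiplicative (ZMod n) →* G :=
  AddMonoidHom.toMultiplicativeLeft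
    (ZMod.lift n ⟨zmultiplesHom (Additive G) (Additive.ofMul x), by
      simp only [zmultiplesHom_apply, natCast_zsmul, ← ofMul_pow, hx, ofMul_one]⟩)

theorem zmodHom_intCast {G : Type*} [Group G] (n : ℕ) (x : G) (hx : x ^ n = 1) (i : ℤ) :
    zmodHom n x hx (Multiplicative.ofAdd (i : ZMod n)) = x ^ i := by
  simp [zmodHom, ← ofMul_zpow]

/-- Two commuting elements of order `n` with disjoint cyclic subgroups: the homomorphism from
`ZMod n × ZMod n` is injective with range the subgroup they generate. -/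
theorem exists_hom_zmod_sq {G : Type*} [Group G] (n : ℕ) (x y : G) (hx : orderOf x = n)
    (hy : orderOf y = n) (hc : Commute x y) (hd : Subgroup.zpowers x ⊓ Subgroup.zpowers y = ⊥) :
    ∃ f : Multiplicative (ZMod n × ZMod n) →* G, Function.Injective f ∧
      f.range = Subgroup.closure {x, y} := by
  have hxn : x ^ n = 1 := hx ▸ pow_orderOf_eq_one x
  have hyn : y ^ n = 1 := hy ▸ pow_orderOf_eq_one y
  have hsur : ∀ a : Multiplicative (ZMod n), ∃ i : ℤ, a = Multiplicative.ofAdd (i : ZMod n) := by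
    intro a
    obtain ⟨i, hi⟩ := ZMod.intCast_surjective (Multiplicative.toAdd a)
    exact ⟨i, by rw [hi]; rfl⟩
  let f0 : Multiplicative (ZMod n) × Multiplicative (ZMod n) →* G :=
    MonoidHom.noncommCoprod (zmodHom n x hxn) (zmodHom n y hyn) (by
      intro a b
      obtain ⟨i, rfl⟩ := hsur a
      obtain ⟨j, rfl⟩ := hsur b
      rw [zmodHom_intCast, zmodHom_intCast]
      exact hc.zpow_zpow i j)
  have hf0 : ∀ i j : ℤ, f0 (Multiplicative.ofAdd (i : ZMod n), Multiplicative.ofAdd (j : ZMod n)) =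
      x ^ i * y ^ j := by
    intro i j
    simp only [f0, MonoidHom.noncommCoprod_apply, zmodHom_intCast]
  refine ⟨f0.comp (MulEquiv.prodMultiplicative (ZMod n) (ZMod n)).toMonoidHom, ?_, ?_⟩
  · refine Function.Injective.comp (g := f0) ?_ (MulEquiv.prodMultiplicative (ZMod n) (ZMod n)).injective
    rw [injective_iff_map_eq_one]
    rintro ⟨a, b⟩ h
    obtain ⟨i, rfl⟩ := hsur a
    obtain ⟨j, rfl⟩ := hsur b
    rw [hf0] at h
    have h1 : x ^ i ∈ Subgroup.zpowers x ⊓ Subgroup.zpowers y := by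
      refine ⟨Subgroup.zpow_mem_zpowers x i, ?_⟩
      rw [eq_inv_of_mul_eq_one_left h]
      exact Subgroup.inv_mem _ (Subgroup.zpow_mem_zpowers y j)
    rw [hd, Subgroup.mem_bot] at h1
    rw [h1, one_mul] at h
    rw [← orderOf_dvd_iff_zpow_eq_one, hx, ← ZMod.intCast_zmod_eq_zero_iff_dvd] at h1
    rw [← orderOf_dvd_iff_zpow_eq_one, hy, ← ZMod.intCast_zmod_eq_zero_iff_dvd] at h
    rw [h1, h]; rfl
  · rw [MonoidHom.range_comp, MonoidHom.range_eq_top.2
      (MulEquiv.prodMultiplicative (ZMod n) (ZMod n)).surjective, ← MonoidHom.range_eq_map]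
    apply le_antisymm
    · rintro _ ⟨⟨a, b⟩, rfl⟩
      obtain ⟨i, rfl⟩ := hsur a
      obtain ⟨j, rfl⟩ := hsur b
      rw [hf0]
      exact mul_mem (zpow_mem (Subgroup.subset_closure (by simp)) _)
        (zpow_mem (Subgroup.subset_closure (by simp)) _)
    · rw [Subgroup.closure_le]
      rintro g (rfl | rfl)
      · exact ⟨_, (hf0 1 0).trans (by simp)⟩
      · exact ⟨_, (hf0 0 1).trans (by simp)⟩

theorem card_closure_pair {G : Type*} [Group G] (n : ℕ) (x y : G) (hx : orderOf x = n)
    (hy : orderOf y = n) (hc : Commute x y) (hd : Subgroup.zpowers x ⊓ Subgroup.zpowers y = ⊥) :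
    Nat.card (Subgroup.closure ({x, y} : Set G)) = n * n := by
  obtain ⟨f, hf, hr⟩ := exists_hom_zmod_sq n x y hx hy hc hd
  rw [← hr, ← Nat.card_congr (MonoidHom.ofInjective hf).toEquiv]
  change Nat.card (ZMod n × ZMod n) = _
  rw [Nat.card_prod, Nat.card_zmod]

theorem nonempty_equiv_zmod_sq {G : Type*} [Group G] (n : ℕ) (x y : G) (hx : orderOf x = n)
    (hy : orderOf y = n) (hc : Commute x y) (hd : Subgroup.zpowers x ⊓ Subgroup.zpowers y = ⊥)
    (htop : Subgroup.closure ({x, y} : Set G) = ⊤) :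
    Nonempty (G ≃* Multiplicative (ZMod n × ZMod n)) := by
  obtain ⟨f, hf, hr⟩ := exists_hom_zmod_sq n x y hx hy hc hd
  rw [htop, MonoidHom.range_eq_top] at hr
  exact ⟨(MulEquiv.ofBijective f ⟨hf, hr⟩).symm⟩

/-- Elements of the subgroup generated by two commuting elements. -/
theorem mem_closure_pair_of_commute {G : Type*} [Group G] {x y : G} (hc : Commute x y) {g : G} :
    g ∈ Subgroup.closure ({x, y} : Set G) ↔ ∃ i j : ℤ, g = x ^ i * y ^ j := by
  constructor
  · intro hg
    induction hg using Subgroup.closure_induction with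
    | mem a ha =>
      rcases ha with rfl | rfl
      · exact ⟨1, 0, by simp⟩
      · exact ⟨0, 1, by simp⟩
    | one => exact ⟨0, 0, by simp⟩
    | mul a b _ _ iha ihb =>
      obtain ⟨i, j, rfl⟩ := iha
      obtain ⟨k, l, rfl⟩ := ihb
      refine ⟨i + k, j + l, ?_⟩
      rw [zpow_add, zpow_add]
      exact (hc.zpow_zpow k j).symm.mul_mul_mul_comm _ _
    | inv a _ iha =>
      obtain ⟨i, j, rfl⟩ := iha
      refine ⟨-i, -j, ?_⟩
      rw [mul_inv_rev, ← zpow_neg, ← zpow_neg]
      exact (hc.zpow_zpow _ _).symm.eq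
  · rintro ⟨i, j, rfl⟩
    exact mul_mem (zpow_mem (Subgroup.subset_closure (by simp)) _)
      (zpow_mem (Subgroup.subset_closure (by simp)) _)

/-- In a finite 2-group, an element outside a subgroup has a power outside whose square is inside. -/
theorem exists_pow_not_mem_sq_mem {G : Type*} [Group G] (hG : IsPGroup 2 G) (A : Subgroup G) {y : G}
    (hy : y ∉ A) : ∃ k : ℕ, y ^ k ∉ A ∧ y ^ k * y ^ k ∈ A := by
  classical
  obtain ⟨m, hm⟩ := hG y
  have hex : ∃ m, y ^ 2 ^ m ∈ A := ⟨m, hm ▸ one_mem A⟩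
  have h0 : Nat.find hex ≠ 0 := by
    intro h
    have := Nat.find_spec hex
    rw [h] at this
    exact hy (by simpa using this)
  obtain ⟨k, hk⟩ := Nat.exists_eq_succ_of_ne_zero h0
  refine ⟨2 ^ k, Nat.find_min hex (by omega), ?_⟩
  have := Nat.find_spec hex
  rwa [hk, pow_succ, pow_mul, pow_two] at this

/-- An element of a 2-group killed by an odd power is trivial. -/
theorem eq_one_of_pow_odd {G : Type*} [Group G] (hG : IsPGroup 2 G) {y : G} {n : ℕ} (hn : Odd n)
    (hy : y ^ n = 1) : y = 1 := by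
  obtain ⟨m, hm⟩ := hG y
  have h1 := orderOf_dvd_of_pow_eq_one hm
  have h2 := orderOf_dvd_of_pow_eq_one hy
  have h3 : Nat.Coprime (2 ^ m) n := Nat.Coprime.pow_left _ (Nat.coprime_two_left.2 hn)
  rw [← orderOf_eq_one_iff]
  exact Nat.eq_one_of_dvd_coprimes h3 h1 h2

end CL.Rank2
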