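import Cfsg.Agent.TwoFus.Rank2Aux

/-!
2-groups with exactly three involutions, all central, cyclically permuted by an automorphism `σ`:
the counting lemma for `σ`-invariant subgroups of exponent dividing 4.
-/

set_option autoImplicit false

namespace CL.Rank2

/-- The involutions of `T` are `z`, `σ z`, `z * σ z`; they are central and permuted by `σ`. -/
structure Setup {T : Type*} [Group T] (σ : MulAut T) (z : T) : Prop where
  ne_one : z ≠ 1
  sq : z * z = 1
  comm : ∀ g, z * g = g * z
  map_ne : σ z ≠ z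
  map_map : σ (σ z) = z * σ z
  cases : ∀ t, t * t = 1 → t = 1 ∨ t = z ∨ t = σ z ∨ t = z * σ z

namespace Setup

variable {T : Type*} [Group T] {σ : MulAut T} {z : T}

theorem map_ne_one (h : Setup σ z) : σ z ≠ 1 := by simpa using h.ne_one

theorem map_sq (h : Setup σ z) : σ z * σ z = 1 := by rw [← map_mul, h.sq, map_one]

theorem map_comm (h : Setup σ z) (g : T) : σ z * g = g * σ z := by
  obtain ⟨g, rfl⟩ := σ.surjective g
  rw [← map_mul, h.comm, map_mul]

theorem mul_sq (h : Setup σ z) : z * σ z * (z * σ z) = 1 := by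
  rw [← h.map_map, ← map_mul, h.map_sq, map_one]

theorem mul_ne_one (h : Setup σ z) : z * σ z ≠ 1 := by
  rw [← h.map_map]; simpa using h.ne_one

theorem mul_ne (h : Setup σ z) : z * σ z ≠ z := by simpa using h.ne_one

theorem mul_ne_map (h : Setup σ z) : z * σ z ≠ σ z := by simpa using h.ne_one

theorem map_mul' (h : Setup σ z) : σ (z * σ z) = z := by
  rw [map_mul, h.map_map, ← mul_assoc, ← h.comm, mul_assoc, h.map_sq, mul_one]

theorem central (h : Setup σ z) {t : T} (ht : t * t = 1) (g : T) : t * g = g * t := by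
  rcases h.cases t ht with rfl | rfl | rfl | rfl
  · simp
  · exact h.comm g
  · exact h.map_comm g
  · rw [mul_assoc, h.map_comm, ← mul_assoc, h.comm, mul_assoc]

theorem mul_invol (h : Setup σ z) {s t : T} (hs : s * s = 1) (ht : t * t = 1) :
    s * t * (s * t) = 1 := by
  calc s * t * (s * t) = s * (t * s) * t := by simp only [mul_assoc]
    _ = (s * s) * (t * t) := by rw [h.central ht s]; simp only [mul_assoc]
    _ = 1 := by rw [hs, ht, one_mul]

theorem map3 (h : Setup σ z) {t : T} (ht : t * t = 1) : σ (σ (σ t)) = t := by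
  rcases h.cases t ht with rfl | rfl | rfl | rfl
  · simp
  · rw [h.map_map, h.map_mul']
  · rw [h.map_map, h.map_mul']
  · rw [h.map_mul', h.map_map]

theorem eq_one_of_fixed (h : Setup σ z) {t : T} (ht : t * t = 1) (hf : σ t = t) : t = 1 := by
  rcases h.cases t ht with rfl | rfl | rfl | rfl
  · rfl
  · exact absurd hf h.map_ne
  · rw [h.map_map] at hf; exact absurd hf h.mul_ne_map
  · rw [h.map_mul'] at hf; exact absurd hf.symm h.mul_ne

theorem prod3 (h : Setup σ z) {t : T} (ht : t * t = 1) : t * σ t * σ (σ t) = 1 := by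
  rcases h.cases t ht with e | e | e | e <;> rw [e]
  · simp
  · rw [h.map_map, h.mul_sq]
  · rw [h.map_map, h.map_mul', ← mul_assoc, ← h.comm (σ z), mul_assoc z, h.map_sq, mul_one, h.sq]
  · rw [h.map_mul', mul_assoc, h.mul_sq]

/-- The same set-up based at another involution. -/
theorem shift (h : Setup σ z) : Setup σ (σ z) where
  ne_one := h.map_ne_one
  sq := h.map_sq
  comm := h.map_comm
  map_ne := fun e => h.map_ne (σ.injective e)
  map_map := by
    rw [h.map_map, h.map_mul', ← mul_assoc, ← h.comm, mul_assoc, h.map_sq, mul_one]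
  cases := fun t ht => by
    rcases h.cases t ht with h1 | h1 | h1 | h1
    · exact Or.inl h1
    · refine Or.inr (Or.inr (Or.inr ?_))
      rw [h1, h.map_map, ← mul_assoc, ← h.comm, mul_assoc, h.map_sq, mul_one]
    · exact Or.inr (Or.inl h1)
    · exact Or.inr (Or.inr (Or.inl (h1.trans h.map_map.symm)))

theorem of_invol (h : Setup σ z) {t : T} (ht : t * t = 1) (ht1 : t ≠ 1) : Setup σ t := by
  rcases h.cases t ht with rfl | rfl | rfl | rfl
  · exact absurd rfl ht1
  · exact h
  · exact h.shift
  · rw [← h.map_map]; exact h.shift.shift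

theorem fixedPointFree (h : Setup σ z) (hT : IsPGroup 2 T) {g : T} (hg : σ g = g) : g = 1 := by
  by_contra h1
  obtain ⟨k, hk, hk2⟩ := exists_pow_not_mem_sq_mem hT ⊥ (y := g) (by simpa using h1)
  rw [Subgroup.mem_bot] at hk hk2
  exact hk (h.eq_one_of_fixed hk2 (by rw [map_pow, hg]))

open Classical in
/-- The sign character of the four-group with kernel generated by `z`. -/
noncomputable def chi (z t : T) : ℤ := if t = 1 ∨ t = z then 1 else -1

theorem chi_one : chi z (1 : T) = 1 := by simp [chi]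
theorem chi_self : chi z z = 1 := by simp [chi]
theorem chi_map (h : Setup σ z) : chi z (σ z) = -1 := by simp [chi, h.ne_one, h.map_ne]
theorem chi_mul' (h : Setup σ z) : chi z (z * σ z) = -1 := by
  simp only [chi, h.mul_ne_one, h.mul_ne, or_self, if_false]

theorem chi_mul (h : Setup σ z) {s t : T} (hs : s * s = 1) (ht : t * t = 1) :
    chi z (s * t) = chi z s * chi z t := by
  have e1 : σ z * z = z * σ z := (h.comm _).symm
  have e2 : z * (z * σ z) = σ z := by rw [← mul_assoc, h.sq, one_mul]
  have e3 : σ z * (z * σ z) = z := by rw [← e1, ← mul_assoc, h.map_sq, one_mul]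
  have e4 : z * σ z * z = σ z := by rw [← h.comm, e2]
  have e5 : z * σ z * σ z = z := by rw [mul_assoc, h.map_sq, mul_one]
  rcases h.cases s hs with h1 | h1 | h1 | h1 <;> rcases h.cases t ht with h2 | h2 | h2 | h2 <;>
    rw [h1, h2] <;>
    simp only [one_mul, mul_one, h.sq, h.map_sq, h.mul_sq, e1, e2, e3, e4, e5, chi_one, chi_self,
      h.chi_map, h.chi_mul'] <;> norm_num

theorem chi_mul_self (t : T) : chi z t * chi z t = 1 := by
  unfold chi; split_ifs <;> norm_num

/-- The counting lemma. -/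
theorem card_eq [Finite T] (h : Setup σ z) (hT : IsPGroup 2 T) (R : Subgroup T) (hz : z ∈ R)
    (hR : ∀ x ∈ R, σ x ∈ R) (h4 : ∀ x ∈ R, x * x * (x * x) = 1) :
    Nat.card R = 4 ∨ Nat.card R = 16 ∨ Nat.card R = 64 := by
  classical
  have := Fintype.ofFinite R
  -- commutators
  have hsqc : ∀ x ∈ R, ∀ g, x * x * g = g * (x * x) := fun x hx => h.central (h4 x hx)
  have hc : ∀ x ∈ R, ∀ u ∈ R, x * u * (x * u) = (x * u * x⁻¹ * u⁻¹) * (x * x) * (u * u) := by
    intro x hx u hu
    have e1 := hsqc x hx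
    calc x * u * (x * u) = x * u * x⁻¹ * (x * x * u⁻¹) * (u * u) := by group
      _ = x * u * x⁻¹ * (u⁻¹ * (x * x)) * (u * u) := by rw [e1]
      _ = _ := by simp only [mul_assoc]
  have hci : ∀ x ∈ R, ∀ u ∈ R, (x * u * x⁻¹ * u⁻¹) * (x * u * x⁻¹ * u⁻¹) = 1 := by
    intro x hx u hu
    have e : x * u * x⁻¹ * u⁻¹ = x * u * (x * u) * (u * u) * (x * x) := by
      rw [hc x hx u hu, mul_assoc _ (u * u) (u * u), h4 u hu, mul_one, mul_assoc _ (x * x) (x * x),
        h4 x hx, mul_one]
    rw [e]
    exact h.mul_invol (h.mul_invol (h4 _ (mul_mem hx hu)) (h4 u hu)) (h4 x hx)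
  let f : R → ℤ := fun x => chi z (x * x)
  let g : R → (R →* ℤ) := fun u =>
    { toFun := fun x => chi z ((x : T) * u * (x : T)⁻¹ * (u : T)⁻¹)
      map_one' := by simp [chi_one]
      map_mul' := fun x y => by
        rw [← h.chi_mul (hci _ x.2 _ u.2) (hci _ y.2 _ u.2)]
        congr 1
        have e := h.central (hci _ y.2 _ u.2)
        calc ((x * y : R) : T) * u * ((x * y : R) : T)⁻¹ * (u : T)⁻¹
            = x * (((y : T) * u * (y : T)⁻¹ * (u : T)⁻¹) * (u * (x : T)⁻¹ * (u : T)⁻¹)) := by
              simp only [Subgroup.coe_mul]; group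
          _ = x * ((u * (x : T)⁻¹ * (u : T)⁻¹) * ((y : T) * u * (y : T)⁻¹ * (u : T)⁻¹)) := by rw [e]
          _ = _ := by simp only [mul_assoc] }
  have hfg : ∀ x u : R, f x * f (x * u) = f u * g u x := by
    intro x u
    change chi z (x * x) * chi z (x * u * (x * u)) =
      chi z (u * u) * chi z ((x : T) * u * (x : T)⁻¹ * (u : T)⁻¹)
    rw [hc _ x.2 _ u.2, h.chi_mul (h.mul_invol (hci _ x.2 _ u.2) (h4 _ x.2)) (h4 _ u.2),
      h.chi_mul (hci _ x.2 _ u.2) (h4 _ x.2)]
    have := chi_mul_self (z := z) ((x : T) * x)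
    linear_combination (chi z (u * u) * chi z ((x : T) * u * (x : T)⁻¹ * (u : T)⁻¹)) * this
  let r : R → ℤ := fun u => if g u = 1 then f u else 0
  have hS : (∑ x, f x) * (∑ x, f x) = Fintype.card R * ∑ u, r u := by
    rw [Finset.sum_mul_sum]
    calc ∑ x, ∑ y, f x * f y = ∑ x, ∑ u, f x * f (x * u) :=
          Finset.sum_congr rfl fun x _ => (Equiv.sum_comp (Equiv.mulLeft x) _).symm
      _ = ∑ u, f u * ∑ x, g u x := by
          rw [Finset.sum_comm]
          exact Finset.sum_congr rfl fun u _ => by rw [Finset.mul_sum]; simp only [hfg]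
      _ = _ := by
          rw [Finset.mul_sum]
          refine Finset.sum_congr rfl fun u _ => ?_
          rw [sum_hom_units]
          simp only [r]
          split_ifs <;> simp [mul_comm]
  have hr : 2 ∣ ∑ u, r u := by
    let z' : R := ⟨z, hz⟩
    have hz2 : z' * z' = 1 := Subtype.ext h.sq
    have hrz : ∀ u, r (u * z') = r u := by
      intro u
      have e1 : g (u * z') = g u := by
        ext x
        change chi z (x * (u * z) * (x : T)⁻¹ * (u * z)⁻¹) = chi z ((x : T) * u * (x : T)⁻¹ * (u : T)⁻¹)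
        congr 1
        calc (x : T) * (u * z) * (x : T)⁻¹ * (u * z)⁻¹ = x * u * (z * (x : T)⁻¹) * z⁻¹ * (u : T)⁻¹ := by
              group
          _ = _ := by rw [h.comm]; group
      have e2 : f (u * z') = f u := by
        change chi z (u * z * (u * z)) = chi z (u * u)
        congr 1
        calc (u : T) * z * (u * z) = u * (z * u) * z := by group
          _ = u * u * (z * z) := by rw [h.comm]; group
          _ = _ := by rw [h.sq, mul_one]
      simp only [r, e1, e2]
    have : ((∑ u, r u : ℤ) : ZMod 2) = 0 := by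
      push_cast
      refine Finset.sum_involution (fun u _ => u * z') ?_ ?_ (fun _ _ => Finset.mem_univ _) ?_
      · intro u _
        rw [hrz, ← two_mul]
        exact mul_eq_zero_of_left rfl _
      · intro u _ _ hu
        exact h.ne_one (congrArg Subtype.val (mul_eq_left.1 hu))
      · intro u _
        rw [mul_assoc, hz2, mul_one]
    exact_mod_cast (ZMod.intCast_zmod_eq_zero_iff_dvd _ 2).1 this
  -- counting square roots
  let F : T → ℤ := fun t => ∑ x : R, if (x : T) * x = t then 1 else 0
  have hF : ∀ t, F (σ t) = F t := by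
    intro t
    let s : R → R := fun x => ⟨σ x, hR _ x.2⟩
    have hs : Function.Bijective s :=
      Finite.injective_iff_bijective.1 fun x y e => Subtype.ext (σ.injective (congrArg Subtype.val e))
    simp only [F]
    rw [← hs.sum_comp (fun x : R => if (x : T) * x = σ t then (1 : ℤ) else 0)]
    refine Finset.sum_congr rfl fun x _ => ?_
    simp only [s, ← map_mul, EmbeddingLike.apply_eq_iff_eq]
  have n1 := h.ne_one; have n2 := h.map_ne_one; have n3 := h.mul_ne_one
  have n4 := h.map_ne; have n5 := h.mul_ne; have n6 := h.mul_ne_map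
  have hN : (Fintype.card R : ℤ) = F 1 + F z + F (σ z) + F (z * σ z) := by
    simp only [F, ← Finset.sum_add_distrib]
    rw [Fintype.card_eq_sum_ones]; push_cast
    refine Finset.sum_congr rfl fun x _ => ?_
    rcases h.cases _ (h4 _ x.2) with e | e | e | e <;> rw [e] <;>
      simp only [n1, n2, n3, n4, n5, n6, n1.symm, n2.symm, n3.symm, n4.symm, n5.symm, n6.symm,
        if_true, if_false] <;> norm_num
  have hS' : ∑ x, f x = F 1 + F z - F (σ z) - F (z * σ z) := by
    simp only [F, f, ← Finset.sum_add_distrib, ← Finset.sum_sub_distrib]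
    refine Finset.sum_congr rfl fun x _ => ?_
    rcases h.cases _ (h4 _ x.2) with e | e | e | e <;> rw [e] <;>
      simp only [n1, n2, n3, n4, n5, n6, n1.symm, n2.symm, n3.symm, n4.symm, n5.symm, n6.symm,
        if_true, if_false, chi_one, chi_self, h.chi_map, h.chi_mul'] <;> norm_num
  have hF1 : F 1 = 4 := by
    have hσz := hR z hz
    have : (Finset.univ.filter fun x : R => (x : T) * x = 1) =
        {1, ⟨z, hz⟩, ⟨σ z, hσz⟩, ⟨z * σ z, mul_mem hz hσz⟩} := by
      ext x
      simp only [Finset.mem_filter, Finset.mem_univ, true_and, Finset.mem_insert,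
        Finset.mem_singleton, Subtype.ext_iff, OneMemClass.coe_one]
      refine ⟨h.cases _, ?_⟩
      rintro (e | e | e | e) <;> rw [e]
      exacts [one_mul 1, h.sq, h.map_sq, h.mul_sq]
    simp only [F]
    rw [Finset.sum_boole, this, Finset.card_eq_four.2 ⟨_, _, _, _, ?_, ?_, ?_, ?_, ?_, ?_, rfl⟩]
    · rfl
    all_goals simp only [ne_eq, Subtype.ext_iff, OneMemClass.coe_one]
    exacts [n1.symm, n2.symm, n3.symm, n4.symm, n5.symm, n6.symm]
  have e2 : F (z * σ z) = F z := by rw [← h.map_map, hF, hF]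
  rw [hF, e2, hF1] at hN hS'
  obtain ⟨m, hm⟩ := (hT.to_subgroup R).exists_card_eq
  rw [hm]
  rw [Nat.card_eq_fintype_card] at hm
  obtain ⟨c, hc'⟩ := hr
  rw [hS', hc', hm] at hS
  rw [hm] at hN
  push_cast at hN hS
  have hF0 : 0 ≤ F z := Finset.sum_nonneg fun x _ => by split_ifs <;> norm_num
  have key : (2 : ℤ) ^ (m + 1) ∣ (16 - 2 ^ m) ^ 2 := ⟨9 * c, by
    have : (16 : ℤ) - 2 ^ m = 3 * (4 + F z - F z - F z) := by rw [hN]; ring
    rw [this]; linear_combination 9 * hS⟩
  have hm7 : m ≤ 7 := by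
    by_contra hlt
    obtain ⟨k, rfl⟩ : ∃ k, m = k + 8 := ⟨m - 8, by omega⟩
    have h1 : (2 : ℤ) ^ (k + 8 + 1) ∣ 256 := by
      have h2 : (256 : ℤ) = (16 - 2 ^ (k + 8)) ^ 2 + 2 ^ (k + 8 + 1) * (16 - 2 ^ (k + 7)) := by ring
      rw [h2]
      exact dvd_add key (dvd_mul_right _ _)
    have h3 := Int.le_of_dvd (by norm_num) h1
    have h5 : (0 : ℤ) < 2 ^ k := by positivity
    have : (2 : ℤ) ^ (k + 8 + 1) = 512 * 2 ^ k := by ring
    omega
  interval_cases m <;> norm_num at hN ⊢ <;> omega

end Setup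

end CL.Rank2
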