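import Cfsg.Agent.TwoFus.Rank2Count

/-!
2-groups with three involutions permuted cyclically by an automorphism `σ` of 3-power order:
`σ` has order 3.
-/

set_option autoImplicit false

namespace CL.Rank2

open scoped commutatorElement

theorem nine_dvd_card {X : Type*} [Finite X] (π : Equiv.Perm X) (k : ℕ) (hk : π ^ 3 ^ k = 1)
    (h3 : ∀ x, (π ^ 3) x ≠ x) : 9 ∣ Nat.card X := by
  classical
  have := Fintype.ofFinite X
  rw [Nat.card_congr (MulAction.selfEquivSigmaOrbits (Subgroup.zpowers π) X), Nat.card_sigma]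
  refine Finset.dvd_sum fun c _ => ?_
  set x := c.out
  rw [Nat.card_eq_fintype_card, ← MulAction.minimalPeriod_eq_card]
  have h1 : Function.minimalPeriod (π • ·) x ∣ 3 ^ k := by
    rw [← MulAction.pow_smul_eq_iff_minimalPeriod_dvd, hk, one_smul]
  obtain ⟨i, -, hi⟩ := (Nat.dvd_prime_pow Nat.prime_three).1 h1
  have h2 : ¬ Function.minimalPeriod (π • ·) x ∣ 3 := by
    rw [← MulAction.pow_smul_eq_iff_minimalPeriod_dvd]
    exact h3 x
  rw [hi] at h2 ⊢
  rcases i with _ | _ | i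
  · simp at h2
  · simp at h2
  · exact ⟨3 ^ i, by ring⟩

variable {T : Type*} [Group T]

theorem pow_mem_of_invariant {σ : MulAut T} {R : Subgroup T} (hR : ∀ x ∈ R, σ x ∈ R) (n : ℕ) :
    ∀ x ∈ R, (σ ^ n) x ∈ R := by
  induction n with
  | zero => intro x hx; simpa using hx
  | succ n ih => intro x hx; rw [pow_succ', MulAut.mul_apply]; exact hR _ (ih x hx)

theorem cube_apply (σ : MulAut T) (x : T) : (σ ^ 3) x = σ (σ (σ x)) := by
  simp [pow_succ]

namespace Setup

variable {σ : MulAut T} {z : T}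

theorem cube_eq_of_exp_four [Finite T] (h : Setup σ z) (hT : IsPGroup 2 T) {k : ℕ}
    (hk : σ ^ 3 ^ k = 1) (R : Subgroup T) (hz : z ∈ R) (hR : ∀ x ∈ R, σ x ∈ R)
    (h4 : ∀ x ∈ R, x * x * (x * x) = 1) : ∀ x ∈ R, (σ ^ 3) x = x := by
  classical
  let C : Subgroup T := R ⊓ (σ ^ 3).toMonoidHom.eqLocus (MonoidHom.id T)
  have hC : ∀ x, x ∈ C ↔ x ∈ R ∧ (σ ^ 3) x = x := fun x => Iff.rfl
  have hinv : ∀ x, σ x ∈ R ↔ x ∈ R := by
    refine fun x => ⟨fun hx => ?_, hR x⟩
    have := pow_mem_of_invariant hR (3 ^ k - 1) _ hx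
    rwa [← MulAut.mul_apply, ← pow_succ, Nat.sub_add_cancel (Nat.one_le_pow _ _ (by norm_num)), hk]
      at this
  have hp : ∀ x, (σ x ∈ R ∧ (σ ^ 3) (σ x) ≠ σ x) ↔ (x ∈ R ∧ (σ ^ 3) x ≠ x) := by
    intro x
    rw [hinv, cube_apply, cube_apply, ne_eq, ne_eq, EmbeddingLike.apply_eq_iff_eq]
  let π : Equiv.Perm {x // x ∈ R ∧ (σ ^ 3) x ≠ x} := Equiv.Perm.subtypePerm σ.toEquiv hp
  have hπ : ∀ (n : ℕ) (x : {x // x ∈ R ∧ (σ ^ 3) x ≠ x}), ((π ^ n) x : T) = (σ ^ n) x := by
    intro n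
    induction n with
    | zero => intro x; rfl
    | succ n ih => intro x; rw [pow_succ π, pow_succ σ n, Equiv.Perm.mul_apply, ih]; rfl
  have h9 := nine_dvd_card π k (by
    ext x
    rw [hπ, hk]; rfl) (fun x e => x.2.2 (by rw [← hπ, e]))
  have hsum : Nat.card R = Nat.card C + Nat.card {x // x ∈ R ∧ (σ ^ 3) x ≠ x} := by
    rw [← Nat.card_sum]
    refine Nat.card_congr ((Equiv.sumCompl (fun x : R => (σ ^ 3) x = x)).symm.trans
      (Equiv.sumCongr ?_ ?_))
    · exact Equiv.subtypeSubtypeEquivSubtypeInter (· ∈ R) (fun x => (σ ^ 3) x = x)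
    · exact Equiv.subtypeSubtypeEquivSubtypeInter (· ∈ R) (fun x => ¬ (σ ^ 3) x = x)
  have hC1 : Nat.card C ≠ 1 := by
    intro e
    have : C = ⊥ := Subgroup.card_eq_one.1 e
    have hzC : z ∈ C := ⟨hz, by
      change (σ ^ 3) z = z
      rw [cube_apply, h.map3 h.sq]⟩
    rw [this] at hzC
    exact h.ne_one hzC
  obtain ⟨j, hj⟩ := (hT.to_subgroup C).exists_card_eq
  have hCR : Nat.card C = Nat.card R := by
    obtain ⟨n, hn⟩ := h9
    rw [hn] at hsum
    have hj6 : j ≤ 6 := by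
      by_contra hlt
      have : 2 ^ 7 ≤ 2 ^ j := Nat.pow_le_pow_right (by norm_num) (by omega)
      rcases h.card_eq hT R hz hR h4 with e | e | e <;> omega
    rw [hj] at hsum hC1 ⊢
    rcases h.card_eq hT R hz hR h4 with e | e | e <;> interval_cases j <;> omega
  have : C = R := Subgroup.eq_of_le_of_card_ge inf_le_left hCR.ge
  intro x hx
  rw [← this] at hx
  exact hx.2

theorem cube_eq_one [Finite T] (h : Setup σ z) (hT : IsPGroup 2 T) {k : ℕ}
    (hk : σ ^ 3 ^ k = 1) (x : T) : σ (σ (σ x)) = x := by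
  rw [← cube_apply]
  set τ := σ ^ 3 with hτ
  have hστ : ∀ y, τ (σ y) = σ (τ y) := fun y => by rw [hτ, cube_apply, cube_apply]
  by_contra hx
  obtain ⟨R, ⟨hR, x0, hx0R, hx0⟩, hmin⟩ := exists_minimal_of_wellFoundedLT
    (fun R : Subgroup T => (∀ x ∈ R, σ x ∈ R) ∧ ∃ x ∈ R, τ x ≠ x)
    ⟨⊤, fun _ _ => Subgroup.mem_top _, x, Subgroup.mem_top _, hx⟩
  have hmin' : ∀ R' ≤ R, (∀ x ∈ R', σ x ∈ R') → (∃ x ∈ R', τ x ≠ x) → R ≤ R' :=
    fun R' h1 h2 h3 => hmin ⟨h2, h3⟩ h1
  have hτR : ∀ x ∈ R, τ x ∈ R := pow_mem_of_invariant hR 3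
  -- `R` is generated by the elements `x⁻¹ * τ x`
  have hgen : R ≤ Subgroup.closure {y | ∃ x ∈ R, y = x⁻¹ * τ x} := by
    apply hmin'
    · rw [Subgroup.closure_le]
      rintro _ ⟨x, hx, rfl⟩
      exact mul_mem (inv_mem hx) (hτR x hx)
    · intro y hy
      have : Subgroup.closure {y | ∃ x ∈ R, y = x⁻¹ * τ x} ≤
          (Subgroup.closure {y | ∃ x ∈ R, y = x⁻¹ * τ x}).comap σ.toMonoidHom := by
        rw [Subgroup.closure_le]
        rintro _ ⟨x, hx, rfl⟩
        refine Subgroup.subset_closure ⟨σ x, hR x hx, ?_⟩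
        simp [hστ]
      exact this hy
    · refine ⟨x0⁻¹ * τ x0, Subgroup.subset_closure ⟨x0, hx0R, rfl⟩, fun e => hx0 ?_⟩
      set y := x0⁻¹ * τ x0 with hy
      have h1 : ∀ n : ℕ, (τ ^ n) x0 = x0 * y ^ n := by
        intro n
        induction n with
        | zero => simp
        | succ n ih =>
          rw [pow_succ', MulAut.mul_apply, ih, map_mul, map_pow, e, pow_succ', ← mul_assoc, hy,
            mul_inv_cancel_left]
      have h2 := h1 (3 ^ k)
      rw [hτ, ← pow_mul, mul_comm 3, pow_mul, hk, one_pow] at h2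
      have h3 : y ^ 3 ^ k = 1 := by simpa using h2.symm
      have h4 := eq_one_of_pow_odd hT (Odd.pow (by decide)) h3
      rw [hy, inv_mul_eq_one] at h4
      exact h4.symm
  -- commutators are fixed
  have hcomm : ∀ a ∈ R, ∀ b ∈ R, τ (a * b * a⁻¹ * b⁻¹) = a * b * a⁻¹ * b⁻¹ := by
    have hne : R ≠ ⊥ := by
      rintro rfl
      rw [Subgroup.mem_bot] at hx0R
      exact hx0 (by simp [hx0R])
    have : Fact (Nat.Prime 2) := ⟨Nat.prime_two⟩
    have := hT.isNilpotent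
    have hlt : ⁅R, R⁆ < R := Group.IsSolvable.commutator_lt_of_ne_bot hne
    by_contra hcon
    push Not at hcon
    obtain ⟨a, ha, b, hb, hab⟩ := hcon
    refine hlt.not_ge (hmin' _ hlt.le ?_ ⟨_, Subgroup.commutator_mem_commutator ha hb, hab⟩)
    intro y hy
    have : ⁅R, R⁆ ≤ ⁅R, R⁆.comap σ.toMonoidHom := by
      rw [Subgroup.commutator_le]
      intro a ha b hb
      rw [Subgroup.mem_comap, map_commutatorElement]
      exact Subgroup.commutator_mem_commutator (hR a ha) (hR b hb)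
    exact this hy
  -- fixed elements of `R` are central in `R`
  have hcen : ∀ d ∈ R, τ d = d → ∀ r ∈ R, d * r = r * d := by
    intro d hd hdf r hr
    have : Subgroup.closure {y | ∃ x ∈ R, y = x⁻¹ * τ x} ≤ Subgroup.centralizer {d} := by
      rw [Subgroup.closure_le]
      rintro _ ⟨x, hx, rfl⟩
      rw [SetLike.mem_coe, Subgroup.mem_centralizer_singleton_iff]
      have h1 := hcomm x hx d hd
      simp only [map_mul, map_inv, hdf, mul_left_inj] at h1
      calc x⁻¹ * τ x * d = x⁻¹ * (τ x * d * (τ x)⁻¹) * τ x := by group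
        _ = d * (x⁻¹ * τ x) := by rw [h1]; group
    exact (Subgroup.mem_centralizer_singleton_iff.1 (this (hgen hr))).symm
  have hcc : ∀ a ∈ R, ∀ b ∈ R, ∀ r ∈ R, a * b * a⁻¹ * b⁻¹ * r = r * (a * b * a⁻¹ * b⁻¹) :=
    fun a ha b hb => hcen _ (mul_mem (mul_mem (mul_mem ha hb) (inv_mem ha)) (inv_mem hb))
      (hcomm a ha b hb)
  have hsqm : ∀ a ∈ R, ∀ b ∈ R, a * b * (a * b) = (b * a * b⁻¹ * a⁻¹) * (a * a) * (b * b) := by
    intro a ha b hb
    calc a * b * (a * b) = a * (b * a * b⁻¹ * a⁻¹) * (a * b * b) := by group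
      _ = _ := by rw [← hcc b hb a ha a ha]; group
  -- squares are fixed
  have hsq : ∀ a ∈ R, τ (a * a) = a * a := by
    let E : Subgroup T :=
      { carrier := {a | a ∈ R ∧ τ (a * a) = a * a}
        one_mem' := ⟨one_mem _, by simp⟩
        mul_mem' := fun {a b} ha hb => ⟨mul_mem ha.1 hb.1, by
          rw [hsqm a ha.1 b hb.1, map_mul, map_mul, ha.2, hb.2, hcomm b hb.1 a ha.1]⟩
        inv_mem' := fun {a} ha => ⟨inv_mem ha.1, by rw [← mul_inv_rev, map_inv, ha.2]⟩ }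
    obtain ⟨n, hn1, hn2⟩ := exists_pow_not_mem_sq_mem hT
      (τ.toMonoidHom.eqLocus (MonoidHom.id T)) (y := x0) hx0
    have : R ≤ E := hmin' E (fun a ha => ha.1)
      (fun a ha => ⟨hR a ha.1, by rw [← map_mul, hστ, ha.2]⟩)
      ⟨x0 ^ n, ⟨pow_mem hx0R n, hn2⟩, hn1⟩
    exact fun a ha => (this ha).2
  have hsqc : ∀ a ∈ R, ∀ r ∈ R, a * a * r = r * (a * a) :=
    fun a ha => hcen _ (mul_mem ha ha) (hsq a ha)
  have hc2 : ∀ a ∈ R, ∀ b ∈ R, (a * b * a⁻¹ * b⁻¹) * (a * b * a⁻¹ * b⁻¹) = 1 := by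
    intro a ha b hb
    calc (a * b * a⁻¹ * b⁻¹) * (a * b * a⁻¹ * b⁻¹)
        = ((a * b * a⁻¹ * b⁻¹) * a) * (b * a⁻¹ * b⁻¹) := by group
      _ = a * a * b * a⁻¹ * a⁻¹ * b⁻¹ := by rw [hcc a ha b hb a ha]; group
      _ = 1 := by rw [hsqc a ha b hb]; group
  have hexp : ∀ a ∈ R, a * a * (a * a) = 1 := by
    let F : Subgroup T :=
      { carrier := {a | a ∈ R ∧ a * a * (a * a) = 1}
        one_mem' := ⟨one_mem _, by simp⟩
        mul_mem' := fun {a b} ha hb => ⟨mul_mem ha.1 hb.1, by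
          rw [hsqm a ha.1 b hb.1]
          exact h.mul_invol (h.mul_invol (hc2 b hb.1 a ha.1) ha.2) hb.2⟩
        inv_mem' := fun {a} ha => ⟨inv_mem ha.1, by
          rw [← mul_inv_rev, ← mul_inv_rev, ha.2, inv_one]⟩ }
    have : Subgroup.closure {y | ∃ x ∈ R, y = x⁻¹ * τ x} ≤ F := by
      rw [Subgroup.closure_le]
      rintro _ ⟨x, hx, rfl⟩
      refine ⟨mul_mem (inv_mem hx) (hτR x hx), ?_⟩
      have e : x⁻¹ * x⁻¹ * (τ x * τ x) = 1 := by rw [← map_mul, hsq x hx]; group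
      rw [hsqm _ (inv_mem hx) _ (hτR x hx), mul_assoc _ (x⁻¹ * x⁻¹) (τ x * τ x), e, mul_one]
      exact hc2 _ (hτR x hx) _ (inv_mem hx)
    exact fun a ha => (this (hgen ha)).2
  obtain ⟨n, hn1, hn2⟩ := exists_pow_not_mem_sq_mem hT ⊥ (y := x0) (by
    rw [Subgroup.mem_bot]; rintro rfl; exact hx0 (map_one _))
  rw [Subgroup.mem_bot] at hn1 hn2
  exact hx0 ((h.of_invol hn2 hn1).cube_eq_of_exp_four hT hk R (pow_mem hx0R n) hR hexp x0 hx0R)

end Setup

/-- Building the set-up from a four-element set of central square roots of `1`. -/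
theorem setup_of_no_fixed {a b : T} (ha1 : a ≠ 1) (ha : a * a = 1)
    (hc : ∀ t : T, t * t = 1 → ∀ g, t * g = g * t)
    (hcases : ∀ t, t * t = 1 → t = 1 ∨ t = a ∨ t = b ∨ t = a * b) (ψ : MulAut T)
    (hψ : ∀ t, t * t = 1 → ψ t = t → t = 1) : Setup ψ a := by
  have h1 : ψ a ≠ a := fun e => ha1 (hψ a ha e)
  have h2 : ψ a * ψ a = 1 := by rw [← map_mul, ha, map_one]
  have h3 : ψ (ψ a) * ψ (ψ a) = 1 := by rw [← map_mul, h2, map_one]
  have h4 : ψ a ≠ 1 := by simpa using ha1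
  have hcases' : ∀ t, t * t = 1 → t = 1 ∨ t = a ∨ t = ψ a ∨ t = a * ψ a := by
    intro t ht
    rcases hcases _ h2 with e | e | e | e
    · exact absurd e h4
    · exact absurd e h1
    · rw [e]; exact hcases t ht
    · rw [e, ← mul_assoc, ha, one_mul]
      have := hcases t ht
      tauto
  refine ⟨ha1, ha, hc a ha, h1, ?_, hcases'⟩
  rcases hcases' _ h3 with e | e | e | e
  · exact absurd e (by simpa using ha1)
  · exfalso
    have h5 : a * ψ a = 1 := by
      apply hψ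
      · calc a * ψ a * (a * ψ a) = a * (ψ a * a) * ψ a := by group
          _ = (a * a) * (ψ a * ψ a) := by rw [← hc a ha]; group
          _ = 1 := by rw [ha, h2, one_mul]
      · rw [map_mul, e, hc a ha]
    apply h1
    rw [← mul_left_cancel_iff (a := a), h5, ha]
  · exact absurd (ψ.injective e) h1
  · exact e

/-- The hypotheses of the rank-two theorem give the set-up with an automorphism of order 3. -/
theorem exists_setup [Finite T] (hT : IsPGroup 2 T) (h2 : Cfsg.PRankLE 2 2 T)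
    (h1 : ¬ Cfsg.PRankLE 2 1 T) (φ : MulAut T)
    (htrans : ∀ s t : T, orderOf s = 2 → orderOf t = 2 → ∃ k : ℕ, (φ ^ k) s = t) :
    ∃ (σ : MulAut T) (z : T), Setup σ z ∧ ∀ x, σ (σ (σ x)) = x := by
  classical
  have : Fact (Nat.Prime 2) := ⟨Nat.prime_two⟩
  have hord : ∀ t : T, t * t = 1 → t ≠ 1 → orderOf t = 2 := fun t ht ht1 =>
    orderOf_eq_prime (by rw [pow_two, ht]) ht1
  simp only [Cfsg.PRankLE, not_forall, not_le] at h1
  obtain ⟨A, hAc, hA2, hA⟩ := h1
  have hnt : Nontrivial T := by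
    by_contra hn
    rw [not_nontrivial_iff_subsingleton] at hn
    have := Subgroup.card_le_card_group A
    rw [Nat.card_of_subsingleton (1 : T)] at this
    omega
  obtain ⟨z0, hz0⟩ : ∃ z0 : Subgroup.center T, z0 ≠ 1 := by
    have := hT.center_nontrivial
    exact exists_ne 1
  obtain ⟨n, hn1, hn2⟩ := exists_pow_not_mem_sq_mem hT ⊥ (y := (z0 : T))
    (by rw [Subgroup.mem_bot]; exact fun e => hz0 (Subtype.ext e))
  rw [Subgroup.mem_bot] at hn1 hn2
  have hc : ∀ t : T, t * t = 1 → ∀ g, t * g = g * t := by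
    intro t ht g
    by_cases ht1 : t = 1
    · simp [ht1]
    obtain ⟨k, rfl⟩ := htrans _ t (hord _ hn2 hn1) (hord _ ht ht1)
    obtain ⟨g, rfl⟩ := (φ ^ k).surjective g
    rw [← map_mul, ← map_mul, (Subgroup.mem_center_iff.1 (pow_mem z0.2 n) g)]
  let Z : Subgroup T :=
    { carrier := {t | t * t = 1}
      one_mem' := one_mul 1
      mul_mem' := fun {s t} hs ht => by
        change s * t * (s * t) = 1
        calc s * t * (s * t) = s * (t * s) * t := by group
          _ = (s * s) * (t * t) := by rw [hc t ht s]; group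
          _ = 1 := by rw [hs, ht, one_mul]
      inv_mem' := fun {s} hs => by
        change s⁻¹ * s⁻¹ = 1
        rw [← mul_inv_rev, hs, inv_one] }
  have hZ4 : Nat.card Z = 4 := by
    have e1 : Nat.card Z ≤ 2 ^ 2 := h2 Z ⟨⟨fun a b => Subtype.ext (hc _ a.2 _)⟩⟩
      (fun a ha => by rw [pow_two]; exact ha)
    have e2 : Nat.card A ≤ Nat.card Z :=
      Subgroup.card_le_of_le fun a ha => by
        change a * a = 1
        rw [← pow_two]; exact hA2 a ha
    obtain ⟨j, hj⟩ := (hT.to_subgroup Z).exists_card_eq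
    rw [hj] at e1 e2 ⊢
    have : j ≤ 2 := (Nat.pow_le_pow_iff_right (by norm_num)).1 e1
    interval_cases j <;> omega
  have : Nontrivial Z := Finite.one_lt_card_iff_nontrivial.1 (by omega)
  have : IsKleinFour Z := ⟨hZ4, by
    rw [Monoid.exponent_eq_prime_iff Nat.prime_two]
    intro g hg
    exact orderOf_eq_prime (Subtype.ext (by rw [pow_two]; exact g.2)) hg⟩
  have := Fintype.ofFinite Z
  obtain ⟨a, b, ha1, hb1, hab⟩ : ∃ a b : Z, a ≠ 1 ∧ b ≠ 1 ∧ a ≠ b := by
    have h3 : 2 < Fintype.card Z := by rw [← Nat.card_eq_fintype_card]; omega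
    obtain ⟨u, v, w, huv, huw, hvw⟩ := Fintype.two_lt_card_iff.1 h3
    by_cases hu : u = 1
    · exact ⟨v, w, hu ▸ huv.symm, hu ▸ huw.symm, hvw⟩
    · by_cases hv : v = 1
      · exact ⟨u, w, hu, hv ▸ hvw.symm, huw⟩
      · exact ⟨u, v, hu, hv, huv⟩
  have hcases : ∀ t : T, t * t = 1 → t = 1 ∨ t = a ∨ t = b ∨ t = a * b := by
    intro t ht
    by_contra hcon
    push Not at hcon
    obtain ⟨e1, e2, e3, e4⟩ := hcon
    exact e4 (congrArg Subtype.val (IsKleinFour.eq_mul_of_ne_all (z := (⟨t, ht⟩ : Z)) ha1 hb1 hab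
      (fun e => e1 (congrArg Subtype.val e)) (fun e => e2 (congrArg Subtype.val e))
      (fun e => e3 (congrArg Subtype.val e))))
  have ha1' : (a : T) ≠ 1 := fun e => ha1 (Subtype.ext e)
  have hb1' : (b : T) ≠ 1 := fun e => hb1 (Subtype.ext e)
  have hφ : ∀ t, t * t = 1 → φ t = t → t = 1 := by
    intro t ht e
    by_contra ht1
    have hk : ∀ k : ℕ, (φ ^ k) t = t := by
      intro k
      induction k with
      | zero => rfl
      | succ k ih => rw [pow_succ, MulAut.mul_apply, e, ih]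
    obtain ⟨k, hka⟩ := htrans t a (hord t ht ht1) (hord _ a.2 ha1')
    obtain ⟨l, hlb⟩ := htrans t b (hord t ht ht1) (hord _ b.2 hb1')
    rw [hk] at hka hlb
    exact hab (Subtype.ext (hka.symm.trans hlb))
  have hS := setup_of_no_fixed ha1' a.2 hc hcases φ hφ
  obtain ⟨k, m, hm, hkm⟩ := Nat.exists_eq_pow_mul_and_not_dvd (orderOf_pos φ).ne' 3 (by norm_num)
  have hS' : Setup (φ ^ m) (a : T) := by
    refine setup_of_no_fixed ha1' a.2 hc hcases _ fun t ht e => hφ t ht ?_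
    have h3 : ∀ q : ℕ, (φ ^ (3 * q)) t = t := by
      intro q
      induction q with
      | zero => rfl
      | succ q ih => rw [mul_add, mul_one, pow_add, MulAut.mul_apply, cube_apply, hS.map3 ht, ih]
    have hm3 : m % 3 = 1 ∨ m % 3 = 2 := by omega
    rw [← Nat.mod_add_div m 3, pow_add, MulAut.mul_apply, h3] at e
    rcases hm3 with e' | e' <;> rw [e'] at e
    · simpa using e
    · have := hS.map3 ht
      rw [pow_two, MulAut.mul_apply] at e
      rwa [e] at this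
  refine ⟨φ ^ m, a, hS', hS'.cube_eq_one hT (k := k) ?_⟩
  rw [← pow_mul, mul_comm, ← hkm, pow_orderOf_eq_one]

end CL.Rank2
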