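import Cfsg.Agent.TwoFus.HaradaDB
import Cfsg.Agent.PGrp.Taussky
import Cfsg.Agent.PLocal.ElemAb

/-!
# Counting lemmas for 2-groups with a normal elementary abelian subgroup of order 8
-/

set_option autoImplicit false

namespace CL.SelfE8

open Subgroup CL.HaradaDB
open scoped commutatorElement Pointwise

variable {G : Type*} [Group G]

instance factTwo : Fact (Nat.Prime 2) := ⟨Nat.prime_two⟩

theorem comm_mem {X K : Subgroup G} (h : SqIn X K) {x y : G} (hx : x ∈ X) (hy : y ∈ X) :
    ⁅x, y⁆ ∈ K := by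
  have h1 := h.mul_conj (inv_mem hx) hy
  have h2 := h _ hx
  have : ⁅x, y⁆ = x * x * (x⁻¹ * (y * x⁻¹ * y⁻¹)) := by rw [commutatorElement_def]; group
  rw [this]
  exact mul_mem h2 h1

theorem sqIn_map {Q : Type*} [Group Q] (f : G →* Q) {X K : Subgroup G} (h : SqIn X K) :
    SqIn (X.map f) (K.map f) := by
  rintro _ ⟨x, hx, rfl⟩
  exact ⟨x * x, h x hx, map_mul _ _ _⟩

theorem card_eq_map_mul {Q : Type*} [Group Q] (f : G →* Q) (X : Subgroup G) :
    Nat.card X = Nat.card (X.map f) * Nat.card (X ⊓ f.ker : Subgroup G) := by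
  rw [← PGrp.card_inf_mul_relIndex f.ker X, relIndex_ker, inf_comm, mul_comm]

theorem card_eq_relIndex_mul (N X : Subgroup G) :
    Nat.card X = N.relIndex X * Nat.card (X ⊓ N : Subgroup G) := by
  rw [← PGrp.card_inf_mul_relIndex N X, inf_comm, mul_comm]

/-- `[a, x]` is inverted by the involution `a`. -/
theorem conj_comm_inv {a x : G} (ha : a * a = 1) : a * ⁅a, x⁆ * a⁻¹ = ⁅a, x⁆⁻¹ := by
  have h : a⁻¹ = a := inv_eq_of_mul_eq_one_right ha
  rw [commutatorElement_inv, commutatorElement_def, commutatorElement_def, h]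
  calc a * (a * x * a * x⁻¹) * a = (a * a) * x * a * x⁻¹ * a := by group
    _ = _ := by rw [ha]; group

theorem comm_mem_cent {a x : G} (ha : a * a = 1) (h : ⁅a, x⁆ * ⁅a, x⁆ = 1) :
    ⁅a, x⁆ ∈ centralizer {a} := by
  rw [mem_centralizer_singleton_iff]
  have h1 := conj_comm_inv (x := x) ha
  rw [inv_eq_of_mul_eq_one_right h] at h1
  rw [← h1]
  nth_rewrite 2 [h1]
  group

theorem comm_mem_cent' {a x : G} (ha : a * a = 1) (h : ⁅x, a⁆ * ⁅x, a⁆ = 1) :
    ⁅x, a⁆ ∈ centralizer {a} := by
  rw [← commutatorElement_inv]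
  refine inv_mem (comm_mem_cent ha ?_)
  rw [← commutatorElement_inv, ← mul_inv_rev, h, inv_one]

theorem comm_mem_of_normal {E : Subgroup G} [hE : E.Normal] (g : G) {e : G} (he : e ∈ E) :
    ⁅g, e⁆ ∈ E := mul_mem (hE.conj_mem e he g) (inv_mem he)

variable [Finite G]

/-- An involution normalizing an elementary abelian group fixes at least its square root. -/
theorem card_le_sq {T : Subgroup G} (hsq : ∀ t ∈ T, t * t = 1) {a : G}
    (ha : a ∈ normalizer (T : Set G)) (ha2 : a * a = 1) :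
    Nat.card T ≤ Nat.card (T ⊓ centralizer {a} : Subgroup G) *
      Nat.card (T ⊓ centralizer {a} : Subgroup G) := by
  have := card_le_card_centralizer_mul (K := centralizer {a}) hsq le_rfl ha fun w hw => by
    have h1 : w * (a * w * a⁻¹) = ⁅w, a⁆ := by
      have := inv_eq_of_mul_eq_one_right (hsq w hw)
      rw [commutatorElement_def, this]; group
    have h2 : w * (a * w * a⁻¹) ∈ T := mul_mem hw ((mem_normalizer_iff.1 ha w).1 hw)
    rw [h1] at h2 ⊢
    exact comm_mem_cent' ha2 (hsq _ h2)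
  rwa [inf_comm (centralizer {a}) T] at this

theorem card_le_cent_mul (H : Subgroup G) (x : G) (K : Subgroup G) (h : ∀ g ∈ H, ⁅g, x⁆ ∈ K) :
    Nat.card H ≤ Nat.card K * Nat.card (H ⊓ centralizer {x} : Subgroup G) := by
  rw [card_eq_relIndex_mul (centralizer {x}) H]
  exact Nat.mul_le_mul_right _ (PGrp.relIndex_centralizer_singleton_le H x (K : Set G) h)

theorem card_pow (hG : IsPGroup 2 G) (H : Subgroup G) : ∃ n, Nat.card H = 2 ^ n :=
  IsPGroup.iff_card.1 (hG.to_subgroup H)

theorem two_mul_le_of_lt (hG : IsPGroup 2 G) {H K : Subgroup G} {m : ℕ}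
    (h : 2 ^ m * Nat.card H < Nat.card K) : 2 ^ (m + 1) * Nat.card H ≤ Nat.card K := by
  obtain ⟨a, ha⟩ := card_pow hG H
  obtain ⟨b, hb⟩ := card_pow hG K
  rw [ha, hb, ← pow_add] at h ⊢
  have := (Nat.pow_lt_pow_iff_right one_lt_two).1 h
  exact Nat.pow_le_pow_right two_pos (by omega)

theorem two_mul_le_of_not_le {H K : Subgroup G} (hle : H ≤ K) (h : ¬ K ≤ H) :
    2 * Nat.card H ≤ Nat.card K := by
  have := two_mul_card_inf_le h
  rwa [inf_eq_right.2 hle] at this

theorem exists_not_mem {H K : Subgroup G} (h : Nat.card H < Nat.card K) : ∃ x ∈ K, x ∉ H := by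
  by_contra hc
  push Not at hc
  exact absurd (card_le_of_le (show K ≤ H from hc)) (not_le.2 h)

/-- A subgroup containing `H` and an element outside `H` is everything if `H` has index 2. -/
theorem le_of_mem_of_card {H K L : Subgroup G} (hle : H ≤ K) (hc : Nat.card K ≤ 2 * Nat.card H)
    {x : G} (hxK : x ∈ K) (hx : x ∉ H) (hH : H ≤ L) (hL : x ∈ L) : K ≤ L := by
  have h1 : 2 * Nat.card H ≤ Nat.card (K ⊓ L : Subgroup G) :=
    two_mul_le_of_not_le (le_inf hle hH) fun h => hx (h ⟨hxK, hL⟩)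
  exact (eq_of_le_of_card_ge (inf_le_left : K ⊓ L ≤ K) (hc.trans h1)).ge.trans inf_le_right

theorem mul_mem_of_card {H K : Subgroup G} (hle : H ≤ K) (hc : Nat.card K ≤ 2 * Nat.card H)
    {x y : G} (hxK : x ∈ K) (hx : x ∉ H) (hyK : y ∈ K) (hy : y ∉ H) : x * y ∈ H := by
  have h1 := two_mul_le_of_not_le hle fun h => hx (h hxK)
  have h2 : (H.subgroupOf K).index = 2 := by
    have h3 := PGrp.card_mul_relIndex hle
    have h4 : Nat.card H * H.relIndex K = Nat.card H * 2 := by omega
    exact Nat.eq_of_mul_eq_mul_left Nat.card_pos h4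
  exact (mul_mem_iff_of_index_two h2 (a := ⟨x, hxK⟩) (b := ⟨y, hyK⟩)).2 (iff_of_false hx hy)

theorem eq_of_card_le_two {H : Subgroup G} (h : Nat.card H ≤ 2) {x y : G} (hx : x ∈ H)
    (hy : y ∈ H) (hx1 : x ≠ 1) (hy1 : y ≠ 1) : x = y := by
  have := mul_mem_of_card (H := ⊥) bot_le (by simpa using h) hx (by simpa using hx1) (inv_mem hy)
    (by simpa using hy1)
  rwa [mem_bot, mul_inv_eq_one] at this

omit [Finite G] in
theorem card_zpowers_two {x : G} (h1 : x ≠ 1) (h2 : x * x = 1) : Nat.card (zpowers x) = 2 := by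
  rw [Nat.card_zpowers, orderOf_eq_prime (by rwa [pow_two]) h1]

theorem normal_of_card (hG : IsPGroup 2 G) {H : Subgroup G} (h : Nat.card G ≤ 2 * Nat.card H) :
    H.Normal := by
  have h1 := H.card_mul_index
  have h2 : H.index ≠ 0 := index_ne_zero_of_finite
  have h3 : Nat.card H * H.index ≤ Nat.card H * 2 := by omega
  have h4 := Nat.le_of_mul_le_mul_left h3 Nat.card_pos
  obtain h5 | h5 : H.index = 1 ∨ H.index = 2 := by omega
  · rw [index_eq_one.1 h5]; infer_instance
  · exact PGrp.normal_of_index_eq_prime hG h5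

/-- Relative form of `PGrp.exists_central_mod`. -/
theorem exists_central_mod_in (hG : IsPGroup 2 G) {M K N : Subgroup G} (hN : N ≤ M)
    (hMK : M ≤ normalizer (K : Set G)) (hMN : M ≤ normalizer (N : Set G)) (h : ¬ N ≤ K) :
    ∃ x ∈ N, x ∉ K ∧ x * x ∈ K ∧ ∀ g ∈ M, ⁅g, x⁆ ∈ K := by
  have h1 := normal_subgroupOf_of_le_normalizer hMK
  have h2 := normal_subgroupOf_of_le_normalizer hMN
  obtain ⟨x, hx, hxK, hx2, hc⟩ := PGrp.exists_central_mod (hG.to_subgroup M) (K.subgroupOf M)
    (N.subgroupOf M) fun hle => h fun y hy => hle (show (⟨y, hN hy⟩ : M) ∈ N.subgroupOf M from hy)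
  exact ⟨x, hx, hxK, by rw [← pow_two]; exact hx2, fun g hg => hc ⟨g, hg⟩⟩

/-- The elements `c` of `C` with `[c, a] ∈ E`. -/
def fixMod (C E : Subgroup G) [E.Normal] (a : G) : Subgroup G :=
  C ⊓ (centralizer {QuotientGroup.mk' E a}).comap (QuotientGroup.mk' E)

omit [Finite G] in
theorem mem_fixMod {C E : Subgroup G} [E.Normal] {a c : G} :
    c ∈ fixMod C E a ↔ c ∈ C ∧ ⁅c, a⁆ ∈ E := by
  rw [fixMod, mem_inf, mem_comap, mem_centralizer_singleton_iff,
    ← commutatorElement_eq_one_iff_mul_comm, ← map_commutatorElement, QuotientGroup.mk'_apply,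
    QuotientGroup.eq_one_iff]

theorem card_fixMod_le {C E : Subgroup G} [E.Normal] (hE : ∀ e ∈ E, e * e = 1) {a : G}
    (ha : a * a = 1) : Nat.card (fixMod C E a) ≤
      Nat.card (E ⊓ centralizer {a} : Subgroup G) * Nat.card (C ⊓ centralizer {a} : Subgroup G) :=
  (card_le_cent_mul _ a (E ⊓ centralizer {a}) fun _ hg =>
    ⟨(mem_fixMod.1 hg).2, comm_mem_cent' ha (hE _ (mem_fixMod.1 hg).2)⟩).trans
    (Nat.mul_le_mul_left _ (card_le_of_le (inf_le_inf_right _ inf_le_left)))

/-- `|X : K| ≤ |C_X(a)|²` for an elementary abelian section `X / K` and an involution `a`. -/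
theorem card_le_sq_mul {X K : Subgroup G} [K.Normal] (hKX : K ≤ X) (h : SqIn X K) {a : G}
    (ha : a ∈ normalizer (X : Set G)) (ha2 : a * a = 1) :
    Nat.card X ≤ Nat.card (X ⊓ centralizer {a} : Subgroup G) *
      Nat.card (X ⊓ centralizer {a} : Subgroup G) * Nat.card K := by
  have hk : (QuotientGroup.mk' K).ker = K := QuotientGroup.ker_mk' K
  have h1 := card_le_sq (T := X.map (QuotientGroup.mk' K)) (a := QuotientGroup.mk' K a)
    (by
      rintro _ ⟨x, hx, rfl⟩
      rw [← map_mul, QuotientGroup.mk'_apply, QuotientGroup.eq_one_iff]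
      exact h x hx)
    (le_normalizer_map _ ⟨a, ha, rfl⟩) (by rw [← map_mul, ha2, map_one])
  have h2 : X.map (QuotientGroup.mk' K) ⊓ centralizer {QuotientGroup.mk' K a} =
      (fixMod X K a).map (QuotientGroup.mk' K) := by
    refine le_antisymm ?_ (map_le_iff_le_comap.2 fun x hx => ⟨⟨x, hx.1, rfl⟩, hx.2⟩)
    rintro _ ⟨⟨x, hx, rfl⟩, h1⟩
    exact ⟨x, ⟨hx, h1⟩, rfl⟩
  have h3 := card_eq_map_mul (QuotientGroup.mk' K) (fixMod X K a)
  have hKY : K ≤ fixMod X K a := fun k hk => mem_fixMod.2 ⟨hKX hk, by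
    rw [← commutatorElement_inv]; exact inv_mem (comm_mem_of_normal a hk)⟩
  rw [hk, inf_eq_right.2 hKY] at h3
  have h4 := card_le_cent_mul (fixMod X K a) a K fun _ hg => (mem_fixMod.1 hg).2
  have h5 : Nat.card (fixMod X K a ⊓ centralizer {a} : Subgroup G) ≤
      Nat.card (X ⊓ centralizer {a} : Subgroup G) :=
    card_le_of_le (inf_le_inf_right _ inf_le_left)
  have h6 : Nat.card ((fixMod X K a).map (QuotientGroup.mk' K)) ≤
      Nat.card (X ⊓ centralizer {a} : Subgroup G) := by
    refine Nat.le_of_mul_le_mul_right ?_ (Nat.card_pos (α := K))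
    rw [← h3, mul_comm]
    exact h4.trans (Nat.mul_le_mul_left _ h5)
  rw [card_eq_map_mul (QuotientGroup.mk' K) X, hk, inf_eq_right.2 hKX]
  rw [h2] at h1
  exact Nat.mul_le_mul_right _ (h1.trans (Nat.mul_le_mul h6 h6))

section E8
variable {E : Subgroup G} [hEn : E.Normal] (hE : ∀ e ∈ E, e * e = 1) (hE8 : Nat.card E = 8)
include hE8

omit hEn in
theorem cent_eq_of_hyp {F : Subgroup G} (hF : F ≤ E) (h4 : 4 ≤ Nat.card F) {r : G} (hr : r ∈ E)
    (hrF : r ∉ F) :
    centralizer (F : Set G) ⊓ centralizer {r} ≤ centralizer (E : Set G) := by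
  intro x hx
  rw [← zpowers_le, le_centralizer_iff]
  refine le_of_mem_of_card hF (by omega) hr hrF ?_ ?_
  · rw [le_centralizer_iff, zpowers_le]; exact hx.1
  · rw [PGrp.centralizer_zpowers_eq]
    exact mem_centralizer_singleton_iff.2 (mem_centralizer_singleton_iff.1 hx.2).symm

/-- A group centralizing a hyperplane of `E` induces at most 4 automorphisms. -/
theorem card_le_of_hyp {X F : Subgroup G} (hF : F ≤ E) (h4 : 4 ≤ Nat.card F)
    (hX : X ≤ centralizer (F : Set G)) :
    Nat.card X ≤ 4 * Nat.card (X ⊓ centralizer (E : Set G) : Subgroup G) := by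
  by_cases hEF : E ≤ F
  · rw [inf_eq_left.2 (hX.trans (centralizer_le (SetLike.coe_subset_coe.2 hEF)))]
    omega
  obtain ⟨r, hr, hrF⟩ := SetLike.not_le_iff_exists.1 hEF
  have h2 := two_mul_le_of_not_le hF hEF
  have h3 := card_le_cent_mul X r F fun g hg => by
    refine mul_mem_of_card hF (by omega) (hEn.conj_mem r hr g) (fun h => hrF ?_) (inv_mem hr)
      (by rwa [inv_mem_iff])
    have := mem_centralizer_iff.1 (hX hg) _ h
    rw [inv_mul_cancel_right] at this
    rwa [mul_left_cancel this]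
  refine h3.trans (Nat.mul_le_mul (by omega) (card_le_of_le (le_inf inf_le_left ?_)))
  exact (inf_le_inf_right _ hX).trans (cent_eq_of_hyp hE8 hF h4 hr hrF)

include hE in
/-- A group centralizing `E / P`, `|P| ≤ 2`, induces at most 4 automorphisms on `E`. -/
theorem card_le_of_pt {X P : Subgroup G} (hP : Nat.card P ≤ 2)
    (hX : ∀ x ∈ X, ∀ e ∈ E, ⁅x, e⁆ ∈ P) :
    Nat.card X ≤ 4 * Nat.card (X ⊓ centralizer (E : Set G) : Subgroup G) := by
  by_cases hc : X ≤ centralizer (E : Set G)
  · rw [inf_eq_left.2 hc]; omega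
  obtain ⟨x, hx, hxE⟩ := SetLike.not_le_iff_exists.1 hc
  rw [mem_centralizer_iff] at hxE
  push Not at hxE
  obtain ⟨e, he, hxe⟩ := hxE
  have hp1 : ⁅x, e⁆ ≠ 1 := fun h => hxe (commutatorElement_eq_one_iff_mul_comm.1 h).symm
  have hpP := hX x hx e he
  have hpE := comm_mem_of_normal x he
  generalize ⁅x, e⁆ = p at hp1 hpP hpE
  have hXp : X ≤ centralizer {p} := by
    intro g hg
    rw [mem_centralizer_singleton_iff, ← commutatorElement_eq_one_iff_mul_comm]
    by_contra h1
    have h2 := eq_of_card_le_two hP (hX g hg p hpE) hpP h1 hp1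
    rw [commutatorElement_def, mul_inv_eq_iff_eq_mul, hE p hpE, mul_inv_eq_one, mul_eq_left] at h2
    exact hp1 h2
  have hz := card_zpowers_two hp1 (hE p hpE)
  obtain ⟨q, hq, hqp⟩ := exists_not_mem (H := zpowers p) (K := E) (by omega)
  let F := E ⊓ centralizer ((X ⊓ centralizer {q} : Subgroup G) : Set G)
  have hpF : zpowers p ≤ F := zpowers_le.2 ⟨hpE, fun g hg =>
    mem_centralizer_singleton_iff.1 (hXp hg.1)⟩
  have hqF : q ∈ F := ⟨hq, fun g hg => mem_centralizer_singleton_iff.1 hg.2⟩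
  have hF4 := two_mul_le_of_not_le hpF fun h => hqp (h hqF)
  have h1 := card_le_cent_mul X q P fun g hg => hX g hg q hq
  have hXF : X ⊓ centralizer {q} ≤ centralizer (F : Set G) := le_centralizer_iff.1 inf_le_right
  have h2 : Nat.card (X ⊓ centralizer {q} : Subgroup G) ≤
      2 * Nat.card (X ⊓ centralizer (E : Set G) : Subgroup G) := by
    by_cases hEF : E ≤ F
    · have := card_le_of_le (le_inf inf_le_left
        (hXF.trans (centralizer_le (SetLike.coe_subset_coe.2 hEF))))
      omega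
    obtain ⟨r, hr, hrF⟩ := SetLike.not_le_iff_exists.1 hEF
    refine (card_le_cent_mul (X ⊓ centralizer {q}) r P fun g hg => hX g hg.1 r hr).trans
      (Nat.mul_le_mul hP
      (card_le_of_le (le_inf (inf_le_left.trans inf_le_left) ?_)))
    exact (inf_le_inf_right _ hXF).trans (cent_eq_of_hyp hE8 (F := F) inf_le_left (by omega) hr hrF)
  have h3 := Nat.mul_le_mul hP h2
  omega

theorem card_le_eight_mul (hG : IsPGroup 2 G) :
    Nat.card G ≤ 8 * Nat.card (centralizer (E : Set G)) := by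
  have h1 := PGrp.index_centralizer_le hG 3 E (by rw [hE8]; norm_num)
  rw [← (centralizer (E : Set G)).card_mul_index, mul_comm]
  exact Nat.mul_le_mul_right _ h1

include hE in
/-- A 2-group acting on `E₈` with all squares acting trivially induces at most 4
automorphisms. -/
theorem card_le_of_sq (hG : IsPGroup 2 G) {X : Subgroup G}
    (hX : ∀ x ∈ X, x * x ∈ centralizer (E : Set G)) :
    Nat.card X ≤ 4 * Nat.card (X ⊓ centralizer (E : Set G) : Subgroup G) := by
  obtain ⟨F, r, hFn, hF4, -, -, hr, hFE⟩ :=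
    PGrp.exists_normal_index_prime_in hG E (k := 2) (by rw [hE8]; norm_num)
  obtain ⟨P, q, hPn, hP2, hqP, -, hq, hPF⟩ :=
    PGrp.exists_normal_index_prime_in hG F (k := 1) (by rw [hF4])
  have hPc := PGrp.le_center_of_card_eq_prime hG P (by rw [hP2]; norm_num)
  have hFle : F ≤ E := hFE ▸ le_sup_left
  have hPle : P ≤ F := hPF ▸ le_sup_left
  have hqF : q ∈ F := hPF ▸ mem_sup_right (mem_zpowers q)
  have hrE : r ∈ E := hFE ▸ mem_sup_right (mem_zpowers r)
  have hinv : ∀ {a b : G}, ⁅a, b⁆ ∈ P → ⁅b, a⁆ ∈ P := fun h => by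
    rw [← commutatorElement_inv]; exact inv_mem h
  rcases le_or_le_of_forall (Y := X) (T := centralizer (F : Set G))
    (A := (centralizer ((E.map (QuotientGroup.mk' P) : Subgroup _) : Set (G ⧸ P))).comap
      (QuotientGroup.mk' P)) (fun x hx => by
      refine or_iff_not_imp_left.2 fun hxF => ?_
      have hPx : P ≤ F ⊓ centralizer {x} := le_inf hPle fun p hp =>
        mem_centralizer_singleton_iff.2 (mem_center_iff.1 (hPc hp) x).symm
      have hlt : ¬ F ≤ F ⊓ centralizer {x} := fun h => hxF fun f hf =>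
        mem_centralizer_singleton_iff.1 (h hf).2
      have h1 := two_mul_le_of_not_le inf_le_left hlt
      have h2 : F ⊓ centralizer {x} = P := (eq_of_le_of_card_ge hPx (by omega)).symm
      have h3 : ⁅x, r⁆ ∈ P := by
        rw [← h2]
        refine ⟨hr x, mem_centralizer_singleton_iff.2 ?_⟩
        have h4 : ⁅x * x, r⁆ = 1 :=
          commutatorElement_eq_one_iff_mul_comm.2 (hX x hx r hrE).symm
        rw [commutatorElement_mul_left_eq_conj_mul, ← hE _ (hFle (hr x))] at h4
        have h5 := mul_right_cancel h4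
        rw [mul_inv_eq_iff_eq_mul] at h5
        exact h5.symm
      have h4 : E ≤ fixMod E P x := by
        refine hFE.ge.trans (sup_le (hPF.ge.trans (sup_le ?_ ?_)) ?_)
        · exact fun p hp => mem_fixMod.2 ⟨hFle (hPle hp), hinv (comm_mem_of_normal x hp)⟩
        · exact zpowers_le.2 (mem_fixMod.2 ⟨hFle hqF, hinv (hq x)⟩)
        · exact zpowers_le.2 (mem_fixMod.2 ⟨hrE, hinv h3⟩)
      rintro _ ⟨e, he, rfl⟩
      exact mem_centralizer_singleton_iff.1 (h4 he).2) with h | h
  · exact card_le_of_hyp hE8 hFle (by omega) h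
  · refine card_le_of_pt hE hE8 (P := P) (by omega) fun x hx e he => ?_
    rw [← QuotientGroup.eq_one_iff]
    change QuotientGroup.mk' P _ = 1
    rw [map_commutatorElement, commutatorElement_eq_one_iff_mul_comm]
    exact (h hx _ ⟨e, he, rfl⟩).symm

include hE in
/-- If `|X : K| ≥ 32` then `|X ∩ C : K ∩ C| ≥ 8` for `C = C(E)`. -/
theorem eight_mul_le (hG : IsPGroup 2 G) {X K : Subgroup G} (h : SqIn X K)
    (h32 : 32 * Nat.card K ≤ Nat.card X) :
    8 * Nat.card (K ⊓ centralizer (E : Set G) : Subgroup G) ≤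
      Nat.card (X ⊓ centralizer (E : Set G) : Subgroup G) := by
  have hX := card_eq_relIndex_mul (centralizer (E : Set G)) X
  have hK := card_eq_relIndex_mul (centralizer (E : Set G)) K
  have h1 : (centralizer (E : Set G)).relIndex X ≤ 4 * (centralizer (E : Set G)).relIndex K := by
    by_cases hKC : K ≤ centralizer (E : Set G)
    · have h2 := card_le_of_sq hE hE8 hG (X := X) fun x hx => hKC (h x hx)
      rw [relIndex_eq_one.2 hKC]
      rw [hX] at h2
      exact Nat.le_of_mul_le_mul_right h2 Nat.card_pos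
    · have h2 : (centralizer (E : Set G)).relIndex K ≠ 1 := fun h2 => hKC (relIndex_eq_one.1 h2)
      have h3 : (centralizer (E : Set G)).relIndex K ≠ 0 := index_ne_zero_of_finite
      have h4 : (centralizer (E : Set G)).relIndex X ≤ (centralizer (E : Set G)).index := by
        rw [← relIndex_top_right]
        exact relIndex_le_of_le_right le_top index_ne_zero_of_finite
      have h5 := PGrp.index_centralizer_le hG 3 E (by rw [hE8]; norm_num)
      have h6 : 2 ^ Nat.choose 3 2 = 8 := by decide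
      omega
  have h2 : 0 < (centralizer (E : Set G)).relIndex K := Nat.pos_of_ne_zero index_ne_zero_of_finite
  rw [hX, hK] at h32
  have h3 := h32.trans (Nat.mul_le_mul_right _ h1)
  nlinarith

end E8

end CL.SelfE8
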