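import Cfsg.Agent.TwoFus.U3Model
import Cfsg.Agent.Auto.ACL_U3_ofFixed_ef0358

/-!
A Sylow 2-subgroup of `PSU 3 F q` (`q = 2 ^ n`, `#F = q ^ 2`) is isomorphic to the model `CL.U3.U`.
-/

set_option autoImplicit false

namespace CL.U3

open Matrix

variable {F : Type*} [Field F] {bar : F →+* F}

/-- Change of basis to an isotropic pair and an orthogonal unit vector (characteristic two). -/
def mM (F : Type*) [Field F] : Matrix (Fin 3) (Fin 3) F := !![1, 1, 1; 1, 1, 0; 0, 1, 1]
/-- The inverse of `mM` in characteristic two. -/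
def mN (F : Type*) [Field F] : Matrix (Fin 3) (Fin 3) F := !![1, 0, 1; 1, 1, 1; 1, 1, 0]
/-- The unitriangular matrix of an element of the model. -/
def uMat (x : U F bar) : Matrix (Fin 3) (Fin 3) F := !![1, x.a, x.b; 0, 1, bar x.a; 0, 0, 1]
/-- The antidiagonal form. -/
def jForm (bar : F →+* F) (u v : Fin 3 → F) : F := u 0 * bar (v 2) + u 1 * bar (v 1) + u 2 * bar (v 0)

section
variable [CharP F 2]

theorem mM_mul_mN : mM F * mN F = 1 := by
  have h2 := two_eq_zero' (F := F)
  ext i j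
  fin_cases i <;> fin_cases j <;> simp [mM, mN, Matrix.mul_apply, Fin.sum_univ_three] <;>
    linear_combination h2

theorem mN_mul_mM : mN F * mM F = 1 := mul_eq_one_comm.1 mM_mul_mN

omit [CharP F 2] in
theorem det_mM : (mM F).det = 1 := by
  simp [mM, Matrix.det_fin_three]

theorem det_mN : (mN F).det = 1 := by
  have := congrArg Matrix.det (mM_mul_mN (F := F))
  rwa [Matrix.det_mul, det_mM, one_mul, Matrix.det_one] at this

theorem hermForm_mM {q : ℕ} (hbar : ∀ x, bar x = x ^ q) (u v : Fin 3 → F) :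
    Cfsg.hermForm 3 F q (mM F *ᵥ u) (mM F *ᵥ v) = jForm bar u v := by
  have h2 := two_eq_zero' (F := F)
  simp only [Cfsg.hermForm, ← hbar, Fin.sum_univ_three, jForm]
  simp [mM, Matrix.mulVec, dotProduct, Fin.sum_univ_three]
  linear_combination (u 0 * bar (v 0) + u 0 * bar (v 1) + u 1 * bar (v 0) + u 1 * bar (v 1)
    + u 1 * bar (v 2) + u 2 * bar (v 1) + u 2 * bar (v 2)) * h2

theorem hermForm_eq_jForm {q : ℕ} (hbar : ∀ x, bar x = x ^ q) (u v : Fin 3 → F) :
    Cfsg.hermForm 3 F q u v = jForm bar (mN F *ᵥ u) (mN F *ᵥ v) := by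
  rw [← hermForm_mM hbar, Matrix.mulVec_mulVec, Matrix.mulVec_mulVec, mM_mul_mN, Matrix.one_mulVec,
    Matrix.one_mulVec]

end

variable [hb : Fact (∀ x, bar (bar x) = x)]

theorem uMat_mul (x y : U F bar) : uMat (x * y) = uMat x * uMat y := by
  ext i j
  fin_cases i <;> fin_cases j <;>
    simp [uMat, Matrix.mul_apply, Fin.sum_univ_three, mul_a, mul_b] <;> ring

theorem uMat_one : uMat (1 : U F bar) = 1 := by
  ext i j
  fin_cases i <;> fin_cases j <;> simp [uMat, one_a, one_b]

omit hb in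
theorem det_uMat (x : U F bar) : (uMat x).det = 1 := by
  simp [uMat, Matrix.det_fin_three]

omit hb in
theorem uMat_injective : Function.Injective (uMat : U F bar → _) := by
  intro x y h
  exact U.ext' (by simpa [uMat] using congrFun (congrFun h 0) 1)
    (by simpa [uMat] using congrFun (congrFun h 0) 2)

variable [CharP F 2]

theorem jForm_uMat (x : U F bar) (u v : Fin 3 → F) :
    jForm bar (uMat x *ᵥ u) (uMat x *ᵥ v) = jForm bar u v := by
  have h2 := two_eq_zero' (F := F)
  have h1 := x.h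
  simp only [jForm]
  simp [uMat, Matrix.mulVec, dotProduct, Fin.sum_univ_three, hb.out]
  linear_combination (u 2 * bar (v 2)) * h1 +
    (x.a * u 1 * bar (v 2) + bar x.a * u 2 * bar (v 1) + x.a * bar x.a * u 2 * bar (v 2)) * h2

/-- The embedding of the model in `SU 3 F q`. -/
def toSU {q : ℕ} (hbar : ∀ x, bar x = x ^ q) : U F bar →* Cfsg.SU 3 F q where
  toFun x := ⟨⟨mM F * uMat x * mN F, by simp [det_mM, det_mN, det_uMat]⟩, by
    intro u v
    change Cfsg.hermForm 3 F q ((mM F * uMat x * mN F) *ᵥ u) ((mM F * uMat x * mN F) *ᵥ v) = _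
    rw [← Matrix.mulVec_mulVec, ← Matrix.mulVec_mulVec, ← Matrix.mulVec_mulVec,
      ← Matrix.mulVec_mulVec, hermForm_mM hbar, jForm_uMat, hermForm_eq_jForm hbar]⟩
  map_one' := by
    apply Subtype.ext; apply Subtype.ext
    change mM F * uMat 1 * mN F = 1
    rw [uMat_one, mul_one, mM_mul_mN]
  map_mul' x y := by
    apply Subtype.ext; apply Subtype.ext
    change mM F * uMat (x * y) * mN F = (mM F * uMat x * mN F) * (mM F * uMat y * mN F)
    rw [uMat_mul]
    calc mM F * (uMat x * uMat y) * mN F = mM F * uMat x * (mN F * mM F) * uMat y * mN F := by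
          rw [mN_mul_mM]; simp only [mul_one, mul_assoc]
      _ = _ := by simp only [mul_assoc]

theorem toSU_val {q : ℕ} (hbar : ∀ x, bar x = x ^ q) (x : U F bar) :
    ((toSU hbar x : Matrix.SpecialLinearGroup (Fin 3) F) : Matrix (Fin 3) (Fin 3) F) =
      mM F * uMat x * mN F := rfl

omit hb in
theorem conj_back (A : Matrix (Fin 3) (Fin 3) F) : mN F * (mM F * A * mN F) * mM F = A := by
  calc mN F * (mM F * A * mN F) * mM F = (mN F * mM F) * A * (mN F * mM F) := by
        simp only [mul_assoc]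
    _ = A := by rw [mN_mul_mM, one_mul, mul_one]

omit hb in
theorem conj_forth (A : Matrix (Fin 3) (Fin 3) F) : mM F * (mN F * A * mM F) * mN F = A := by
  calc mM F * (mN F * A * mM F) * mN F = (mM F * mN F) * A * (mM F * mN F) := by
        simp only [mul_assoc]
    _ = A := by rw [mM_mul_mN, one_mul, mul_one]

theorem toSU_injective {q : ℕ} (hbar : ∀ x, bar x = x ^ q) : Function.Injective (toSU hbar) := by
  intro x y h
  apply uMat_injective
  rw [← conj_back (uMat x), ← conj_back (uMat y), ← toSU_val hbar, ← toSU_val hbar, h]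

/-- The stabiliser of the isotropic vector is the image of the model. -/
theorem mem_range_toSU {q : ℕ} (hbar : ∀ x, bar x = x ^ q) (g : Cfsg.SU 3 F q)
    (hg : ((g : Matrix.SpecialLinearGroup (Fin 3) F) : Matrix (Fin 3) (Fin 3) F) *ᵥ
      (mM F *ᵥ ![1, 0, 0]) = mM F *ᵥ ![1, 0, 0]) : g ∈ (toSU hbar).range := by
  set A : Matrix (Fin 3) (Fin 3) F :=
    mN F * ((g : Matrix.SpecialLinearGroup (Fin 3) F) : Matrix (Fin 3) (Fin 3) F) * mM F with hA
  have hform : ∀ u v, jForm bar (A *ᵥ u) (A *ᵥ v) = jForm bar u v := by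
    intro u v
    rw [hA, ← Matrix.mulVec_mulVec, ← Matrix.mulVec_mulVec, ← Matrix.mulVec_mulVec,
      ← Matrix.mulVec_mulVec, ← hermForm_eq_jForm hbar, ← hermForm_mM hbar]
    exact g.2 _ _
  have he : A *ᵥ ![1, 0, 0] = ![1, 0, 0] := by
    rw [hA, ← Matrix.mulVec_mulVec, ← Matrix.mulVec_mulVec, hg, Matrix.mulVec_mulVec, mN_mul_mM,
      Matrix.one_mulVec]
  have hdet : A.det = 1 := by
    rw [hA, Matrix.det_mul, Matrix.det_mul, det_mM, det_mN, Matrix.SpecialLinearGroup.det_coe]
    simp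
  have h00 : A 0 0 = 1 := by
    simpa [Matrix.mulVec, dotProduct, Fin.sum_univ_three] using congrFun he 0
  have h10 : A 1 0 = 0 := by
    simpa [Matrix.mulVec, dotProduct, Fin.sum_univ_three] using congrFun he 1
  have h20 : A 2 0 = 0 := by
    simpa [Matrix.mulVec, dotProduct, Fin.sum_univ_three] using congrFun he 2
  have h21 : A 2 1 = 0 := by
    have := hform ![0, 1, 0] ![1, 0, 0]
    simpa [jForm, Matrix.mulVec, dotProduct, Fin.sum_univ_three, h00, h10, h20] using this
  have h22 : A 2 2 = 1 := by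
    have := hform ![0, 0, 1] ![1, 0, 0]
    simpa [jForm, Matrix.mulVec, dotProduct, Fin.sum_univ_three, h00, h10, h20] using this
  have h11 : A 1 1 = 1 := by
    simpa [Matrix.det_fin_three, h00, h10, h20, h21, h22] using hdet
  have h2 := two_eq_zero' (F := F)
  have h12 : A 1 2 = bar (A 0 1) := by
    have := hform ![0, 0, 1] ![0, 1, 0]
    simp [jForm, Matrix.mulVec, dotProduct, Fin.sum_univ_three, h21, h22, h11] at this
    linear_combination this - bar (A 0 1) * h2
  have h02 : A 0 2 + bar (A 0 2) = A 0 1 * bar (A 0 1) := by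
    have := hform ![0, 0, 1] ![0, 0, 1]
    simp [jForm, Matrix.mulVec, dotProduct, Fin.sum_univ_three, h22, h12, hb.out] at this
    linear_combination this - (A 0 1 * bar (A 0 1)) * h2
  refine ⟨⟨A 0 1, A 0 2, h02⟩, ?_⟩
  apply Subtype.ext; apply Subtype.ext
  rw [toSU_val, ← conj_forth ((g : Matrix.SpecialLinearGroup (Fin 3) F) : Matrix (Fin 3) (Fin 3) F),
    ← hA]
  congr 2
  ext i j
  fin_cases i <;> fin_cases j <;> simp [uMat, h00, h10, h20, h21, h22, h11, h12]

variable [Fintype F] {q : ℕ}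

theorem range_toSU_maximal (hq : 1 < q) (hbar : ∀ x, bar x = x ^ q) (hF : Fintype.card F = q ^ 2)
    (P : Subgroup (Cfsg.SU 3 F q)) (hP : IsPGroup 2 P) (hle : (toSU hbar).range ≤ P) :
    P = (toSU hbar).range := by
  classical
  refine le_antisymm ?_ hle
  let f : P →* Matrix (Fin 3) (Fin 3) F :=
    (Cfsg.slToMat 3 F).comp ((Cfsg.SU 3 F q).subtype.comp P.subtype)
  let _ : MulAction P (Fin 3 → F) :=
    { smul := fun g v => f g *ᵥ v
      one_smul := fun v => by change f 1 *ᵥ v = v; rw [map_one, Matrix.one_mulVec]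
      mul_smul := fun g h v => by
        change f (g * h) *ᵥ v = f g *ᵥ (f h *ᵥ v)
        rw [map_mul, Matrix.mulVec_mulVec] }
  have hev : 2 ∣ Fintype.card F := by
    obtain ⟨n, -, hn⟩ := FiniteField.card F 2
    rw [hn]; exact dvd_pow_self 2 n.ne_zero
  have hcard : 2 ∣ Nat.card (Fin 3 → F) := by
    rw [Nat.card_eq_fintype_card, Fintype.card_fun]
    exact hev.trans (dvd_pow_self _ (by simp))
  obtain ⟨v, hv, hv0⟩ := hP.exists_fixed_point_of_prime_dvd_card_of_fixed_point (Fin 3 → F) hcard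
    (a := 0) (fun g => Matrix.mulVec_zero (f g))
  -- `v` is a multiple of the isotropic vector
  set w := mN F *ᵥ v with hw
  have hvw : v = mM F *ᵥ w := by
    rw [hw, Matrix.mulVec_mulVec, mM_mul_mN, Matrix.one_mulVec]
  have hfix : ∀ x : U F bar, uMat x *ᵥ w = w := by
    intro x
    have h1 : (mM F * uMat x * mN F) *ᵥ v = v := hv ⟨toSU hbar x, hle ⟨x, rfl⟩⟩
    rw [hw]
    conv_rhs => rw [← h1]
    rw [Matrix.mulVec_mulVec, Matrix.mulVec_mulVec, ← mul_assoc, ← mul_assoc, mN_mul_mM, one_mul]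
  have hw2 : w 2 = 0 := by
    have := congrFun (hfix (ofFixed 1 (map_one bar))) 0
    simpa [uMat, ofFixed, Matrix.mulVec, dotProduct, Fin.sum_univ_three] using this
  have hw1 : w 1 = 0 := by
    obtain ⟨x, hx⟩ := exists_a_eq hq hbar hF 1
    have := congrFun (hfix x) 0
    simpa [uMat, hx, hw2, Matrix.mulVec, dotProduct, Fin.sum_univ_three] using this
  have hw' : w = w 0 • ![1, 0, 0] := by
    ext i; fin_cases i <;> simp [hw1, hw2]
  have hw0 : w 0 ≠ 0 := by
    intro h
    apply hv0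
    rw [hvw, hw', h, zero_smul, Matrix.mulVec_zero]
  intro g hg
  apply mem_range_toSU
  have h1 : f ⟨g, hg⟩ *ᵥ v = v := hv ⟨g, hg⟩
  rw [hvw, hw', Matrix.mulVec_smul, Matrix.mulVec_smul] at h1
  exact smul_right_injective _ hw0 h1

/-- The image of the model as a Sylow 2-subgroup of `SU 3 F q`. -/
def sylowSU (hq : 1 < q) (hbar : ∀ x, bar x = x ^ q) (hF : Fintype.card F = q ^ 2) :
    Sylow 2 (Cfsg.SU 3 F q) where
  toSubgroup := (toSU hbar).range
  isPGroup' := by
    rw [MonoidHom.range_eq_map]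
    exact (isPGroup_two.to_subgroup ⊤).map _
  is_maximal' := fun hP hle => range_toSU_maximal hq hbar hF _ hP hle

omit [Fintype F] in
theorem eq_one_of_toSU_mem_center (hbar : ∀ x, bar x = x ^ q) (x : U F bar)
    (hx : toSU hbar x ∈ Subgroup.center (Cfsg.SU 3 F q)) : x = 1 := by
  have h2 := two_eq_zero' (F := F)
  let W : Matrix (Fin 3) (Fin 3) F := !![0, 0, 1; 0, 1, 0; 1, 0, 0]
  have hdet : W.det = 1 := by
    simp [W, Matrix.det_fin_three]
    linear_combination -h2
  let g : Cfsg.SU 3 F q := ⟨⟨mM F * W * mN F, by simp [det_mM, det_mN, hdet]⟩, by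
    intro u v
    change Cfsg.hermForm 3 F q ((mM F * W * mN F) *ᵥ u) ((mM F * W * mN F) *ᵥ v) = _
    rw [← Matrix.mulVec_mulVec, ← Matrix.mulVec_mulVec, ← Matrix.mulVec_mulVec,
      ← Matrix.mulVec_mulVec, hermForm_mM hbar, hermForm_eq_jForm hbar]
    simp only [jForm]
    simp [W, Matrix.mulVec, dotProduct, Fin.sum_univ_three]
    ring⟩
  have h1 := Subgroup.mem_center_iff.1 hx g
  have h3 : (mM F * W * mN F) * (mM F * uMat x * mN F) =
      (mM F * uMat x * mN F) * (mM F * W * mN F) :=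
    congrArg (fun g : Cfsg.SU 3 F q =>
      ((g : Matrix.SpecialLinearGroup (Fin 3) F) : Matrix (Fin 3) (Fin 3) F)) h1
  have h4 : W * uMat x = uMat x * W := by
    have e1 : ∀ A B : Matrix (Fin 3) (Fin 3) F,
        (mM F * A * mN F) * (mM F * B * mN F) = mM F * (A * B) * mN F := by
      intro A B
      calc (mM F * A * mN F) * (mM F * B * mN F) = mM F * A * (mN F * mM F) * B * mN F := by
            simp only [mul_assoc]
        _ = _ := by rw [mN_mul_mM]; simp only [mul_one, mul_assoc]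
    rw [e1, e1] at h3
    rw [← conj_back (W * uMat x), h3, conj_back]
  refine U.ext' ?_ ?_
  · have := congrFun (congrFun h4 0) 1
    simpa [W, uMat, Matrix.mul_apply, Fin.sum_univ_three, one_a] using this.symm
  · have := congrFun (congrFun h4 0) 0
    simpa [W, uMat, Matrix.mul_apply, Fin.sum_univ_three, one_b] using this.symm

/-- Every Sylow 2-subgroup of `PSU 3 F q` is isomorphic to the model. -/
theorem nonempty_sylow_equiv (hq : 1 < q) (hbar : ∀ x, bar x = x ^ q) (hF : Fintype.card F = q ^ 2)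
    (S : Sylow 2 (Cfsg.PSU 3 F q)) : Nonempty ((S : Subgroup (Cfsg.PSU 3 F q)) ≃* U F bar) := by
  let φ : U F bar →* Cfsg.PSU 3 F q := (QuotientGroup.mk' _).comp (toSU hbar)
  have hφ : Function.Injective φ := by
    rw [injective_iff_map_eq_one]
    intro x hx
    exact eq_one_of_toSU_mem_center hbar x ((QuotientGroup.eq_one_iff _).1 hx)
  let S0 : Sylow 2 (Cfsg.PSU 3 F q) :=
    (sylowSU hq hbar hF).mapSurjective (QuotientGroup.mk'_surjective _)
  have h0 : (S0 : Subgroup (Cfsg.PSU 3 F q)) = φ.range := by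
    rw [Sylow.coe_mapSurjective, MonoidHom.range_comp]
    rfl
  exact ⟨(Sylow.equiv S S0).trans ((MulEquiv.subgroupCongr h0).trans (MonoidHom.ofInjective hφ).symm)⟩

end CL.U3

namespace CL.U3

variable {F : Type*} [Field F] [Fintype F]

theorem charP_two_of_card {n : ℕ} (hn : 1 ≤ n) (hF : Fintype.card F = (2 ^ n) ^ 2) : CharP F 2 := by
  obtain ⟨p, hp⟩ := CharP.exists F
  obtain ⟨m, hpp, hm⟩ := FiniteField.card F p
  have h2 : 2 ∣ p ^ (m : ℕ) := by
    rw [← hm, hF, ← pow_mul]; exact dvd_pow_self 2 (by omega)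
  have := (Nat.prime_dvd_prime_iff_eq Nat.prime_two hpp).1 (Nat.prime_two.dvd_of_dvd_pow h2)
  subst this
  exact hp

/-- The data needed to use the model: the conjugation `x ↦ x ^ 2 ^ n` on a field with `4 ^ n` elements. -/
theorem exists_bar {n : ℕ} (hn : 1 ≤ n) (hF : Fintype.card F = (2 ^ n) ^ 2) :
    ∃ (_ : CharP F 2) (bar : F →+* F) (_ : Fact (∀ x, bar (bar x) = x)), ∀ x, bar x = x ^ 2 ^ n := by
  have := charP_two_of_card hn hF
  refine ⟨inferInstance, iterateFrobenius F 2 n, ⟨fun x => ?_⟩, fun x => iterateFrobenius_def _ _ _⟩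
  rw [iterateFrobenius_def, iterateFrobenius_def, ← pow_mul, ← pow_two, ← hF, FiniteField.pow_card]

end CL.U3
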